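import Groth.Agent.Castel.Surface
import Groth.Prelude.Def_ArSurf
import Mathlib.LinearAlgebra.Dimension.FreeAndStrongRankCondition

/-!
Euler characteristics over a smaller field of constants.
-/

set_option autoImplicit false
set_option backward.isDefEq.respectTransparency false
set_option backward.isDefEq.respectTransparency.types false
set_option linter.style.haveILetI false

universe u

open CategoryTheory CategoryTheory.Limits AlgebraicGeometry TopologicalSpace Opposite

noncomputable section

namespace Groth.Agent.Castel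

/-- Euler characteristics over a subfield are multiplied by the degree of the extension. -/
theorem eulerCharLE_tower {k k' : Type u} [Field k] [Field k'] [Algebra k k'] {Y : Scheme.{u}}
    (q' : Y ⟶ Spec (CommRingCat.of k')) (q : Y ⟶ Spec (CommRingCat.of k))
    (hq : q' ≫ Spec.map (CommRingCat.ofHom (algebraMap k k')) = q) (F : Y.Modules) (d : ℕ) :
    letI : Y.Over (Spec (CommRingCat.of k)) := ⟨q⟩
    (FGA.eulerCharLE k Y F d : ℤ) =
      letI : Y.Over (Spec (CommRingCat.of k')) := ⟨q'⟩
      (Module.finrank k k' : ℤ) * FGA.eulerCharLE k' Y F d := by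
  letI : Y.Over (Spec (CommRingCat.of k)) := ⟨q⟩
  letI : Y.Over (Spec (CommRingCat.of k')) := ⟨q'⟩
  rw [FGA.eulerCharLE, FGA.eulerCharLE, Finset.mul_sum]
  refine Finset.sum_congr rfl fun i _ => ?_
  haveI : IsScalarTower k k' (Coh.HH Y F i) := by
    refine IsScalarTower.of_algebraMap_smul fun r x => ?_
    have h : Coh.toGlobal (Y ↘ Spec (CommRingCat.of k')) (algebraMap k k' r) =
        Coh.toGlobal (Y ↘ Spec (CommRingCat.of k)) r := by
      have hn := ConcreteCategory.congr_hom
        (Scheme.ΓSpecIso_inv_naturality (CommRingCat.ofHom (algebraMap k k'))) r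
      show q'.appTop ((Scheme.ΓSpecIso _).inv (algebraMap k k' r)) = q.appTop ((Scheme.ΓSpecIso _).inv r)
      rw [← hq, Scheme.Hom.comp_appTop]
      exact congrArg (fun z => q'.appTop z) hn
    show (Coh.toGlobal (Y ↘ Spec (CommRingCat.of k')) (algebraMap k k' r) : Coh.Γtop Y) • x =
      (Coh.toGlobal (Y ↘ Spec (CommRingCat.of k)) r : Coh.Γtop Y) • x
    rw [h]
  rw [← Module.finrank_mul_finrank k k' (Coh.HH Y F i)]
  push_cast
  ring

/-- The degree of a module does not change under an isomorphism of curves. -/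
theorem eulerCharLE_iso {k : Type u} [Field k] {C P : Scheme.{u}} (q : C ⟶ Spec (CommRingCat.of k))
    (e : C ≅ P) {F : C.Modules} (hF : PicF.IsInvertible F) (d : ℕ) :
    letI : P.Over (Spec (CommRingCat.of k)) := ⟨e.inv ≫ q⟩
    letI : C.Over (Spec (CommRingCat.of k)) := ⟨q⟩
    FGA.eulerCharLE k C F d = FGA.eulerCharLE k P ((Scheme.Modules.pullback e.inv).obj F) d := by
  letI : P.Over (Spec (CommRingCat.of k)) := ⟨e.inv ≫ q⟩
  letI : C.Over (Spec (CommRingCat.of k)) := ⟨q⟩
  obtain ⟨a⟩ := nonempty_push_pullback e.inv (fun V => ConcreteCategory.bijective_of_isIso _) hF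
  refine Finset.sum_congr rfl fun i _ => ?_
  have hG : PicF.IsInvertible ((Scheme.Modules.pullback e.inv).obj F) := PicLoc.isInvertible_pullback e.inv hF
  haveI := TMul.isQCoh_of_isInvertible hG
  obtain ⟨b⟩ := CohFinite.hh_push_linear k e.inv rfl ((Scheme.Modules.pullback e.inv).obj F)
    (CohQC.directAcyclic_of_isAffineHom e.inv _) i
  rw [b.finrank_eq]
  exact congrArg (fun z : ℕ => (-1 : ℤ) ^ i * (z : ℤ)) (CurveRR.h_eq_of_iso (k := k) a i)

end Groth.Agent.Castel
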