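import Groth.Agent.Castel.InterForm
import Groth.Agent.Castel.Residue
import Groth.Agent.SymAlg.InvDual

/-!
Semidefiniteness of the intersection form on vertical prime divisors.
-/

set_option autoImplicit false
set_option backward.isDefEq.respectTransparency false
set_option backward.isDefEq.respectTransparency.types false
set_option linter.style.haveILetI false

universe u

open CategoryTheory CategoryTheory.Limits AlgebraicGeometry TopologicalSpace Opposite
open Groth.Agent.DivPart (stI pr)

noncomputable section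

namespace Groth.Agent.Castel

/-- The quadratic identity behind semidefiniteness. -/
theorem quad_identity {ι : Type} [Fintype ι] (N : ι → ι → ℚ) (hsym : ∀ i j, N i j = N j i) (y : ι → ℚ) :
    ∑ i, ∑ j, y i * y j * N i j =
      ∑ i, y i ^ 2 * ∑ j, N i j - (1 / 2) * ∑ i, ∑ j, N i j * (y i - y j) ^ 2 := by
  have h1 : ∑ i, ∑ j, N i j * y j ^ 2 = ∑ i, ∑ j, N i j * y i ^ 2 := by
    rw [Finset.sum_comm]
    exact Finset.sum_congr rfl fun i _ => Finset.sum_congr rfl fun j _ => by rw [hsym j i]
  have h2 : ∑ i, ∑ j, N i j * (y i - y j) ^ 2 = ∑ i, ∑ j, N i j * y i ^ 2 + ∑ i, ∑ j, N i j * y j ^ 2 -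
      2 * ∑ i, ∑ j, y i * y j * N i j := by
    simp only [Finset.mul_sum, ← Finset.sum_add_distrib, ← Finset.sum_sub_distrib]
    exact Finset.sum_congr rfl fun i _ => Finset.sum_congr rfl fun j _ => by ring
  have h3 : ∑ i, y i ^ 2 * ∑ j, N i j = ∑ i, ∑ j, N i j * y i ^ 2 := by
    simp only [Finset.mul_sum]
    exact Finset.sum_congr rfl fun i _ => Finset.sum_congr rfl fun j _ => by ring
  rw [h2, h3, h1]
  ring

/-- A symmetric matrix with nonnegative off-diagonal entries and a positive vector of nonpositive image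
is negative semidefinite; a null vector is proportional to it across nonzero entries. -/
theorem quad_nonpos {ι : Type} [Fintype ι] (M : ι → ι → ℤ) (hsym : ∀ i j, M i j = M j i)
    (hoff : ∀ i j, i ≠ j → 0 ≤ M i j) (d : ι → ℕ) (hd : ∀ i, 0 < d i)
    (hrow : ∀ i, ∑ j, (d j : ℤ) * M i j ≤ 0) (x : ι → ℤ) :
    ∑ i, ∑ j, x i * x j * M i j ≤ 0 ∧
      ((∑ i, ∑ j, x i * x j * M i j) = 0 →
        (∀ i j, M i j ≠ 0 → x i * (d j : ℤ) = x j * (d i : ℤ)) ∧
        ∀ i, ∑ j, (d j : ℤ) * M i j < 0 → x i = 0) := by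
  let N : ι → ι → ℚ := fun i j => (d i : ℚ) * (d j : ℚ) * (M i j : ℚ)
  let y : ι → ℚ := fun i => (x i : ℚ) / (d i : ℚ)
  have hd0 : ∀ i, (d i : ℚ) ≠ 0 := fun i => Nat.cast_ne_zero.2 (hd i).ne'
  have hN : ∀ i j, N i j = N j i := fun i j => by simp only [N, hsym i j]; ring
  have hval : ((∑ i, ∑ j, x i * x j * M i j : ℤ) : ℚ) = ∑ i, ∑ j, y i * y j * N i j := by
    push_cast
    refine Finset.sum_congr rfl fun i _ => Finset.sum_congr rfl fun j _ => ?_
    simp only [y, N]
    field_simp [hd0 i, hd0 j]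
  have hrow' : ∀ i, ∑ j, N i j = (d i : ℚ) * ((∑ j, (d j : ℤ) * M i j : ℤ) : ℚ) := fun i => by
    push_cast
    rw [Finset.mul_sum]
    exact Finset.sum_congr rfl fun j _ => by simp only [N]; ring
  have hA : ∀ i ∈ (Finset.univ : Finset ι), y i ^ 2 * ∑ j, N i j ≤ 0 := fun i _ => by
    rw [hrow']
    refine mul_nonpos_of_nonneg_of_nonpos (sq_nonneg _) (mul_nonpos_of_nonneg_of_nonpos (Nat.cast_nonneg _) ?_)
    exact_mod_cast hrow i
  have hB : ∀ i ∈ (Finset.univ : Finset ι), ∀ j ∈ (Finset.univ : Finset ι), 0 ≤ N i j * (y i - y j) ^ 2 :=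
    fun i _ j _ => by
      by_cases h : i = j
      · simp [h]
      · refine mul_nonneg (mul_nonneg (by positivity) ?_) (sq_nonneg _)
        exact_mod_cast hoff i j h
  rw [quad_identity N hN y] at hval
  have sA := Finset.sum_nonpos hA
  have sB := Finset.sum_nonneg fun i hi => Finset.sum_nonneg (hB i hi)
  refine ⟨by exact_mod_cast (show ((∑ i, ∑ j, x i * x j * M i j : ℤ) : ℚ) ≤ 0 by linarith), fun h0 => ?_⟩
  rw [h0, Int.cast_zero] at hval
  have hA0 := (Finset.sum_eq_zero_iff_of_nonpos hA).1 (by linarith)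
  have hB0 := (Finset.sum_eq_zero_iff_of_nonneg fun i hi => Finset.sum_nonneg (hB i hi)).1 (by linarith)
  refine ⟨fun i j hM => ?_, fun i hi => ?_⟩
  · have h := (Finset.sum_eq_zero_iff_of_nonneg (hB i (Finset.mem_univ _))).1 (hB0 i (Finset.mem_univ _)) j (Finset.mem_univ _)
    have hne : N i j ≠ 0 := mul_ne_zero (mul_ne_zero (hd0 i) (hd0 j)) (Int.cast_ne_zero.2 hM)
    have h' : y i = y j := sub_eq_zero.1 ((pow_eq_zero_iff two_ne_zero).1 ((mul_eq_zero.1 h).resolve_left hne))
    simp only [y, div_eq_div_iff (hd0 i) (hd0 j)] at h'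
    exact_mod_cast h'
  · have h := hA0 i (Finset.mem_univ _)
    rw [hrow'] at h
    have hne : (d i : ℚ) * ((∑ j, (d j : ℤ) * M i j : ℤ) : ℚ) ≠ 0 := mul_ne_zero (hd0 i) (Int.cast_ne_zero.2 hi.ne)
    have h' : y i = 0 := (pow_eq_zero_iff two_ne_zero).1 ((mul_eq_zero.1 h).resolve_right hne)
    simpa [y, hd0 i] using h'

variable {R : Type u} [CommRing R] [IsDomain R] [IsDiscreteValuationRing R] {X : Over (Spec (CommRingCat.of R))}

/-- Euler characteristics along an isomorphism over the field. -/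
theorem eulerCharLE_iso' {k : Type u} [Field k] {C P : Scheme.{u}} (q : C ⟶ Spec (CommRingCat.of k))
    (q' : P ⟶ Spec (CommRingCat.of k)) (e : C ≅ P) (hq : e.inv ≫ q = q') {F : C.Modules} (hF : PicF.IsInvertible F) (d : ℕ) :
    letI : P.Over (Spec (CommRingCat.of k)) := ⟨q'⟩
    letI : C.Over (Spec (CommRingCat.of k)) := ⟨q⟩
    FGA.eulerCharLE k C F d = FGA.eulerCharLE k P ((Scheme.Modules.pullback e.inv).obj F) d := by
  subst hq
  exact eulerCharLE_iso q e hF d

/-- Degrees of ideals depend only on the support of the vertical prime divisor. -/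
theorem degI_congr [IsProper X.hom] {Γ Δ : ArSurf.VertComp R X} (h : Set.range Γ.ι = Set.range Δ.ι)
    {I : X.left.IdealSheafData} (hI : BlowUp.IsEffCartierIdeal I) : degI Γ I = degI Δ I := by
  let k := IsLocalRing.ResidueField R
  haveI : IsProper (Γ.curve.left ↘ Spec (CommRingCat.of k)) := isProper_curve Γ
  haveI : IsProper (Δ.curve.left ↘ Spec (CommRingCat.of k)) := isProper_curve Δ
  obtain ⟨-, e, he⟩ := exists_iso_of_range Γ.ι Δ.ι h
  haveI : IsClosedImmersion (Spec.map (CommRingCat.ofHom (IsLocalRing.residue R))) :=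
    IsClosedImmersion.spec_of_surjective _ IsLocalRing.residue_surjective
  have hq : e.inv ≫ Γ.curve.hom = Δ.curve.hom := by
    rw [← cancel_mono (Spec.map (CommRingCat.ofHom (IsLocalRing.residue R))), Category.assoc, ← Γ.w, ← Δ.w]
    rw [← he, Category.assoc, Iso.inv_hom_id_assoc]
  have key : ∀ (F : Γ.curve.left.Modules) (G : Δ.curve.left.Modules), PicF.IsInvertible F →
      ((Scheme.Modules.pullback e.inv).obj F ≅ G) →
      Curv2.euler k Γ.curve.left F = Curv2.euler k Δ.curve.left G := fun F G hF j => by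
    rw [← CurveRR.euler_eq_of_iso (k := k) (X := Δ.curve.left) j, CurveRR.euler_eq Γ.dim_eq.le, CurveRR.euler_eq Δ.dim_eq.le]
    have h1 : FGA.eulerCharLE k Γ.curve.left F 1 =
        FGA.eulerCharLE k Δ.curve.left ((Scheme.Modules.pullback e.inv).obj F) 1 :=
      eulerCharLE_iso' Γ.curve.hom Δ.curve.hom e hq hF 1
    simp only [FGA.eulerCharLE, Finset.sum_range_succ, Finset.sum_range_zero, zero_add, pow_zero, one_mul, pow_one] at h1
    simp only [CurveRR.h]
    push_cast at h1 ⊢
    convert h1 using 1 <;> ring!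
  obtain ⟨o⟩ : Nonempty ((Scheme.Modules.pullback e.inv).obj (Coh.structureModule Γ.curve.left) ≅
      Coh.structureModule Δ.curve.left) := ⟨PicLoc.pullbackStructureIso e.inv⟩
  have hi : e.inv ≫ Γ.ι = Δ.ι := by rw [← he, Iso.inv_hom_id_assoc]
  rw [degI, degI, Curv2.deg, Curv2.deg, key _ _ TMul.isInvertible_structureModule o,
    key _ _ (PicLoc.isInvertible_pullback Γ.ι ((Groth.Agent.S8914.result _).2 hI))
      ((Scheme.Modules.pullbackComp e.inv Γ.ι).app _ ≪≫ (Scheme.Modules.pullbackCongr hi).app _)]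

/-- An invertible module has an inverse. -/
theorem exists_inverse_module {Y : Scheme.{u}} {M : Y.Modules} (hM : PicF.IsInvertible M) :
    ∃ L : Y.Modules, PicF.IsInvertible L ∧ ClSub.IsInverseOf L M := by
  obtain ⟨L, hL, ⟨e⟩⟩ := Groth.Agent.SymAlg.exists_inverse hM
  exact ⟨L, hL, ⟨TMul.commIso L M ≪≫ e⟩⟩

/-- Writing the closed fibre as given prime divisors plus a residual divisor. -/
theorem exists_residual (hX : ArSurf.IsArithSurface R X) {n : ℕ} (Γ : Fin n → ArSurf.VertComp R X)
    (hinj : Function.Injective fun i => Set.range (Γ i).ι) :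
    ∃ J : X.left.IdealSheafData, BlowUp.IsEffCartierIdeal J ∧
      fibreIdeal X = J * ∏ j, (Γ j).ι.ker ^ Models.mult R X (Γ j) ∧
      (∀ i, Models.genPtOf R X (Γ i) ∉ (J.support : Set X.left)) ∧ ∀ i, 0 < Models.mult R X (Γ i) := by
  classical
  have hX' := hX
  obtain ⟨hXr, hXi, hXd, hXf, -⟩ := hX'
  haveI := hXi
  haveI := hXf
  haveI := isProper_hom_of_isArithSurface hX
  haveI : IsLocallyNoetherian X.left := LocallyOfFiniteType.isLocallyNoetherian X.hom
  haveI : CompactSpace X.left := QuasiCompact.compactSpace_of_compactSpace X.hom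
  haveI : IsNoetherian X.left := {}
  have hc := fun j => isEffCartierIdeal_ker hX (Γ j)
  have hrad : ∀ j (J : X.left.IdealSheafData), Models.genPtOf R X (Γ j) ∈ (J.support : Set X.left) → J ≤ (Γ j).ι.ker := by
    intro j J hJ
    refine (Scheme.IdealSheafData.le_radical _).trans ?_
    rw [← Scheme.IdealSheafData.vanishingIdeal_support, SpCartier.ker_eq_vanishingIdeal (Γ j).ι]
    refine Scheme.IdealSheafData.vanishingIdeal_antimono ?_
    show ((Γ j).ι.ker.support : Set X.left) ⊆ _
    rw [Scheme.Hom.support_ker, (Γ j).ι.isClosedEmbedding.isClosed_range.closure_eq]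
    rintro _ ⟨z, rfl⟩
    exact ((genericPoint_specializes z).map (Γ j).ι.continuous).mem_closed J.support.isClosed hJ
  have hsup : ∀ i, Models.genPtOf R X (Γ i) ∈ ((Γ i).ι.ker.support : Set X.left) := fun i => by
    rw [Scheme.Hom.support_ker, (Γ i).ι.isClosedEmbedding.isClosed_range.closure_eq]
    exact ⟨_, rfl⟩
  have hstep : ∀ s : Finset (Fin n), ∃ (J : X.left.IdealSheafData) (a : Fin n → ℕ), BlowUp.IsEffCartierIdeal J ∧
      fibreIdeal X = J * ∏ j ∈ s, (Γ j).ι.ker ^ a j ∧ ∀ i ∈ s, Models.genPtOf R X (Γ i) ∉ (J.support : Set X.left) := by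
    intro s
    induction s using Finset.induction with
    | empty => exact ⟨fibreIdeal X, fun _ => 0, cartier_fibreIdeal, by simp, by simp⟩
    | insert i s hi ih =>
      obtain ⟨J, a, hJ, heq, hout⟩ := ih
      by_cases hm : Models.genPtOf R X (Γ i) ∈ (J.support : Set X.left)
      · obtain ⟨b, hle, hnle⟩ := PtBlow.exists_max_pow (D := (Γ i).ι.ker) hJ (hsup i)
        obtain ⟨J', hJ'⟩ := ModPairProd.exists_div (DivPart.cartier_pow (hc i) b) hle
        have hJc : BlowUp.IsEffCartierIdeal J' := BlowUpLib.cartier_of_mul_left (hJ' ▸ hJ)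
        refine ⟨J', Function.update a i b, hJc, ?_, fun j hj => ?_⟩
        · rw [Finset.prod_insert hi, Function.update_self, ← mul_assoc, hJ', heq]
          exact congrArg _ (Finset.prod_congr rfl fun j hj => by
            rw [Function.update_of_ne (show j ≠ i from fun e => hi (e ▸ hj))])
        · rcases Finset.mem_insert.1 hj with rfl | hj'
          · intro h'
            refine hnle (hJ'.symm.le.trans fun W => ?_)
            rw [pow_succ', Scheme.IdealSheafData.ideal_mul, Scheme.IdealSheafData.ideal_mul]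
            exact Ideal.mul_mono_left (hrad _ J' h' W)
          · intro h'
            refine hout j hj' ?_
            rw [← hJ', Scheme.IdealSheafData.support_mul]
            exact Or.inl h'
      · refine ⟨J, Function.update a i 0, hJ, ?_, fun j hj => ?_⟩
        · rw [Finset.prod_insert hi, Function.update_self, pow_zero, one_mul, heq]
          exact congrArg _ (Finset.prod_congr rfl fun j hj => by
            rw [Function.update_of_ne (show j ≠ i from fun e => hi (e ▸ hj))])
        · rcases Finset.mem_insert.1 hj with rfl | hj'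
          · exact hm
          · exact hout j hj'
  obtain ⟨J, a, hJ, ha, hout⟩ := hstep Finset.univ
  have hmult : ∀ i, Models.mult R X (Γ i) = a i ∧ 0 < a i := by
    intro i
    let ξ := Models.genPtOf R X (Γ i)
    obtain ⟨W, hW, hξW, -⟩ := exists_isAffineOpen_mem_and_subset (show ξ ∈ (⊤ : X.left.Opens) from trivial)
    let W' : X.left.affineOpens := ⟨W, hW⟩
    have h1 : stI (fibreIdeal X) W' hξW = (IsLocalRing.maximalIdeal R).map (Models.stalkHom R X ξ) := by
      rw [stI, fibreIdeal_ideal, Ideal.map_map]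
      refine congrArg (fun φ => Ideal.map φ (IsLocalRing.maximalIdeal R)) ?_
      refine RingHom.ext fun r => ?_
      exact X.left.presheaf.germ_res_apply (homOfLE (le_top : W'.1 ≤ ⊤)) ξ hξW _
    have hunit : ∀ (I : X.left.IdealSheafData), BlowUp.IsEffCartierIdeal I → ξ ∉ (I.support : Set X.left) →
        stI I W' hξW = ⊤ := fun I hI h => by
      obtain ⟨g, -, hg, hu⟩ := DivPart.exists_generator I hI W' hξW
      rw [hg, Ideal.span_singleton_eq_top]
      exact hu h
    have hmul : ∀ s : Finset (Fin n), stI (∏ j ∈ s, (Γ j).ι.ker ^ a j) W' hξW =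
        if i ∈ s then IsLocalRing.maximalIdeal (X.left.presheaf.stalk ξ) ^ a i else ⊤ := by
      intro s
      induction s using Finset.induction with
      | empty => simp [stI, Scheme.IdealSheafData.one_eq_top, Ideal.map_top]
      | insert j s hj ih =>
        have hs : stI ((Γ j).ι.ker ^ a j * ∏ t ∈ s, (Γ t).ι.ker ^ a t) W' hξW =
            stI (Γ j).ι.ker W' hξW ^ a j * stI (∏ t ∈ s, (Γ t).ι.ker ^ a t) W' hξW := by
          simp only [stI, Scheme.IdealSheafData.ideal_mul, PtBlow.ideal_pow', Pi.mul_apply, Ideal.map_mul, Ideal.map_pow]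
        rw [Finset.prod_insert hj, hs, ih]
        by_cases hji : j = i
        · subst hji
          rw [if_neg hj, if_pos (Finset.mem_insert_self _ _), stI_ker_genPt]
          exact Ideal.mul_top _
        · rw [hunit _ (hc j) (genPt_notMem fun e => hji (hinj e).symm), Ideal.top_pow, Ideal.top_mul]
          simp only [Finset.mem_insert, Ne.symm hji, false_or]
    have h2 : stI (fibreIdeal X) W' hξW = stI J W' hξW * stI (∏ j, (Γ j).ι.ker ^ a j) W' hξW := by
      rw [ha]
      simp only [stI, Scheme.IdealSheafData.ideal_mul, Pi.mul_apply, Ideal.map_mul]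
    rw [hmul, if_pos (Finset.mem_univ i), hunit J hJ (hout i (Finset.mem_univ i)), Ideal.top_mul, h1] at h2
    have hdim : ringKrullDim (X.left.presheaf.stalk ξ) = 1 := by
      refine ringKrullDim_stalk_curve hXd ?_
      have hcl : closure ({ξ} : Set X.left) = Set.range (Γ i).ι := by
        refine subset_antisymm ((Γ i).ι.isClosedEmbedding.isClosed_range.closure_subset_iff.2
          (Set.singleton_subset_iff.2 ⟨_, rfl⟩)) ?_
        rintro _ ⟨z, rfl⟩
        exact specializes_iff_mem_closure.1 ((genericPoint_specializes z).map (Γ i).ι.continuous)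
      rw [hcl, ← (Γ i).ι.isClosedEmbedding.isEmbedding.toHomeomorph.isHomeomorph.topologicalKrullDim_eq,
        (Γ i).dim_eq]
      rfl
    have hnf : ¬ IsField (X.left.presheaf.stalk ξ) := fun h => by
      rw [ringKrullDim_eq_zero_of_isField h] at hdim
      exact zero_ne_one hdim
    haveI := hXr ξ
    haveI : IsDiscreteValuationRing (X.left.presheaf.stalk ξ) :=
      (SepReg.dvr_iff_regular _ hnf hdim.le).2 inferInstance
    refine ⟨?_, Nat.pos_of_ne_zero fun h0 => ?_⟩
    · rw [Models.mult]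
      change (Module.length _ (X.left.presheaf.stalk ξ ⧸ Ideal.map (Models.stalkHom R X ξ) _)).toNat = a i
      rw [h2, IsDiscreteValuationRing.length_quotient_pow_maximalIdeal]
      rfl
    · rw [h0, pow_zero, Ideal.one_eq_top, ← h1] at h2
      have hmem : ξ ∈ ((fibreIdeal X).support : Set X.left) :=
        (mem_support_fibreIdeal ξ).2 (range_subset_specialFibre (Γ i) ⟨_, rfl⟩)
      have hle := (DivPart.mem_support_iff_le (fibreIdeal X) W' hξW).1 hmem
      have h3 : stI (fibreIdeal X) W' hξW ≤ IsLocalRing.maximalIdeal _ := by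
        refine (Ideal.map_mono hle).trans ?_
        rw [Ideal.map_le_iff_le_comap]
        intro f hf
        rw [Ideal.mem_comap, IsLocalRing.mem_maximalIdeal, mem_nonunits_iff]
        exact fun hu => (WeakAssLib.mem_primeIdealOf W'.2 hξW f).1 ((X.left.mem_basicOpen f ξ hξW).2 hu) hf
      rw [h2] at h3
      exact (IsLocalRing.maximalIdeal.isMaximal _).ne_top (eq_top_iff.2 h3)
  refine ⟨J, hJ, ?_, fun i => hout i (Finset.mem_univ i), fun i => (hmult i).1 ▸ (hmult i).2⟩
  rw [ha]
  simp only [fun i => (hmult i).1]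

/-- The intersection matrix of vertical prime divisors. -/
def interMat {n : ℕ} (Γ : Fin n → ArSurf.VertComp R X) (i j : Fin n) : ℤ := - degI (Γ i) (Γ j).ι.ker

theorem inter_eq_interMat (hX : ArSurf.IsArithSurface R X) {n : ℕ} (Γ : Fin n → ArSurf.VertComp R X) {i j : Fin n}
    {L : X.left.Modules} (hL : ClSub.IsInverseOf L (ClSub.idealMod (Γ j).ι.ker)) :
    ArSurf.inter R X L (Γ i) = interMat Γ i j := by
  haveI := isProper_hom_of_isArithSurface hX
  exact inter_eq_neg_degI (Γ i) (isEffCartierIdeal_ker hX (Γ j)) hL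

/-- A Cartier divisor has nonpositive ideal degree on a curve outside it, negative if they meet. -/
theorem degI_nonpos [IsProper X.hom] (Γ : ArSurf.VertComp R X) {I : X.left.IdealSheafData}
    (hI : BlowUp.IsEffCartierIdeal I) (hΓ : Γ.ι (genericPoint Γ.curve.left) ∉ (I.support : Set X.left)) :
    degI Γ I ≤ 0 ∧ (degI Γ I = 0 ↔ Disjoint (Set.range Γ.ι) (I.support : Set X.left)) := by
  obtain ⟨L, -, hL⟩ := exists_inverse_module ((Groth.Agent.S8914.result _).2 hI)
  obtain ⟨h1, h2⟩ := inter_nonneg Γ hI hΓ hL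
  rw [inter_eq_neg_degI Γ hI hL] at h1 h2
  exact ⟨by omega, by rw [← h2]; omega⟩

/-- Negative semidefiniteness, with the residual divisor controlling strictness. -/
theorem interMat_facts (hX : ArSurf.IsArithSurface R X) {n : ℕ} (Γ : Fin n → ArSurf.VertComp R X)
    (hinj : Function.Injective fun i => Set.range (Γ i).ι) :
    (∀ i j, interMat Γ i j = interMat Γ j i) ∧
    (∀ i j, i ≠ j → 0 ≤ interMat Γ i j ∧
      (interMat Γ i j = 0 ↔ Disjoint (Set.range (Γ i).ι) (Set.range (Γ j).ι))) ∧
    ∃ J : X.left.IdealSheafData, fibreIdeal X = J * ∏ j, (Γ j).ι.ker ^ Models.mult R X (Γ j) ∧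
      ∀ i, 0 < Models.mult R X (Γ i) ∧ ∑ j, (Models.mult R X (Γ j) : ℤ) * interMat Γ i j ≤ 0 ∧
        (∑ j, (Models.mult R X (Γ j) : ℤ) * interMat Γ i j = 0 ↔
          Disjoint (Set.range (Γ i).ι) (J.support : Set X.left)) := by
  haveI := isProper_hom_of_isArithSurface hX
  haveI := hX.2.2.2.1
  have hne : ∀ i j, i ≠ j → Set.range (Γ i).ι ≠ Set.range (Γ j).ι := fun i j h e => h (hinj e)
  refine ⟨fun i j => ?_, fun i j h => ?_, ?_⟩
  · by_cases h : i = j
    · rw [h]
    · obtain ⟨L₁, -, h₁⟩ := exists_inverse_module ((Groth.Agent.S8914.result _).2 (isEffCartierIdeal_ker hX (Γ i)))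
      obtain ⟨L₂, -, h₂⟩ := exists_inverse_module ((Groth.Agent.S8914.result _).2 (isEffCartierIdeal_ker hX (Γ j)))
      rw [← inter_eq_interMat hX Γ h₂, ← inter_eq_interMat hX Γ h₁]
      rw [(inter_eq_h0 (Γ i) (isEffCartierIdeal_ker hX (Γ j)) (genPt_notMem (hne i j h)) h₂).2,
        (inter_eq_h0 (Γ j) (isEffCartierIdeal_ker hX (Γ i)) (genPt_notMem (hne j i (Ne.symm h))) h₁).2,
        ← lengthH_quotMod_sup (Γ i), ← lengthH_quotMod_sup (Γ j), sup_comm]
  · obtain ⟨h1, h2⟩ := degI_nonpos (Γ i) (isEffCartierIdeal_ker hX (Γ j)) (genPt_notMem (hne i j h))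
    rw [Scheme.Hom.support_ker, (Γ j).ι.isClosedEmbedding.isClosed_range.closure_eq] at h2
    rw [interMat]
    exact ⟨by omega, by rw [← h2]; omega⟩
  · obtain ⟨J, hJ, heq, hout, hpos⟩ := exists_residual hX Γ hinj
    refine ⟨J, heq, fun i => ⟨hpos i, ?_⟩⟩
    obtain ⟨hP, hsum⟩ := degI_prod (Γ i) Finset.univ (fun j => (Γ j).ι.ker ^ Models.mult R X (Γ j))
      fun j => DivPart.cartier_pow (isEffCartierIdeal_ker hX (Γ j)) _
    have h := degI_mul (Γ i) hJ hP
    rw [← heq, degI_fibreIdeal, hsum] at h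
    have h' : ∑ j, (Models.mult R X (Γ j) : ℤ) * interMat Γ i j = degI (Γ i) J := by
      rw [Finset.sum_congr rfl fun j _ => by rw [interMat, mul_neg, ← degI_pow (Γ i) (isEffCartierIdeal_ker hX (Γ j))],
        Finset.sum_neg_distrib]
      omega
    rw [h']
    exact degI_nonpos (Γ i) hJ (hout i)

end Groth.Agent.Castel
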