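import Groth.Agent.Castel.MinDesc
import Groth.Agent.Birat.Generic
import Groth.Agent.S18498

/-!
Relatively minimal models with nonzero `H¹` of the generic fibre are unique.
-/

set_option autoImplicit false
set_option backward.isDefEq.respectTransparency false
set_option backward.isDefEq.respectTransparency.types false
set_option linter.style.haveILetI false

universe u

open CategoryTheory CategoryTheory.Limits AlgebraicGeometry TopologicalSpace Topology

noncomputable section

namespace Groth.Agent.Castel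

variable {R : Type u} [CommRing R] [IsDedekindDomain R]

/-- A relatively minimal arithmetic surface has no exceptional curves. -/
theorem no_exc_of_minimal (hR : ¬ IsField R) {X : Over (Spec (CommRingCat.of R))} (hX : ArSurf.IsArithSurface R X)
    (m : Neron.IsRelMinimalRegularModel R X) (E : Scheme.{u}) (ι : E ⟶ X.left) [IsClosedImmersion ι] :
    ¬ Models.IsExcCurve ι := by
  intro hE
  have hX' := hX
  obtain ⟨hXr, hXi, hXd, -, hXp⟩ := hX'
  haveI := hXi
  haveI := Groth.Agent.PtBlow.isProper_of_isProjectiveOver (Z := X) hXp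
  obtain ⟨L₀, hL₀⟩ := exists_ample_of_proj hXp
  obtain ⟨hI, k, _, eP, -⟩ := id hE
  obtain ⟨L, hLi, ⟨eL⟩⟩ := Groth.Agent.SymAlg.exists_inverse ((Groth.Agent.S8914.result _).2 hI)
  have hL : ClSub.IsInverseOf L (ClSub.idealMod ι.ker) := ⟨TMul.commIso L _ ≪≫ eL⟩
  obtain ⟨Y, b, g, y₀, hb, hbg, hg, hbp, hfib, happ, hoff, -, L', hL', -⟩ :=
    exists_ample_contraction X.hom L₀ hL₀ ι hE L hL hLi
  haveI := hg
  haveI := hbp
  obtain ⟨-, -, y, hy, hyr, hyreg, hydim, -⟩ := hb
  haveI : IsIntegral (CohB1.ProjSpace 1 k) := Horrocks.isIntegral_projSpace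
  let e₀ := eP.hom (genericPoint (CohB1.ProjSpace 1 k))
  have hyy : y = y₀ := by
    have h1 : b (ι e₀) = y := hyr.subset ⟨e₀, rfl⟩
    have h2 : b (ι e₀) = y₀ := hfib.ge ⟨e₀, rfl⟩
    exact h1.symm.trans h2
  subst hyy
  obtain ⟨hYi, hYd, hYf, hYp, hYr⟩ := surface_facts hX b g hbg y hy (hfib ▸ ⟨ι e₀, e₀, rfl⟩) happ hoff hL'
  let V : Y.Opens := ⟨({y} : Set Y)ᶜ, hy.isOpen_compl⟩
  let G : X ⟶ Over.mk g := Over.homMk b hbg
  haveI : IsIso (G.left ∣_ V) := hoff V fun h => h rfl
  have hgen : IsIso ((Neron.genericFibre R).map G) := isIso_genericFibre_map G V fun v hv hvy => by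
    rw [Set.mem_singleton_iff.1 hvy] at hv
    exact base_ne_bot_of_closed hR g hy hv
  haveI : IsIso G := m.2.2.2 (Over.mk g) (fun v => by
    by_cases hv : v = y
    · subst hv; exact hyreg
    · exact hYr v hv) hYp hYf G hgen
  haveI : IsIso b := inferInstanceAs (IsIso ((Over.forget _).map G))
  obtain ⟨p, hp⟩ : ∃ p : CohB1.ProjSpace 1 k, p ≠ genericPoint (CohB1.ProjSpace 1 k) := by
    by_contra! hall
    haveI : Subsingleton (CohB1.ProjSpace 1 k) := ⟨fun p q => (hall p).trans (hall q).symm⟩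
    have h0 : topologicalKrullDim (CohB1.ProjSpace 1 k) ≤ ((0 : ℕ) : WithBot ℕ∞) :=
      Unibranch.topologicalKrullDim_le_natCast fun l c hc => by
        rcases l with _ | l
        · exact le_rfl
        · exact absurd (Subsingleton.elim _ _) (hc 0).2
    rw [Groth.Agent.S10829.result k 1] at h0
    exact absurd h0 (by decide)
  have h1 : b (ι e₀) = b (ι (eP.hom p)) :=
    (hfib.ge ⟨e₀, rfl⟩ : b (ι e₀) = y).trans (hfib.ge ⟨eP.hom p, rfl⟩ : b (ι (eP.hom p)) = y).symm
  exact hp (eP.hom.homeomorph.injective (ι.isClosedEmbedding.injective (b.homeomorph.injective h1))).symm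

/-- An arithmetic surface with nonzero `H¹` of the generic fibre is a model. -/
theorem isModel_of_arith {X : Over (Spec (CommRingCat.of R))} (hX : ArSurf.IsArithSurface R X)
    (h1 : Nontrivial (Coh.HH ((Neron.genericFibre R).obj X).left (Coh.structureModule _) 1)) : IsModel X.hom :=
  ⟨hX.2.1, PtBlow.isProper_of_isProjectiveOver hX.2.2.2.2, hX.2.2.2.1, hX.1, hX.2.2.1.le, h1⟩

/-- A proper map with an isomorphism of stalks at the generic point is an isomorphism over an open. -/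
theorem exists_iso_over_open {X Y : Scheme.{u}} [IsIntegral X] [IsNoetherian X] [IsIntegral Y] [IsNoetherian Y]
    (f : X ⟶ Y) [IsProper f] (hgen : f (genericPoint X) = genericPoint Y)
    [IsIso (f.stalkMap (genericPoint X))] : ∃ V : Y.Opens, (V : Set Y).Nonempty ∧ IsIso (f ∣_ V) := by
  have hfin : (irreducibleComponents (Y : Type u)).Finite := by
    rw [irreducibleComponents_eq_singleton]
    exact Set.finite_singleton _
  have hy : closure ({f (genericPoint X)} : Set Y) ∈ irreducibleComponents (Y : Type u) := by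
    rw [hgen, irreducibleComponents_eq_singleton, genericPoint_closure]
    rfl
  obtain ⟨U, hxU, V, hyV, f', hf', -, -, hcomp⟩ :=
    Birat.exists_local_iso f hfin hy (Or.inl ⟨inferInstance, inferInstance⟩) ⊤ trivial ⊤ trivial
  haveI := hf'
  haveI : IsOpenImmersion (U.ι ≫ f) := by rw [← hcomp]; infer_instance
  have hrange : Set.range (U.ι ≫ f) = V := by
    rw [← hcomp, Scheme.Hom.comp_base, TopCat.coe_comp, Set.range_comp, f'.surjective.range_eq, Set.image_univ,
      Scheme.Opens.range_ι]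
  let C : Set Y := f '' (U : Set X)ᶜ
  have hC : IsClosed C := f.isClosedMap _ U.2.isClosed_compl
  have hηC : genericPoint Y ∉ C := by
    rintro ⟨z, hz, hzη⟩
    haveI : ValuationRing (Y.presheaf.stalk (f z)) := by
      rw [hzη]
      exact inferInstanceAs (ValuationRing Y.functionField)
    exact hz (RelMinSmooth.eq_of_specializes f hgen (genericPoint_specializes z) (hgen.trans hzη.symm) ▸ hxU)
  refine ⟨V ⊓ ⟨Cᶜ, hC.isOpen_compl⟩, ⟨genericPoint Y, hgen ▸ hyV, hηC⟩, ?_⟩
  exact Birat.isIso_restrict_of_le f hrange inf_le_left fun z hz => by_contra fun h => hz.2 ⟨z, h, rfl⟩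

/-- A morphism which is an isomorphism over a nonempty open descends along a sequence of contractions, towards a
model without exceptional curves. -/
theorem exists_desc (hR : ¬ IsField R) {X₁ : Scheme.{u}} (π₁ : X₁ ⟶ Spec (CommRingCat.of R)) (h₁ : IsModel π₁)
    (hexc : ∀ (E : Scheme.{u}) (ι : E ⟶ X₁) [IsClosedImmersion ι], ¬ Models.IsExcCurve ι)
    {Z X₂ : Scheme.{u}} {q₂ : Z ⟶ X₂} (hq₂ : Models.IsContractionSeq q₂) :
    ∀ (π₂ : X₂ ⟶ Spec (CommRingCat.of R)), IsModel π₂ → ∀ q₁ : Z ⟶ X₁, q₁ ≫ π₁ = q₂ ≫ π₂ →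
      (∃ V : X₁.Opens, (V : Set X₁).Nonempty ∧ IsIso (q₁ ∣_ V)) → ∃ h : X₂ ⟶ X₁, q₂ ≫ h = q₁ := by
  induction hq₂ with
  | @iso Z X₂ e =>
    intro _ _ q₁ _ _
    exact ⟨e.inv ≫ q₁, by simp⟩
  | @step Z W X₂ E ι b r hι hE hb hr ih =>
    intro π₂ h₂ q₁ hq hbir
    haveI := h₁.int
    haveI := h₁.noeth
    haveI := h₁.proper
    have hW := isModel_of_seq hR hr π₂ h₂
    haveI := hW.int
    haveI := hW.noeth
    obtain ⟨-, hbp, z, hz, hz₀, hreg, hdim, hbl⟩ := id hb
    haveI := hbp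
    have hz' : PtBlow.IsRegPt W z := ⟨hz, hreg, hdim⟩
    have hZ := hW.blowUp hR hz' hbl
    haveI := hZ.int
    haveI := hZ.noeth
    haveI : IsProper (q₁ ≫ π₁) := by rw [hq, Category.assoc]; exact hZ.proper
    haveI : IsProper q₁ := IsProper.of_comp q₁ π₁
    have hseq := PtBlow.isContractionSeq_of_birational q₁ hZ.reg hZ.dim h₁.reg h₁.dim hbir
    haveI := hι
    obtain ⟨x, hx⟩ := exc_const hR hseq π₁ h₁ hexc ι hE
    obtain ⟨q', hq', -⟩ := PtBlow.existsUnique_desc ι hE b hb q₁ x hx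
    have hq'' : q' ≫ π₁ = r ≫ π₂ := PtBlow.epi_blowUp hz' hbl (by rw [reassoc_of% hq', hq, Category.assoc])
    obtain ⟨-, k, _, e, -⟩ := id hE
    haveI : IsIntegral (CohB1.ProjSpace 1 k) := Horrocks.isIntegral_projSpace
    let a := e.hom (genericPoint (CohB1.ProjSpace 1 k))
    have hxz : q' z = x := by
      rw [← (show b (ι a) = z from hz₀.subset ⟨_, rfl⟩), ← Scheme.Hom.comp_apply b q', hq']
      exact hx.subset ⟨a, rfl⟩
    have hxc : IsClosed ({x} : Set X₁) := by
      rw [← hx, Scheme.Hom.comp_base, TopCat.coe_comp, Set.range_comp]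
      exact q₁.isClosedMap _ ι.isClosedEmbedding.isClosed_range
    obtain ⟨V, hV, hVi⟩ := hbir
    let V' : X₁.Opens := V ⊓ ⟨({x} : Set X₁)ᶜ, hxc.isOpen_compl⟩
    have hxgen : x ≠ genericPoint X₁ := fun h => by
      have h1 := base_ne_bot_of_closed hR π₁ (h ▸ hxc)
      haveI := h₁.flat
      obtain ⟨w, hw, hw'⟩ := Flat.generalizingMap π₁ (a := genericPoint X₁)
        ((PrimeSpectrum.le_iff_specializes (⟨⊥, Ideal.isPrime_bot⟩ : PrimeSpectrum R) (π₁ (genericPoint X₁))).mp bot_le)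
      rw [(hw.antisymm ((genericPoint_spec X₁).specializes trivial)).eq] at hw'
      exact h1 (congrArg PrimeSpectrum.asIdeal hw')
    have hbir' : IsIso (q' ∣_ V') := by
      haveI hbU : IsIso (b ∣_ q' ⁻¹ᵁ V') := PtBlow.isIso_restrict_le b (V := (PtBlow.pt hz').support.compl)
        (fun v hv => by
          show v ∉ ((PtBlow.pt hz').support : Set W)
          rw [PtBlow.coe_support_pt hz']
          intro h
          rw [Set.mem_singleton_iff.1 h] at hv
          exact hv.2 hxz) (BlowUpLib.isIso_restrict hbl)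
      haveI := hVi
      have h1 : IsIso ((b ≫ q') ∣_ V') := hq'.symm ▸ PtBlow.isIso_restrict_le q₁ (V := V) inf_le_left hVi
      rw [morphismRestrict_comp] at h1
      exact @IsIso.of_isIso_comp_left _ _ _ _ _ (b ∣_ q' ⁻¹ᵁ V') _ hbU h1
    have hne : (V' : Set X₁).Nonempty := ⟨genericPoint X₁,
      ((genericPoint_spec X₁).mem_open_set_iff V.2).2 (by simpa using hV), fun h => hxgen h.symm⟩
    obtain ⟨h, hh⟩ := ih π₂ h₂ q' hq'' ⟨V', hne, hbir'⟩
    exact ⟨h, by rw [Category.assoc, hh, hq']⟩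

/-- A lift of the local scheme at `x` along a map which is an isomorphism on stalks. -/
theorem exists_lift_stalk {Z X W : Scheme.{u}} (g : Z ⟶ X) (z : Z) {x : X} (hz : g z = x) [IsIso (g.stalkMap z)]
    {U : X.Opens} (hxU : x ∈ U) (φ : (U : Scheme.{u}) ⟶ W) (q : Z ⟶ W) (hq : (g ⁻¹ᵁ U).ι ≫ q = (g ∣_ U) ≫ φ) :
    ∃ e : Spec (X.presheaf.stalk x) ⟶ Spec (Z.presheaf.stalk z), IsIso e ∧
      e ≫ Z.fromSpecStalk z ≫ g = X.fromSpecStalk x ∧
      e ≫ Z.fromSpecStalk z ≫ q = U.fromSpecStalkOfMem x hxU ≫ φ := by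
  subst hz
  refine ⟨Spec.map (inv (g.stalkMap z)), inferInstance, ?_, ?_⟩
  · rw [← Scheme.SpecMap_stalkMap_fromSpecStalk, ← Spec.map_comp_assoc, IsIso.hom_inv_id, Spec.map_id,
      Category.id_comp]
  · have h1 : (g ⁻¹ᵁ U).fromSpecStalkOfMem z hxU ≫ (g ∣_ U) =
        Spec.map (g.stalkMap z) ≫ U.fromSpecStalkOfMem (g z) hxU := by
      rw [← cancel_mono U.ι, Category.assoc, morphismRestrict_ι, Category.assoc,
        Scheme.Opens.fromSpecStalkOfMem_ι_assoc, Scheme.Opens.fromSpecStalkOfMem_ι,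
        Scheme.SpecMap_stalkMap_fromSpecStalk]
    have h2 : Z.fromSpecStalk z ≫ q = Spec.map (g.stalkMap z) ≫ U.fromSpecStalkOfMem (g z) hxU ≫ φ := by
      rw [← Category.assoc (Spec.map _), ← h1, Category.assoc, ← hq, Scheme.Opens.fromSpecStalkOfMem_ι_assoc]
    rw [h2, ← Spec.map_comp_assoc, IsIso.hom_inv_id, Spec.map_id, Category.id_comp]

/-- Recognising an isomorphism of stalks. -/
theorem isIso_stalkMap_of_fromSpecStalk {X Y : Scheme.{u}} (f : X ⟶ Y) (x : X) {y : Y} (hy : f x = y)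
    (a : Spec (X.presheaf.stalk x) ⟶ Spec (Y.presheaf.stalk y)) [IsIso a]
    (h : X.fromSpecStalk x ≫ f = a ≫ Y.fromSpecStalk y) : IsIso (f.stalkMap x) := by
  subst hy
  rw [← Scheme.SpecMap_stalkMap_fromSpecStalk, cancel_mono] at h
  haveI : IsIso (Scheme.Spec.map (f.stalkMap x).op) := by
    show IsIso (Spec.map (f.stalkMap x))
    rw [h]; infer_instance
  haveI := isIso_of_reflects_iso (f.stalkMap x).op Scheme.Spec
  exact isIso_of_op _

/-- A morphism of generic fibres between minimal models comes from a morphism. -/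
theorem exists_iso_of_generic {X₁ X₂ : Over (Spec (CommRingCat.of R))} (h₁ : ArSurf.IsArithSurface R X₁)
    (h₂ : ArSurf.IsArithSurface R X₂) (m₁ : Neron.IsRelMinimalRegularModel R X₁)
    (m₂ : Neron.IsRelMinimalRegularModel R X₂)
    (hh : Nontrivial (Coh.HH ((Neron.genericFibre R).obj X₁).left (Coh.structureModule _) 1))
    (φ : (Neron.genericFibre R).obj X₁ ≅ (Neron.genericFibre R).obj X₂) :
    ∃ f : X₁ ⟶ X₂, IsIso f ∧ (Neron.genericFibre R).map f = φ.hom := by
  let fX₁ := pullback.fst X₁.hom (Neron.genPt R)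
  let fX₂ := pullback.fst X₂.hom (Neron.genPt R)
  have hw₁ : fX₁ ≫ X₁.hom = pullback.snd X₁.hom (Neron.genPt R) ≫ Neron.genPt R := pullback.condition
  have hw₂ : fX₂ ≫ X₂.hom = pullback.snd X₂.hom (Neron.genPt R) ≫ Neron.genPt R := pullback.condition
  let φl : pullback X₁.hom (Neron.genPt R) ⟶ pullback X₂.hom (Neron.genPt R) := φ.hom.left
  haveI : IsIso φl := inferInstanceAs (IsIso ((Over.forget _).map φ.hom))
  have hφ : φl ≫ pullback.snd X₂.hom (Neron.genPt R) = pullback.snd X₁.hom (Neron.genPt R) := Over.w φ.hom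
  by_cases hR : IsField R
  · haveI : IsIso (Neron.genPt R) := by
      letI := hR.toField
      have hb : Function.Bijective (algebraMap R (FractionRing R)) :=
        ⟨IsFractionRing.injective R (FractionRing R), IsFractionRing.surjective_iff_isField.2 hR⟩
      haveI : IsIso (CommRingCat.ofHom (algebraMap R (FractionRing R))) :=
        (ConcreteCategory.isIso_iff_bijective _).2 hb
      exact inferInstanceAs (IsIso (Spec.map (CommRingCat.ofHom (algebraMap R (FractionRing R)))))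
    haveI : IsIso fX₁ := inferInstance
    haveI : IsIso fX₂ := inferInstance
    have hw : (inv fX₁ ≫ φl ≫ fX₂) ≫ X₂.hom = X₁.hom := by
      rw [Category.assoc, Category.assoc, hw₂, reassoc_of% hφ, ← hw₁, IsIso.inv_hom_id_assoc]
    haveI : IsIso (inv fX₁ ≫ φl ≫ fX₂) := inferInstance
    refine ⟨Over.homMk (inv fX₁ ≫ φl ≫ fX₂) hw, ?_, ?_⟩
    · haveI : IsIso ((Over.forget _).map (Over.homMk (inv fX₁ ≫ φl ≫ fX₂) hw : X₁ ⟶ X₂)) :=
        inferInstanceAs (IsIso (inv fX₁ ≫ φl ≫ fX₂))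
      exact isIso_of_reflects_iso (Over.homMk (inv fX₁ ≫ φl ≫ fX₂) hw : X₁ ⟶ X₂) (Over.forget _)
    · apply Over.OverMorphism.ext
      apply pullback.hom_ext
      · refine (pullback.lift_fst _ _ _).trans ?_
        show fX₁ ≫ inv fX₁ ≫ φl ≫ fX₂ = φl ≫ fX₂
        rw [IsIso.hom_inv_id_assoc]
      · refine (pullback.lift_snd _ _ _).trans ?_
        show _ = φl ≫ pullback.snd X₂.hom (Neron.genPt R)
        rw [hφ]
  have hgf : IsIso ((Neron.genericFibre R).map (𝟙 X₁)) := inferInstance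
  have hh₂ : Nontrivial (Coh.HH ((Neron.genericFibre R).obj X₂).left (Coh.structureModule _) 1) := by
    haveI : IsIso (inv φl) := inferInstance
    exact nontrivial_h1_of_iso (inv φl) hh
  have M₁ := isModel_of_arith h₁ hh
  have M₂ := isModel_of_arith h₂ hh₂
  haveI := M₁.int
  haveI := M₁.proper
  haveI := M₁.flat
  haveI := M₁.noeth
  haveI := M₂.int
  haveI := M₂.proper
  haveI := M₂.flat
  haveI := M₂.noeth
  -- the generic points
  let η : Spec (CommRingCat.of R) := (⟨⊥, Ideal.isPrime_bot⟩ : PrimeSpectrum R)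
  have hηX : ∀ (X : Scheme.{u}) (π : X ⟶ Spec (CommRingCat.of R)) [IsIntegral X] [Flat π], π (genericPoint X) = η :=
    fun X π _ _ => by
      obtain ⟨w, hw, hw'⟩ := Flat.generalizingMap π (a := genericPoint X)
        (show η ⤳ _ from (PrimeSpectrum.le_iff_specializes η _).mp bot_le)
      rwa [(hw.antisymm ((genericPoint_spec X).specializes trivial)).eq] at hw'
  haveI : IsPreimmersion (Neron.genPt R) := IsPreimmersion.of_isLocalization (nonZeroDivisors R)
  haveI : IsPreimmersion fX₁ := inferInstance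
  haveI : IsPreimmersion fX₂ := inferInstance
  obtain ⟨w, hw⟩ : genericPoint X₁.left ∈ Set.range fX₁ := by
    rw [Scheme.Pullback.range_fst, RelMinSmooth.range_genPt]
    exact hηX X₁.left X₁.hom
  obtain ⟨w₂, hw₂'⟩ : genericPoint X₂.left ∈ Set.range fX₂ := by
    rw [Scheme.Pullback.range_fst, RelMinSmooth.range_genPt]
    exact hηX X₂.left X₂.hom
  have hwall : ∀ v, w ⤳ v := fun v => by
    rw [← fX₁.isEmbedding.toIsInducing.specializes_iff, hw]
    exact genericPoint_specializes _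
  have hφw : fX₂ (φl w) = genericPoint X₂.left := by
    obtain ⟨v, hv⟩ := φl.surjective w₂
    have h1 : fX₂ (φl w) ⤳ fX₂ (φl v) := ((hwall v).map φl.continuous).map fX₂.continuous
    rw [hv, hw₂'] at h1
    exact (h1.antisymm (genericPoint_specializes _)).eq
  haveI : IsIso (fX₁.stalkMap w) := RelMinSmooth.isIso_stalkMap_fst X₁.hom w
  haveI : IsIso (fX₂.stalkMap (φl w)) := RelMinSmooth.isIso_stalkMap_fst X₂.hom (φl w)
  -- the rational map
  let x := fX₁ w
  let ψ : Spec (X₁.left.presheaf.stalk x) ⟶ X₂.left :=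
    Spec.map (inv (fX₁.stalkMap w)) ≫ (pullback X₁.hom (Neron.genPt R)).fromSpecStalk w ≫ φl ≫ fX₂
  have hψ : ψ ≫ X₂.hom = X₁.left.fromSpecStalk x ≫ X₁.hom := by
    simp only [ψ, Category.assoc, hw₂, reassoc_of% hφ, ← hw₁]
    rw [← Scheme.SpecMap_stalkMap_fromSpecStalk_assoc, ← Spec.map_comp_assoc, IsIso.hom_inv_id, Spec.map_id,
      Category.id_comp]
  let P := Scheme.PartialMap.ofFromSpecStalk X₁.hom X₂.hom ψ hψ
  have hxP : x ∈ P.domain := Scheme.PartialMap.mem_domain_ofFromSpecStalk X₁.hom X₂.hom ψ hψ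
  have hP : P.domain.fromSpecStalkOfMem x hxP ≫ P.hom = ψ :=
    Scheme.PartialMap.fromSpecStalkOfMem_ofFromSpecStalk X₁.hom X₂.hom ψ hψ
  obtain ⟨Z, g, q, hseq, hqw, hagree⟩ := PtBlow.exists_morphism h₁.1 M₁.dim X₁.hom X₂.hom P.domain ⟨x, hxP⟩
    P.hom (Scheme.PartialMap.ofFromSpecStalk_comp X₁.hom X₂.hom ψ hψ)
  have MZ := isModel_of_seq hR hseq.isContractionSeq X₁.hom M₁
  haveI := MZ.int
  haveI := MZ.noeth
  obtain ⟨-, -, -, hgp, V, hV, hgV⟩ := PtBlow.props_of_contractionSeq hseq.isContractionSeq h₁.1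
  haveI := hgp
  haveI := hgV
  have hxV : x ∈ V := by
    show fX₁ w ∈ V
    rw [hw]
    exact ((genericPoint_spec X₁.left).mem_open_set_iff V.2).2 (by simpa using hV)
  obtain ⟨⟨z₀, hz₀V⟩, hz₀'⟩ := (g ∣_ V).surjective ⟨x, hxV⟩
  have hz₀ : g z₀ = x := (morphismRestrict_base_coe g V _).symm.trans (congrArg Subtype.val hz₀')
  have hz₀gen : z₀ = genericPoint Z := by
    have hgV' : g (genericPoint Z) ∈ V :=
      ((genericPoint_specializes z₀).map g.continuous).mem_open V.2 (hz₀.symm ▸ hxV)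
    have h1 : g (genericPoint Z) = x := by
      have := ((genericPoint_specializes z₀).map g.continuous)
      rw [hz₀] at this
      exact (this.antisymm (show x ⤳ g (genericPoint Z) by rw [show x = _ from hw]; exact genericPoint_specializes _)).eq
    have := (g ∣_ V).isOpenEmbedding.injective (a₁ := ⟨z₀, hz₀V⟩) (a₂ := ⟨genericPoint Z, hgV'⟩)
      (Subtype.ext (by rw [morphismRestrict_base_coe, morphismRestrict_base_coe]; exact hz₀.trans h1.symm))
    exact congrArg Subtype.val this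
  haveI : IsIso (g.stalkMap z₀) := (MorphismProperty.arrow_mk_iso_iff (MorphismProperty.isomorphisms CommRingCat)
    (morphismRestrictStalkMap g V ⟨z₀, hz₀V⟩)).1 (inferInstanceAs (IsIso ((g ∣_ V).stalkMap ⟨z₀, hz₀V⟩)))
  obtain ⟨e, he, heg, heq⟩ := exists_lift_stalk g z₀ hz₀ hxP P.hom q hagree
  haveI := he
  rw [hP] at heq
  -- `q` is birational
  have hqz : Z.fromSpecStalk z₀ ≫ q = (inv e ≫ Spec.map (inv (fX₁.stalkMap w)) ≫ Spec.map (φl.stalkMap w) ≫
      Spec.map (fX₂.stalkMap (φl w))) ≫ X₂.left.fromSpecStalk (fX₂ (φl w)) := by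
    simp only [Category.assoc, Scheme.SpecMap_stalkMap_fromSpecStalk, Scheme.SpecMap_stalkMap_fromSpecStalk_assoc]
    rw [IsIso.eq_inv_comp]
    exact heq
  haveI : IsProper (q ≫ X₂.hom) := by rw [hqw]; exact MZ.proper
  haveI : IsProper q := IsProper.of_comp q X₂.hom
  have hqgen : q (genericPoint Z) = genericPoint X₂.left := by
    have h1 : (Z.fromSpecStalk z₀ ≫ q) (IsLocalRing.closedPoint _) = q z₀ := by
      rw [Scheme.Hom.comp_apply, Scheme.fromSpecStalk_closedPoint]
    have h2 := congrArg (fun m : Spec (Z.presheaf.stalk z₀) ⟶ X₂.left => m (IsLocalRing.closedPoint _)) hqz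
    simp only at h2
    rw [h1, Scheme.Hom.comp_apply] at h2
    set c := (inv e ≫ Spec.map (inv (fX₁.stalkMap w)) ≫ Spec.map (φl.stalkMap w) ≫
      Spec.map (fX₂.stalkMap (φl w))) (IsLocalRing.closedPoint _)
    have h3 : X₂.left.fromSpecStalk (fX₂ (φl w)) c ∈ Set.range (X₂.left.fromSpecStalk (fX₂ (φl w))) := ⟨c, rfl⟩
    rw [Scheme.range_fromSpecStalk, ← h2, hz₀gen, hφw] at h3
    exact ((show q (genericPoint Z) ⤳ genericPoint X₂.left from h3).antisymm (genericPoint_specializes _)).eq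
  haveI : IsIso (q.stalkMap (genericPoint Z)) := by
    rw [← hz₀gen]
    exact isIso_stalkMap_of_fromSpecStalk q z₀ (hz₀gen ▸ hqgen.trans hφw.symm) _ hqz
  have hseq₂ := PtBlow.isContractionSeq_of_birational q MZ.reg MZ.dim h₂.1 M₂.dim (exists_iso_over_open q hqgen)
  obtain ⟨h, hh'⟩ := exists_desc hR X₁.hom M₁ (no_exc_of_minimal hR h₁ m₁) hseq₂ X₂.hom M₂ g hqw.symm ⟨V, hV, hgV⟩
  have hwh : h ≫ X₁.hom = X₂.hom := by
    haveI : IsDominant q := ⟨by
      rw [DenseRange]
      refine Dense.mono ?_ (show Dense ({genericPoint X₂.left} : Set X₂.left) from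
        dense_iff_closure_eq.2 (genericPoint_closure (α := X₂.left)))
      exact Set.singleton_subset_iff.2 ⟨genericPoint Z, hqgen⟩⟩
    refine AlgebraicGeometry.ext_of_isDominant q ?_
    rw [← Category.assoc, hh', hqw]
  let H : X₂ ⟶ X₁ := Over.homMk h hwh
  -- the generic fibre of `H`
  have hkey : φl ≫ fX₂ ≫ h = fX₁ := by
    haveI : ∀ v, _root_.IsReduced ((pullback X₁.hom (Neron.genPt R)).presheaf.stalk v) := fun v => by
      haveI := RelMinSmooth.isIso_stalkMap_fst X₁.hom v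
      exact isReduced_of_injective (inv (fX₁.stalkMap v)).hom
        (ConcreteCategory.bijective_of_isIso (inv (fX₁.stalkMap v))).1
    haveI : IsReduced (pullback X₁.hom (Neron.genPt R)) := isReduced_of_isReduced_stalk _
    haveI : IsDominant ((pullback X₁.hom (Neron.genPt R)).fromSpecStalk w) := ⟨by
      intro v
      refine closure_mono (Set.singleton_subset_iff.2 ?_) (hwall v).mem_closure
      exact ⟨IsLocalRing.closedPoint _, Scheme.fromSpecStalk_closedPoint⟩⟩
    refine ext_of_isDominant_of_isSeparated X₁.hom ?_ ((pullback X₁.hom (Neron.genPt R)).fromSpecStalk w) ?_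
    · rw [Category.assoc, Category.assoc, hwh, hw₂, reassoc_of% hφ, hw₁]
    · have h1 : (pullback X₁.hom (Neron.genPt R)).fromSpecStalk w ≫ φl ≫ fX₂ = Spec.map (fX₁.stalkMap w) ≫ ψ := by
        simp only [ψ]
        rw [← Spec.map_comp_assoc, IsIso.inv_hom_id, Spec.map_id, Category.id_comp]
      rw [reassoc_of% h1, ← heq, Category.assoc, Category.assoc, hh', heg, Scheme.SpecMap_stalkMap_fromSpecStalk]
  have hmap : φ.hom ≫ (Neron.genericFibre R).map H = 𝟙 _ := by
    apply Over.OverMorphism.ext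
    apply pullback.hom_ext
    · show (φl ≫ ((Neron.genericFibre R).map H).left) ≫ pullback.fst X₁.hom (Neron.genPt R) = 𝟙 _ ≫ fX₁
      rw [Category.assoc, show ((Neron.genericFibre R).map H).left ≫ pullback.fst X₁.hom (Neron.genPt R) = fX₂ ≫ h
        from pullback.lift_fst _ _ _, hkey, Category.id_comp]
    · show (φl ≫ ((Neron.genericFibre R).map H).left) ≫ pullback.snd X₁.hom (Neron.genPt R) = 𝟙 _ ≫ pullback.snd X₁.hom (Neron.genPt R)
      rw [Category.assoc, show ((Neron.genericFibre R).map H).left ≫ pullback.snd X₁.hom (Neron.genPt R) =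
        pullback.snd X₂.hom (Neron.genPt R) from pullback.lift_snd _ _ _, hφ, Category.id_comp]
  have hmapH : (Neron.genericFibre R).map H = φ.inv := by
    rw [← cancel_epi φ.hom, hmap, Iso.hom_inv_id]
  haveI : IsIso H := m₂.2.2.2 X₁ h₁.1 h₁.2.2.2.2 h₁.2.2.2.1 H (hmapH ▸ inferInstance)
  refine ⟨inv H, inferInstance, ?_⟩
  rw [Functor.map_inv]
  exact IsIso.inv_eq_of_hom_inv_id (by rw [hmapH, Iso.inv_hom_id])

end Groth.Agent.Castel
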