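import Groth.Agent.Castel.Residue
import Groth.Agent.ImageFlat
import Groth.Agent.PnSpec.Basic
import Groth.Agent.PtBlow.RatMap
import Groth.Prelude.Def_ModelsG

/-!
Contracted arithmetic surfaces.
-/

set_option autoImplicit false
set_option backward.isDefEq.respectTransparency false
set_option backward.isDefEq.respectTransparency.types false
set_option linter.style.haveILetI false

universe u

open CategoryTheory CategoryTheory.Limits AlgebraicGeometry TopologicalSpace Opposite

noncomputable section

namespace Groth.Agent.Castel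

/-- A scheme with functions inside those of a flat scheme over a Dedekind domain is flat. -/
theorem flat_of_app_injective {R : CommRingCat.{u}} [IsDomain R] [IsDedekindDomain R] {X Y : Scheme.{u}} (b : X ⟶ Y)
    (q : Y ⟶ Spec R) [Flat (b ≫ q)] (h : ∀ V : Y.Opens, Function.Injective (b.app V)) : Flat q := by
  refine (HasRingHomProperty.iff_appLE (P := @Flat)).2 fun U V e => ?_
  have hU : ∀ V : Y.affineOpens, RingHom.Flat (ImageFlat.res q V.1) := fun V => by
    letI : Algebra R Γ(Y, V.1) := (ImageFlat.res q V.1).toAlgebra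
    haveI : Module.IsTorsionFree R Γ(Y, V.1) := by
      refine Module.isTorsionFree_iff_smul_eq_zero.2 fun r x => ?_
      intro hx
      by_contra hc
      push_neg at hc
      refine hc.2 (h V.1 ?_)
      rw [map_zero]
      refine ImageFlat.eq_zero_of_mul_eq_zero (b ≫ q) _ hc.1 _ ?_
      rw [← ImageFlat.app_res, ← map_mul]
      exact (congrArg (b.app V.1).hom hx).trans (map_zero _)
    exact (inferInstance : Module.Flat R Γ(Y, V.1))
  have h1 : Flat q := by
    refine (IsZariskiLocalAtSource.iff_of_openCover (P := @Flat) Y.affineCover).2 fun i => ?_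
    let V : Y.affineOpens := ⟨(Y.affineCover.f i).opensRange, isAffineOpen_opensRange _⟩
    haveI : Flat (V.2.fromSpec ≫ q) := by
      have h1 : V.2.fromSpec ≫ q = Spec.map (CommRingCat.ofHom (ImageFlat.res q V.1)) := by
        have h2 := (isAffineOpen_top (Spec R)).SpecMap_appLE_fromSpec q V.2 le_top
        rw [IsAffineOpen.fromSpec_top, Scheme.isoSpec_Spec_inv, ← Spec.map_comp] at h2
        exact h2.symm
      rw [h1]
      exact (HasRingHomProperty.Spec_iff (P := @Flat)).2 (hU V)
    have hr : Set.range (Y.affineCover.f i) ⊆ Set.range V.2.fromSpec := by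
      rw [V.2.range_fromSpec]
      exact subset_rfl
    rw [← IsOpenImmersion.lift_fac V.2.fromSpec (Y.affineCover.f i) hr, Category.assoc]
    infer_instance
  exact h1.flat_appLE U.2 V.2 e

/-- A curve on a regular surface has a generic point of codimension one. -/
theorem ringKrullDim_stalk_curve {X : Scheme.{u}} [IsNoetherian X] [IsIntegral X] (hdim : topologicalKrullDim X = 2)
    {ξ : X} (hξ : topologicalKrullDim (closure {ξ} : Set X) = ((1 : ℕ) : WithBot ℕ∞)) :
    ringKrullDim (X.presheaf.stalk ξ) = 1 := by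
  rw [ringKrullDim_stalk_eq_coheight]
  have hne : ξ ≠ genericPoint X := fun h => by
    rw [h, genericPoint_closure] at hξ
    rw [← (Homeomorph.Set.univ X).isHomeomorph.topologicalKrullDim_eq] at hdim
    rw [hdim] at hξ
    exact absurd hξ (by decide)
  obtain ⟨c, hm, hc⟩ := Intersect.exists_chain_closed isClosed_closure hξ.ge
  refine congrArg WithBot.some (le_antisymm (not_lt.1 fun h => ?_)
    (Order.one_le_iff_pos.mpr ((Order.coheight_pos).2 fun hmax => ?_)))
  · obtain ⟨p, hp, hl⟩ := Order.exists_series_of_le_coheight ξ (n := 2)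
      ((ENat.add_one_le_iff (by simp)).2 h |>.trans' (by norm_num))
    have hc01 := hc 0 (Fin.last 1) (by decide)
    have hξc : ξ ⤳ c (Fin.last 1) := specializes_iff_mem_closure.mpr (hm _)
    have e0 : p ⟨0, by omega⟩ = ξ := hp
    have a1 : p ⟨1, by omega⟩ ⤳ p ⟨0, by omega⟩ := (p.strictMono (Fin.mk_lt_mk.2 Nat.zero_lt_one)).le
    have n1 : p ⟨0, by omega⟩ ≠ p ⟨1, by omega⟩ := (p.strictMono (Fin.mk_lt_mk.2 Nat.zero_lt_one)).ne
    have a2 : p ⟨2, by omega⟩ ⤳ p ⟨1, by omega⟩ := (p.strictMono (Fin.mk_lt_mk.2 (by omega))).le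
    have n2 : p ⟨1, by omega⟩ ≠ p ⟨2, by omega⟩ := (p.strictMono (Fin.mk_lt_mk.2 (by omega))).ne
    have a0 : ξ ⤳ c 0 := hξc.trans hc01.1
    have n0 : c 0 ≠ ξ := fun e => hc01.2 (hc01.1.antisymm ((specializes_of_eq e).trans hξc)).eq.symm
    rw [e0] at a1 n1
    have key : ∀ {a b : X}, a ⤳ b → b ≠ a → ∀ {d : X}, b ⤳ d → d ≠ a :=
      fun {a b} hab hne {d} hbd e => hne (hab.antisymm (e ▸ hbd)).eq.symm
    have h3 : ((3 : ℕ) : WithBot ℕ∞) ≤ topologicalKrullDim X := by
      refine Intersect.le_dim_of_chain (n := 3) ![c 0, ξ, p ⟨1, by omega⟩, p ⟨2, by omega⟩] fun i j hij => ?_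
      fin_cases i <;> fin_cases j <;>
        first
        | exact absurd hij (by decide)
        | exact ⟨a0, n0⟩
        | exact ⟨a1, n1⟩
        | exact ⟨a2, n2⟩
        | exact ⟨a1.trans a0, key a1 n1 a0⟩
        | exact ⟨a2.trans a1, key a2 n2 a1⟩
        | exact ⟨a2.trans (a1.trans a0), key a2 n2 (a1.trans a0)⟩
    rw [hdim] at h3
    exact absurd h3 (by decide)
  · exact hne ((genericPoint_specializes ξ).antisymm (hmax (genericPoint_specializes ξ))).eq.symm

/-- Chains lift along a closed map. -/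
theorem exists_lift_chain {X Y : Type u} [TopologicalSpace X] [TopologicalSpace Y] {f : X → Y}
    (hf : Continuous f) (hcl : IsClosedMap f) :
    ∀ (n : ℕ) (c : Fin (n + 1) → Y), (∀ i j, i < j → c j ⤳ c i ∧ c i ≠ c j) → ∀ x : X, f x = c (Fin.last n) →
      ∃ c' : Fin (n + 1) → X, (∀ i, f (c' i) = c i) ∧ c' (Fin.last n) = x ∧
        ∀ i j, i < j → c' j ⤳ c' i := by
  intro n
  induction n with
  | zero =>
    intro c _ x hx
    exact ⟨fun _ => x, fun i => by rw [hx, Fin.eq_zero i]; rfl, rfl,
      fun i j hij => absurd hij (by rw [Fin.eq_zero i, Fin.eq_zero j]; exact lt_irrefl _)⟩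
  | succ n ih =>
    intro c hc x hx
    have h1 : c (Fin.last (n + 1)) ⤳ c (Fin.last n).castSucc := (hc _ _ (Fin.castSucc_lt_last _)).1
    obtain ⟨x', hx's, hx'⟩ : c (Fin.last n).castSucc ∈ f '' closure {x} := by
      rw [← hx] at h1
      exact closure_minimal (s := {f x}) (t := f '' closure {x})
        (Set.singleton_subset_iff.2 (Set.mem_image_of_mem f (subset_closure (Set.mem_singleton x))))
        (hcl _ isClosed_closure) h1.mem_closure
    obtain ⟨c', hc', hlast, hch⟩ := ih (fun i => c i.castSucc)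
      (fun i j hij => hc _ _ (Fin.castSucc_lt_castSucc_iff.2 hij)) x' hx'
    refine ⟨Fin.snoc c' x, fun i => ?_, Fin.snoc_last _ _, fun i j hij => ?_⟩
    · induction i using Fin.lastCases with
      | last => rw [Fin.snoc_last]; exact hx
      | cast i => rw [Fin.snoc_castSucc]; exact hc' i
    · induction i using Fin.lastCases with
      | last => exact absurd hij (not_lt.2 (Fin.le_last _))
      | cast i =>
        rw [Fin.snoc_castSucc]
        induction j using Fin.lastCases with
        | last =>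
          rw [Fin.snoc_last]
          refine Specializes.trans (y := x') (specializes_iff_mem_closure.2 hx's) ?_
          rcases (Fin.le_last i).eq_or_lt with e | e
          · rw [e, hlast]
          · exact hlast ▸ hch i _ e
        | cast j =>
          rw [Fin.snoc_castSucc]
          exact hch i j (Fin.castSucc_lt_castSucc_iff.1 hij)

/-- A closed surjection does not raise dimension. -/
theorem dim_le_of_closedMap {X Y : Scheme.{u}} (b : X ⟶ Y) (hs : Function.Surjective b) (hcl : IsClosedMap b)
    {n : ℕ} (hX : topologicalKrullDim X ≤ (n : WithBot ℕ∞)) : topologicalKrullDim Y ≤ (n : WithBot ℕ∞) := by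
  by_contra hlt
  have hge : ((n + 1 : ℕ) : WithBot ℕ∞) ≤ topologicalKrullDim Y := by
    rcases hd : topologicalKrullDim Y with _ | a
    · exact absurd (hd.trans_le bot_le) hlt
    · have hn : (n : ℕ∞) < a := WithBot.coe_lt_coe.1 ((not_le.1 hlt).trans_eq hd)
      exact WithBot.coe_le_coe.2 (by push_cast; exact (ENat.add_one_le_iff (ENat.natCast_ne_top n)).2 hn)
  obtain ⟨c, hc⟩ := Intersect.exists_chain hge
  obtain ⟨x, hx⟩ := hs (c (Fin.last (n + 1)))
  obtain ⟨c', hc', -, hsp⟩ := exists_lift_chain b.continuous hcl (n + 1) c hc x hx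
  have h := (Intersect.le_dim_of_chain c' fun i j hij =>
    ⟨hsp i j hij, fun e => (hc i j hij).2 (by rw [← hc' i, ← hc' j, e])⟩).trans hX
  exact absurd (Nat.cast_le.1 h) (by omega)

/-- An isomorphism near a point identifies regularity. -/
theorem isRegular_of_iso_restrict {X Y : Scheme.{u}} (b : X ⟶ Y) (V : Y.Opens) [IsIso (b ∣_ V)]
    (hX : ∀ x : X, IsRegularLocalRing (X.presheaf.stalk x)) {y : Y} (hy : y ∈ V) :
    IsRegularLocalRing (Y.presheaf.stalk y) := by
  obtain ⟨x, hx⟩ := (b ∣_ V).surjective ⟨y, hy⟩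
  haveI := hX x.1
  haveI : IsRegularLocalRing ((b ⁻¹ᵁ V).toScheme.presheaf.stalk x) :=
    IsRegularLocalRing.of_ringEquiv ((b ⁻¹ᵁ V).stalkIso x).symm.commRingCatIsoToRingEquiv
  haveI : IsRegularLocalRing (V.toScheme.presheaf.stalk ((b ∣_ V) x)) :=
    IsRegularLocalRing.of_ringEquiv (asIso ((b ∣_ V).stalkMap x)).symm.commRingCatIsoToRingEquiv
  have h := IsRegularLocalRing.of_ringEquiv (R := V.toScheme.presheaf.stalk ((b ∣_ V) x))
    (V.stalkIso ((b ∣_ V) x)).commRingCatIsoToRingEquiv
  rwa [hx] at h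

end Groth.Agent.Castel
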