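import Groth.Agent.Castel.CompFin
import Groth.Agent.Castel.Arith
import Groth.Agent.Curves.Basic

/-!
Existence of relatively minimal models of arithmetic surfaces.
-/

set_option autoImplicit false
set_option backward.isDefEq.respectTransparency false
set_option backward.isDefEq.respectTransparency.types false

universe u

open CategoryTheory CategoryTheory.Limits AlgebraicGeometry TopologicalSpace Topology

namespace Groth.Agent.Castel

variable {R : Type u} [CommRing R] [IsDedekindDomain R] {X Y : Over (Spec (CommRingCat.of R))}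

/-- A model of an arithmetic surface receiving it is an arithmetic surface. -/
theorem isArithSurface_target (hX : ArSurf.IsArithSurface R X)
    (hYreg : ∀ y : Y.left, IsRegularLocalRing (Y.left.presheaf.stalk y)) (hYproj : Neron.IsProjectiveOver R Y)
    [Flat Y.hom] (g : X ⟶ Y) (hg : IsIso ((Neron.genericFibre R).map g)) :
    ArSurf.IsArithSurface R Y := by
  obtain ⟨hsurj, hprop, hint, hcon, -⟩ := contracted_facts hX hYreg hYproj g hg
  haveI := hprop
  haveI := hint
  obtain ⟨-, hXint, hXdim, hXflat, hXproj⟩ := hX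
  haveI := hXint
  haveI := hXflat
  obtain ⟨n, i, hi, hiw⟩ := hXproj
  haveI : IsProper X.hom := by
    rw [← hiw]
    haveI := HQProj.isProper_toBase n (Spec (CommRingCat.of R))
    infer_instance
  haveI : IsLocallyNoetherian X.left := LocallyOfFiniteType.isLocallyNoetherian X.hom
  refine ⟨hYreg, inferInstance, le_antisymm (dim_le_of_closedMap g.left hsurj g.left.isClosedMap hXdim.le) ?_,
    inferInstance, hYproj⟩
  obtain ⟨c, hc⟩ := Intersect.exists_chain (n := 2) hXdim.ge
  let η : Spec (CommRingCat.of R) := (⟨⊥, Ideal.isPrime_bot⟩ : PrimeSpectrum R)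
  have hηle : ∀ s : Spec (CommRingCat.of R), η ⤳ s := fun s ↦
    (PrimeSpectrum.le_iff_specializes η s).mp bot_le
  have hηX : X.hom (genericPoint X.left) = η := by
    obtain ⟨w, hw, hw'⟩ := Flat.generalizingMap X.hom (a := genericPoint X.left) (hηle _)
    rwa [(hw.antisymm ((genericPoint_spec X.left).specializes trivial)).eq] at hw'
  have h12 := hc 0 1 (by decide)
  have h23 := hc 1 2 (by decide)
  -- a chain with middle point in the generic fibre
  obtain ⟨z, hz1, hz2, hz3, hz4, hzη⟩ : ∃ z, genericPoint X.left ⤳ z ∧ z ⤳ c 0 ∧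
      genericPoint X.left ≠ z ∧ z ≠ c 0 ∧ X.hom z = η := by
    have hgen : genericPoint X.left ⤳ c 1 := (genericPoint_spec X.left).specializes trivial
    have hne1 : genericPoint X.left ≠ c 1 := fun e => h23.2 ((h23.1.antisymm (e ▸
      (genericPoint_spec X.left).specializes trivial :)).eq).symm
    by_cases h1 : X.hom (c 1) = η
    · exact ⟨c 1, hgen, h12.1, hne1, fun e => h12.2 e.symm, h1⟩
    · have h0 : X.hom (c 0) ≠ η := fun e => h1
        (((h12.1.map X.hom.continuous).trans (specializes_of_eq e)).antisymm (hηle _)).eq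
      haveI : IsDiscreteValuationRing ((Spec (CommRingCat.of R)).presheaf.stalk (X.hom (c 0))) := by
        haveI : IsDomain ((Spec.structureSheaf R).presheaf.stalk (X.hom (c 0))) :=
          inferInstanceAs (IsDomain (((Spec (CommRingCat.of R)).presheaf.stalk (X.hom (c 0)))))
        show IsDiscreteValuationRing ((Spec.structureSheaf R).presheaf.stalk (X.hom (c 0)))
        exact IsLocalization.AtPrime.isDiscreteValuationRing_of_dedekind_domain R
          (P := (X.hom (c 0)).asIdeal) (fun e => h0 (PrimeSpectrum.ext e)) _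
      obtain ⟨z, hgz, hzc, hzf, hzmax⟩ := Curves.exists_curve X.hom
        (((genericPoint_spec X.left).specializes trivial) : genericPoint X.left ⤳ c 0)
        (fun e => h0 (e ▸ hηX))
      refine ⟨z, hgz, hzc, fun e => ?_, fun e => h0 (e ▸ (hzf.trans hηX)), hzf.trans hηX⟩
      rcases hzmax (c 1) (e ▸ hgen) h12.1 with h | h
      · exact h1 (h ▸ hzf.trans hηX)
      · exact h12.2 h.symm
  have hne : ∀ a b : X.left, a ⤳ b → a ≠ b → X.hom a = η → g.left a ≠ g.left b := fun a b hab hne ha he =>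
    (hcon a b hab he hne).1 (by rw [ha])
  have e1 := hne _ _ hz1 hz3 hηX
  have e2 := hne _ _ hz2 hz4 hzη
  have e3 : g.left (genericPoint X.left) ≠ g.left (c 0) :=
    hne _ _ (hz1.trans hz2) (fun e => hz3 (hz1.antisymm (e ▸ hz2 :)).eq) hηX
  refine Intersect.le_dim_of_chain (n := 2) ![g.left (c 0), g.left z, g.left (genericPoint X.left)] fun i j hij => ?_
  fin_cases i <;> fin_cases j <;> first
    | exact absurd hij (by decide)
    | exact ⟨hz2.map g.left.continuous, e2.symm⟩
    | exact ⟨hz1.map g.left.continuous, e1.symm⟩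
    | exact ⟨(hz1.trans hz2).map g.left.continuous, e3.symm⟩

/-- A relatively minimal model exists. -/
theorem exists_relMinimal (hX : ArSurf.IsArithSurface R X) :
    ∃ (Y : Over (Spec (CommRingCat.of R))) (f : X ⟶ Y), ArSurf.IsArithSurface R Y ∧
      Neron.IsRelMinimalRegularModel R Y ∧ IsIso ((Neron.genericFibre R).map f) := by
  obtain ⟨B, hBf, hB⟩ := exists_finite_bad hX
  haveI := hX.2.1
  let C : ∀ {Y : Over (Spec (CommRingCat.of R))}, (X ⟶ Y) → Set X.left := fun {Y} g =>
    {z | z ∈ B ∧ ∃ q, q ≠ z ∧ z ⤳ q ∧ g.left z = g.left q}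
  let P : ℕ → Prop := fun n => ∃ (Y : Over (Spec (CommRingCat.of R))) (g : X ⟶ Y),
    ArSurf.IsArithSurface R Y ∧ IsIso ((Neron.genericFibre R).map g) ∧ (C g).ncard = n
  classical
  have hb : ∀ {Y : Over (Spec (CommRingCat.of R))} (g : X ⟶ Y), (C g).ncard ≤ B.ncard := fun g =>
    Set.ncard_le_ncard (fun z hz => hz.1) hBf
  have hP : ∃ n, n ≤ B.ncard ∧ P n := ⟨_, hb (𝟙 X), X, 𝟙 X, hX, inferInstance, rfl⟩
  obtain ⟨n0, hn0, hPn0⟩ := hP
  obtain ⟨Y, g, hY, hg, hn⟩ : P (Nat.findGreatest P B.ncard) := Nat.findGreatest_spec hn0 hPn0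
  refine ⟨Y, g, hY, ⟨hY.1, hY.2.2.2.2, hY.2.2.2.1, fun Y' hY'reg hY'proj hY'flat h hh => ?_⟩, hg⟩
  haveI := hY'flat
  haveI := hY.2.2.2.1
  by_contra hiso
  haveI := hg
  haveI := hh
  have hgh : IsIso ((Neron.genericFibre R).map (g ≫ h)) := by
    rw [Functor.map_comp]; infer_instance
  obtain ⟨hsurj, hprop, -, -, -⟩ := contracted_facts hX hY.1 hY.2.2.2.2 g hg
  obtain ⟨-, -, -, hcon, -⟩ := contracted_facts hX hY'reg hY'proj (g ≫ h) hgh
  obtain ⟨-, -, -, -, hfin⟩ := contracted_facts hY hY'reg hY'proj h hh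
  obtain ⟨z', q', hzq', hhz, hne'⟩ : ∃ z' q', z' ⤳ q' ∧ h.left z' = h.left q' ∧ z' ≠ q' := by
    by_contra! H
    exact hiso (hfin fun z q h1 h2 => H z q h1 h2)
  haveI := hprop
  obtain ⟨z, rfl⟩ := hsurj z'
  obtain ⟨q, hzq, rfl⟩ := g.left.isClosedMap.specializingMap hzq'
  have hne : z ≠ q := fun e => hne' (by rw [e])
  have hcomp : (g ≫ h).left z = (g ≫ h).left q := by
    simp only [Over.comp_left, Scheme.Hom.comp_apply]
    exact hhz
  have hzB : z ∈ B := by
    obtain ⟨h1, h2, h3⟩ := hcon z q hzq hcomp hne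
    exact hB z h1 h2 h3
  have hsub : C g ⊆ C (g ≫ h) := fun v ⟨hv, r, hr, hvr, he⟩ => ⟨hv, r, hr, hvr, by
    simp only [Over.comp_left, Scheme.Hom.comp_apply, he]⟩
  have hssub : C g ⊂ C (g ≫ h) := by
    refine (Set.ssubset_iff_of_subset hsub).2 ⟨z, ⟨hzB, q, hne.symm, hzq, hcomp⟩, fun ⟨_, r, hr, hzr, he⟩ => ?_⟩
    obtain ⟨-, -, -, hcong, -⟩ := contracted_facts hX hY.1 hY.2.2.2.2 g hg
    -- then the image of `z` is a closed point
    have hz1 := hcong z r hzr he hr.symm
    have hrc : IsClosed ({r} : Set X.left) := by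
      refine closure_subset_iff_isClosed.mp fun v hv => ?_
      by_contra hvr
      refine RelMinSmooth.no_chain_four hX.2.2.1.le
        (((@genericPoint_spec X.left _ _ _).specializes trivial) : @genericPoint X.left _ _ _ ⤳ z) hzr
        (specializes_iff_mem_closure.mpr hv) (fun e => hz1.1 ?_) hr.symm (Ne.symm hvr)
      haveI := hX.2.2.2.1
      obtain ⟨w, hw, hw'⟩ := Flat.generalizingMap X.hom (a := z)
        ((PrimeSpectrum.le_iff_specializes (⟨⊥, Ideal.isPrime_bot⟩ : PrimeSpectrum R) (X.hom z)).mp bot_le)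
      have : w = z := (hw.antisymm (e ▸ (genericPoint_spec X.left).specializes trivial :)).eq
      rw [← this, hw']
    have hgr : IsClosed ({g.left r} : Set Y.left) := by
      have := g.left.isClosedMap _ hrc
      rwa [Set.image_singleton] at this
    exact hne' ((hzq'.mem_closed hgr (by rw [he]; rfl) : g.left q = g.left r).trans he.symm).symm
  have hPm : P (C (g ≫ h)).ncard :=
    ⟨Y', g ≫ h, isArithSurface_target hX hY'reg hY'proj (g ≫ h) hgh, hgh, rfl⟩
  have hle := Nat.le_findGreatest (P := P) (hb (g ≫ h)) hPm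
  have hlt := Set.ncard_lt_ncard hssub (hBf.subset fun v hv => hv.1)
  omega

end Groth.Agent.Castel
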