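import Groth.Agent.Castel.SelfInterZero
import Groth.Agent.Castel.MinUnique
import Groth.Agent.Castel.RelMinExist
import Groth.Agent.PtBlow.Structure

/-!
Relatively minimal means that the canonical sheaf is nef.
-/

set_option autoImplicit false
set_option backward.isDefEq.respectTransparency false
set_option backward.isDefEq.respectTransparency.types false
set_option linter.style.haveILetI false

universe u

open CategoryTheory CategoryTheory.Limits AlgebraicGeometry TopologicalSpace Opposite

noncomputable section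

namespace Groth.Agent.Castel

variable {R : Type u} [CommRing R] [IsDomain R] [IsDiscreteValuationRing R]

/-- The generic point of the spectrum of a DVR is open. -/
theorem isOpenImmersion_genPt : IsOpenImmersion (Neron.genPt R) := by
  obtain ⟨ϖ, hϖ⟩ := IsDiscreteValuationRing.exists_irreducible R
  let K := FractionRing R
  haveI : IsLocalization.Away ϖ K := by
    have hinj : Function.Injective (algebraMap R K) := IsFractionRing.injective R K
    refine { map_units := ?_, surj := ?_, exists_of_eq := fun h => ⟨1, by simpa using hinj h⟩ }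
    · rintro ⟨_, n, rfl⟩
      exact (IsUnit.mk0 _ fun h => pow_ne_zero n hϖ.ne_zero (hinj (h.trans (map_zero _).symm)))
    · intro z
      obtain ⟨a, c, hc, rfl⟩ := IsFractionRing.div_surjective (A := R) z
      obtain ⟨n, u, rfl⟩ := IsDiscreteValuationRing.eq_unit_mul_pow_irreducible (nonZeroDivisors.ne_zero hc) hϖ
      refine ⟨⟨(↑u⁻¹ : R) * a, ⟨ϖ ^ n, n, rfl⟩⟩, ?_⟩
      show algebraMap R K a / algebraMap R K (↑u * ϖ ^ n) * algebraMap R K (ϖ ^ n) = algebraMap R K ((↑u⁻¹ : R) * a)
      have hu : algebraMap R K ((↑u⁻¹ : R)) * algebraMap R K (u : R) = 1 := by rw [← map_mul, Units.inv_mul, map_one]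
      have hn : algebraMap R K (ϖ ^ n) ≠ 0 := fun h => pow_ne_zero n hϖ.ne_zero (hinj (h.trans (map_zero _).symm))
      have hu0 : algebraMap R K (u : R) ≠ 0 := fun h => by rw [h, mul_zero] at hu; exact zero_ne_one hu
      rw [map_mul, map_mul]
      rw [div_mul_eq_mul_div, div_eq_iff (mul_ne_zero hu0 hn)]
      linear_combination (algebraMap R K a * algebraMap R K (ϖ ^ n)) * hu.symm
  exact IsOpenImmersion.of_isLocalization ϖ

/-- A model map with iso generic fibre is an isomorphism over a dense open. -/
theorem exists_iso_open {X Y : Over (Spec (CommRingCat.of R))} [IsIntegral X.left] [Flat X.hom] (g : X ⟶ Y)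
    (hg : IsIso ((Neron.genericFibre R).map g)) :
    ∃ V : Y.left.Opens, (V : Set Y.left).Nonempty ∧ IsIso (g.left ∣_ V) := by
  haveI := isOpenImmersion_genPt (R := R)
  let fX := pullback.fst X.hom (Neron.genPt R)
  let fY := pullback.fst Y.hom (Neron.genPt R)
  haveI := hg
  let gK := ((Neron.genericFibre R).map g).left
  haveI : IsIso gK := inferInstanceAs (IsIso ((Over.forget _).map ((Neron.genericFibre R).map g)))
  have h1 : gK ≫ fY = fX ≫ g.left := pullback.lift_fst _ _ _
  have h2 : gK ≫ pullback.snd Y.hom (Neron.genPt R) = pullback.snd X.hom (Neron.genPt R) := by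
    refine (pullback.lift_snd _ _ _).trans ?_
    simp
  have sq : IsPullback fX gK g.left fY := by
    refine IsPullback.of_bot ?_ h1.symm (IsPullback.of_hasPullback Y.hom (Neron.genPt R))
    rw [h2, Over.w g]
    exact IsPullback.of_hasPullback X.hom (Neron.genPt R)
  haveI : IsIso (pullback.snd g.left fY) := by
    rw [← sq.isoPullback_inv_snd]
    infer_instance
  refine ⟨fY.opensRange, ?_, (MorphismProperty.arrow_mk_iso_iff (MorphismProperty.isomorphisms Scheme)
    (morphismRestrictOpensRange g.left fY)).2 (inferInstanceAs (IsIso (pullback.snd g.left fY)))⟩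
  obtain ⟨w, -, hw'⟩ := Flat.generalizingMap X.hom (a := genericPoint X.left)
    ((PrimeSpectrum.le_iff_specializes (⟨⊥, Ideal.isPrime_bot⟩ : PrimeSpectrum R) (X.hom (genericPoint X.left))).mp bot_le)
  obtain ⟨v, -⟩ : w ∈ Set.range fX := by
    rw [Scheme.Pullback.range_fst, RelMinSmooth.range_genPt]
    exact hw'
  exact ⟨fY (gK v), gK v, rfl⟩

/-- With a nef canonical sheaf there are no contractions. -/
theorem isRelMinimal_of_nef {X : Over (Spec (CommRingCat.of R))} (hX : ArSurf.IsArithSurface R X)
    {ω : X.left.Modules} (hω : Canon.IsCanonical X.hom ω) (hnef : ∀ C : ArSurf.VertComp R X, 0 ≤ ArSurf.inter R X ω C) :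
    Neron.IsRelMinimalRegularModel R X := by
  obtain ⟨hXr, hXi, hXd, hXf, hXp⟩ := id hX
  refine ⟨hXr, hXp, hXf, fun Y hYr hYp hYf g hg => ?_⟩
  haveI := hXi
  haveI := hXf
  haveI := hYf
  obtain ⟨hsurj, hgp, hYi, -, -⟩ := contracted_facts hX hYr hYp g hg
  obtain ⟨-, -, hYd, -, -⟩ := isArithSurface_target hX hYr hYp g hg
  haveI := hgp
  haveI := hYi
  haveI := PtBlow.isProper_of_isProjectiveOver (Z := X) hXp
  haveI := PtBlow.isProper_of_isProjectiveOver (Z := Y) hYp
  haveI : IsLocallyNoetherian X.left := LocallyOfFiniteType.isLocallyNoetherian X.hom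
  haveI : CompactSpace X.left := QuasiCompact.compactSpace_of_compactSpace X.hom
  haveI : IsNoetherian X.left := {}
  haveI : IsLocallyNoetherian Y.left := LocallyOfFiniteType.isLocallyNoetherian Y.hom
  haveI : CompactSpace Y.left := QuasiCompact.compactSpace_of_compactSpace Y.hom
  haveI : IsNoetherian Y.left := {}
  have hseq := PtBlow.isContractionSeq_of_birational g.left hXr hXd.le hYr hYd.le (exists_iso_open g hg)
  suffices h : IsIso g.left by
    haveI : IsIso ((Over.forget _).map g) := h
    exact isIso_of_reflects_iso g (Over.forget _)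
  have key : ∀ {A B : Scheme.{u}} (f : A ⟶ B), Models.IsContractionSeq f →
      IsIso f ∨ ∃ (E : Scheme.{u}) (ι : E ⟶ A), IsClosedImmersion ι ∧ Models.IsExcCurve ι := by
    intro A B f hf
    cases hf with
    | iso e => exact Or.inl inferInstance
    | step ι b r hι hE hb hr => exact Or.inr ⟨_, ι, hι, hE⟩
  rcases key g.left hseq with h | ⟨E, ι, hι, hE⟩
  · exact h
  haveI := hι
  obtain ⟨Γ, hΓ⟩ := exists_vertComp_of_exc X.hom ι hE
  haveI : IsProper (Over.mk X.hom).hom := isProper_hom_of_isArithSurface hX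
  obtain ⟨L, hLi, hL⟩ := exists_inverse_module ((Groth.Agent.S8914.result _).2 (isEffCartierIdeal_ker (X := X) hX Γ))
  obtain ⟨-, k, _, eP, ⟨c⟩⟩ := id hΓ
  obtain ⟨h1, h2⟩ : Models.h1 R X Γ = 0 ∧ ArSurf.inter R X L Γ = -(1 * (Models.wdeg R X Γ : ℤ)) :=
    vert_line_numbers Γ eP hLi hL c
  have hs := selfInter_add_canonical (X := X) hX Γ hL hω
  have hw : 0 < Models.wdeg R X Γ := (wdeg_facts Γ).1
  have : 0 ≤ ArSurf.inter R X ω Γ := hnef Γ
  omega

/-- Exceptional-free surfaces of positive genus have nef canonical sheaf. -/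
theorem nef_of_isRelMinimal {X : Over (Spec (CommRingCat.of R))} (hX : ArSurf.IsArithSurface R X)
    (hg : FGA.eulerCharLE (FractionRing R) ((Neron.genericFibre R).obj X).left
      (Coh.structureModule ((Neron.genericFibre R).obj X).left) 1 ≤ 0)
    {ω : X.left.Modules} (hω : Canon.IsCanonical X.hom ω) (hmin : Neron.IsRelMinimalRegularModel R X)
    (C : ArSurf.VertComp R X) : 0 ≤ ArSurf.inter R X ω C := by
  by_contra hneg
  push Not at hneg
  haveI := isProper_hom_of_isArithSurface hX
  obtain ⟨L, hLi, hL⟩ := exists_inverse_module ((Groth.Agent.S8914.result _).2 (isEffCartierIdeal_ker hX C))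
  obtain ⟨ha, hb⟩ := selfInter_nonpos hX C hL
  have hlt : ArSurf.inter R X L C < 0 := by
    refine lt_of_le_of_ne ha fun h0 => ?_
    obtain ⟨U, hU⟩ := hb h0
    obtain ⟨-, p, q, hp, hq, he⟩ := numbers_of_isolated hX C hL U hU
    have hs := selfInter_add_canonical hX C hL hω
    have hpos : (0 : ℤ) < ((Models.wdeg R X C : ℤ) - Models.h1 R X C) * p :=
      mul_pos (by omega) (Int.natCast_pos.2 hp)
    rw [he] at hpos
    exact absurd (pos_of_mul_pos_left hpos (Int.natCast_nonneg _)) (not_lt.2 hg)
  obtain ⟨h1, h2, -⟩ := numbers_of_neg hX C hL hω hneg hlt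
  haveI := C.isClosedImmersion
  exact no_exc_of_minimal (IsDiscreteValuationRing.not_isField R) hX hmin C.curve.left C.ι
    (isExcCurve_of_numbers hX C hL h1 h2)

end Groth.Agent.Castel
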