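import Groth.Agent.Castel.Ample
import Groth.Agent.AbsApprox.AmpleLim
import Groth.Agent.W7Hull.InvDual

/-!
A line with negative normal degree can be contracted.
-/

set_option autoImplicit false
set_option backward.isDefEq.respectTransparency false
set_option backward.isDefEq.respectTransparency.types false
set_option linter.style.haveILetI false

universe u

open CategoryTheory CategoryTheory.Limits AlgebraicGeometry TopologicalSpace Opposite
open Groth.Agent.QC (res resO resO_resO resO_self app_res res_smul res_self res_res)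
open TMul (tm IsGen val homOf val_homOf)

noncomputable section

namespace Groth.Agent.Castel

variable {X : Scheme.{u}} {R : Type u} [CommRing R] [IsNoetherianRing R]

/-- A line with conormal degree `m ≥ 1` can be contracted, keeping an ample module. -/
theorem exists_contraction_deg (f : X ⟶ Spec (CommRingCat.of R)) [IsProper f]
    (L₀ : X.Modules) (hL₀ : CohB1.IsAmple L₀) {k : Type u} [Field k] (ι₀ : CohB1.ProjSpace 1 k ⟶ X)
    [IsClosedImmersion ι₀] (hI₀ : BlowUp.IsEffCartierIdeal ι₀.ker) {m : ℕ} (hm : 0 < m)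
    (e₀ : (Scheme.Modules.pullback ι₀).obj (ClSub.idealMod ι₀.ker) ≅ Twist.twistProjSpace 1 k (m : ℤ))
    (M : X.Modules) (hM : ClSub.IsInverseOf M (ClSub.idealMod ι₀.ker)) (hMi : PicF.IsInvertible M) :
    ∃ (X' : Scheme.{u}) (b : X ⟶ X') (g : X' ⟶ Spec (CommRingCat.of R)) (y₀ : X'),
      b ≫ g = f ∧ IsProper g ∧ IsProper b ∧ IsClosed ({y₀} : Set X') ∧
      b ⁻¹' {y₀} = Set.range ι₀ ∧ (∀ V : X'.Opens, Function.Bijective (b.app V)) ∧
      (∀ V : X'.Opens, y₀ ∉ V → IsIso (b ∣_ V)) ∧ ∃ L' : X'.Modules, CohB1.IsAmple L' := by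
  haveI : IsLocallyNoetherian X := LocallyOfFiniteType.isLocallyNoetherian f
  haveI : CompactSpace X := QuasiCompact.compactSpace_of_compactSpace f
  haveI : IsNoetherian X := {}
  haveI : IsIntegral (CohB1.ProjSpace 1 k) := Horrocks.isIntegral_projSpace
  obtain ⟨a, ⟨ea⟩, -⟩ := PicPn.existsUnique_iso (K := k) le_rfl _ (PicLoc.isInvertible_pullback ι₀ hL₀.1)
  have ha : 0 < a := (W7Proj.isAmple_twist_iff 1 k le_rfl a).1
    (TMul.isAmple_congr ea (TMul.isAmple_pullback_of_isAffineHom ι₀ hL₀))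
  obtain ⟨d, rfl⟩ : ∃ d : ℕ, a = d := ⟨a.toNat, (Int.toNat_of_nonneg ha.le).symm⟩
  have hd : 1 ≤ d := by exact_mod_cast ha
  obtain ⟨ed⟩ := nonempty_pullback_pow ι₀ ea m
  have hL : CohB1.IsAmple (CohB1.tensorPow L₀ m) := TMul.isAmple_tensorPow hL₀ hm
  obtain ⟨n, N, φ, p, hφ, hN, hp, hqf, ⟨τ⟩, hgen⟩ := exists_contracting_map (m := m) f ι₀ hI₀ e₀ hL hMi hM hd ed
  haveI := ProjMor.isProper_toSpec n R
  haveI : IsProper (φ ≫ CohB1.ProjSpace.toSpec n R) := hφ.symm ▸ inferInstance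
  haveI : IsProper φ := IsProper.of_comp φ (CohB1.ProjSpace.toSpec n R)
  haveI : IsLocallyNoetherian (CohB1.ProjSpace n R) :=
    LocallyOfFiniteType.isLocallyNoetherian (CohB1.ProjSpace.toSpec n R)
  haveI : CompactSpace (CohB1.ProjSpace n R) :=
    QuasiCompact.compactSpace_of_compactSpace (CohB1.ProjSpace.toSpec n R)
  haveI : IsNoetherian (CohB1.ProjSpace n R) := {}
  obtain ⟨X', b, g', y₀, hbg, hg', hbp, hy₀, hfib, happ, hoff⟩ := exists_stein_contract ι₀ φ p hp hqf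
  haveI := hbp
  haveI := hg'
  set L := CohB1.tensorPow L₀ m with hLdef
  set Ld := CohB1.tensorMod L (CohB1.tensorPow M d) with hLd
  have hLdi : PicF.IsInvertible Ld := TMul.isInvertible_tensorMod hL.1 (TMul.isInvertible_tensorPow hMi d)
  obtain ⟨σ, hσ⟩ := hgen N le_rfl
  obtain ⟨σ', hσ'⟩ := hgen (N + 1) (Nat.le_succ N)
  obtain ⟨L', hL', ⟨eL'⟩⟩ := exists_descent b happ hLdi fun y => by
    by_cases hy : y = y₀
    · subst hy
      set W := CohB1.genLocus _ (homOf σ) ⊓ CohB1.genLocus _ (homOf σ') with hW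
      let V : X'.Opens := ⟨(b '' (W : Set X)ᶜ)ᶜ, (b.isClosedMap _ W.isOpen.isClosed_compl).isOpen_compl⟩
      have hVW : b ⁻¹ᵁ V ≤ W := fun x hx => not_not.1 fun hxW => hx ⟨x, hxW, rfl⟩
      obtain ⟨g, hg⟩ := exists_isGen_of_powers hLdi (b ⁻¹ᵁ V) σ σ' (hVW.trans inf_le_left) (hVW.trans inf_le_right)
      refine ⟨V, g, ?_, hg⟩
      rintro ⟨x, hxW, hx⟩
      have hxE : x ∈ Set.range ι₀ := hfib.subset hx
      exact hxW ⟨hσ hxE, hσ' hxE⟩
    · let U : X'.Opens := ⟨{y₀}ᶜ, hy₀.isOpen_compl⟩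
      haveI := hoff U (fun h => h rfl)
      obtain ⟨x, hx⟩ := (b ∣_ U).surjective ⟨y, hy⟩
      have hxy : b x.1 = y := (morphismRestrict_base_coe b U x).symm.trans (congrArg Subtype.val hx)
      obtain ⟨O, g, hxO, hg⟩ := TMul.exists_isGen hLdi x.1
      let V : X'.Opens := U.ι ''ᵁ ((b ∣_ U) ''ᵁ ((b ⁻¹ᵁ U).ι ⁻¹ᵁ O))
      have hle : b ⁻¹ᵁ V ≤ O := by
        rintro z ⟨w, ⟨z', hz', hw⟩, hwz⟩
        have hzU : z ∈ b ⁻¹ᵁ U := by
          show b z ∈ U
          rw [← hwz]; exact w.2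
        have : z' = ⟨z, hzU⟩ := (b ∣_ U).isOpenEmbedding.injective (Subtype.ext (by
          rw [morphismRestrict_base_coe, morphismRestrict_base_coe]
          show b z'.1 = b z
          rw [← hwz, ← hw, ← morphismRestrict_base_coe b U z']
          rfl))
        subst this
        exact hz'
      exact ⟨V, res Ld hle g, ⟨⟨y, hy⟩, ⟨x, hxO, Subtype.ext (by
        exact (morphismRestrict_base_coe b U x).trans hxy)⟩, rfl⟩, hg.res hle⟩
  refine ⟨X', b, g' ≫ CohB1.ProjSpace.toSpec n R, y₀, ?_, inferInstance, hbp, hy₀, hfib, happ, hoff, L', ?_⟩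
  · rw [← Category.assoc, hbg, hφ]
  · have hA : CohB1.IsAmple ((Scheme.Modules.pullback g').obj (Twist.twistProjSpace n R 1)) :=
      TMul.isAmple_pullback_of_isAffineHom g' (isAmple_twist n R)
    obtain ⟨a⟩ := TMul.nonempty_pullPowIso b L' N
    obtain ⟨i⟩ := nonempty_iso_of_pullback b happ (TMul.isInvertible_tensorPow hL' N) hA.1
      (a.symm ≪≫ Classical.choice (AbsApprox.nonempty_powIso eL' N) ≪≫ τ.symm ≪≫
        (Scheme.Modules.pullbackCongr hbg.symm).app _ ≪≫ ((Scheme.Modules.pullbackComp b g').app _).symm)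
    exact TMul.isAmple_of_tensorPow hL' hN (TMul.isAmple_congr i.symm hA)


end Groth.Agent.Castel
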