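import Groth.Agent.Castel.Vert

/-!
The contracted surface over a Noetherian base.
-/

set_option autoImplicit false
set_option backward.isDefEq.respectTransparency false
set_option backward.isDefEq.respectTransparency.types false
set_option linter.style.haveILetI false

universe u

open CategoryTheory CategoryTheory.Limits AlgebraicGeometry TopologicalSpace Opposite

noncomputable section

namespace Groth.Agent.Castel

variable {R : Type u} [CommRing R] [IsDomain R] [IsDedekindDomain R]

/-- A projective arithmetic surface has an ample module. -/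
theorem exists_ample_of_proj {X : Over (Spec (CommRingCat.of R))} (h : Neron.IsProjectiveOver R X) :
    ∃ L : X.left.Modules, CohB1.IsAmple L := by
  obtain ⟨n, i, hi, -⟩ := h
  obtain ⟨t, -⟩ := PnSpec.exists_iso n R
  haveI := hi
  let j := i ≫ t.inv
  haveI : IsAffineHom j := inferInstanceAs (IsAffineHom (i ≫ t.inv))
  exact ⟨_, TMul.isAmple_pullback_of_isAffineHom j (isAmple_twist n R)⟩

/-- A scheme proper over the base with an ample module is projective. -/
theorem isProjectiveOver_of_ample {X : Scheme.{u}} (g : X ⟶ Spec (CommRingCat.of R)) [IsProper g]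
    {L : X.Modules} (hL : CohB1.IsAmple L) : Neron.IsProjectiveOver R (Over.mk g) := by
  obtain ⟨n, -, r, -, -, hr, hri, -⟩ := LefRel.exists_closedImmersion g hL 0
  obtain ⟨t, ht⟩ := PnSpec.exists_iso n R
  haveI := hri
  exact ⟨n, r ≫ t.hom, inferInstanceAs (IsClosedImmersion (r ≫ t.hom)), by
    rw [Category.assoc, ht]
    exact hr⟩

/-- Local rings have dimension at most that of the space. -/
theorem ringKrullDim_stalk_le_dim {X : Scheme.{u}} (x : X) :
    ringKrullDim (X.presheaf.stalk x) ≤ topologicalKrullDim X := by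
  rw [ringKrullDim_stalk_eq_coheight]
  letI : PartialOrder X := specializationOrder X
  rw [CartierDim.topDim_eq]
  exact Order.coheight_le_krullDim x

/-- The target of a contraction is an integral flat surface, projective over the base. -/
theorem surface_facts {X : Over (Spec (CommRingCat.of R))} (hX : ArSurf.IsArithSurface R X) {Y : Scheme.{u}}
    (b : X.left ⟶ Y) [IsProper b] (g : Y ⟶ Spec (CommRingCat.of R)) [IsProper g] (hbg : b ≫ g = X.hom)
    (y₀ : Y) (hy₀ : IsClosed ({y₀} : Set Y)) (hfib : (b ⁻¹' {y₀}).Nonempty)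
    (happ : ∀ V : Y.Opens, Function.Bijective (b.app V)) (hoff : ∀ V : Y.Opens, y₀ ∉ V → IsIso (b ∣_ V))
    {L : Y.Modules} (hL : CohB1.IsAmple L) :
    IsIntegral Y ∧ topologicalKrullDim Y ≤ 2 ∧ Flat g ∧ Neron.IsProjectiveOver R (Over.mk g) ∧
      ∀ y, y ≠ y₀ → IsRegularLocalRing (Y.presheaf.stalk y) := by
  obtain ⟨hXr, hXi, hXd, hXf, -⟩ := hX
  haveI := hXi
  haveI : IsReduced Y := isReduced_of_app_injective b fun V => (happ V).1
  let V : Y.Opens := ⟨({y₀} : Set Y)ᶜ, hy₀.isOpen_compl⟩
  haveI := hoff V fun h => h rfl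
  have hsurj : Function.Surjective b := fun y => by
    by_cases hy : y = y₀
    · obtain ⟨x, hx⟩ := hfib
      exact ⟨x, hx.trans hy.symm⟩
    · obtain ⟨x, hx⟩ := (b ∣_ V).surjective ⟨y, hy⟩
      exact ⟨x.1, (morphismRestrict_base_coe b V x).symm.trans (congrArg Subtype.val hx)⟩
  haveI : IrreducibleSpace Y := hsurj.irreducibleSpace b.continuous
  haveI : IsIntegral Y := isIntegral_of_irreducibleSpace_of_isReduced Y
  haveI : Flat (b ≫ g) := hbg ▸ hXf
  exact ⟨inferInstance, dim_le_of_closedMap b hsurj b.isClosedMap (n := 2) hXd.le,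
    flat_of_app_injective b g fun V => (happ V).1, isProjectiveOver_of_ample g hL,
    fun y hy => isRegular_of_iso_restrict b V hXr hy⟩

end Groth.Agent.Castel
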