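import Groth.Agent.Castel.Arith
import Groth.Agent.Castel.AmpleDeg

/-!
Vertical curves isomorphic to a projective line over a finite extension of the residue field.
-/

set_option autoImplicit false
set_option backward.isDefEq.respectTransparency false
set_option backward.isDefEq.respectTransparency.types false
set_option linter.style.haveILetI false

universe u

open CategoryTheory CategoryTheory.Limits AlgebraicGeometry TopologicalSpace Opposite

noncomputable section

namespace Groth.Agent.Castel

variable {R : Type u} [CommRing R] [IsDomain R] [IsDiscreteValuationRing R] {X : Over (Spec (CommRingCat.of R))}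

/-- The ideal of a vertical curve of self-intersection `-d[k':k]` restricts to `O(d)` on the line. -/
theorem vert_conormal (hX : ArSurf.IsArithSurface R X) (E : ArSurf.VertComp R X) {k' : Type u} [Field k']
    [Algebra (IsLocalRing.ResidueField R) k'] [FiniteDimensional (IsLocalRing.ResidueField R) k']
    (e : E.curve.left ≅ CohB1.ProjSpace 1 k')
    (he : e.hom ≫ (CohB1.ProjSpace 1 k' ↘ Spec (CommRingCat.of k')) ≫
      Spec.map (CommRingCat.ofHom (algebraMap (IsLocalRing.ResidueField R) k')) = E.curve.hom)
    (L : X.left.Modules) (hL : ClSub.IsInverseOf L (ClSub.idealMod E.ι.ker)) {d : ℤ}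
    (hself : ArSurf.inter R X L E = -(d * (Module.finrank (IsLocalRing.ResidueField R) k' : ℤ))) :
    BlowUp.IsEffCartierIdeal E.ι.ker ∧ PicF.IsInvertible L ∧
      Nonempty ((Scheme.Modules.pullback (e.inv ≫ E.ι)).obj (ClSub.idealMod E.ι.ker) ≅
        Twist.twistProjSpace 1 k' d) := by
  obtain ⟨hXr, hXi, hXd, -, hXp⟩ := hX
  haveI := hXi
  haveI := PtBlow.isProper_of_isProjectiveOver (Z := X) hXp
  haveI : IsLocallyNoetherian X.left := LocallyOfFiniteType.isLocallyNoetherian X.hom
  haveI : CompactSpace X.left := QuasiCompact.compactSpace_of_compactSpace X.hom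
  haveI : IsNoetherian X.left := {}
  let i := E.ι
  haveI : IsIso i.toImage := inferInstance
  haveI : Nonempty i.ker.subscheme := ⟨i.toImage (genericPoint E.curve.left)⟩
  haveI : IsIntegral i.ker.subscheme := isIntegral_of_isOpenImmersion (inv i.toImage)
  have hI : BlowUp.IsEffCartierIdeal i.ker := by
    refine Groth.Agent.S1684.result X.left i.ker (ringKrullDim_stalk_curve hXd ?_) fun x _ => ?_
    · have hr : Set.range i.ker.subschemeι = Set.range i := by
        rw [Scheme.IdealSheafData.range_subschemeι, Scheme.Hom.support_ker]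
        exact i.isClosedEmbedding.isClosed_range.closure_eq
      have h1 : closure ({i.ker.subschemeι (genericPoint i.ker.subscheme)} : Set X.left) = Set.range i := by
        rw [← hr, ← Intersect.image_closure i.ker.subschemeι, genericPoint_closure]
        exact Set.image_univ
      rw [h1, ← i.isClosedEmbedding.isEmbedding.toHomeomorph.isHomeomorph.topologicalKrullDim_eq, E.dim_eq]
      rfl
    · haveI := hXr x
      exact Groth.Agent.S2821.result _
  have hIi : PicF.IsInvertible (ClSub.idealMod i.ker) := (Groth.Agent.S8914.result _).2 hI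
  have hLi := isInvertible_of_isInverseOf hIi hL
  refine ⟨hI, hLi, ?_⟩
  let ι₀ := e.inv ≫ i
  obtain ⟨a, ⟨ea⟩, -⟩ := PicPn.existsUnique_iso (K := k') le_rfl _ (PicLoc.isInvertible_pullback ι₀ hIi)
  obtain ⟨em⟩ := nonempty_pullback_inverse (I := i.ker) ι₀ hL hLi ea
  suffices ha : a = d by subst ha; exact ⟨ea⟩
  haveI : IsProper (CohB1.ProjSpace 1 k' ↘ Spec (CommRingCat.of k')) := ProjMor.isProper_toSpec 1 k'
  let q := e.inv ≫ E.curve.hom
  have hq : (CohB1.ProjSpace 1 k' ↘ Spec (CommRingCat.of k')) ≫
      Spec.map (CommRingCat.ofHom (algebraMap (IsLocalRing.ResidueField R) k')) = q := by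
    show _ = e.inv ≫ E.curve.hom
    rw [← he, Iso.inv_hom_id_assoc]
  have hO : PicF.IsInvertible (Coh.structureModule E.curve.left) := TMul.isInvertible_structureModule
  have hLE := PicLoc.isInvertible_pullback i hLi
  have key : ∀ (F : E.curve.left.Modules), PicF.IsInvertible F →
      ∀ G : (CohB1.ProjSpace 1 k').Modules, ((Scheme.Modules.pullback e.inv).obj F ≅ G) →
      FGA.eulerCharLE (IsLocalRing.ResidueField R) E.curve.left F 1 =
        (Module.finrank (IsLocalRing.ResidueField R) k' : ℤ) * Curv2.euler k' (CohB1.ProjSpace 1 k') G := by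
    intro F hF G j
    refine (eulerCharLE_iso E.curve.hom e hF 1).trans ((eulerCharLE_tower _ q hq _ 1).trans ?_)
    congr 1
    rw [CurveRR.euler_eq (Groth.Agent.S10829.result k' 1).le, FGA.eulerCharLE, Finset.sum_range_succ,
      Finset.sum_range_one]
    have hh : ∀ i, Module.finrank k' (Coh.HH _ ((Scheme.Modules.pullback e.inv).obj F) i) = CurveRR.h k' G i :=
      fun i => CurveRR.h_eq_of_iso (k := k') j i
    push_cast [hh]
    ring
  obtain ⟨o⟩ := Horrocks.Om_zero (k := k') (d := 1)
  have h1 := key _ hLE _ ((Scheme.Modules.pullbackComp e.inv i).app L ≪≫ em)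
  have h2 := key _ hO _ (DerPerf.pullUnitIso e.inv ≪≫ o.symm)
  rw [euler_twist_line] at h1 h2
  rw [ArSurf.inter, ArSurf.curveDeg, h1, h2] at hself
  have hpos : (0 : ℤ) < Module.finrank (IsLocalRing.ResidueField R) k' := by exact_mod_cast Module.finrank_pos
  nlinarith

end Groth.Agent.Castel
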