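import Groth.Agent.Castel.Gens
import Groth.Agent.CohFinite.Ample

/-!
Twisting an invertible module by multiples of an exceptional curve until it is trivial there.
-/

set_option autoImplicit false
set_option backward.isDefEq.respectTransparency false
set_option backward.isDefEq.respectTransparency.types false
set_option linter.style.haveILetI false

universe u

open CategoryTheory CategoryTheory.Limits AlgebraicGeometry TopologicalSpace Opposite
open Groth.Agent.QC (res resO resO_resO resO_self app_res res_smul res_self res_res)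
open Groth.Agent.CohFinite (tmap tmap_tm shortExact_tmap)
open TMul (tm IsGen val homOf val_homOf)

noncomputable section

namespace Groth.Agent.Castel

variable {X : Scheme.{u}} {k : Type u} [Field k] {I : X.IdealSheafData}

/-- The restriction of a twist to the line has no first cohomology. -/
theorem subsingleton_h1_quot_of_iso [IsLocallyNoetherian X] (ι₀ : CohB1.ProjSpace 1 k ⟶ X) [IsClosedImmersion ι₀]
    (hker : ι₀.ker = I) {G : X.Modules} (hG : PicF.IsInvertible G) {a : ℤ} (ha : -1 ≤ a)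
    (e' : (Scheme.Modules.pullback ι₀).obj G ≅ Twist.twistProjSpace 1 k a) :
    Subsingleton (Coh.HH X (CohB1.tensorMod (ClSub.quotMod I) G) 1) := by
  subst hker
  let s := ι₀.ker.subschemeι
  haveI : IsIso ι₀.toImage := inferInstance
  have hfac : inv ι₀.toImage ≫ ι₀ = s := (IsIso.inv_comp_eq _).2 ι₀.toImage_imageι.symm
  haveI := W7Hull.isIso_projMap_of_invertible s (Coh.structureModule _) hG
  have hq : Coh.IsQCoh ((Scheme.Modules.pullback s).obj G) :=
    TMul.isQCoh_of_isInvertible (PicLoc.isInvertible_pullback s hG)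
  have h1 : Subsingleton (Coh.HH ι₀.ker.subscheme ((Scheme.Modules.pullback s).obj G) 1) := by
    refine CohQC.hh_subsingleton_of_iso ?_ 1 (TwistOverVan.subsingleton_hh_pullback_iso (inv ι₀.toImage) _
      (TMul.isQCoh_of_isInvertible (CohFinite.isInvertible_twist 1 k a)) 1
      (subsingleton_h1_twist k a ha))
    exact ((Scheme.Modules.pullbackCongr hfac.symm).app G ≪≫
      ((Scheme.Modules.pullbackComp (inv ι₀.toImage) ι₀).app G).symm ≪≫
      (Scheme.Modules.pullback (inv ι₀.toImage)).mapIso e').symm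
  let T := CohB1.tensorMod (Coh.structureModule ι₀.ker.subscheme) ((Scheme.Modules.pullback s).obj G)
  haveI : Coh.IsQCoh T := TMul.isQCoh_of_isInvertible (TMul.isInvertible_tensorMod
    TMul.isInvertible_structureModule (PicLoc.isInvertible_pullback s hG))
  have h2 : Subsingleton (Coh.HH ι₀.ker.subscheme T 1) :=
    CohQC.hh_subsingleton_of_iso (TMul.leftUnitIso _).symm 1 h1
  obtain ⟨ψ⟩ := Groth.Agent.S0012.result s T 1
  exact CohQC.hh_subsingleton_of_iso (asIso (CohFinite.projMap s (Coh.structureModule _) G)).symm 1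
    ψ.symm.toEquiv.subsingleton

/-- Inverse images of global sections on the subscheme are all of them when `H¹` of the kernel vanishes. -/
theorem surjective_eta_of_h1 {G : X.Modules} (hG : PicF.IsInvertible G)
    (h : Subsingleton (Coh.HH X (CohB1.tensorMod (ClSub.idealMod I) G) 1)) :
    Function.Surjective (ProjMor.eta I.subschemeι G ⊤) := by
  haveI := W7Hull.isIso_projMap_of_invertible I.subschemeι (Coh.structureModule I.subscheme) hG
  set s := I.subschemeι with hs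
  have hS := (shortExact_tmap hG (CurveRR.ideal_shortExact I)).map_of_exact (CohQC.toAbF X)
  intro z
  let y := (inv (CohFinite.projMap s (Coh.structureModule I.subscheme) G)).app ⊤
    (tm (M := Coh.structureModule I.subscheme) (1 : Γ(I.subscheme, ⊤)) z)
  obtain ⟨w, hw⟩ := surjective_app_top hS h y
  refine ⟨(TMul.leftUnitIso G).hom.app ⊤ w, ?_⟩
  set l := (TMul.leftUnitIso G).hom.app ⊤ w with hl
  have hwl : w = tm (M := Coh.structureModule X) (1 : Γ(X, ⊤)) l := by
    have h1 : (TMul.leftUnitIso G).hom.app ⊤ w =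
        (TMul.leftUnitIso G).hom.app ⊤ (tm (M := Coh.structureModule X) (1 : Γ(X, ⊤)) l) := by
      rw [CurveRR.leftUnitIso_tm, one_smul]
    exact (ConcreteCategory.bijective_of_isIso ((TMul.leftUnitIso G).hom.app ⊤)).1 h1
  have h2 := congrArg ((CohFinite.projMap s (Coh.structureModule I.subscheme) G).app ⊤) hw
  have h3 : (CohFinite.projMap s (Coh.structureModule I.subscheme) G).app ⊤ y =
      tm (M := Coh.structureModule I.subscheme) (1 : Γ(I.subscheme, ⊤)) z :=
    ConcreteCategory.congr_hom (congrArg (fun φ => Scheme.Modules.Hom.app φ ⊤)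
      (IsIso.inv_hom_id (CohFinite.projMap s (Coh.structureModule I.subscheme) G))) _
  rw [hwl] at h2
  have h4 := h2.trans h3
  change (CohFinite.projMap s (Coh.structureModule I.subscheme) G).app ⊤
    ((tmap (ClSub.toSubscheme I) G).app ⊤ (tm (M := Coh.structureModule X) (1 : Γ(X, ⊤)) l)) = _ at h4
  rw [tmap_tm] at h4
  have h5 := (CohFinite.projMap_tm s (Coh.structureModule I.subscheme) G (U := ⊤) _ l).symm.trans h4
  have h6 := congrArg ((TMul.leftUnitIso ((Scheme.Modules.pullback s).obj G)).hom.app (s ⁻¹ᵁ ⊤)) h5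
  erw [CurveRR.leftUnitIso_tm, CurveRR.leftUnitIso_tm] at h6
  rw [one_smul, show (ClSub.toSubscheme I).app ⊤ (1 : Γ(X, ⊤)) = s.app ⊤ 1 from rfl, map_one, one_smul] at h6
  exact h6

/-- A module trivial on the line with liftable sections has a section generating along it. -/
theorem exists_gen_along (ι₀ : CohB1.ProjSpace 1 k ⟶ X) [IsClosedImmersion ι₀] (hker : ι₀.ker = I)
    {G : X.Modules} (hG : PicF.IsInvertible G)
    (e' : (Scheme.Modules.pullback ι₀).obj G ≅ Twist.twistProjSpace 1 k 0)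
    (h : Subsingleton (Coh.HH X (CohB1.tensorMod (ClSub.idealMod I) G) 1)) :
    ∃ σ : Γ(G, ⊤), Set.range ι₀ ⊆ (CohB1.genLocus G (homOf σ) : Set X) := by
  subst hker
  haveI : IsIso ι₀.toImage := inferInstance
  set s := ι₀.ker.subschemeι
  obtain ⟨t⟩ := Horrocks.Om_zero (k := k) (d := 1)
  let one : Γ(Twist.twistProjSpace 1 k 0, ⊤) := t.inv.app ⊤ (1 : Γ(CohB1.ProjSpace 1 k, ⊤))
  have hfac : inv ι₀.toImage ≫ ι₀ = s := (IsIso.inv_comp_eq _).2 ι₀.toImage_imageι.symm
  let β := inv ι₀.toImage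
  let ψ : (Scheme.Modules.pullback s).obj G ≅ (Scheme.Modules.pullback β).obj (Twist.twistProjSpace 1 k 0) :=
    (Scheme.Modules.pullbackCongr hfac.symm).app G ≪≫
      ((Scheme.Modules.pullbackComp β ι₀).app G).symm ≪≫ (Scheme.Modules.pullback β).mapIso e'
  obtain ⟨σ, hσ⟩ := surjective_eta_of_h1 hG h (ψ.inv.app _ (ProjMor.eta β _ ⊤ one))
  refine ⟨σ, ?_⟩
  rintro _ ⟨z, rfl⟩
  have hz : s (ι₀.toImage z) = ι₀ z := by
    rw [← Scheme.Hom.comp_apply, ι₀.toImage_imageι]
  rw [← hz]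
  change ι₀.toImage z ∈ s ⁻¹ᵁ CohB1.genLocus G (homOf σ)
  rw [← ProjMor.genLocus_pullSec s hG σ]
  change ι₀.toImage z ∈ CohB1.genLocus _ (homOf (L := (Scheme.Modules.pullback s).obj G) (ProjMor.eta s G ⊤ σ))
  rw [hσ]
  erw [ProjMor.homOf_app, TMul.genLocus_comp]
  refine (ProjMor.genLocus_pullSec β (CohFinite.isInvertible_twist 1 k 0) one).ge ?_
  change _ ∈ CohB1.genLocus _ (homOf (t.inv.app ⊤ (1 : Γ(CohB1.ProjSpace 1 k, ⊤))))
  erw [ProjMor.homOf_app, TMul.genLocus_comp]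
  refine (TMul.mem_genLocus_iff_isUnit (homOf (L := Coh.structureModule (CohB1.ProjSpace 1 k))
    (show Γ(Coh.structureModule (CohB1.ProjSpace 1 k), ⊤) from (1 : Γ(CohB1.ProjSpace 1 k, ⊤))))
    (TMul.isGen_one ⊤) (c := 1) ?_ trivial).2 ?_
  · rw [val_homOf, one_smul]
    exact res_self _ _ _
  · rw [map_one]
    exact isUnit_one

theorem nonempty_pullback_inverse (ι₀ : CohB1.ProjSpace 1 k ⟶ X) {M : X.Modules}
    (hM : ClSub.IsInverseOf M (ClSub.idealMod I)) (hMi : PicF.IsInvertible M) {m : ℤ}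
    (e : (Scheme.Modules.pullback ι₀).obj (ClSub.idealMod I) ≅ Twist.twistProjSpace 1 k m) :
    Nonempty ((Scheme.Modules.pullback ι₀).obj M ≅ Twist.twistProjSpace 1 k (-m)) := by
  obtain ⟨a, ⟨ea⟩, -⟩ := PicPn.existsUnique_iso (K := k) le_rfl _ (PicLoc.isInvertible_pullback ι₀ hMi)
  obtain ⟨p⟩ := TMul.nonempty_pullTensorIso ι₀ M (ClSub.idealMod I)
  obtain ⟨t⟩ := PtBlow.Line.tensor_twist (k := k) a m (a + m) rfl
  obtain ⟨o⟩ := Horrocks.Om_zero (k := k) (d := 1)
  obtain ⟨q⟩ := hM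
  have := PtBlow.Line.eq_of_iso (k := k) (t.symm ≪≫ PicGrp.tensorModIso ea.symm e.symm ≪≫ p ≪≫
    (Scheme.Modules.pullback ι₀).mapIso q ≪≫ PicLoc.pullbackStructureIso ι₀ ≪≫ o.symm)
  rw [show -m = a by omega]
  exact ⟨ea⟩

theorem nonempty_pullback_pow (ι₀ : CohB1.ProjSpace 1 k ⟶ X) {M : X.Modules} {a : ℤ}
    (e : (Scheme.Modules.pullback ι₀).obj M ≅ Twist.twistProjSpace 1 k a) :
    ∀ j : ℕ, Nonempty ((Scheme.Modules.pullback ι₀).obj (CohB1.tensorPow M j) ≅ Twist.twistProjSpace 1 k (a * j))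
  | 0 => by
    obtain ⟨o⟩ := Horrocks.Om_zero (k := k) (d := 1)
    rw [show a * ((0 : ℕ) : ℤ) = 0 by simp]
    exact ⟨PicLoc.pullbackStructureIso ι₀ ≪≫ o.symm⟩
  | j + 1 => by
    obtain ⟨f⟩ := nonempty_pullback_pow ι₀ e j
    obtain ⟨p⟩ := TMul.nonempty_pullTensorIso ι₀ (CohB1.tensorPow M j) M
    obtain ⟨t⟩ := PtBlow.Line.tensor_twist (k := k) (a * j) a (a * ((j + 1 : ℕ) : ℤ)) (by push_cast; ring)
    exact ⟨p.symm ≪≫ PicGrp.tensorModIso f e ≪≫ t⟩

theorem nonempty_pullback_tensor (ι₀ : CohB1.ProjSpace 1 k ⟶ X) {A B : X.Modules} {a b c : ℤ}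
    (ea : (Scheme.Modules.pullback ι₀).obj A ≅ Twist.twistProjSpace 1 k a)
    (eb : (Scheme.Modules.pullback ι₀).obj B ≅ Twist.twistProjSpace 1 k b) (h : a + b = c) :
    Nonempty ((Scheme.Modules.pullback ι₀).obj (CohB1.tensorMod A B) ≅ Twist.twistProjSpace 1 k c) := by
  obtain ⟨p⟩ := TMul.nonempty_pullTensorIso ι₀ A B
  obtain ⟨t⟩ := PtBlow.Line.tensor_twist (k := k) a b c h
  exact ⟨p.symm ≪≫ PicGrp.tensorModIso ea eb ≪≫ t⟩

/-- Moving a tensor factor past an inverse. -/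
theorem nonempty_ideal_tensor {A M : X.Modules} (hM : ClSub.IsInverseOf M (ClSub.idealMod I)) (j : ℕ) :
    Nonempty (CohB1.tensorMod (ClSub.idealMod I) (CohB1.tensorMod A (CohB1.tensorPow M (j + 1))) ≅
      CohB1.tensorMod A (CohB1.tensorPow M j)) := by
  obtain ⟨q⟩ := hM
  exact ⟨TMul.commIso _ _ ≪≫ TMul.assocIso _ _ _ ≪≫ PicGrp.tensorModIso (Iso.refl A)
    (TMul.assocIso (CohB1.tensorPow M j) M (ClSub.idealMod I) ≪≫
      PicGrp.tensorModIso (Iso.refl _) q ≪≫ SecTwist.unitorR _)⟩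

/-- Some multiple of the curve makes an ample power generated along it. -/
theorem exists_gen_twist [IsLocallyNoetherian X] (hI : BlowUp.IsEffCartierIdeal I)
    (ι₀ : CohB1.ProjSpace 1 k ⟶ X) [IsClosedImmersion ι₀] (hker : ι₀.ker = I) {d N m : ℕ}
    (e : (Scheme.Modules.pullback ι₀).obj (ClSub.idealMod I) ≅ Twist.twistProjSpace 1 k (m : ℤ))
    {L M : X.Modules} (hL : PicF.IsInvertible L) (hMi : PicF.IsInvertible M)
    (hM : ClSub.IsInverseOf M (ClSub.idealMod I)) (hd : 1 ≤ d) (hN : 1 ≤ N)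
    (ed : (Scheme.Modules.pullback ι₀).obj L ≅ Twist.twistProjSpace 1 k ((d : ℤ) * m))
    (h1 : Subsingleton (Coh.HH X (CohB1.tensorPow L N) 1)) :
    ∃ σ : Γ(CohB1.tensorPow (CohB1.tensorMod L (CohB1.tensorPow M d)) N, ⊤),
      Set.range ι₀ ⊆ (CohB1.genLocus _ (homOf σ) : Set X) := by
  obtain ⟨em⟩ := nonempty_pullback_inverse ι₀ hM hMi e
  obtain ⟨eN⟩ := nonempty_pullback_pow ι₀ ed N
  let G : ℕ → X.Modules := fun j => CohB1.tensorMod (CohB1.tensorPow L N) (CohB1.tensorPow M j)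
  have hGi : ∀ j, PicF.IsInvertible (G j) := fun j =>
    TMul.isInvertible_tensorMod (TMul.isInvertible_tensorPow hL N) (TMul.isInvertible_tensorPow hMi j)
  have hdeg : ∀ j : ℕ, Nonempty ((Scheme.Modules.pullback ι₀).obj (G j) ≅
      Twist.twistProjSpace 1 k ((d : ℤ) * m * N + (-(m : ℤ)) * j)) := fun j => by
    obtain ⟨ej⟩ := nonempty_pullback_pow ι₀ em j
    exact nonempty_pullback_tensor ι₀ eN ej rfl
  have hvan : ∀ j, j ≤ d * N → Subsingleton (Coh.HH X (G j) 1) := by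
    intro j
    induction j with
    | zero => exact fun _ => CohQC.hh_subsingleton_of_iso (SecTwist.unitorR _).symm 1 h1
    | succ j ih =>
      intro hj
      obtain ⟨q⟩ := nonempty_ideal_tensor (A := CohB1.tensorPow L N) hM j
      obtain ⟨ej⟩ := hdeg (j + 1)
      have hcast : (m : ℤ) * ((j + 1 : ℕ) : ℤ) ≤ (d : ℤ) * m * N := by
        exact_mod_cast (Nat.mul_le_mul_left m hj).trans (le_of_eq (by ring))
      have h3 := subsingleton_h1_quot_of_iso ι₀ hker (hGi (j + 1))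
        (a := (d : ℤ) * m * N + (-(m : ℤ)) * ((j + 1 : ℕ) : ℤ)) (by linarith) ej
      refine CohQC.hh_subsingleton_of_iso (TMul.leftUnitIso _) 1 ?_
      exact W7Hull.hh_subsingleton_middle (shortExact_tmap (hGi (j + 1)) (CurveRR.ideal_shortExact I)) 1
        (CohQC.hh_subsingleton_of_iso q.symm 1 (ih (by omega))) h3
  obtain ⟨j, hj⟩ : ∃ j, d * N = j + 1 := ⟨d * N - 1, by have := Nat.mul_pos hd hN; omega⟩
  obtain ⟨q⟩ := nonempty_ideal_tensor (A := CohB1.tensorPow L N) hM j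
  obtain ⟨e0⟩ := hdeg (d * N)
  have hzero : (d : ℤ) * m * N + (-(m : ℤ)) * ((d * N : ℕ) : ℤ) = 0 := by push_cast; ring
  obtain ⟨σ, hσ⟩ := exists_gen_along ι₀ hker (hGi (d * N)) (e0 ≪≫ eqToIso (by rw [hzero]))
    (by
      rw [hj]
      exact CohQC.hh_subsingleton_of_iso q.symm 1 (hvan j (by omega)))
  obtain ⟨a⟩ := TMul.nonempty_powTensorIso L (CohB1.tensorPow M d) N
  obtain ⟨b⟩ := TMul.nonempty_powMulIso M d N
  let Φ : G (d * N) ≅ CohB1.tensorPow (CohB1.tensorMod L (CohB1.tensorPow M d)) N :=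
    (a ≪≫ PicGrp.tensorModIso (Iso.refl _) b).symm
  refine ⟨Φ.hom.app ⊤ σ, hσ.trans ?_⟩
  rw [ProjMor.homOf_app, TMul.genLocus_comp]

end Groth.Agent.Castel
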