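import Groth.Agent.Castel.Local
import Groth.Agent.Castel.Twist
import Groth.Agent.S4466
import Groth.Agent.S10829

/-!
Sections of `O(m)` on the projective line.
-/

set_option autoImplicit false
set_option backward.isDefEq.respectTransparency false
set_option backward.isDefEq.respectTransparency.types false
set_option linter.style.haveILetI false

universe u

open CategoryTheory CategoryTheory.Limits AlgebraicGeometry TopologicalSpace
open Groth.Agent.QC (res resO resO_resO resO_self app_res res_smul res_self res_res)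
open TMul (tm IsGen val homOf val_homOf)

noncomputable section

namespace Groth.Agent.Castel

variable (k : Type u) [Field k]

theorem nonempty_pow_twist : ∀ m : ℕ,
    Nonempty (CohB1.tensorPow (Twist.twistProjSpace 1 k 1) m ≅ Twist.twistProjSpace 1 k (m : ℤ))
  | 0 => by
    obtain ⟨o⟩ := Horrocks.Om_zero (k := k) (d := 1)
    exact ⟨o.symm⟩
  | m + 1 => by
    obtain ⟨e⟩ := nonempty_pow_twist m
    obtain ⟨t⟩ := PtBlow.Line.tensor_twist (k := k) (m : ℤ) 1 ((m + 1 : ℕ) : ℤ) (by push_cast; ring)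
    exact ⟨PicGrp.tensorModIso e (Iso.refl _) ≪≫ t⟩

/-- Two independent sections of `O(m)` without common zero. -/
theorem exists_two_gens_deg {m : ℕ} (hm : 0 < m) :
    ∃ σ : Fin 2 → Γ(Twist.twistProjSpace 1 k (m : ℤ), ⊤),
      (∀ x, x ∈ CohB1.genLocus _ (homOf (σ 0)) ∨ x ∈ CohB1.genLocus _ (homOf (σ 1))) ∧
      ∀ c d : Γ(CohB1.ProjSpace 1 k, ⊤), c • σ 0 + d • σ 1 = 0 → c = 0 ∧ d = 0 := by
  obtain ⟨n, rfl⟩ : ∃ n, m = n + 1 := ⟨m - 1, by omega⟩
  obtain ⟨p, q, hpq, -⟩ := exists_two_gens k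
  obtain ⟨i⟩ := nonempty_pow_twist k (n + 1)
  let T := Twist.twistProjSpace 1 k (((n + 1 : ℕ)) : ℤ)
  have hT : PicF.IsInvertible T := CohFinite.isInvertible_twist 1 k _
  let h : Fin 2 → (Coh.structureModule _ ⟶ T) :=
    ![SecTwist.powHom (homOf p) (n + 1) ≫ i.hom, SecTwist.powHom (homOf q) (n + 1) ≫ i.hom]
  have hcov : ∀ x, x ∈ CohB1.genLocus T (h 0) ∨ x ∈ CohB1.genLocus T (h 1) := fun x => by
    rcases hpq x with hx | hx
    · exact .inl ((TMul.genLocus_comp _ i.hom).ge ((TMul.genLocus_powHom (CohFinite.isInvertible_twist 1 k 1) _ n).ge hx))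
    · exact .inr ((TMul.genLocus_comp _ i.hom).ge ((TMul.genLocus_powHom (CohFinite.isInvertible_twist 1 k 1) _ n).ge hx))
  refine ⟨fun j => val (h j) ⊤, fun x => by simpa only [CohFinite.homOf_val] using hcov x, ?_⟩
  haveI : IsIntegral (CohB1.ProjSpace 1 k) := Horrocks.isIntegral_projSpace
  haveI := ProjMor.isProper_toSpec (n := 1) (R := k)
  have hfield : IsField Γ(CohB1.ProjSpace 1 k, ⊤) :=
    isField_of_universallyClosed (K := k) (CohB1.ProjSpace.toSpec 1 k)
  have key : ∀ (a b : Fin 2) (r : Γ(CohB1.ProjSpace 1 k, ⊤)), (∀ x, x ∈ CohB1.genLocus T (h a) ∨ x ∈ CohB1.genLocus T (h b)) →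
      val (h a) ⊤ ≠ r • val (h b) ⊤ := by
    intro a b r hab heq
    have hall : ∀ x, x ∈ CohB1.genLocus T (h b) := fun x => by
      rcases hab x with hx | hx
      · obtain ⟨D, g, hxD, hg⟩ := TMul.exists_isGen hT x
        obtain ⟨c, hc⟩ := (hg D le_rfl).2 (val (h a) D)
        obtain ⟨c', hc'⟩ := (hg D le_rfl).2 (val (h b) D)
        simp only [res_self] at hc hc'
        have hu := (TMul.mem_genLocus_iff_isUnit (h a) hg hc.symm hxD).1 hx
        refine (TMul.mem_genLocus_iff_isUnit (h b) hg hc'.symm hxD).2 ?_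
        have e1 : c = resO _ le_top r * c' := (hg D le_rfl).1 (by
          simp only [res_self]
          rw [mul_smul, hc, hc', ← TMul.res_val (h a) (le_top : D ≤ ⊤), heq, res_smul, TMul.res_val])
        rw [e1, map_mul] at hu
        exact isUnit_of_mul_isUnit_right hu
      · exact hx
    have hg : IsGen (val (h b) (CohB1.genLocus T (h b))) := TMul.isGen_genLocus (h b)
    obtain ⟨u⟩ := nonempty_iso_of_isGen (hg.res (fun x _ => hall x : (⊤ : (CohB1.ProjSpace 1 k).Opens) ≤ _))
    obtain ⟨v⟩ := Horrocks.Om_zero (k := k) (d := 1)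
    have := PtBlow.Line.eq_of_iso (v ≪≫ u)
    omega
  intro c d hcd
  letI := hfield.toField
  have h1 : c = 0 := by
    by_contra hne
    refine key 0 1 (c⁻¹ * -d) hcov ?_
    rw [mul_smul, neg_smul, ← eq_neg_of_add_eq_zero_left hcd, smul_smul, inv_mul_cancel₀ hne, one_smul]
  subst h1
  rw [zero_smul, zero_add] at hcd
  refine ⟨rfl, ?_⟩
  by_contra hne
  refine key 1 0 0 (fun x => (hcov x).symm) ?_
  rw [zero_smul]
  have := congrArg (fun z => d⁻¹ • z) hcd
  rwa [smul_smul, inv_mul_cancel₀ hne, one_smul, smul_zero] at this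

/-- Global sections of `O(m)`. -/
theorem finrank_sections_twist (m : ℕ) :
    letI : (CohB1.ProjSpace 1 k).Over (Spec (CommRingCat.of k)) := ⟨CohB1.ProjSpace.toSpec 1 k⟩
    letI := CurveRR.secMod k (Twist.twistProjSpace 1 k (m : ℤ)) ⊤
    Module.finrank k Γ(Twist.twistProjSpace 1 k (m : ℤ), ⊤) = m + 1 := by
  letI : (CohB1.ProjSpace 1 k).Over (Spec (CommRingCat.of k)) := ⟨CohB1.ProjSpace.toSpec 1 k⟩
  letI := CurveRR.secMod k (Twist.twistProjSpace 1 k (m : ℤ)) ⊤
  rw [(CurveRR.secH0 (k := k) (Twist.twistProjSpace 1 k (m : ℤ))).finrank_eq]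
  have h := Groth.Agent.S4466.result k 1 one_pos (m : ℤ)
  haveI := subsingleton_h1_twist k (m : ℤ) (by omega)
  rw [Finset.sum_range_succ, Finset.sum_range_one, Ring.choose_one_right,
    Module.finrank_zero_of_subsingleton (M := Coh.HH _ (Twist.twistProjSpace 1 k (m : ℤ)) 1)] at h
  push_cast at h
  have h2 : (Module.finrank k (Coh.HH _ (Twist.twistProjSpace 1 k (m : ℤ)) 0) : ℤ) = (m : ℤ) + 1 := by linarith
  exact_mod_cast h2

end Groth.Agent.Castel
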