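import Groth.Agent.Castel.Gens
import Groth.Agent.Castel.LineDeg
import Mathlib.RingTheory.Ideal.Cotangent

/-!
The cotangent space at the image of a contracted line of conormal degree `m`.
-/

set_option autoImplicit false
set_option backward.isDefEq.respectTransparency false
set_option backward.isDefEq.respectTransparency.types false
set_option linter.style.haveILetI false

universe u

open CategoryTheory CategoryTheory.Limits AlgebraicGeometry TopologicalSpace Opposite
open Groth.Agent.QC (res resO resO_resO resO_self app_res res_smul res_self res_res)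
open TMul (tm IsGen val homOf val_homOf)

noncomputable section

namespace Groth.Agent.Castel

/-- Monomorphisms of modules are injective on sections. -/
theorem app_injective_of_mono {X : Scheme.{u}} {A B : X.Modules} (φ : A ⟶ B) [Mono φ] (W : X.Opens) :
    Function.Injective (φ.app W) := by
  rw [injective_iff_map_eq_zero]
  intro a ha
  obtain ⟨b, hb⟩ := (QC.mem_range_kernel_app φ W a).mpr ha
  rw [← hb, kernel.ι_of_mono φ]
  rfl

/-- The inverse image of sections along an isomorphism is injective. -/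
theorem injective_eta_iso {Z W : Scheme.{u}} (β : Z ⟶ W) [IsIso β] (P : W.Modules) (U : W.Opens) :
    Function.Injective (ProjMor.eta β P U) := by
  haveI : (Scheme.Modules.pullback β).IsEquivalence :=
    (CategoryTheory.Equivalence.mk (Scheme.Modules.pullback β) (Scheme.Modules.pullback (inv β))
      ((Scheme.Modules.pullbackId W).symm ≪≫ Scheme.Modules.pullbackCongr (IsIso.inv_hom_id β).symm ≪≫
        (Scheme.Modules.pullbackComp (inv β) β).symm)
      (Scheme.Modules.pullbackComp β (inv β) ≪≫ Scheme.Modules.pullbackCongr (IsIso.hom_inv_id β) ≪≫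
        Scheme.Modules.pullbackId Z)).isEquivalence_functor
  haveI : IsIso ((Scheme.Modules.pullbackPushforwardAdjunction β).unit.app P) :=
    haveI := (Scheme.Modules.pullbackPushforwardAdjunction β).unit_isIso_of_L_fully_faithful
    inferInstance
  exact (ConcreteCategory.bijective_of_isIso
    (((Scheme.Modules.pullbackPushforwardAdjunction β).unit.app P).app U)).1

/-- The global functions on the line are the constants. -/
theorem bijective_cst_projLine (k : Type u) [Field k] :
    letI : (CohB1.ProjSpace 1 k).Over (Spec (CommRingCat.of k)) := ⟨CohB1.ProjSpace.toSpec 1 k⟩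
    Function.Bijective (CurveRR.cst k (CohB1.ProjSpace 1 k) ⊤) := by
  letI : (CohB1.ProjSpace 1 k).Over (Spec (CommRingCat.of k)) := ⟨CohB1.ProjSpace.toSpec 1 k⟩
  haveI : IsIntegral (CohB1.ProjSpace 1 k) := Horrocks.isIntegral_projSpace
  haveI : Nonempty ((⊤ : (CohB1.ProjSpace 1 k).Opens) : Scheme.{u}) := ⟨⟨genericPoint _, trivial⟩⟩
  haveI : Nontrivial Γ(CohB1.ProjSpace 1 k, ⊤) := inferInstance
  refine ⟨RingHom.injective _, fun x => ?_⟩
  obtain ⟨o⟩ := Horrocks.Om_zero (k := k) (d := 1)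
  letI := CurveRR.secMod k (Coh.structureModule (CohB1.ProjSpace 1 k)) ⊤
  have h1 : Module.finrank k Γ(Coh.structureModule (CohB1.ProjSpace 1 k), ⊤) = 1 := by
    rw [(CurveRR.secH0 (k := k) _).finrank_eq]
    refine (CurveRR.h_eq_of_iso (k := k) o 0).symm.trans ?_
    have h2 := finrank_sections_twist k 0
    letI := CurveRR.secMod k (Twist.twistProjSpace 1 k ((0 : ℕ) : ℤ)) ⊤
    rw [(CurveRR.secH0 (k := k) _).finrank_eq] at h2
    exact h2
  obtain ⟨r, hr⟩ := exists_smul_eq_of_finrank_eq_one h1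
    (show (show Γ(Coh.structureModule (CohB1.ProjSpace 1 k), ⊤) from (1 : Γ(CohB1.ProjSpace 1 k, ⊤))) ≠ 0 from
      fun h => (one_ne_zero : (1 : Γ(CohB1.ProjSpace 1 k, ⊤)) ≠ 0) h)
    (show Γ(Coh.structureModule (CohB1.ProjSpace 1 k), ⊤) from x)
  exact ⟨r, (mul_one (CurveRR.cst k (CohB1.ProjSpace 1 k) ⊤ r)).symm.trans hr⟩

variable {X : Scheme.{u}} {k : Type u} [Field k] {I : X.IdealSheafData}
  {A : Type u} [CommRing A] [IsNoetherianRing A] [IsLocalRing A] [X.Over (Spec (CommRingCat.of A))]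
  [IsProper (X ↘ Spec (CommRingCat.of A))]

/-- The cotangent space of the base is the space of sections of the conormal module of the line. -/
theorem finrank_cotangent (hA : Function.Bijective (Coh.toGlobal (X ↘ Spec (CommRingCat.of A))))
    (hI : BlowUp.IsEffCartierIdeal I)
    (ι₀ : CohB1.ProjSpace 1 k ⟶ X) [IsClosedImmersion ι₀] (hker : ι₀.ker = I) {m : ℕ} (hm : 0 < m)
    (e : (Scheme.Modules.pullback ι₀).obj (ClSub.idealMod I) ≅ Twist.twistProjSpace 1 k (m : ℤ))
    (hfib : ∀ x : X, (X ↘ Spec (CommRingCat.of A)) x = IsLocalRing.closedPoint A → x ∈ I.support)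
    {c : ℕ} (hc : ∀ W : X.affineOpens, I.ideal W ^ c ≤ (IsLocalRing.maximalIdeal A).map (baseFun W.1)) :
    Module.finrank (IsLocalRing.ResidueField A) (IsLocalRing.CotangentSpace A) = m + 1 := by
  haveI : IsLocallyNoetherian X := LocallyOfFiniteType.isLocallyNoetherian (X ↘ Spec (CommRingCat.of A))
  have hvan := fun n => subsingleton_h1_ipow (A := A) hI ι₀ hker (Int.natCast_nonneg m) e hc n
  set f := X ↘ Spec (CommRingCat.of A) with hf
  obtain ⟨φ, hφ⟩ : ∃ φ : A →+* Γ(X, ⊤), φ = Coh.toGlobal f := ⟨_, rfl⟩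
  rw [← hφ] at hA
  subst hker
  set s := ι₀.ker.subschemeι with hs
  let G := ClSub.idealMod ι₀.ker
  haveI : IsIso ι₀.toImage := inferInstance
  set β := inv ι₀.toImage with hβ
  have hfac : β ≫ ι₀ = s := (IsIso.inv_comp_eq _).2 ι₀.toImage_imageι.symm
  let T := Twist.twistProjSpace 1 k (m : ℤ)
  let e' : (Scheme.Modules.pullback s).obj G ≅ (Scheme.Modules.pullback β).obj T :=
    (Scheme.Modules.pullbackCongr hfac.symm).app _ ≪≫
      ((Scheme.Modules.pullbackComp β ι₀).app _).symm ≪≫ (Scheme.Modules.pullback β).mapIso e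
  let θ := SymAlg.pullθ β e'
  obtain ⟨σ, hσgen, hσind⟩ := exists_two_gens_deg k hm
  obtain ⟨l, hl, hlgen⟩ := exists_sections hI (hvan 2) e' σ hσgen
  choose a ha using fun i => hA.2 ((ClSub.idealModι ι₀.ker).app ⊤ (l i))
  have hcov := genOpen_sup_eq_top hI hfib l (fun i => φ (a i)) ha hlgen
  -- the residue field
  haveI : IsIntegral (CohB1.ProjSpace 1 k) := Horrocks.isIntegral_projSpace
  haveI := ProjMor.isProper_toSpec (n := 1) (R := k)
  have hfield : IsField Γ(CohB1.ProjSpace 1 k, ⊤) :=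
    isField_of_universallyClosed (K := k) (CohB1.ProjSpace.toSpec 1 k)
  have hβtop : Function.Bijective (β.app ⊤) := ConcreteCategory.bijective_of_isIso _
  obtain ⟨βe, hβe⟩ : ∃ βe : Γ(CohB1.ProjSpace 1 k, ⊤) ≃+* Γ(ι₀.ker.subscheme, ⊤), ∀ x, βe x = β.app ⊤ x :=
    ⟨RingEquiv.ofBijective (β.app ⊤).hom hβtop, fun _ => rfl⟩
  have hsurj := surjective_of_h1_ideal ι₀.ker (hvan 1)
  let ρ : A →+* Γ(CohB1.ProjSpace 1 k, ⊤) := βe.symm.toRingHom.comp ((s.app ⊤).hom.comp φ)
  have hρ : Function.Surjective ρ := βe.symm.surjective.comp (hsurj.comp hA.2)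
  have hkerρ : RingHom.ker ρ = IsLocalRing.maximalIdeal A := by
    letI := hfield.toField
    exact IsLocalRing.eq_maximalIdeal (RingHom.ker_isMaximal_of_surjective ρ hρ)
  have hρs : ∀ t, s.app ⊤ (φ t) = β.app ⊤ (ρ t) := fun t => by
    rw [← hβe]
    exact (βe.apply_symm_apply _).symm
  have hmem : ∀ t, t ∈ IsLocalRing.maximalIdeal A ↔ s.app ⊤ (φ t) = 0 := fun t => by
    rw [← hkerρ, RingHom.mem_ker, hρs]
    exact ⟨fun h => by rw [h, map_zero], fun h => hβtop.1 (h.trans (map_zero _).symm)⟩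
  -- functions in the ideal
  let ι' : Γ(G, ⊤) →+ Γ(X, ⊤) :=
    { toFun := fun L => (ClSub.idealModι ι₀.ker).app ⊤ L, map_zero' := map_zero _, map_add' := map_add _ }
  have hι'mem : ∀ L, s.app ⊤ (ι' L) = 0 := fun L =>
    ConcreteCategory.congr_hom (congrArg (fun ψ => Scheme.Modules.Hom.app ψ ⊤)
      (kernel.condition (ClSub.toSubscheme ι₀.ker))) L
  let φe := RingEquiv.ofBijective φ hA
  have hmemι : ∀ L, φe.symm (ι' L) ∈ IsLocalRing.maximalIdeal A := fun L => by
    rw [hmem, show φ (φe.symm (ι' L)) = ι' L from φe.apply_symm_apply _]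
    exact hι'mem L
  have hlift : ∀ t ∈ IsLocalRing.maximalIdeal A, ∃ L, ι' L = φ t := fun t ht =>
    SiteCoh.sections_exact (CohFinite.shortExact_toAb (CurveRR.ideal_shortExact ι₀.ker)) ⊤ (φ t)
      (show s.app ⊤ (φ t) = 0 from (hmem t).1 ht)
  have hι'inj : Function.Injective ι' := by
    intro x y hxy
    haveI : Mono (ClSub.idealModι ι₀.ker) := (CurveRR.ideal_shortExact ι₀.ker).mono_f
    exact app_injective_of_mono (ClSub.idealModι ι₀.ker) ⊤ hxy
  have hι'smul : ∀ (r : A) L, ι' ((show Γ(X, ⊤) from φ r) • L) = φ r * ι' L := fun r L =>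
    Scheme.Modules.Hom.app_smul (ClSub.idealModι ι₀.ker) _ _
  let Ψ : Γ(G, ⊤) →+ IsLocalRing.CotangentSpace A :=
    { toFun := fun L => (IsLocalRing.maximalIdeal A).toCotangent ⟨φe.symm (ι' L), hmemι L⟩
      map_zero' := by
        rw [← map_zero (IsLocalRing.maximalIdeal A).toCotangent]
        congr 1
        exact Subtype.ext (by simp)
      map_add' := fun x y => by
        rw [← map_add]
        congr 1
        exact Subtype.ext (by simp) }
  have hΨsurj : Function.Surjective Ψ := fun z => by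
    obtain ⟨⟨t, ht⟩, rfl⟩ := Ideal.toCotangent_surjective _ z
    obtain ⟨L, hL⟩ := hlift t ht
    refine ⟨L, congrArg (IsLocalRing.maximalIdeal A).toCotangent (Subtype.ext ?_)⟩
    exact ((congrArg φe.symm hL).trans (φe.symm_apply_apply t) : φe.symm (ι' L) = t)
  have hθinj : Function.Injective (θ.app ⊤) := fun x y h => by
    refine injective_eta_iso β T ⊤ ?_
    exact (ConcreteCategory.bijective_of_isIso (e'.inv.app (β ⁻¹ᵁ ⊤))).1 h
  have hθsurj : Function.Surjective (θ.app ⊤) := fun w => by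
    obtain ⟨u, hu⟩ := (ConcreteCategory.bijective_of_isIso (e'.inv.app (β ⁻¹ᵁ ⊤))).2 w
    obtain ⟨t, ht⟩ := surjective_eta_iso β T ⊤ u
    exact ⟨t, (congrArg (e'.inv.app _) ht).trans hu⟩
  choose Φ₀ hΦ using fun L : Γ(G, ⊤) => hθsurj (ProjMor.eta s G ⊤ L)
  let Φ : Γ(G, ⊤) →+ Γ(T, ⊤) :=
    { toFun := Φ₀
      map_zero' := hθinj (by rw [hΦ, map_zero, map_zero])
      map_add' := fun x y => hθinj (by rw [map_add (θ.app ⊤).hom, hΦ, hΦ, hΦ, map_add]) }
  replace hΦ : ∀ L, θ.app ⊤ (Φ L) = ProjMor.eta s G ⊤ L := hΦ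
  have hΦsurj : Function.Surjective Φ := fun w => by
    obtain ⟨L, hL⟩ := surjective_eta_ideal hI (hvan 2) (θ.app ⊤ w)
    exact ⟨L, hθinj ((hΦ L).trans hL)⟩
  have hΦsmul : ∀ (r : A) L, Φ ((show Γ(X, ⊤) from φ r) • L) =
      (show Γ(CohB1.ProjSpace 1 k, ⊤) from ρ r) • Φ L := fun r L => by
    refine hθinj ?_
    rw [hΦ, ProjMor.eta_smul, ← hΦ]
    erw [hρs r]
    exact (Scheme.Modules.Hom.app_smul θ (show Γ(CohB1.ProjSpace 1 k, ⊤) from ρ r) (Φ L)).symm
  have hΨsmul : ∀ (r : A) L, Ψ ((show Γ(X, ⊤) from φ r) • L) = r • Ψ L := fun r L => by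
    change (IsLocalRing.maximalIdeal A).toCotangent _ = r • (IsLocalRing.maximalIdeal A).toCotangent _
    rw [← map_smul]
    congr 1
    refine Subtype.ext (φe.injective ?_)
    rw [φe.apply_symm_apply, hι'smul]
    change φ r * ι' L = φ (r * φe.symm (ι' L))
    rw [map_mul, show φ (φe.symm (ι' L)) = ι' L from φe.apply_symm_apply _]
  -- the two kernels agree
  have hker : ∀ L, Ψ L = 0 ↔ Φ L = 0 := by
    intro L
    refine ⟨fun h => ?_, fun h => ?_⟩
    · have hsq : φe.symm (ι' L) ∈ IsLocalRing.maximalIdeal A ^ 2 :=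
        (IsLocalRing.maximalIdeal A).toCotangent_eq_zero _ |>.1 h
      have key : ∀ t ∈ IsLocalRing.maximalIdeal A * IsLocalRing.maximalIdeal A,
          ∃ L', ι' L' = φ t ∧ Φ L' = 0 := by
        intro t ht
        induction ht using Submodule.mul_induction_on' with
        | mem_mul_mem x hx y hy =>
          obtain ⟨L', hL'⟩ := hlift y hy
          refine ⟨(show Γ(X, ⊤) from φ x) • L', by rw [hι'smul, hL', map_mul], ?_⟩
          rw [hΦsmul, show ρ x = 0 by rw [← hkerρ] at hx; exact RingHom.mem_ker.1 hx]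
          exact zero_smul _ _
        | add x hx y hy hx' hy' =>
          obtain ⟨L₁, h₁, h₁'⟩ := hx'
          obtain ⟨L₂, h₂, h₂'⟩ := hy'
          exact ⟨L₁ + L₂, by rw [map_add, h₁, h₂, map_add], by rw [map_add, h₁', h₂', add_zero]⟩
      obtain ⟨L', hL', hL''⟩ := key _ (by rw [← pow_two]; exact hsq)
      rw [show φ (φe.symm (ι' L)) = ι' L from φe.apply_symm_apply _] at hL'
      rwa [hι'inj hL'] at hL''
    · have h0 : ProjMor.eta s G ⊤ L = 0 := by rw [← hΦ, h, map_zero]
      have hsq := mem_sq_of_eta_eq_zero hI L h0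
      have h1 : Subsingleton (CohSite.HU (Coh.toAb (Coh.structureModule X)) 1 (⊤ : X.Opens)) :=
        (SiteCoh.huTerminalEquiv (Opens.grothendieckTopology X) isTerminalTop
          (Coh.toAb (Coh.structureModule X)) 1).symm.toEquiv.subsingleton_congr.2 (hvan 0)
      obtain ⟨p, q, hpq⟩ := Ideal.mem_span_pair.1 (mem_span_pair ι₀.ker hI (φ (a 0)) (φ (a 1)) _ hcov hsq h1)
      obtain ⟨p', rfl⟩ := hA.2 p
      obtain ⟨q', rfl⟩ := hA.2 q
      have hL : (show Γ(X, ⊤) from φ p') • l 0 + (show Γ(X, ⊤) from φ q') • l 1 = L := by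
        refine hι'inj ?_
        rw [map_add, hι'smul, hι'smul, show ι' (l 0) = φ (a 0) from (ha 0).symm,
          show ι' (l 1) = φ (a 1) from (ha 1).symm]
        exact hpq
      have hΦl : ∀ i, Φ (l i) = σ i := fun i => hθinj ((hΦ _).trans (hl i))
      rw [← hL, map_add, hΦsmul, hΦsmul, hΦl, hΦl] at h
      obtain ⟨hp, hq⟩ := hσind _ _ h
      have hp' : p' ∈ IsLocalRing.maximalIdeal A := hkerρ ▸ RingHom.mem_ker.2 hp
      have hq' : q' ∈ IsLocalRing.maximalIdeal A := hkerρ ▸ RingHom.mem_ker.2 hq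
      refine (IsLocalRing.maximalIdeal A).toCotangent_eq_zero _ |>.2 ?_
      change φe.symm (ι' L) ∈ IsLocalRing.maximalIdeal A ^ 2
      rw [show φe.symm (ι' L) = p' * a 0 + q' * a 1 by
        refine φe.injective ?_
        rw [φe.apply_symm_apply]
        change ι' L = φ (p' * a 0 + q' * a 1)
        rw [map_add, map_mul, map_mul]
        exact hpq.symm, pow_two]
      refine add_mem (Ideal.mul_mem_mul hp' ?_) (Ideal.mul_mem_mul hq' ?_) <;>
        exact (hmem _).2 ((congrArg (s.app ⊤) (ha _)).trans (hι'mem _))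
  choose sec hsec using hΦsurj
  let j : Γ(T, ⊤) ≃+ IsLocalRing.CotangentSpace A := AddEquiv.ofBijective
    ({ toFun := fun w => Ψ (sec w)
       map_zero' := (hker _).2 (hsec 0)
       map_add' := fun x y => by
        rw [← map_add, ← sub_eq_zero, ← map_sub, hker, map_sub, map_add, hsec, hsec, hsec, sub_self] } :
      Γ(T, ⊤) →+ IsLocalRing.CotangentSpace A)
    ⟨fun x y h => by
      have h' : Ψ (sec x - sec y) = 0 := by rw [map_sub]; exact sub_eq_zero.2 h
      rw [hker, map_sub, hsec, hsec, sub_eq_zero] at h'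
      exact h', fun z => by
      obtain ⟨L, rfl⟩ := hΨsurj z
      refine ⟨Φ L, ?_⟩
      change Ψ (sec (Φ L)) = Ψ L
      rw [← sub_eq_zero, ← map_sub, hker, map_sub, hsec, sub_self]⟩
  letI : (CohB1.ProjSpace 1 k).Over (Spec (CommRingCat.of k)) := ⟨CohB1.ProjSpace.toSpec 1 k⟩
  letI := CurveRR.secMod k T ⊤
  let κ := CurveRR.cst k (CohB1.ProjSpace 1 k) ⊤
  have hres : ∀ t t', ρ t = ρ t' → IsLocalRing.residue A t = IsLocalRing.residue A t' := fun t t' h => by
    refine sub_eq_zero.1 ?_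
    rw [← map_sub, IsLocalRing.residue_eq_zero_iff, ← hkerρ, RingHom.mem_ker, map_sub, h, sub_self]
  choose lift hlift' using fun r => hρ (κ r)
  have hκ : Function.Bijective κ := bijective_cst_projLine k
  let i : k → IsLocalRing.ResidueField A := fun r => IsLocalRing.residue A (lift r)
  have hi : Function.Bijective i := by
    refine ⟨fun r r' h => hκ.1 ?_, fun z => ?_⟩
    · have h' : lift r - lift r' ∈ IsLocalRing.maximalIdeal A := by
        rw [← IsLocalRing.residue_eq_zero_iff, map_sub]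
        exact sub_eq_zero.2 h
      rw [← hkerρ, RingHom.mem_ker, map_sub, hlift', hlift', sub_eq_zero] at h'
      exact h'
    · obtain ⟨t, rfl⟩ := IsLocalRing.residue_surjective z
      obtain ⟨r, hr⟩ := hκ.2 (ρ t)
      exact ⟨r, hres _ _ ((hlift' r).trans hr)⟩
  have hrank := rank_eq_of_equiv_equiv i j hi fun r w => by
    change Ψ (sec (κ r • w)) = i r • Ψ (sec w)
    rw [show i r • Ψ (sec w) = lift r • Ψ (sec w) from rfl, ← hΨsmul, ← sub_eq_zero, ← map_sub, hker, map_sub, hsec,
      hΦsmul, hsec, hlift', sub_self]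
  rw [Module.finrank, ← hrank]
  exact finrank_sections_twist k m

end Groth.Agent.Castel
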