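import Groth.Agent.Castel.Vert
import Groth.Agent.Castel.Cotangent
import Groth.Agent.SpCartier.AffineCompl
import Groth.Prelude.Def_ModelsG

/-!
Numerical invariants of a vertical projective line.
-/

set_option autoImplicit false
set_option backward.isDefEq.respectTransparency false
set_option backward.isDefEq.respectTransparency.types false
set_option linter.style.haveILetI false

universe u

open CategoryTheory CategoryTheory.Limits AlgebraicGeometry TopologicalSpace Opposite

noncomputable section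

namespace Groth.Agent.Castel

/-- Reduced closed subschemes with the same points are isomorphic. -/
theorem exists_iso_of_range {C D X : Scheme.{u}} [IsReduced C] [IsReduced D] (i : C ⟶ X) (j : D ⟶ X)
    [IsClosedImmersion i] [IsClosedImmersion j] (h : Set.range i = Set.range j) :
    i.ker = j.ker ∧ ∃ e : C ≅ D, e.hom ≫ j = i := by
  have hk : i.ker = j.ker := by
    rw [SpCartier.ker_eq_vanishingIdeal i, SpCartier.ker_eq_vanishingIdeal j]
    congr 1
    refine SetLike.coe_injective ?_
    rw [Scheme.Hom.support_ker, Scheme.Hom.support_ker, h]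
  refine ⟨hk, ⟨IsClosedImmersion.lift j i hk.ge, IsClosedImmersion.lift i j hk.le, ?_, ?_⟩,
    IsClosedImmersion.lift_fac _ _ _⟩
  · rw [← cancel_mono i, Category.assoc, IsClosedImmersion.lift_fac, IsClosedImmersion.lift_fac, Category.id_comp]
  · rw [← cancel_mono j, Category.assoc, IsClosedImmersion.lift_fac, IsClosedImmersion.lift_fac, Category.id_comp]

/-- A structure map of the line over a field factors through the constants. -/
theorem exists_factor_projLine {κ k : Type u} [Field κ] [Field k]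
    (q : CohB1.ProjSpace 1 k ⟶ Spec (CommRingCat.of κ)) :
    ∃ φ : κ →+* k, CohB1.ProjSpace.toSpec 1 k ≫ Spec.map (CommRingCat.ofHom φ) = q := by
  letI : (CohB1.ProjSpace 1 k).Over (Spec (CommRingCat.of k)) := ⟨CohB1.ProjSpace.toSpec 1 k⟩
  obtain ⟨ce, hce⟩ : ∃ ce : k ≃+* Γ(CohB1.ProjSpace 1 k, ⊤),
      ∀ r, ce r = CurveRR.cst k (CohB1.ProjSpace 1 k) ⊤ r :=
    ⟨RingEquiv.ofBijective _ (bijective_cst_projLine k), fun _ => rfl⟩
  obtain ⟨ψ, hψ⟩ : ∃ ψ : κ →+* Γ(CohB1.ProjSpace 1 k, ⊤),
      ψ = ((Scheme.ΓSpecIso (CommRingCat.of κ)).inv ≫ q.appTop).hom := ⟨_, rfl⟩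
  refine ⟨ce.symm.toRingHom.comp ψ, ext_to_Spec ?_⟩
  ext r
  show (CohB1.ProjSpace.toSpec 1 k ≫ Spec.map (CommRingCat.ofHom (ce.symm.toRingHom.comp ψ))).appTop
      ((Scheme.ΓSpecIso (CommRingCat.of κ)).inv r) = q.appTop ((Scheme.ΓSpecIso (CommRingCat.of κ)).inv r)
  rw [Scheme.Hom.comp_appTop]
  have h1 := ConcreteCategory.congr_hom
    (Scheme.ΓSpecIso_inv_naturality (CommRingCat.ofHom (ce.symm.toRingHom.comp ψ))) r
  have h2 : CurveRR.cst k (CohB1.ProjSpace 1 k) ⊤ (ce.symm (ψ r)) = ψ r := by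
    rw [← hce]
    exact ce.apply_symm_apply _
  refine Eq.trans ?_ (h2.trans (by rw [hψ]; rfl))
  refine (congrArg (fun z => (CohB1.ProjSpace.toSpec 1 k).appTop z) h1.symm).trans ?_
  show _ = QC.resO _ (le_refl _) _
  rw [QC.resO_self]
  rfl

/-- Dimensions over a subfield. -/
theorem finrank_hh_tower {k k' : Type u} [Field k] [Field k'] [Algebra k k'] {Y : Scheme.{u}}
    (q' : Y ⟶ Spec (CommRingCat.of k')) (q : Y ⟶ Spec (CommRingCat.of k))
    (hq : q' ≫ Spec.map (CommRingCat.ofHom (algebraMap k k')) = q) (F : Y.Modules) (i : ℕ) :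
    letI : Y.Over (Spec (CommRingCat.of k)) := ⟨q⟩
    Module.finrank k (Coh.HH Y F i) =
      letI : Y.Over (Spec (CommRingCat.of k')) := ⟨q'⟩
      Module.finrank k k' * Module.finrank k' (Coh.HH Y F i) := by
  letI : Y.Over (Spec (CommRingCat.of k)) := ⟨q⟩
  letI : Y.Over (Spec (CommRingCat.of k')) := ⟨q'⟩
  haveI : IsScalarTower k k' (Coh.HH Y F i) := by
    refine IsScalarTower.of_algebraMap_smul fun r x => ?_
    have h : Coh.toGlobal (Y ↘ Spec (CommRingCat.of k')) (algebraMap k k' r) =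
        Coh.toGlobal (Y ↘ Spec (CommRingCat.of k)) r := by
      have hn := ConcreteCategory.congr_hom
        (Scheme.ΓSpecIso_inv_naturality (CommRingCat.ofHom (algebraMap k k'))) r
      show q'.appTop ((Scheme.ΓSpecIso _).inv (algebraMap k k' r)) = q.appTop ((Scheme.ΓSpecIso _).inv r)
      rw [← hq, Scheme.Hom.comp_appTop]
      exact congrArg (fun z => q'.appTop z) hn
    show (Coh.toGlobal (Y ↘ Spec (CommRingCat.of k')) (algebraMap k k' r) : Coh.Γtop Y) • x =
      (Coh.toGlobal (Y ↘ Spec (CommRingCat.of k)) r : Coh.Γtop Y) • x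
    rw [h]
  exact (Module.finrank_mul_finrank k k' (Coh.HH Y F i)).symm

/-- Dimensions of cohomology do not change under an isomorphism of curves. -/
theorem finrank_hh_iso {k : Type u} [Field k] {C P : Scheme.{u}} (q : C ⟶ Spec (CommRingCat.of k))
    (e : P ≅ C) {F : C.Modules} (hF : PicF.IsInvertible F) (i : ℕ) :
    letI : P.Over (Spec (CommRingCat.of k)) := ⟨e.hom ≫ q⟩
    letI : C.Over (Spec (CommRingCat.of k)) := ⟨q⟩
    Module.finrank k (Coh.HH C F i) = Module.finrank k (Coh.HH P ((Scheme.Modules.pullback e.hom).obj F) i) := by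
  letI : P.Over (Spec (CommRingCat.of k)) := ⟨e.hom ≫ q⟩
  letI : C.Over (Spec (CommRingCat.of k)) := ⟨q⟩
  obtain ⟨a⟩ := nonempty_push_pullback e.hom (fun V => ConcreteCategory.bijective_of_isIso _) hF
  have hG : PicF.IsInvertible ((Scheme.Modules.pullback e.hom).obj F) := PicLoc.isInvertible_pullback e.hom hF
  haveI := TMul.isQCoh_of_isInvertible hG
  obtain ⟨b⟩ := CohFinite.hh_push_linear (A := k) e.hom rfl ((Scheme.Modules.pullback e.hom).obj F)
    (CohQC.directAcyclic_of_isAffineHom e.hom _) i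
  rw [b.finrank_eq]
  exact CurveRR.h_eq_of_iso (k := k) a i

variable {R : Type u} [CommRing R] [IsDomain R] [IsDiscreteValuationRing R] {X : Over (Spec (CommRingCat.of R))}

/-- Invariants of a vertical line with conormal degree `m`. -/
theorem vert_line_numbers (E : ArSurf.VertComp R X) {k : Type u} [Field k] (e : CohB1.ProjSpace 1 k ≅ E.curve.left)
    {L : X.left.Modules} (hLi : PicF.IsInvertible L) (hL : ClSub.IsInverseOf L (ClSub.idealMod E.ι.ker)) {m : ℤ}
    (c : (Scheme.Modules.pullback (e.hom ≫ E.ι)).obj (ClSub.idealMod E.ι.ker) ≅ Twist.twistProjSpace 1 k m) :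
    Models.h1 R X E = 0 ∧ ArSurf.inter R X L E = -(m * (Models.wdeg R X E : ℤ)) := by
  obtain ⟨φ, hφ⟩ := exists_factor_projLine (e.hom ≫ E.curve.hom)
  letI := φ.toAlgebra
  obtain ⟨em⟩ := nonempty_pullback_inverse (I := E.ι.ker) (e.hom ≫ E.ι) hL hLi c
  have hd : topologicalKrullDim (CohB1.ProjSpace 1 k) ≤ 1 := (Groth.Agent.S10829.result k 1).le
  haveI : IsProper (CohB1.ProjSpace 1 k ↘ Spec (CommRingCat.of k)) := ProjMor.isProper_toSpec 1 k
  obtain ⟨o⟩ := Horrocks.Om_zero (k := k) (d := 1)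
  have hOi : PicF.IsInvertible (Coh.structureModule E.curve.left) := TMul.isInvertible_structureModule
  have key : ∀ (F : E.curve.left.Modules), PicF.IsInvertible F → ∀ G : (CohB1.ProjSpace 1 k).Modules,
      ((Scheme.Modules.pullback e.hom).obj F ≅ G) → ∀ i,
      Module.finrank (IsLocalRing.ResidueField R) (Coh.HH E.curve.left F i) =
        Module.finrank (IsLocalRing.ResidueField R) k * CurveRR.h k G i := fun F hF G j i =>
    (finrank_hh_iso E.curve.hom e hF i).trans ((finrank_hh_tower (CohB1.ProjSpace.toSpec 1 k) _ hφ _ i).trans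
      (congrArg (_ * ·) (CurveRR.h_eq_of_iso (k := k) j i)))
  have hO0 : CurveRR.h k (Twist.twistProjSpace 1 k 0) 1 = 0 := CurveRR.h_eq_zero (subsingleton_h1_twist k 0 (by omega))
  have e0 := euler_twist_line k 0
  have e1 := euler_twist_line k (-m)
  rw [CurveRR.euler_eq hd] at e0 e1
  have j0 := DerPerf.pullUnitIso e.hom ≪≫ o.symm
  have h1 : Models.h1 R X E = 0 := by
    rw [Models.h1, key _ hOi _ j0 1, hO0, mul_zero]
  refine ⟨h1, ?_⟩
  have hw : Models.wdeg R X E = Module.finrank (IsLocalRing.ResidueField R) k := by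
    rw [Models.wdeg, key _ hOi _ j0 0]
    have : CurveRR.h k (Twist.twistProjSpace 1 k 0) 0 = 1 := by omega
    rw [this, mul_one]
  have hLp := key _ (PicLoc.isInvertible_pullback E.ι hLi) _ ((Scheme.Modules.pullbackComp e.hom E.ι).app L ≪≫ em)
  rw [ArSurf.inter, ArSurf.curveDeg, FGA.eulerCharLE, FGA.eulerCharLE, Finset.sum_range_succ, Finset.sum_range_one,
    Finset.sum_range_succ, Finset.sum_range_one, hLp 0, hLp 1, key _ hOi _ j0 0, key _ hOi _ j0 1, hw]
  push_cast
  linear_combination (Module.finrank (IsLocalRing.ResidueField R) k : ℤ) * e1 -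
    (Module.finrank (IsLocalRing.ResidueField R) k : ℤ) * e0

end Groth.Agent.Castel
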