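import Groth.Agent.CurveRR.Cartier
import Groth.Agent.CurveRR.GlobGen
import Groth.Agent.PtBlow.Negativity
import Groth.Agent.Castel.VertLine
import Groth.Agent.Castel.Ample
import Groth.Agent.Castel.ArithY
import Groth.Agent.Castel.Vert
import Groth.Agent.DualGeneric.SubK
import Groth.Prelude.Def_ModelsG

/-!
Intersection numbers with vertical prime divisors as lengths.
-/

set_option autoImplicit false
set_option backward.isDefEq.respectTransparency false
set_option backward.isDefEq.respectTransparency.types false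
set_option linter.style.haveILetI false

universe u

open CategoryTheory CategoryTheory.Limits AlgebraicGeometry TopologicalSpace Opposite

noncomputable section

namespace Groth.Agent.Castel

/-- Direct image of the structure sheaf along an isomorphism. -/
theorem nonempty_push_structure {A B : Scheme.{u}} (e : A ⟶ B) [IsIso e] :
    Nonempty ((Scheme.Modules.pushforward e).obj (Coh.structureModule A) ≅ Coh.structureModule B) := by
  haveI : IsIso (ClSub.unitToPush e) := by
    rw [Scheme.Modules.Hom.isIso_iff_isIso_app]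
    intro W
    rw [ConcreteCategory.isIso_iff_bijective]
    exact ConcreteCategory.bijective_of_isIso (e.app W)
  exact ⟨(asIso (ClSub.unitToPush e)).symm⟩

/-- The scheme-theoretic intersection with a closed subscheme, seen on it. -/
theorem nonempty_quotMod_sup {Γ X : Scheme.{u}} (ι : Γ ⟶ X) [IsClosedImmersion ι] (D : X.IdealSheafData) :
    Nonempty ((Scheme.Modules.pushforward ι).obj (ClSub.quotMod (D.comap ι)) ≅ ClSub.quotMod (D ⊔ ι.ker)) := by
  set J := D ⊔ ι.ker with hJ
  set D' := D.comap ι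
  let g := IsClosedImmersion.lift ι J.subschemeι (by rw [J.ker_subschemeι]; exact le_sup_right)
  have hg : g ≫ ι = J.subschemeι := IsClosedImmersion.lift_fac _ _ _
  have hker : (D'.subschemeι ≫ ι).ker = J.subschemeι.ker := by
    rw [J.ker_subschemeι, Scheme.Hom.ker_comp, D'.ker_subschemeι]
    refine le_antisymm ?_ (sup_le ((Scheme.IdealSheafData.map_gc ι).le_u_l D) ?_)
    · have h2 : g.ker.map ι = J := by rw [← Scheme.Hom.ker_comp, hg, J.ker_subschemeι]
      refine (Scheme.IdealSheafData.map_mono ι ?_).trans h2.le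
      exact Scheme.IdealSheafData.le_map_iff_comap_le.1 (h2.symm ▸ le_sup_left)
    · exact (Scheme.Hom.le_ker_comp D'.subschemeι ι).trans_eq (by rw [Scheme.Hom.ker_comp, D'.ker_subschemeι])
  let e := IsClosedImmersion.lift J.subschemeι (D'.subschemeι ≫ ι) hker.ge
  have he : e ≫ J.subschemeι = D'.subschemeι ≫ ι := IsClosedImmersion.lift_fac _ _ _
  haveI : IsIso e := IsClosedImmersion.isIso_of_ker_eq (D'.subschemeι ≫ ι) J.subschemeι e he hker
  obtain ⟨u⟩ := nonempty_push_structure e
  exact ⟨(Scheme.Modules.pushforwardComp D'.subschemeι ι).app _ ≪≫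
    (Scheme.Modules.pushforwardCongr he.symm).app _ ≪≫
    ((Scheme.Modules.pushforwardComp e J.subschemeι).app _).symm ≪≫ (Scheme.Modules.pushforward J.subschemeι).mapIso u⟩

variable {R : Type u} [CommRing R] [IsDomain R] [IsDiscreteValuationRing R] {X : Over (Spec (CommRingCat.of R))}

/-- A vertical prime divisor of a proper scheme is proper over the residue field. -/
theorem isProper_curve [IsProper X.hom] (Γ : ArSurf.VertComp R X) : IsProper Γ.curve.hom := by
  haveI : IsClosedImmersion (Spec.map (CommRingCat.ofHom (IsLocalRing.residue R))) :=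
    IsClosedImmersion.spec_of_surjective _ IsLocalRing.residue_surjective
  have h : IsProper (Γ.curve.hom ≫ Spec.map (CommRingCat.ofHom (IsLocalRing.residue R))) := by
    rw [← Γ.w]; infer_instance
  exact IsProper.of_comp _ (Spec.map (CommRingCat.ofHom (IsLocalRing.residue R)))

theorem isProper_hom_of_isArithSurface (hX : ArSurf.IsArithSurface R X) : IsProper X.hom :=
  Groth.Agent.PtBlow.isProper_of_isProjectiveOver hX.2.2.2.2

theorem isEffCartierIdeal_of_fga {Y : Scheme.{u}} {I : Y.IdealSheafData} (h : FGA.IsEffCartier I) :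
    BlowUp.IsEffCartierIdeal I := h

/-- `D · Γ = h⁰(D|_Γ)`. -/
theorem inter_eq_h0 [IsProper X.hom] (Γ : ArSurf.VertComp R X) {D : X.left.IdealSheafData}
    (hD : BlowUp.IsEffCartierIdeal D) (hΓ : Γ.ι (genericPoint Γ.curve.left) ∉ (D.support : Set X.left))
    {L : X.left.Modules} (hL : ClSub.IsInverseOf L (ClSub.idealMod D)) :
    BlowUp.IsEffCartierIdeal (D.comap Γ.ι) ∧
    ArSurf.inter R X L Γ = CurveRR.h (IsLocalRing.ResidueField R) (ClSub.quotMod (D.comap Γ.ι)) 0 := by
  let k := IsLocalRing.ResidueField R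
  haveI : IsProper (Γ.curve.left ↘ Spec (CommRingCat.of k)) := isProper_curve Γ
  have hdim : topologicalKrullDim Γ.curve.left ≤ 1 := Γ.dim_eq.le
  have hD' := PtBlow.cartier_comap_generic Γ.ι hD hΓ
  have hLi := isInvertible_of_isInverseOf ((Groth.Agent.S8914.result _).2 hD) hL
  have hL'i := PicLoc.isInvertible_pullback Γ.ι hLi
  obtain ⟨q⟩ := hL
  obtain ⟨p⟩ := TMul.nonempty_pullTensorIso Γ.ι L (ClSub.idealMod D)
  obtain ⟨n⟩ := Nakai.nonempty_pullback_idealMod Γ.ι hD hD'
  have hq : CohB1.tensorMod (ClSub.idealMod (D.comap Γ.ι)) ((Scheme.Modules.pullback Γ.ι).obj L) ≅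
      Coh.structureModule Γ.curve.left :=
    TMul.commIso _ _ ≪≫ PicGrp.tensorModIso (Iso.refl _) n.symm ≪≫ p ≪≫
      (Scheme.Modules.pullback Γ.ι).mapIso q ≪≫ PicLoc.pullbackStructureIso Γ.ι
  have h1 := CurveRR.euler_ideal_tensor (k := k) hL'i (D.comap Γ.ι) (CurveRR.cartier_dim_le_zero hdim hD')
  rw [CurveRR.euler_eq_of_iso (k := k) hq, CurveRR.euler_eq hdim, CurveRR.euler_eq hdim] at h1
  refine ⟨hD', ?_⟩
  simp only [ArSurf.inter, ArSurf.curveDeg, FGA.eulerCharLE, Finset.sum_range_succ, Finset.sum_range_zero,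
    zero_add, pow_zero, one_mul, pow_one]
  simp only [CurveRR.h] at h1 ⊢
  linarith

/-- `D · Γ` is the length of the scheme-theoretic intersection. -/
theorem lengthH_quotMod_sup [IsProper X.hom] (Γ : ArSurf.VertComp R X) (D : X.left.IdealSheafData) :
    Models.lengthH R X (ClSub.quotMod (D ⊔ Γ.ι.ker)) 0 =
      CurveRR.h (IsLocalRing.ResidueField R) (ClSub.quotMod (D.comap Γ.ι)) 0 := by
  let k := IsLocalRing.ResidueField R
  haveI : IsProper (Γ.curve.left ↘ Spec (CommRingCat.of k)) := isProper_curve Γ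
  haveI : IsLocallyNoetherian Γ.curve.left := LocallyOfFiniteType.isLocallyNoetherian (Γ.curve.left ↘ Spec (CommRingCat.of k))
  let q : Γ.curve.left ⟶ Spec (CommRingCat.of R) := Γ.curve.hom ≫ Spec.map (CommRingCat.ofHom (IsLocalRing.residue R))
  let Q := ClSub.quotMod (D.comap Γ.ι)
  obtain ⟨e⟩ := nonempty_quotMod_sup Γ.ι D
  haveI : Coh.IsQCoh Q := (CurveRR.isCoh_idealMod (D.comap Γ.ι)).2.1
  letI : Γ.curve.left.Over (Spec (CommRingCat.of R)) := ⟨q⟩
  obtain ⟨b⟩ := CohFinite.hh_push_linear (A := R) Γ.ι Γ.w Q (CohQC.directAcyclic_of_isAffineHom Γ.ι _) 0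
  haveI : IsScalarTower R k (Coh.HH Γ.curve.left Q 0) := by
    refine IsScalarTower.of_algebraMap_smul fun r x => ?_
    have h : Coh.toGlobal (Γ.curve.left ↘ Spec (CommRingCat.of k)) (IsLocalRing.residue R r) =
        Coh.toGlobal (Γ.curve.left ↘ Spec (CommRingCat.of R)) r := by
      have hn := ConcreteCategory.congr_hom
        (Scheme.ΓSpecIso_inv_naturality (CommRingCat.ofHom (IsLocalRing.residue R))) r
      show Γ.curve.hom.appTop ((Scheme.ΓSpecIso _).inv (IsLocalRing.residue R r)) = q.appTop ((Scheme.ΓSpecIso _).inv r)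
      rw [Scheme.Hom.comp_appTop]
      exact congrArg (fun z => Γ.curve.hom.appTop z) hn
    show (Coh.toGlobal (Γ.curve.left ↘ Spec (CommRingCat.of k)) (IsLocalRing.residue R r) : Coh.Γtop Γ.curve.left) • x =
      (Coh.toGlobal (Γ.curve.left ↘ Spec (CommRingCat.of R)) r : Coh.Γtop Γ.curve.left) • x
    rw [h]
  have hlen : Module.length R (Coh.HH X.left (ClSub.quotMod (D ⊔ Γ.ι.ker)) 0) = Module.length R (Coh.HH Γ.curve.left Q 0) := by
    rw [b.length_eq]
    exact (CohFinite.hhEquiv (A := R) e 0).symm.length_eq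
  haveI : Module.Finite k (Coh.HH Γ.curve.left Q 0) :=
    CohFinite.finite_proper (A := k) Γ.curve.left Q (CurveRR.isCoh_idealMod (D.comap Γ.ι)).2 0
  rw [Models.lengthH, hlen, Module.length_eq_of_surjective (R := k) IsLocalRing.residue_surjective,
    Module.length_eq_finrank]
  rfl

/-- Vertical prime divisors of a regular surface are Cartier. -/
theorem isEffCartierIdeal_ker (hX : ArSurf.IsArithSurface R X) (E : ArSurf.VertComp R X) :
    BlowUp.IsEffCartierIdeal E.ι.ker := by
  obtain ⟨hXr, hXi, hXd, -, hXp⟩ := hX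
  haveI := hXi
  haveI := PtBlow.isProper_of_isProjectiveOver (Z := X) hXp
  haveI : IsLocallyNoetherian X.left := LocallyOfFiniteType.isLocallyNoetherian X.hom
  haveI : CompactSpace X.left := QuasiCompact.compactSpace_of_compactSpace X.hom
  haveI : IsNoetherian X.left := {}
  let i := E.ι
  haveI : IsIso i.toImage := inferInstance
  haveI : Nonempty i.ker.subscheme := ⟨i.toImage (genericPoint E.curve.left)⟩
  haveI : IsIntegral i.ker.subscheme := isIntegral_of_isOpenImmersion (inv i.toImage)
  refine Groth.Agent.S1684.result X.left i.ker (ringKrullDim_stalk_curve hXd ?_) fun x _ => ?_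
  · have hr : Set.range i.ker.subschemeι = Set.range i := by
      rw [Scheme.IdealSheafData.range_subschemeι, Scheme.Hom.support_ker]
      exact i.isClosedEmbedding.isClosed_range.closure_eq
    have h1 : closure ({i.ker.subschemeι (genericPoint i.ker.subscheme)} : Set X.left) = Set.range i := by
      rw [← hr, ← Intersect.image_closure i.ker.subschemeι, genericPoint_closure]
      exact Set.image_univ
    rw [h1, ← i.isClosedEmbedding.isEmbedding.toHomeomorph.isHomeomorph.topologicalKrullDim_eq, E.dim_eq]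
    rfl
  · haveI := hXr x
    exact Groth.Agent.S2821.result _

/-- The generic point of a vertical prime divisor lies on no other one. -/
theorem genPt_notMem {Γ₁ Γ₂ : ArSurf.VertComp R X} (hne : Set.range Γ₁.ι ≠ Set.range Γ₂.ι) :
    Γ₁.ι (genericPoint Γ₁.curve.left) ∉ (Γ₂.ι.ker.support : Set X.left) := by
  rw [Scheme.Hom.support_ker, Γ₂.ι.isClosedEmbedding.isClosed_range.closure_eq]
  rintro ⟨z, hz⟩
  have hcl : ∀ p, Γ₂.ι z ⤳ Γ₁.ι p := fun p => hz ▸ (genericPoint_specializes p).map Γ₁.ι.continuous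
  by_cases hzg : z = genericPoint Γ₂.curve.left
  · refine hne (subset_antisymm ?_ ?_)
    · rintro _ ⟨p, rfl⟩
      exact (hcl p).mem_closed Γ₂.ι.isClosedEmbedding.isClosed_range ⟨z, rfl⟩
    · rintro _ ⟨w, rfl⟩
      exact ((genericPoint_specializes w).map Γ₂.ι.continuous).mem_closed Γ₁.ι.isClosedEmbedding.isClosed_range
        ⟨_, (hzg ▸ hz).symm⟩
  · haveI : Subsingleton Γ₁.curve.left := ⟨fun p p' => by
      have h : ∀ q, Γ₁.ι q = Γ₂.ι z := fun q => by
        obtain ⟨w, hw⟩ := (hcl q).mem_closed Γ₂.ι.isClosedEmbedding.isClosed_range ⟨z, rfl⟩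
        by_contra hwz
        have h1 : z ⤳ w := Γ₂.ι.isEmbedding.isInducing.specializes_iff.1 (hw ▸ hcl q)
        have hwne : z ≠ w := fun e => hwz (by rw [← hw, e])
        have h2 := Unibranch.natCast_le_topologicalKrullDim (α := Γ₂.curve.left) (k := 2)
          ![genericPoint Γ₂.curve.left, z, w] (Fin.forall_fin_two.2
            ⟨⟨genericPoint_specializes _, fun e => hzg e.symm⟩, ⟨h1, hwne⟩⟩)
        rw [Γ₂.dim_eq] at h2
        exact absurd h2 (by decide)
      exact Γ₁.ι.isClosedEmbedding.injective ((h p).trans (h p').symm)⟩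
    have h0 : topologicalKrullDim Γ₁.curve.left ≤ ((0 : ℕ) : WithBot ℕ∞) :=
      Groth.Agent.Unibranch.topologicalKrullDim_le_natCast fun l c hc => by
        rcases l with _ | l
        · exact le_rfl
        · exact absurd (Subsingleton.elim _ _) (hc 0).2
    rw [Γ₁.dim_eq] at h0
    exact absurd h0 (by decide)

/-- `D · Γ` is nonnegative and vanishes exactly when `D` misses `Γ`. -/
theorem inter_nonneg [IsProper X.hom] (Γ : ArSurf.VertComp R X) {D : X.left.IdealSheafData}
    (hD : BlowUp.IsEffCartierIdeal D) (hΓ : Γ.ι (genericPoint Γ.curve.left) ∉ (D.support : Set X.left))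
    {L : X.left.Modules} (hL : ClSub.IsInverseOf L (ClSub.idealMod D)) :
    0 ≤ ArSurf.inter R X L Γ ∧ (ArSurf.inter R X L Γ = 0 ↔ Disjoint (Set.range Γ.ι) (D.support : Set X.left)) := by
  let k := IsLocalRing.ResidueField R
  haveI : IsProper (Γ.curve.left ↘ Spec (CommRingCat.of k)) := isProper_curve Γ
  obtain ⟨-, h⟩ := inter_eq_h0 Γ hD hΓ hL
  have hs : ∀ z, z ∈ ((D.comap Γ.ι).support : Set Γ.curve.left) ↔ Γ.ι z ∈ (D.support : Set X.left) := fun z => by
    rw [Scheme.IdealSheafData.support_comap]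
    rfl
  rw [h]
  refine ⟨Nat.cast_nonneg _, fun h0 => ?_, fun hd => ?_⟩
  · rw [Set.disjoint_left]
    rintro _ ⟨z, rfl⟩ hz
    have := CurveRR.h0_quotMod_pos (k := k) (D.comap Γ.ι) ⟨z, (hs z).2 hz⟩
    exact absurd (show CurveRR.h (IsLocalRing.ResidueField R) (ClSub.quotMod (D.comap Γ.ι)) 0 = 0 from (by exact_mod_cast h0)) this.ne'
  · haveI : IsEmpty (D.comap Γ.ι).subscheme := ⟨fun w => Set.disjoint_left.1 hd ⟨_, rfl⟩
      ((hs _).1 ((D.comap Γ.ι).range_subschemeι.subset ⟨w, rfl⟩))⟩
    rw [DualGeneric.Sub.h0_quotMod_eq, Nat.cast_eq_zero]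
    letI := DualGeneric.Sub.algI k (D.comap Γ.ι)
    exact Module.finrank_zero_of_subsingleton

end Groth.Agent.Castel
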