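import Groth.Agent.Castel.Vert
import Groth.Agent.Castel.VertLine
import Groth.Agent.Castel.Inter
import Groth.Agent.DualGeneric.GenusZero

/-!
Exceptional curves are detected by their numbers.
-/

set_option autoImplicit false
set_option backward.isDefEq.respectTransparency false
set_option backward.isDefEq.respectTransparency.types false
set_option linter.style.haveILetI false

universe u

open CategoryTheory CategoryTheory.Limits AlgebraicGeometry TopologicalSpace Opposite

noncomputable section

namespace Groth.Agent.Castel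

/-- The dimension of the ring of global functions is `h⁰(O)`. -/
theorem finrank_gammaTop (k : Type u) [Field k] {X : Scheme.{u}} [X.Over (Spec (CommRingCat.of k))]
    [IsProper (X ↘ Spec (CommRingCat.of k))] :
    letI : Algebra k (Coh.Γtop X) := RingHom.toAlgebra' (Coh.toGlobal (X ↘ Spec (CommRingCat.of k))) (fun c x =>
      mul_comm (G := Γ(X, ⊤)) _ _)
    Module.finrank k (Coh.Γtop X) = CurveRR.h k (Coh.structureModule X) 0 := by
  letI secM := CurveRR.secMod k (Coh.structureModule X) ⊤
  letI : Algebra k (Coh.Γtop X) := RingHom.toAlgebra' (Coh.toGlobal (X ↘ Spec (CommRingCat.of k))) (fun c x =>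
    mul_comm (G := Γ(X, ⊤)) _ _)
  rw [← CurveRR.finrank_sec]
  let e : Γ(Coh.structureModule X, ⊤) →ₗ[k] Coh.Γtop X :=
    { toFun := fun a => a
      map_add' := fun _ _ => rfl
      map_smul' := fun a b => by
        show HMul.hMul (α := Γ(X, ⊤)) (β := Γ(X, ⊤)) (CurveRR.cst k X ⊤ a) b =
          HMul.hMul (α := Γ(X, ⊤)) (β := Γ(X, ⊤)) (Coh.toGlobal (X ↘ Spec (CommRingCat.of k)) a) b
        rw [show CurveRR.cst k X ⊤ a = Coh.toGlobal (X ↘ Spec (CommRingCat.of k)) a from Groth.Agent.QC.resO_self _ _] }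
  exact (LinearEquiv.ofBijective e Function.bijective_id).finrank_eq.symm

variable {R : Type u} [CommRing R] [IsDomain R] [IsDiscreteValuationRing R] {X : Over (Spec (CommRingCat.of R))}

/-- Genus zero and self-intersection minus the degree of the constants: an exceptional curve. -/
theorem isExcCurve_of_numbers (hX : ArSurf.IsArithSurface R X) (E : ArSurf.VertComp R X) {L : X.left.Modules}
    (hL : ClSub.IsInverseOf L (ClSub.idealMod E.ι.ker)) (h1 : Models.h1 R X E = 0)
    (hself : ArSurf.inter R X L E = -(Models.wdeg R X E : ℤ)) : Models.IsExcCurve E.ι := by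
  haveI := isProper_hom_of_isArithSurface hX
  let k := IsLocalRing.ResidueField R
  haveI : IsProper (E.curve.left ↘ Spec (CommRingCat.of k)) := isProper_curve E
  have hK : IsField Γ(E.curve.left, ⊤) := DualGeneric.isField_gamma k
  letI : Field Γ(E.curve.left, ⊤) := hK.toField
  let φ : k →+* Γ(E.curve.left, ⊤) := Coh.toGlobal E.curve.hom
  letI : Algebra k Γ(E.curve.left, ⊤) := φ.toAlgebra
  let q' : E.curve.left ⟶ Spec (CommRingCat.of Γ(E.curve.left, ⊤)) := E.curve.left.toSpecΓ
  have hq : q' ≫ Spec.map (CommRingCat.ofHom (algebraMap k Γ(E.curve.left, ⊤))) = E.curve.hom := by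
    show E.curve.left.toSpecΓ ≫ Spec.map ((Scheme.ΓSpecIso (CommRingCat.of k)).inv ≫ E.curve.hom.appTop) = _
    rw [Spec.map_comp, ← Scheme.toSpecΓ_naturality_assoc, ← SpecMap_ΓSpecIso_hom, ← Spec.map_comp,
      Iso.inv_hom_id, Spec.map_id, Category.comp_id]
  have hdim : topologicalKrullDim E.curve.left = 1 := E.dim_eq
  have hfin : Module.finrank k Γ(E.curve.left, ⊤) = Models.wdeg R X E := by
    refine Eq.trans ?_ (finrank_gammaTop k)
    congr 1
  have hwpos : 0 < Models.wdeg R X E := Nakai.h0_one_pos (k := k) (X := E.curve.left)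
  haveI : FiniteDimensional k Γ(E.curve.left, ⊤) := Module.finite_of_finrank_pos (hfin ▸ hwpos)
  letI : E.curve.left.Over (Spec (CommRingCat.of Γ(E.curve.left, ⊤))) := ⟨q'⟩
  haveI : IsProper (E.curve.left ↘ Spec (CommRingCat.of Γ(E.curve.left, ⊤))) := by
    show IsProper q'
    haveI : IsProper (q' ≫ Spec.map (CommRingCat.ofHom (algebraMap k Γ(E.curve.left, ⊤)))) := by
      rw [hq]; exact isProper_curve E
    exact IsProper.of_comp q' (Spec.map (CommRingCat.ofHom (algebraMap k Γ(E.curve.left, ⊤))))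
  have hg : Curv2.genus Γ(E.curve.left, ⊤) E.curve.left = 0 := by
    have h := finrank_hh_tower q' E.curve.hom hq (Coh.structureModule E.curve.left) 1
    have h' : Models.h1 R X E = Module.finrank k Γ(E.curve.left, ⊤) *
        Curv2.genus Γ(E.curve.left, ⊤) E.curve.left := h
    rw [h1, hfin] at h'
    exact (mul_eq_zero.1 h'.symm).resolve_left hwpos.ne'
  have hI := isEffCartierIdeal_ker hX E
  have hIi : PicF.IsInvertible (ClSub.idealMod E.ι.ker) := (Groth.Agent.S8914.result _).2 hI
  have hLi := isInvertible_of_isInverseOf hIi hL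
  have hLE := PicLoc.isInvertible_pullback E.ι hLi
  have hME := PicLoc.isInvertible_pullback E.ι hIi
  have hLdeg : Curv2.deg Γ(E.curve.left, ⊤) E.curve.left ((Scheme.Modules.pullback E.ι).obj L) 1 = -1 := by
    have h2 : ∀ F : E.curve.left.Modules, FGA.eulerCharLE k E.curve.left F 1 =
        (Module.finrank k Γ(E.curve.left, ⊤) : ℤ) * Curv2.euler Γ(E.curve.left, ⊤) E.curve.left F := fun F => by
      refine (eulerCharLE_tower q' E.curve.hom hq F 1).trans ?_
      congr 1
      rw [CurveRR.euler_eq hdim.le, FGA.eulerCharLE, Finset.sum_range_succ, Finset.sum_range_one]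
      simp only [CurveRR.h]
      ring
    rw [ArSurf.inter, ArSurf.curveDeg, h2, h2, ← hfin] at hself
    have hpos : (0 : ℤ) < Module.finrank k Γ(E.curve.left, ⊤) := by rw [hfin]; exact_mod_cast hwpos
    simp only [Curv2.deg, Nat.cast_one, one_mul]
    nlinarith
  have hMdeg : Curv2.deg Γ(E.curve.left, ⊤) E.curve.left
      ((Scheme.Modules.pullback E.ι).obj (ClSub.idealMod E.ι.ker)) 1 = 1 := by
    obtain ⟨w⟩ := hL
    obtain ⟨p⟩ := TMul.nonempty_pullTensorIso E.ι L (ClSub.idealMod E.ι.ker)
    have h := CurveRR.Multi.deg_tensor Γ(E.curve.left, ⊤) hdim.le 1 1 _ _ (CurveRR.isFinLocFreeOfRank_one hLE)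
      (CurveRR.isFinLocFreeOfRank_one hME)
    rw [Nat.mul_one, Nat.cast_one, one_mul, one_mul, hLdeg] at h
    have h0 : Curv2.deg Γ(E.curve.left, ⊤) E.curve.left (CohB1.tensorMod ((Scheme.Modules.pullback E.ι).obj L)
        ((Scheme.Modules.pullback E.ι).obj (ClSub.idealMod E.ι.ker))) 1 = 0 := by
      rw [Curv2.deg, CurveRR.euler_eq_of_iso (k := Γ(E.curve.left, ⊤))
        (p ≪≫ (Scheme.Modules.pullback E.ι).mapIso w ≪≫ PicLoc.pullbackStructureIso E.ι)]
      simp
    linarith
  obtain ⟨e, he⟩ := DualGeneric.exists_iso_of_deg_one Γ(E.curve.left, ⊤) hdim hg hME hMdeg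
  have he' : e.hom ≫ (CohB1.ProjSpace 1 Γ(E.curve.left, ⊤) ↘ Spec (CommRingCat.of Γ(E.curve.left, ⊤))) ≫
      Spec.map (CommRingCat.ofHom (algebraMap k Γ(E.curve.left, ⊤))) = E.curve.hom :=
    (Category.assoc _ _ _).symm.trans ((congrArg (· ≫ _) he).trans hq)
  obtain ⟨hI', -, hc⟩ := vert_conormal hX E e he' L hL (d := 1) (by rw [hself, one_mul, hfin])
  exact ⟨hI', Γ(E.curve.left, ⊤), inferInstance, e.symm, hc⟩

end Groth.Agent.Castel
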