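import Groth.Agent.Castel.ModelAmple
import Groth.Agent.Castel.ArithY

/-!
A regular proper model of a curve over a discrete valuation ring is an arithmetic surface.
-/

set_option autoImplicit false
set_option backward.isDefEq.respectTransparency false
set_option backward.isDefEq.respectTransparency.types false
set_option linter.style.haveILetI false

universe u

open CategoryTheory CategoryTheory.Limits AlgebraicGeometry TopologicalSpace Topology

noncomputable section

namespace Groth.Agent.Castel

variable {R : Type u} [CommRing R] [IsDomain R] [IsDiscreteValuationRing R]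

/-- A regular proper model is a projective arithmetic surface. -/
theorem isArithSurface_of_regularProper {C X : Scheme.{u}} {f : C ⟶ Spec (CommRingCat.of (FractionRing R))}
    {p : X ⟶ Spec (CommRingCat.of R)} (hC : Curve.IsSmoothProperCurve (FractionRing R) C f)
    (hX : Models.IsRegularProperModel R X p C f) : ArSurf.IsArithSurface R (Over.mk p) := by
  obtain ⟨hint, hdim⟩ := surface_of_regularProper hC hX
  obtain ⟨⟨hfl, -, -, g, hg⟩, hp, hreg⟩ := hX
  obtain ⟨hCp, -, hCi, hCd⟩ := hC
  haveI := hint; haveI := hfl; haveI := hp; haveI := hCi; haveI := hCp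
  obtain ⟨L, hL⟩ := exists_ample_model p hreg hdim
  refine ⟨hreg, hint, le_antisymm hdim ?_, hfl, isProjectiveOver_of_ample p hL⟩
  show (2 : WithBot ℕ∞) ≤ topologicalKrullDim X
  haveI : IsPreimmersion (Neron.genPt R) := IsPreimmersion.of_isLocalization (nonZeroDivisors R)
  haveI : IsPreimmersion g := MorphismProperty.of_isPullback (P := @IsPreimmersion) hg.flip inferInstance
  obtain ⟨c, hc⟩ : ∃ c : C, c ≠ genericPoint C := by
    by_contra! hall
    haveI : Subsingleton C := ⟨fun a b => (hall a).trans (hall b).symm⟩
    have h0 : topologicalKrullDim C ≤ ((0 : ℕ) : WithBot ℕ∞) :=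
      Unibranch.topologicalKrullDim_le_natCast fun l d hd => by
        rcases l with _ | l
        · exact le_rfl
        · exact absurd (Subsingleton.elim _ _) (hd 0).2
    rw [hCd] at h0
    exact absurd h0 (by decide)
  have hpc : (p (g c)).asIdeal = ⊥ := by
    have h1 : p (g c) ∈ Set.range (Neron.genPt R) := by
      rw [← Scheme.Hom.comp_apply, hg.w, Scheme.Hom.comp_apply]
      exact Set.mem_range_self _
    rw [RelMinSmooth.range_genPt] at h1
    exact congrArg PrimeSpectrum.asIdeal h1
  obtain ⟨w, hw, hne⟩ : ∃ w, g c ⤳ w ∧ g c ≠ w := by
    by_contra! h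
    refine base_ne_bot_of_closed (IsDiscreteValuationRing.not_isField R) p
      (closure_subset_iff_isClosed.1 fun z hz => (h z (specializes_iff_mem_closure.2 hz)).symm) hpc
  have hgen : g (genericPoint C) = genericPoint X :=
    ((genericPoint_of_flat p g hg _).antisymm (genericPoint_specializes _)).eq
  have h2 := Unibranch.natCast_le_topologicalKrullDim (α := X) (k := 2) ![genericPoint X, g c, w] (fun i => by
    fin_cases i
    · exact ⟨genericPoint_specializes _, fun e => hc (g.isEmbedding.injective (e.symm.trans hgen.symm))⟩
    · exact ⟨hw, hne⟩)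
  exact h2

end Groth.Agent.Castel
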