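import Groth.Agent.Castel.DivEuler
import Groth.Agent.Castel.ExcNumbers
import Groth.Agent.Castel.ProperArith
import Groth.Agent.BettiNN.Basic
import Groth.Agent.BlowExc.Smooth
import Groth.Agent.W7Cech.FlatBCSep
import Groth.Agent.SchDense.Unit
import Groth.Prelude.Def_PerfAux

/-!
The Euler characteristic of the closed fibre of a model is that of the generic fibre.
-/

set_option autoImplicit false
set_option backward.isDefEq.respectTransparency false
set_option backward.isDefEq.respectTransparency.types false
set_option linter.style.haveILetI false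

universe u

open CategoryTheory CategoryTheory.Limits AlgebraicGeometry TopologicalSpace Opposite

noncomputable section

namespace Groth.Agent.Castel

/-- The Euler characteristic of a fibre, computed over a smaller field. -/
theorem eulerChar_of_sq {k : Type u} [Field k] {Y : Scheme.{u}} [Y.Over (Spec (CommRingCat.of k))]
    [IsProper (Y ↘ Spec (CommRingCat.of k))] {X S : Scheme.{u}} (f : X ⟶ S) (s : S)
    (α : CommRingCat.of k ⟶ S.residueField s) (γ : f.fiber s ⟶ Y)
    (sq : IsPullback γ (f.fiberToSpecResidueField s) (Y ↘ Spec (CommRingCat.of k)) (Spec.map α)) :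
    PerfAux.eulerChar f (Coh.structureModule X) s = Curv2.euler k Y (Coh.structureModule Y) := by
  let κ := S.residueField s
  letI : (f.fiber s).Over (Spec (CommRingCat.of ↥κ)) := ⟨f.fiberToSpecResidueField s⟩
  letI : Algebra k κ := α.hom.toAlgebra
  haveI : CompactSpace Y := QuasiCompact.compactSpace_of_compactSpace (Y ↘ Spec (CommRingCat.of k))
  haveI : Y.IsSeparated := by
    constructor
    rw [← terminal.comp_from (Y ↘ Spec (CommRingCat.of k))]
    infer_instance
  refine finsum_congr fun i => ?_
  congr 2
  obtain ⟨e⟩ := W7Cech.nonempty_hh_flatBC k κ γ sq (Coh.structureModule Y) (Groth.Agent.QC.isQCoh_unit _) i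
  let j : (Scheme.Modules.pullback γ).obj (Coh.structureModule Y) ≅
      (Scheme.Modules.pullback (f.fiberι s)).obj (Coh.structureModule X) :=
    PicLoc.pullbackStructureIso γ ≪≫ (PicLoc.pullbackStructureIso (f.fiberι s)).symm
  refine (((CohFinite.hhEquiv κ j i).symm.trans e.symm).finrank_eq).trans ?_
  rw [Module.finrank_baseChange]

variable {R : Type u} [CommRing R] [IsDomain R] [IsDiscreteValuationRing R]

/-- The kernel of `R → κ(s)`. -/
theorem ker_preimage_fromSpec (s : Spec (CommRingCat.of R)) :
    RingHom.ker (Spec.preimage ((Spec (CommRingCat.of R)).fromSpecResidueField s)).hom = s.asIdeal := by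
  let ψ := Spec.preimage ((Spec (CommRingCat.of R)).fromSpecResidueField s)
  let z : Spec ((Spec (CommRingCat.of R)).residueField s) :=
    (⟨⊥, Ideal.isPrime_bot⟩ : PrimeSpectrum ((Spec (CommRingCat.of R)).residueField s))
  have h1 : (Spec.map ψ) z = s := by
    rw [Spec.map_preimage]
    exact Scheme.fromSpecResidueField_apply _ z
  refine Eq.trans ?_ (congrArg PrimeSpectrum.asIdeal h1)
  exact RingHom.ker_eq_comap_bot _

/-- The ideal of the closed fibre is that of its inclusion. -/
theorem ker_fst_residue (X : Over (Spec (CommRingCat.of R))) :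
    (pullback.fst X.hom (Spec.map (CommRingCat.ofHom (IsLocalRing.residue R)))).ker = fibreIdeal X := by
  haveI : IsClosedImmersion (Spec.map (CommRingCat.ofHom (IsLocalRing.residue R))) :=
    IsClosedImmersion.spec_of_surjective _ IsLocalRing.residue_surjective
  rw [Scheme.IdealSheafData.ker_fst_of_isClosedImmersion, fibreIdeal]
  congr 1
  change (Spec.map (CommRingCat.ofHom (Ideal.Quotient.mk (IsLocalRing.maximalIdeal R)))).ker = _
  rw [BlowExc.ker_specMap_mk]
  refine Scheme.IdealSheafData.ext_of_isAffine ?_
  rw [BlowExc.sheafOf_ideal, Scheme.IdealSheafData.ofIdealTop_ideal]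
  simp only [homOfLE_refl, op_id, CategoryTheory.Functor.map_id, CommRingCat.hom_id, Ideal.map_id]

/-- Lengths of cohomology pushed forward from a scheme over the residue field. -/
theorem lengthH_push {X : Over (Spec (CommRingCat.of R))} [IsProper X.hom] {Y : Scheme.{u}} (ι : Y ⟶ X.left)
    [IsClosedImmersion ι] (g : Y ⟶ Spec (CommRingCat.of (IsLocalRing.ResidueField R)))
    (hw : ι ≫ X.hom = g ≫ Spec.map (CommRingCat.ofHom (IsLocalRing.residue R))) (Q : Y.Modules) (hQ : Coh.IsCoh Q)
    (i : ℕ) :
    letI : Y.Over (Spec (CommRingCat.of (IsLocalRing.ResidueField R))) := ⟨g⟩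
    Models.lengthH R X ((Scheme.Modules.pushforward ι).obj Q) i = CurveRR.h (IsLocalRing.ResidueField R) Q i := by
  let k := IsLocalRing.ResidueField R
  letI : Y.Over (Spec (CommRingCat.of k)) := ⟨g⟩
  haveI : IsClosedImmersion (Spec.map (CommRingCat.ofHom (IsLocalRing.residue R))) :=
    IsClosedImmersion.spec_of_surjective _ IsLocalRing.residue_surjective
  haveI : IsProper (Y ↘ Spec (CommRingCat.of k)) := by
    haveI : IsProper (g ≫ Spec.map (CommRingCat.ofHom (IsLocalRing.residue R))) := by rw [← hw]; infer_instance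
    exact IsProper.of_comp g (Spec.map (CommRingCat.ofHom (IsLocalRing.residue R)))
  let q : Y ⟶ Spec (CommRingCat.of R) := g ≫ Spec.map (CommRingCat.ofHom (IsLocalRing.residue R))
  haveI : Coh.IsQCoh Q := hQ.1
  letI : Y.Over (Spec (CommRingCat.of R)) := ⟨q⟩
  obtain ⟨b⟩ := CohFinite.hh_push_linear (A := R) ι hw Q (CohQC.directAcyclic_of_isAffineHom ι _) i
  haveI : IsScalarTower R k (Coh.HH Y Q i) := by
    refine IsScalarTower.of_algebraMap_smul fun r x => ?_
    have h : Coh.toGlobal (Y ↘ Spec (CommRingCat.of k)) (IsLocalRing.residue R r) =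
        Coh.toGlobal (Y ↘ Spec (CommRingCat.of R)) r := by
      have hn := ConcreteCategory.congr_hom
        (Scheme.ΓSpecIso_inv_naturality (CommRingCat.ofHom (IsLocalRing.residue R))) r
      show g.appTop ((Scheme.ΓSpecIso _).inv (IsLocalRing.residue R r)) = q.appTop ((Scheme.ΓSpecIso _).inv r)
      rw [Scheme.Hom.comp_appTop]
      exact congrArg (fun z => g.appTop z) hn
    show (Coh.toGlobal (Y ↘ Spec (CommRingCat.of k)) (IsLocalRing.residue R r) : Coh.Γtop Y) • x =
      (Coh.toGlobal (Y ↘ Spec (CommRingCat.of R)) r : Coh.Γtop Y) • x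
    rw [h]
  haveI : Module.Finite k (Coh.HH Y Q i) := CohFinite.finite_proper (A := k) Y Q hQ i
  rw [Models.lengthH, ← b.length_eq, Module.length_eq_of_surjective (R := k) IsLocalRing.residue_surjective,
    Module.length_eq_finrank]
  rfl

/-- `χ(X_k) = χ(C)`, by lengths. -/
theorem chiL_fibre {C X : Scheme.{u}} {f : C ⟶ Spec (CommRingCat.of (FractionRing R))}
    {p : X ⟶ Spec (CommRingCat.of R)} (hC : Curve.IsSmoothProperCurve (FractionRing R) C f)
    (hX : Models.IsRegularProperModel R X p C f) :
    chiL R (Over.mk p) (ClSub.quotMod (fibreIdeal (Over.mk p))) =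
      (Models.hRank (FractionRing R) C f (Coh.structureModule C) 0 : ℤ) -
        Models.curveGenus (FractionRing R) C f := by
  obtain ⟨hint, hdimX⟩ := surface_of_regularProper hC hX
  haveI := hint
  obtain ⟨hfC, -, hCi, hCd⟩ := hC
  obtain ⟨⟨hfl, hlft, -, g, hg⟩, hp, -⟩ := hX
  haveI := hfl; haveI := hp; haveI := hlft; haveI := hCi; haveI := hfC
  haveI : IsProper (Over.mk p).hom := hp
  haveI : Coh.IsQCoh (Coh.structureModule X) := Groth.Agent.QC.isQCoh_unit _
  haveI : IsLocallyNoetherian X := LocallyOfFiniteType.isLocallyNoetherian p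
  let K := FractionRing R
  let k := IsLocalRing.ResidueField R
  let S := Spec (CommRingCat.of R)
  let η : S := (⟨⊥, Ideal.isPrime_bot⟩ : PrimeSpectrum R)
  let s : S := IsLocalRing.closedPoint R
  -- the generic fibre
  letI : C.Over (Spec (CommRingCat.of K)) := ⟨f⟩
  haveI : IsProper (C ↘ Spec (CommRingCat.of K)) := hfC
  let ψη := Spec.preimage (S.fromSpecResidueField η)
  have hinj : Function.Injective ψη.hom := by
    rw [RingHom.injective_iff_ker_eq_bot]
    exact ker_preimage_fromSpec η
  let α : CommRingCat.of K ⟶ S.residueField η := CommRingCat.ofHom (IsFractionRing.lift hinj)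
  have hα : Spec.map α ≫ Spec.map (CommRingCat.ofHom (algebraMap R K)) = S.fromSpecResidueField η := by
    rw [← Spec.map_comp, ← Spec.map_preimage (S.fromSpecResidueField η)]
    congr 1
    refine CommRingCat.hom_ext (RingHom.ext fun r => ?_)
    exact IsFractionRing.lift_algebraMap hinj r
  have hbigη : IsPullback (p.fiberι η) (p.fiberToSpecResidueField η) p
      (Spec.map α ≫ Spec.map (CommRingCat.ofHom (algebraMap R K))) := by
    rw [hα]; exact IsPullback.of_hasPullback _ _
  let γη : p.fiber η ⟶ C := hg.lift (p.fiberι η) (p.fiberToSpecResidueField η ≫ Spec.map α)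
    (by rw [Category.assoc]; exact hbigη.w)
  have sqη : IsPullback γη (p.fiberToSpecResidueField η) f (Spec.map α) :=
    IsPullback.of_right (by rw [hg.lift_fst]; exact hbigη) (hg.lift_snd _ _ _) hg
  have eη := eulerChar_of_sq (Y := C) p η α γη sqη
  -- the closed fibre
  let res := Spec.map (CommRingCat.ofHom (IsLocalRing.residue R))
  haveI : IsClosedImmersion res := IsClosedImmersion.spec_of_surjective _ IsLocalRing.residue_surjective
  let Y := pullback p res
  letI : Y.Over (Spec (CommRingCat.of k)) := ⟨pullback.snd p res⟩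
  haveI : IsProper (Y ↘ Spec (CommRingCat.of k)) := inferInstanceAs (IsProper (pullback.snd p res))
  let ψs := Spec.preimage (S.fromSpecResidueField s)
  let β : CommRingCat.of k ⟶ S.residueField s := CommRingCat.ofHom
    (Ideal.Quotient.lift (IsLocalRing.maximalIdeal R) ψs.hom fun r hr => by
      have h := ker_preimage_fromSpec s
      exact RingHom.mem_ker.1 (h.symm ▸ hr))
  have hβ : Spec.map β ≫ res = S.fromSpecResidueField s := by
    rw [← Spec.map_comp, ← Spec.map_preimage (S.fromSpecResidueField s)]
    rfl
  have hbigs : IsPullback (p.fiberι s) (p.fiberToSpecResidueField s) p (Spec.map β ≫ res) := by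
    rw [hβ]; exact IsPullback.of_hasPullback _ _
  have hgs := IsPullback.of_hasPullback p res
  let γs : p.fiber s ⟶ Y := hgs.lift (p.fiberι s) (p.fiberToSpecResidueField s ≫ Spec.map β)
    (by rw [Category.assoc]; exact hbigs.w)
  have sqs : IsPullback γs (p.fiberToSpecResidueField s) (pullback.snd p res) (Spec.map β) :=
    IsPullback.of_right (by rw [hgs.lift_fst]; exact hbigs) (hgs.lift_snd _ _ _) hgs
  have es := eulerChar_of_sq (Y := Y) p s β γs sqs
  -- constancy
  haveI : LocallyOfFinitePresentation p := inferInstance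
  have hlc := Groth.Agent.BettiNN.isLocallyConstant_eulerChar p (F := Coh.structureModule X)
    (Groth.Agent.QC.isFP_of_isQCoh_of_isFT RefStalk.isCoh_structureModule.2)
    (SchDense.isFlatOver_unit p)
  haveI : PreconnectedSpace S := inferInstanceAs (PreconnectedSpace (PrimeSpectrum R))
  have heq := hlc.apply_eq_of_preconnectedSpace η s
  simp only [eη, es] at heq
  rw [CurveRR.euler_eq (k := K) hCd.le] at heq
  -- the closed fibre inside `X`
  have hgen : p (genericPoint X) = η := by
    haveI : Nonempty C := ⟨genericPoint C⟩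
    have h1 : p (g (genericPoint C)) = η := by
      refine PrimeSpectrum.ext ?_
      rw [← Scheme.Hom.comp_apply, hg.w, Scheme.Hom.comp_apply]
      show Ideal.comap _ _ = ⊥
      rw [(Ideal.eq_bot_of_prime (f (genericPoint C)).asIdeal :)]
      exact Ideal.comap_bot_of_injective _ (IsFractionRing.injective R K)
    have h2 : p (genericPoint X) ⤳ η := h1 ▸ (genericPoint_specializes _).map p.continuous
    exact ((PrimeSpectrum.le_iff_specializes (p (genericPoint X)) η).2 h2).antisymm bot_le
  have hYdim : topologicalKrullDim Y ≤ ((1 : ℕ) : WithBot ℕ∞) :=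
    Unibranch.topologicalKrullDim_le_natCast fun l c hc => by
      have hemb := (pullback.fst p res).isEmbedding
      have hne : ∀ y, genericPoint X ≠ pullback.fst p res y := fun y e => by
        have h3 : p (pullback.fst p res y) = res (pullback.snd p res y) := by
          rw [← Scheme.Hom.comp_apply, pullback.condition, Scheme.Hom.comp_apply]
        rw [← e, hgen] at h3
        have h4 : res (pullback.snd p res y) = IsLocalRing.closedPoint R := PrimeSpectrum.ext (by
          show Ideal.comap _ _ = IsLocalRing.maximalIdeal R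
          rw [(Ideal.eq_bot_of_prime (pullback.snd p res y).asIdeal :)]
          exact (RingHom.ker_eq_comap_bot _).symm.trans Ideal.mk_ker)
        rw [h4] at h3
        exact IsDiscreteValuationRing.not_a_field R (congrArg PrimeSpectrum.asIdeal h3).symm
      have h := (Unibranch.natCast_le_topologicalKrullDim (α := X) (k := l + 1)
        (Fin.cons (genericPoint X) fun i => pullback.fst p res (c i)) fun i => by
          refine Fin.cases ?_ (fun j => ?_) i
          · simp only [Fin.castSucc_zero, Fin.cons_zero, Fin.cons_succ]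
            exact ⟨genericPoint_specializes _, hne _⟩
          · simp only [← Fin.succ_castSucc, Fin.cons_succ]
            exact ⟨(hc j).1.map hemb.continuous, fun e => (hc j).2 (hemb.injective e)⟩).trans hdimX
      have h' : ((l + 1 : ℕ) : WithBot ℕ∞) ≤ ((2 : ℕ) : WithBot ℕ∞) := h
      have := CartierDim.natCast_le_withBot.mp h'
      omega
  rw [CurveRR.euler_eq (k := k) hYdim] at heq
  let ι : Y ⟶ X := pullback.fst p res
  haveI : IsClosedImmersion ι := inferInstanceAs (IsClosedImmersion (pullback.fst p res))
  haveI : IsLocallyNoetherian Y := LocallyOfFiniteType.isLocallyNoetherian (Y ↘ Spec (CommRingCat.of k))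
  have hker : ι.ker = fibreIdeal (Over.mk p) := ker_fst_residue (Over.mk p)
  obtain ⟨qi⟩ := ExtShX.nonempty_quotMod_iso ι
  have hlen : ∀ i, Models.lengthH R (Over.mk p) (ClSub.quotMod (fibreIdeal (Over.mk p))) i =
      CurveRR.h k (Coh.structureModule Y) i := fun i => by
    rw [← hker]
    refine (lengthH_eq_of_iso (X := Over.mk p) qi i).trans ?_
    exact lengthH_push (X := Over.mk p) ι (pullback.snd p res) pullback.condition _ RefStalk.isCoh_structureModule i
  rw [chiL, hlen, hlen]
  simp only [Models.curveGenus, Models.hRank, CurveRR.h] at heq ⊢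
  exact heq.symm

end Groth.Agent.Castel

namespace Groth.Agent.Castel

open CategoryTheory CategoryTheory.Limits AlgebraicGeometry

variable {R : Type u} [CommRing R] [IsDomain R] [IsDiscreteValuationRing R]

theorem hRank_zero_eq_one {K : Type u} [Field K] {C : Scheme.{u}} {f : C ⟶ Spec (CommRingCat.of K)} [IsProper f]
    (h : IsIso f.appTop) : Models.hRank K C f (Coh.structureModule C) 0 = 1 := by
  letI : C.Over (Spec (CommRingCat.of K)) := ⟨f⟩
  haveI : IsProper (C ↘ Spec (CommRingCat.of K)) := ‹IsProper f›
  refine Eq.trans (finrank_gammaTop K (X := C)).symm ?_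
  letI : Algebra K (Coh.Γtop C) := RingHom.toAlgebra' (Coh.toGlobal (C ↘ Spec (CommRingCat.of K))) (fun c x =>
    mul_comm (G := Γ(C, ⊤)) _ _)
  haveI := h
  have hb : Function.Bijective (Algebra.linearMap K (Coh.Γtop C)) := by
    show Function.Bijective (f.appTop.hom ∘ (Scheme.ΓSpecIso (CommRingCat.of K)).inv.hom)
    exact (ConcreteCategory.bijective_of_isIso f.appTop).comp
      (ConcreteCategory.bijective_of_isIso (Scheme.ΓSpecIso (CommRingCat.of K)).inv)
  rw [← (LinearEquiv.ofBijective _ hb).finrank_eq, Module.finrank_self]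

/-- The genus formula. -/
theorem genus_formula {C X : Scheme.{u}} {f : C ⟶ Spec (CommRingCat.of (FractionRing R))}
    {p : X ⟶ Spec (CommRingCat.of R)} (hC : Curve.IsSmoothProperCurve (FractionRing R) C f) (hH0 : IsIso f.appTop)
    (hX : Models.IsRegularProperModel R X p C f) {n : ℕ} (Γ : Fin n → ArSurf.VertComp R (Over.mk p))
    (hΓ : Models.IsComponentList R (Over.mk p) Γ) :
    2 * (Models.curveGenus (FractionRing R) C f : ℤ) = 2 + ∑ i, (Models.mult R (Over.mk p) (Γ i) : ℤ) *
      (2 * ((Models.h1 R (Over.mk p) (Γ i) : ℤ) - (Models.wdeg R (Over.mk p) (Γ i) : ℤ)) - interMat Γ i i) := by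
  have hA := isArithSurface_of_regularProper hC hX
  haveI : IsProper f := hC.1
  haveI : IsProper (Over.mk p).hom := hX.2.1
  have hfib : fibreIdeal (Over.mk p) = divI Γ fun j => Models.mult R (Over.mk p) (Γ j) :=
    fibreIdeal_eq_prod hA Γ hΓ.1 (componentList_cover hΓ)
  have h1 := (chiL_divI hA Γ hΓ.1 fun j => Models.mult R (Over.mk p) (Γ j)).2
  rw [← hfib, chiL_fibre hC hX, hRank_zero_eq_one hH0] at h1
  have hz : ∀ i, ∑ j, (Models.mult R (Over.mk p) (Γ j) : ℤ) * interMat Γ i j = 0 := fun i => by
    have hsum : ∑ j, (Models.mult R (Over.mk p) (Γ j) : ℤ) * interMat Γ i j =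
        - degI (Γ i) (divI Γ fun j => Models.mult R (Over.mk p) (Γ j)) := by
      rw [degI_divI hA, neg_neg]
    haveI : Flat (Over.mk p).hom := hA.2.2.2.1
    rw [hsum, ← hfib, degI_fibreIdeal, neg_zero]
  have h0 : ∑ i, ∑ j, (Models.mult R (Over.mk p) (Γ i) : ℤ) * (Models.mult R (Over.mk p) (Γ j) : ℤ) *
      interMat Γ i j = 0 := Finset.sum_eq_zero fun i _ => by
    simp only [mul_assoc, ← Finset.mul_sum]
    rw [hz i, mul_zero]
  rw [h0, neg_zero, zero_add] at h1
  simp only [mul_sub, mul_add, Finset.sum_sub_distrib, Finset.sum_add_distrib] at h1 ⊢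
  push_cast at h1
  linarith

end Groth.Agent.Castel
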