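import Groth.Agent.CycPB.BundleSmooth
import Groth.Agent.PnSpec.Twist
import Groth.Agent.PnReg.BaseChange
import Groth.Agent.ExtFund.SmoothDual
import Groth.Agent.Castel.FibreEuler
import Groth.Agent.RG.Dev.IntegralFibre

/-!
Projective space over a discrete valuation ring and its closed fibre.
-/

set_option autoImplicit false
set_option backward.isDefEq.respectTransparency false
set_option backward.isDefEq.respectTransparency.types false
set_option linter.style.haveILetI false

universe u

open CategoryTheory CategoryTheory.Limits AlgebraicGeometry TopologicalSpace Opposite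

noncomputable section

namespace Groth.Agent.Castel

/-- Projective space is smooth of relative dimension `n`. -/
theorem smoothRelDim_toSpec (n : ℕ) (R : Type u) [CommRing R] :
    SmoothOfRelativeDimension n (CohB1.ProjSpace.toSpec n R) := by
  classical
  let 𝒜 := CohB1.polyGrading n R
  let U : Fin (n + 1) → (CohB1.ProjSpace n R).Opens := fun j => Proj.basicOpen 𝒜 (MvPolynomial.X j)
  have hU : ⨆ j, U j = ⊤ := (S9576.result n R).1
  have key : ∀ j, SmoothOfRelativeDimension n ((U j).ι ≫ CohB1.ProjSpace.toSpec n R) := fun j => by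
    let j₀ := HomogeneousLocalization.fromZeroRingHom 𝒜 (Submonoid.powers (MvPolynomial.X j))
    let φ : CommRingCat.of R ⟶ CommRingCat.of (HomogeneousLocalization.Away 𝒜 (MvPolynomial.X j)) :=
      CommRingCat.ofHom (j₀.comp (algebraMap R (𝒜 0)))
    have hφ : Proj.awayι 𝒜 (MvPolynomial.X j) (MvPolynomial.isHomogeneous_X R j) one_pos ≫
        CohB1.ProjSpace.toSpec n R = Spec.map φ := by
      unfold CohB1.ProjSpace.toSpec
      rw [← Category.assoc, Proj.awayι_toSpecZero, ← Spec.map_comp]
      rfl
    obtain ⟨-, hb⟩ := S9576.result n R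
    let σ := RingEquiv.ofBijective _ (hb j)
    let e₀ : ULift.{u} (Fin n) ≃ {l : Fin (n + 1) // l ≠ j} :=
      Equiv.ulift.trans (finSuccAboveEquiv j)
    let τ : MvPolynomial (ULift.{u} (Fin n)) R ≃+* HomogeneousLocalization.Away 𝒜 (MvPolynomial.X j) :=
      (MvPolynomial.renameEquiv R e₀).toRingEquiv.trans σ
    have h' : j₀.comp (algebraMap R (𝒜 0)) =
        σ.toRingHom.comp (MvPolynomial.C : R →+* MvPolynomial {l : Fin (n + 1) // l ≠ j} R) :=
      RingHom.ext fun r => (MvPolynomial.eval₂Hom_C _ _ r).symm
    have h : j₀.comp (algebraMap R (𝒜 0)) =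
        τ.toRingHom.comp (algebraMap R (MvPolynomial (ULift.{u} (Fin n)) R)) := by
      rw [h']
      refine RingHom.ext fun r => ?_
      show σ (MvPolynomial.C r) = σ (MvPolynomial.renameEquiv R e₀ (algebraMap R _ r))
      rw [AlgEquiv.commutes]
      rfl
    have hs : RingHom.Locally (RingHom.IsStandardSmoothOfRelativeDimension n) φ.hom := by
      refine RingHom.locally_of RingHom.isStandardSmoothOfRelativeDimension_respectsIso _ ?_
      show (j₀.comp (algebraMap R (𝒜 0))).IsStandardSmoothOfRelativeDimension n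
      rw [h]
      exact RingHom.isStandardSmoothOfRelativeDimension_respectsIso.1 _ τ
        ((RingHom.isStandardSmoothOfRelativeDimension_algebraMap (n := n)).2 (RGDev.smoothRelDim_mvPolynomial R n))
    let e := Proj.basicOpenIsoSpec 𝒜 (MvPolynomial.X j) (MvPolynomial.isHomogeneous_X R j) one_pos
    have he : (U j).ι ≫ CohB1.ProjSpace.toSpec n R = e.hom ≫ Spec.map φ := by
      rw [← hφ, ← Category.assoc]
      congr 1
      exact (Iso.hom_inv_id_assoc e _).symm
    rw [he]
    exact (MorphismProperty.cancel_left_of_respectsIso (@SmoothOfRelativeDimension n) e.hom (Spec.map φ)).2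
      ((HasRingHomProperty.Spec_iff (P := @SmoothOfRelativeDimension n)).2 hs)
  exact IsZariskiLocalAtSource.of_openCover (P := @SmoothOfRelativeDimension n)
    ((CohB1.ProjSpace n R).openCoverOfIsOpenCover U hU) key

/-- Projective space commutes with base change. -/
theorem exists_isPullback_projSpace {A B : Type u} [CommRing A] [CommRing B] (φ : A →+* B) (n : ℕ) :
    ∃ j : CohB1.ProjSpace n B ⟶ CohB1.ProjSpace n A,
      IsPullback j (CohB1.ProjSpace.toSpec n B) (CohB1.ProjSpace.toSpec n A) (Spec.map (CommRingCat.ofHom φ)) := by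
  obtain ⟨a, ha, -⟩ := PnSpec.exists_iso_twist n A
  obtain ⟨b, hb, -⟩ := PnSpec.exists_iso_twist n B
  refine ⟨b.hom ≫ KRR.projSpaceMap n (Spec.map (CommRingCat.ofHom φ)) ≫ a.inv, ?_⟩
  refine IsPullback.of_iso (PnReg.isPullback_map (n := n) (Spec.map (CommRingCat.ofHom φ))) b.symm a.symm
    (Iso.refl _) (Iso.refl _) ?_ ?_ ?_ ?_
  · simp
  · simp [← hb]
  · simp [← ha]
  · simp

end Groth.Agent.Castel
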