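import Groth.Agent.Castel.Stein
import Groth.Agent.Castel.Twist
import Groth.Agent.ProjMor.VAmple
import Groth.Agent.Intersect.Hyper
import Groth.Agent.W7Proj.NotAmple

/-!
The morphism given by the twisted ample module contracts exactly the curve.
-/

set_option autoImplicit false
set_option backward.isDefEq.respectTransparency false
set_option backward.isDefEq.respectTransparency.types false
set_option linter.style.haveILetI false

universe u

open CategoryTheory CategoryTheory.Limits AlgebraicGeometry TopologicalSpace Opposite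
open Groth.Agent.QC (res resO resO_resO resO_self app_res res_smul res_self res_res)
open TMul (tm IsGen val homOf val_homOf)

noncomputable section

namespace Groth.Agent.Castel

/-- A scheme proper over a field with an injective map to an affine scheme is finite as a set. -/
theorem finite_of_injective {K : Type u} [Field K] {F T : Scheme.{u}} (q : F ⟶ Spec (CommRingCat.of K)) [IsProper q]
    [IsAffine T] (j : F ⟶ T) (hj : Function.Injective j) : Finite F := by
  letI : F.Over (Spec (CommRingCat.of K)) := ⟨q⟩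
  haveI : IsProper (F ↘ Spec (CommRingCat.of K)) := ‹IsProper q›
  letI : Algebra K Γ(F, ⊤) := (CurveRR.cst K F ⊤).toAlgebra
  haveI : IsLocallyNoetherian F := LocallyOfFiniteType.isLocallyNoetherian q
  haveI : Module.Finite K (Coh.HH F (Coh.structureModule F) 0) :=
    CohFinite.finite_proper (A := K) F _ RefStalk.isCoh_structureModule 0
  haveI : Module.Finite K Γ(F, ⊤) := by
    letI := CurveRR.secMod K (Coh.structureModule F) ⊤
    haveI h := Module.Finite.equiv (CurveRR.secH0 (k := K) (Coh.structureModule F)).symm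
    let e : Γ(Coh.structureModule F, ⊤) →ₗ[K] Γ(F, ⊤) :=
      { toFun := fun x => x, map_add' := fun _ _ => rfl, map_smul' := fun _ _ => rfl }
    exact Module.Finite.of_surjective e fun x => ⟨x, rfl⟩
  haveI : IsArtinianRing Γ(F, ⊤) := IsArtinianRing.of_finite K _
  haveI : Finite (Spec Γ(F, ⊤)) := inferInstanceAs (Finite (PrimeSpectrum Γ(F, ⊤)))
  refine Finite.of_injective F.toSpecΓ fun a b hab => hj ?_
  have h : ∀ x, j x = (inv T.toSpecΓ) (Spec.map j.appTop (F.toSpecΓ x)) := fun x => by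
    rw [← Scheme.Hom.comp_apply, ← Scheme.Hom.comp_apply]
    refine congrArg (fun φ : F ⟶ T => φ x) ?_
    rw [← Scheme.toSpecΓ_naturality_assoc, IsIso.hom_inv_id, Category.comp_id]
  rw [h, h, hab]

/-- The projective line is an infinite set. -/
theorem not_finite_projLine (k : Type u) [Field k] : ¬ Finite (CohB1.ProjSpace 1 k) := fun hf => by
  haveI : IsIntegral (CohB1.ProjSpace 1 k) := Horrocks.isIntegral_projSpace
  haveI := ProjMor.isProper_toSpec (n := 1) (R := k)
  haveI : JacobsonSpace (CohB1.ProjSpace 1 k) := LocallyOfFiniteType.jacobsonSpace (CohB1.ProjSpace.toSpec 1 k)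
  haveI : DiscreteTopology (CohB1.ProjSpace 1 k) := inferInstance
  have hsub : ∀ x : CohB1.ProjSpace 1 k, genericPoint (CohB1.ProjSpace 1 k) = x := fun x =>
    ((genericPoint_specializes x).mem_open (isOpen_discrete {x}) rfl)
  have h0 : topologicalKrullDim (CohB1.ProjSpace 1 k) ≤ ((0 : ℕ) : WithBot ℕ∞) :=
    Unibranch.topologicalKrullDim_le_natCast fun l c hc => by
      rcases l with _ | l
      · exact le_rfl
      · exact absurd ((hsub _).symm.trans (hsub _)) (hc 0).2
  rw [Groth.Agent.S10829.result k 1] at h0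
  exact absurd h0 (by decide)

theorem isAmple_twist (n : ℕ) (R : Type u) [CommRing R] : CohB1.IsAmple (Twist.twistProjSpace n R 1) := by
  haveI := ProjMor.isProper_toSpec n R
  haveI : CompactSpace (CohB1.ProjSpace n R) :=
    QuasiCompact.compactSpace_of_compactSpace (CohB1.ProjSpace.toSpec n R)
  haveI : CompactSpace (Proj (CohB1.polyGrading n R)) := ‹_›
  exact GrT.isAmple_twist_of_cover (𝒜 := CohB1.polyGrading n R) (m := 1) one_pos
    fun x => ProjMor.exists_notMem (ProjMor.genDegOne_projSpace n R) x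

/-- A morphism from the projective line killing an ample module is constant. -/
theorem const_of_trivial {k : Type u} [Field k] {P : Scheme.{u}} {A : P.Modules} (hA : CohB1.IsAmple A)
    (φ : CohB1.ProjSpace 1 k ⟶ P) [IsProper φ]
    (e : (Scheme.Modules.pullback φ).obj A ≅ Coh.structureModule _) :
    ∃ p, ∀ z, φ z = p := by
  haveI : IsIntegral (CohB1.ProjSpace 1 k) := Horrocks.isIntegral_projSpace
  by_contra hn
  push Not at hn
  haveI : LocallyQuasiFinite φ := by
    refine LocallyQuasiFinite.of_finite_preimage_singleton φ fun p => ?_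
    refine BiratCodimTwo.finite_of_no_specializations φ p fun x x' hx hx' hs => ?_
    by_contra hne
    have hgen := subsingleton_chain_projLine x' x hs hne
    have hcl : IsClosed ({x} : Set (CohB1.ProjSpace 1 k)) := by
      rw [← closure_eq_iff_isClosed]
      refine subset_antisymm (fun w hw => ?_) subset_closure
      by_contra hwx
      exact hne (hgen.trans
        (subsingleton_chain_projLine x w (specializes_iff_mem_closure.2 hw) fun e => hwx e.symm).symm)
    have hpc : IsClosed ({p} : Set P) := by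
      have := φ.isClosedMap _ hcl
      rwa [Set.image_singleton, hx] at this
    obtain ⟨w, hw⟩ := hn p
    refine hw ?_
    have h1 : φ w ∈ closure ({p} : Set P) := by
      rw [← hx', hgen]
      exact specializes_iff_mem_closure.1 ((genericPoint_specializes w).map φ.continuous)
    rwa [hpc.closure_eq] at h1
  haveI : IsFinite φ := IsFinite.of_isProper_of_locallyQuasiFinite φ
  haveI := TMul.isQuasiAffine_of_isAmple
    (TMul.isAmple_congr e (TMul.isAmple_pullback_of_isAffineHom φ hA))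
  haveI := ProjMor.isProper_toSpec (n := 1) (R := k)
  exact not_finite_projLine k (finite_of_injective (CohB1.ProjSpace.toSpec 1 k)
    (CohB1.ProjSpace 1 k).toSpecΓ (CohB1.ProjSpace 1 k).toSpecΓ.isEmbedding.injective)

variable {X : Scheme.{u}} {I : X.IdealSheafData}

/-- The canonical section of the inverse of an ideal generates off its support. -/
theorem exists_canonical {M : X.Modules} (hMi : PicF.IsInvertible M)
    (hM : ClSub.IsInverseOf M (ClSub.idealMod I)) :
    ∃ χ : Coh.structureModule X ⟶ M, ∀ x, x ∉ I.support → x ∈ CohB1.genLocus M χ := by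
  obtain ⟨q⟩ := hM
  let u : CohB1.tensorMod M (ClSub.idealMod I) ⟶ M :=
    (TMul.commIso M (ClSub.idealMod I)).hom ≫ CurveRR.idealIncl I M
  refine ⟨q.inv ≫ u, fun x hx => ?_⟩
  obtain ⟨O, e, hxO, he⟩ := TMul.exists_isGen hMi x
  obtain ⟨W, hW, hxW, hWO⟩ := exists_isAffineOpen_mem_and_subset (x := x) (U := O ⊓ I.support.compl) ⟨hxO, hx⟩
  have hWO' : W ≤ O := fun z hz => (hWO hz).1
  have heW := he.res hWO'
  have htop : I.ideal ⟨W, hW⟩ = ⊤ := by
    by_contra hne
    obtain ⟨m, hm, hle⟩ := Ideal.exists_le_maximal _ hne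
    have hz : hW.fromSpec ⟨m, hm.isPrime⟩ ∈ W := hW.range_fromSpec.subset ⟨_, rfl⟩
    refine (hWO hz).2 ?_
    rw [SetLike.mem_coe, Scheme.IdealSheafData.mem_support_iff_of_mem (U := ⟨W, hW⟩) hz, Scheme.mem_zeroLocus_iff]
    intro s hs hmem
    have : (⟨m, hm.isPrime⟩ : PrimeSpectrum Γ(X, W)) ∈ hW.fromSpec ⁻¹ᵁ X.basicOpen s := hmem
    rw [hW.fromSpec_preimage_basicOpen] at this
    exact this (hle hs)
  obtain ⟨a, ha⟩ := (Groth.Agent.QC.mem_range_idealModι_affine I ⟨W, hW⟩ 1).2 (htop ▸ Submodule.mem_top)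
  obtain ⟨r, hr⟩ : ∃ r : Γ(X, W), r = q.hom.app W (tm (res M hWO' e) a) := ⟨_, rfl⟩
  obtain ⟨c, hc⟩ := (heW W le_rfl).2 (val (q.inv ≫ u) W)
  simp only [res_self] at hc
  have h1 : (q.inv ≫ u).app W r = res M hWO' e := by
    rw [hr]
    show u.app W (q.inv.app W (q.hom.app W (tm (res M hWO' e) a))) = _
    rw [show q.inv.app W (q.hom.app W (tm (res M hWO' e) a)) = tm (res M hWO' e) a from
      ConcreteCategory.congr_hom (congrArg (fun φ => Scheme.Modules.Hom.app φ W) q.hom_inv_id) _]
    show (CurveRR.idealIncl I M).app W ((TMul.commHom M (ClSub.idealMod I)).app W (tm (res M hWO' e) a)) = _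
    rw [TMul.commHom_tm, CurveRR.idealIncl_tm, ha]
    exact one_smul Γ(X, W) _
  rw [TMul.app_eq_smul, ← hc, smul_smul] at h1
  have h2 : r * c = 1 := (heW W le_rfl).1 (by simp only [res_self, one_smul]; exact h1)
  exact (TMul.mem_genLocus_iff_isUnit _ heW hc.symm hxW).2
    ((IsUnit.of_mul_eq_one_right r h2).map (X.presheaf.germ W x hxW).hom)

variable {R : Type u} [CommRing R] [IsNoetherianRing R]

/-- The morphism defined by the twisted power: it contracts the curve and is quasi-finite elsewhere. -/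
theorem exists_contracting_map [IsNoetherian X] {k : Type u} [Field k] (f : X ⟶ Spec (CommRingCat.of R)) [IsProper f]
    (ι₀ : CohB1.ProjSpace 1 k ⟶ X) [IsClosedImmersion ι₀] (hI : BlowUp.IsEffCartierIdeal ι₀.ker)
    {m : ℕ} (e : (Scheme.Modules.pullback ι₀).obj (ClSub.idealMod ι₀.ker) ≅ Twist.twistProjSpace 1 k (m : ℤ))
    {L M : X.Modules} (hL : CohB1.IsAmple L) (hMi : PicF.IsInvertible M)
    (hM : ClSub.IsInverseOf M (ClSub.idealMod ι₀.ker)) {d : ℕ} (hd : 1 ≤ d)
    (ed : (Scheme.Modules.pullback ι₀).obj L ≅ Twist.twistProjSpace 1 k ((d : ℤ) * m)) :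
    ∃ (n N : ℕ) (φ : X ⟶ CohB1.ProjSpace n R) (p : CohB1.ProjSpace n R),
      φ ≫ CohB1.ProjSpace.toSpec n R = f ∧ 1 ≤ N ∧ Set.range (ι₀ ≫ φ).base = {p} ∧
      LocallyQuasiFinite (Scheme.Opens.ι (X := X) ι₀.ker.support.compl ≫ φ) ∧
      Nonempty ((Scheme.Modules.pullback φ).obj (Twist.twistProjSpace n R 1) ≅
        CohB1.tensorPow (CohB1.tensorMod L (CohB1.tensorPow M d)) N) ∧
      ∀ N', N ≤ N' → ∃ σ : Γ(CohB1.tensorPow (CohB1.tensorMod L (CohB1.tensorPow M d)) N', ⊤),
        Set.range ι₀ ⊆ (CohB1.genLocus _ (homOf σ) : Set X) := by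
  classical
  set Ld := CohB1.tensorMod L (CohB1.tensorPow M d) with hLd
  have hLdi : PicF.IsInvertible Ld := TMul.isInvertible_tensorMod hL.1 (TMul.isInvertible_tensorPow hMi d)
  have hO : Coh.IsCoh (Coh.structureModule X) := RefStalk.isCoh_structureModule
  obtain ⟨n₀, hn₀⟩ := CohFinite.vanish_ample f hL hO
  have hvan : ∀ j, n₀ ≤ j → Subsingleton (Coh.HH X (CohB1.tensorPow L j) 1) := fun j hj =>
    CohQC.hh_subsingleton_of_iso (TMul.leftUnitIso _) 1 (hn₀ j hj 0)
  have hgen : ∀ j, n₀ + 1 ≤ j → ∃ σ : Γ(CohB1.tensorPow Ld j, ⊤),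
      Set.range ι₀ ⊆ (CohB1.genLocus _ (homOf σ) : Set X) := fun j hj =>
    exists_gen_twist hI ι₀ rfl e hL.1 hMi hM hd (by omega) ed (hvan j (by omega))
  choose dd t hxt hta using hL.2.2
  obtain ⟨T, hT⟩ := isCompact_univ.elim_finite_subcover
    (fun x : X => ((CohB1.genLocus _ (t x) : X.Opens) : Set X)) (fun x => (CohB1.genLocus _ (t x)).2)
    (fun x _ => Set.mem_iUnion.mpr ⟨x, hxt x⟩)
  obtain ⟨N, hN, hN0⟩ : ∃ N, (∀ x ∈ T, dd x + 1 ∣ N + 1) ∧ n₀ + 1 ≤ N + 1 :=
    ⟨(∏ x ∈ T, (dd x + 1)) * (n₀ + 1) - 1, fun x hx => by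
      rw [Nat.sub_add_cancel (Nat.mul_pos (Finset.prod_pos fun i _ => Nat.succ_pos _) (Nat.succ_pos _))]
      exact (Finset.dvd_prod_of_mem _ hx).mul_right _, by
      rw [Nat.sub_add_cancel (Nat.mul_pos (Finset.prod_pos fun i _ => Nat.succ_pos _) (Nat.succ_pos _))]
      exact Nat.le_mul_of_pos_left _ (Finset.prod_pos fun i _ => Nat.succ_pos _)⟩
  choose t' ht' using fun x : T => TMul.exists_genLocus_pow hL.1 (hN x x.2) (t x)
  obtain ⟨χ, hχ⟩ := exists_canonical hMi hM
  obtain ⟨d', rfl⟩ : ∃ d', d = d' + 1 := ⟨d - 1, by omega⟩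
  have hMd : PicF.IsInvertible (CohB1.tensorPow M (d' + 1)) := TMul.isInvertible_tensorPow hMi _
  let χN := SecTwist.powHom (SecTwist.powHom χ (d' + 1)) (N + 1)
  have hχN : CohB1.genLocus _ χN = CohB1.genLocus M χ :=
    (TMul.genLocus_powHom hMd _ N).trans (TMul.genLocus_powHom hMi χ d')
  obtain ⟨a⟩ := TMul.nonempty_powTensorIso L (CohB1.tensorPow M (d' + 1)) (N + 1)
  let P := CohB1.tensorPow Ld (N + 1)
  have hP : PicF.IsInvertible P := TMul.isInvertible_tensorPow hLdi _
  let sec : T → (Coh.structureModule X ⟶ P) := fun x => SecTwist.tmulHom (t' x) χN ≫ a.inv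
  have hsec : ∀ x : T, CohB1.genLocus P (sec x) = CohB1.genLocus _ (t x) ⊓ CohB1.genLocus M χ := fun x => by
    rw [← ht' x, ← hχN, ← TMul.genLocus_tmulHom (TMul.isInvertible_tensorPow hL.1 _)
      (TMul.isInvertible_tensorPow hMd _) (t' x) χN]
    exact TMul.genLocus_comp _ a.inv
  obtain ⟨σ, hσ⟩ := hgen (N + 1) hN0
  let s : Fin (T.card + 1) → ProjUP.Γm P := Fin.cons σ fun j => val (sec (T.equivFin.symm j)) ⊤
  have hs0 : ∀ j : Fin T.card, CohB1.genLocus P (homOf (s j.succ)) =
      CohB1.genLocus _ (t (T.equivFin.symm j)) ⊓ CohB1.genLocus M χ := fun j => by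
    rw [← hsec]
    simp only [s, Fin.cons_succ, CohFinite.homOf_val]
  have hU : ∀ x, x ∉ ι₀.ker.support → ∃ j : Fin T.card, x ∈ CohB1.genLocus P (homOf (s j.succ)) := fun x hx => by
    obtain ⟨z, hz, hxz⟩ := Set.mem_iUnion₂.mp (hT (Set.mem_univ x))
    refine ⟨T.equivFin ⟨z, hz⟩, ?_⟩
    rw [hs0, Equiv.symm_apply_apply]
    exact ⟨hxz, hχ x hx⟩
  have hrange : (ι₀.ker.support : Set X) = Set.range ι₀ := by
    rw [Scheme.Hom.support_ker, ι₀.isClosedMap.isClosed_range.closure_eq]
  have hs : ProjUP.GeneratedBy P s := ProjMor.generatedBy_of_mem_genLocus s fun x => by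
    by_cases hx : x ∈ (ι₀.ker.support : Set X)
    · exact ⟨0, hσ (hrange.subset hx)⟩
    · obtain ⟨j, hj⟩ := hU x hx
      exact ⟨j.succ, hj⟩
  obtain ⟨φ, hφ, τ, hτ⟩ := ProjMor.exists_projSpace (R := R) f hP s hs
  haveI := ProjMor.isProper_toSpec T.card R
  haveI : IsProper (φ ≫ CohB1.ProjSpace.toSpec T.card R) := hφ.symm ▸ inferInstance
  haveI : IsProper φ := IsProper.of_comp φ (CohB1.ProjSpace.toSpec T.card R)
  haveI : IsLocallyNoetherian (CohB1.ProjSpace T.card R) :=
    LocallyOfFiniteType.isLocallyNoetherian (CohB1.ProjSpace.toSpec T.card R)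
  let O1 := Twist.twistProjSpace T.card R 1
  have hchart : ∀ j : Fin T.card, φ ⁻¹ᵁ CohB1.genLocus O1 (homOf (ProjUP.coord T.card R j.succ)) =
      CohB1.genLocus P (homOf (s j.succ)) := fun j => by
    rw [← ProjMor.genLocus_pullSec φ (CohFinite.isInvertible_twist T.card R 1), ← hτ j.succ,
      ProjMor.homOf_app, TMul.genLocus_comp]
  obtain ⟨p, hp⟩ : ∃ p, ∀ z, (ι₀ ≫ φ) z = p := by
    haveI : IsProper (ι₀ ≫ φ) := inferInstance
    refine const_of_trivial (A := O1) ?_ (ι₀ ≫ φ) ?_
    · exact isAmple_twist T.card R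
    · refine ((Scheme.Modules.pullbackComp ι₀ φ).app O1).symm ≪≫ (Scheme.Modules.pullback ι₀).mapIso τ ≪≫
        Classical.choice ?_
      obtain ⟨em⟩ := nonempty_pullback_inverse ι₀ hM hMi e
      obtain ⟨em'⟩ := nonempty_pullback_pow ι₀ em (d' + 1)
      obtain ⟨eL⟩ := nonempty_pullback_tensor ι₀ (c := 0) ed em' (by push_cast; ring)
      obtain ⟨eP⟩ := nonempty_pullback_pow ι₀ eL (N + 1)
      obtain ⟨o⟩ := Horrocks.Om_zero (k := k) (d := 1)
      exact ⟨eP ≪≫ eqToIso (by rw [zero_mul]) ≪≫ o⟩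
  refine ⟨T.card, N + 1, φ, p, hφ, by omega, ?_, ?_, ⟨τ⟩, fun N' hN' => hgen N' (by omega)⟩
  · haveI : IsIntegral (CohB1.ProjSpace 1 k) := Horrocks.isIntegral_projSpace
    exact subset_antisymm (by rintro _ ⟨z, rfl⟩; exact hp z)
      (by rintro _ rfl; exact ⟨genericPoint _, hp _⟩)
  · set U : X.Opens := ι₀.ker.support.compl with hUdef
    refine LocallyQuasiFinite.of_finite_preimage_singleton _ fun y => ?_
    rcases Set.eq_empty_or_nonempty ((U.ι ≫ φ) ⁻¹' {y}) with hemp | ⟨x, hx⟩
    · rw [hemp]; exact Set.finite_empty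
    obtain ⟨j, hj⟩ := hU x.1 x.2
    have hxy : φ x.1 = y := hx
    have hycoord : y ∈ CohB1.genLocus O1 (homOf (ProjUP.coord T.card R j.succ)) := by
      have h1 := (hchart j).ge hj
      rwa [← hxy]
    set A := CohB1.genLocus _ (t (T.equivFin.symm j))
    have hsub : Set.range (φ.fiberι y) ⊆ Set.range A.ι := by
      rw [φ.range_fiberι, Scheme.Opens.range_ι]
      intro z hz
      have h1 : z ∈ φ ⁻¹ᵁ CohB1.genLocus O1 (homOf (ProjUP.coord T.card R j.succ)) := by
        change φ z ∈ CohB1.genLocus O1 (homOf (ProjUP.coord T.card R j.succ))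
        rw [show φ z = y from hz]
        exact hycoord
      rw [hchart j, hs0] at h1
      exact h1.1
    haveI : IsAffine A.toScheme := hta _
    haveI : IsProper (φ.fiberToSpecResidueField y) :=
      inferInstanceAs (IsProper (pullback.snd φ _))
    haveI : Finite (φ.fiber y) := finite_of_injective (φ.fiberToSpecResidueField y)
      (IsOpenImmersion.lift A.ι (φ.fiberι y) hsub) (fun a b hab => (φ.fiberι y).isEmbedding.injective (by
        rw [← IsOpenImmersion.lift_fac A.ι (φ.fiberι y) hsub, Scheme.Hom.comp_apply, Scheme.Hom.comp_apply, hab]))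
    have hfin : (φ ⁻¹' {y}).Finite := φ.range_fiberι y ▸ Set.finite_range _
    exact Set.Finite.subset (hfin.preimage U.ι.isOpenEmbedding.injective.injOn) fun z hz => hz

end Groth.Agent.Castel
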