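import Groth.Agent.Castel.Morphism
import Groth.Agent.TMul.CounitGen

/-!
Line bundles trivial near the fibres descend along a morphism with the right functions.
-/

set_option autoImplicit false
set_option backward.isDefEq.respectTransparency false
set_option backward.isDefEq.respectTransparency.types false
set_option linter.style.haveILetI false

universe u

open CategoryTheory CategoryTheory.Limits AlgebraicGeometry TopologicalSpace Opposite
open Groth.Agent.QC (res resO resO_resO resO_self app_res res_smul res_self res_res)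
open TMul (tm IsGen val homOf val_homOf)

noncomputable section

namespace Groth.Agent.Castel

/-- A module with local generators is invertible. -/
theorem isInvertible_of_gens {X : Scheme.{u}} (G : X.Modules)
    (h : ∀ x : X, ∃ (V : X.Opens) (e : Γ(G, V)), x ∈ V ∧ IsGen e) : PicF.IsInvertible G := fun x => by
  obtain ⟨V, e, hxV, he⟩ := h x
  have h1 : V.ι ''ᵁ ⊤ ≤ V := V.ι_image_le ⊤
  obtain ⟨i⟩ := nonempty_iso_of_isGen (L := G.restrict V.ι)
    (TMul.isGen_of_isGen_image V.ι (W := ⊤) (res G h1 e) (he.res h1))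
  exact ⟨V, hxV, ⟨i.symm⟩⟩

/-- A map taking local generators to generators is an isomorphism. -/
theorem isIso_of_gens {X : Scheme.{u}} {A B : X.Modules} (ψ : A ⟶ B)
    (h : ∀ x : X, ∃ (V : X.Opens) (a : Γ(A, V)), x ∈ V ∧ IsGen a ∧ IsGen (ψ.app V a)) : IsIso ψ := by
  refine GrT.isIso_of_locally _ (fun W => (injective_iff_map_eq_zero _).mpr fun t ht =>
    Groth.Agent.QC.section_eq_of_locally fun y hy => ?_) fun W t y hy => ?_
  · obtain ⟨V, a, hyV, ha, hb⟩ := h y
    obtain ⟨c, hc⟩ := (ha (W ⊓ V) inf_le_right).2 (res A inf_le_left t)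
    refine ⟨W ⊓ V, inf_le_left, ⟨hy, hyV⟩, ?_⟩
    rw [map_zero, ← hc]
    have h0 : c = 0 := (hb (W ⊓ V) inf_le_right).1 (by
      change c • res B inf_le_right (ψ.app V a) = (0 : Γ(X, W ⊓ V)) • _
      rw [zero_smul, app_res, ← Scheme.Modules.Hom.app_smul]
      change c • res A inf_le_right a = _ at hc
      rw [hc, ← app_res, ht, map_zero])
    change c • _ = _
    rw [h0, zero_smul]
  · obtain ⟨V, a, hyV, ha, hb⟩ := h y
    obtain ⟨c, hc⟩ := (hb (W ⊓ V) inf_le_right).2 (res B inf_le_left t)
    refine ⟨W ⊓ V, inf_le_left, ⟨hy, hyV⟩, c • res A inf_le_right a, ?_⟩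
    rw [Scheme.Modules.Hom.app_smul, ← app_res]
    exact hc

variable {X Y : Scheme.{u}} (b : X ⟶ Y)

/-- A line bundle trivial over an open cover of the base is pulled back from its direct image. -/
theorem exists_descent (hb : ∀ V : Y.Opens, Function.Bijective (b.app V)) {G : X.Modules}
    (hG : PicF.IsInvertible G) (h : ∀ y : Y, ∃ (V : Y.Opens) (e : Γ(G, b ⁻¹ᵁ V)), y ∈ V ∧ IsGen e) :
    ∃ G' : Y.Modules, PicF.IsInvertible G' ∧ Nonempty ((Scheme.Modules.pullback b).obj G' ≅ G) := by
  let G' := (Scheme.Modules.pushforward b).obj G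
  have hgen : ∀ (V : Y.Opens) (e : Γ(G, b ⁻¹ᵁ V)), IsGen e → IsGen (X := Y) (N := G') (U := V) e := by
    intro V e he W hW
    exact (he (b ⁻¹ᵁ W) (b.preimage_mono hW)).comp (hb W)
  have hG' : PicF.IsInvertible G' := isInvertible_of_gens _ fun y => by
    obtain ⟨V, e, hy, he⟩ := h y
    exact ⟨V, e, hy, hgen V e he⟩
  refine ⟨G', hG', ?_⟩
  haveI : IsIso ((Scheme.Modules.pullbackPushforwardAdjunction b).counit.app G) := by
    refine isIso_of_gens _ fun x => ?_
    obtain ⟨V, e, hy, he⟩ := h (b x)
    have hq : Coh.IsQCoh G' := TMul.isQCoh_of_isInvertible hG'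
    refine ⟨b ⁻¹ᵁ V, _, hy, SymAlg.isGen_pullθ b (Iso.refl _) (PicLoc.isInvertible_pullback b hG') hq
      (show Γ(G', V) from e) (hgen V e he), ?_⟩
    have ht := (Scheme.Modules.pullbackPushforwardAdjunction b).right_triangle_components G
    have h2 := ConcreteCategory.congr_hom (congrArg (fun φ => Scheme.Modules.Hom.app φ V) ht) e
    exact Eq.mpr (congrArg (fun z => IsGen (N := G) (U := b ⁻¹ᵁ V) z) h2) he
  exact ⟨asIso ((Scheme.Modules.pullbackPushforwardAdjunction b).counit.app G)⟩

/-- An invertible module is the direct image of its inverse image. -/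
theorem nonempty_push_pullback (hb : ∀ V : Y.Opens, Function.Bijective (b.app V)) {A : Y.Modules}
    (hA : PicF.IsInvertible A) :
    Nonempty (A ≅ (Scheme.Modules.pushforward b).obj ((Scheme.Modules.pullback b).obj A)) := by
  haveI : IsIso (ClSub.unitToPush b) := by
    rw [Scheme.Modules.Hom.isIso_iff_isIso_app]
    intro W
    rw [ConcreteCategory.isIso_iff_bijective]
    exact hb W
  haveI := W7Hull.isIso_projMap_of_invertible b (Coh.structureModule X) hA
  exact ⟨(TMul.leftUnitIso A).symm ≪≫ PicGrp.tensorModIso (asIso (ClSub.unitToPush b)) (Iso.refl A) ≪≫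
    asIso (CohFinite.projMap b (Coh.structureModule X) A) ≪≫
    (Scheme.Modules.pushforward b).mapIso (TMul.leftUnitIso _)⟩

/-- Modules with isomorphic inverse images are isomorphic. -/
theorem nonempty_iso_of_pullback (hb : ∀ V : Y.Opens, Function.Bijective (b.app V)) {A B : Y.Modules}
    (hA : PicF.IsInvertible A) (hB : PicF.IsInvertible B)
    (e : (Scheme.Modules.pullback b).obj A ≅ (Scheme.Modules.pullback b).obj B) : Nonempty (A ≅ B) := by
  obtain ⟨a⟩ := nonempty_push_pullback b hb hA
  obtain ⟨c⟩ := nonempty_push_pullback b hb hB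
  exact ⟨a ≪≫ (Scheme.Modules.pushforward b).mapIso e ≪≫ c.symm⟩

end Groth.Agent.Castel
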