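import Groth.Agent.Castel.LineDeg
import Groth.Agent.Castel.Morphism

/-!
Twists on isomorphic projective lines.
-/

set_option autoImplicit false
set_option backward.isDefEq.respectTransparency false
set_option backward.isDefEq.respectTransparency.types false
set_option linter.style.haveILetI false

universe u

open CategoryTheory CategoryTheory.Limits AlgebraicGeometry TopologicalSpace

noncomputable section

namespace Groth.Agent.Castel

/-- An isomorphism of projective lines pulls `O(1)` back to `O(1)`. -/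
theorem nonempty_twist_of_iso {k k' : Type u} [Field k] [Field k'] (θ : CohB1.ProjSpace 1 k ≅ CohB1.ProjSpace 1 k') :
    Nonempty ((Scheme.Modules.pullback θ.hom).obj (Twist.twistProjSpace 1 k' 1) ≅ Twist.twistProjSpace 1 k 1) := by
  obtain ⟨a, ⟨ea⟩, -⟩ := PicPn.existsUnique_iso (K := k) le_rfl _
    (PicLoc.isInvertible_pullback θ.hom (CohFinite.isInvertible_twist 1 k' 1))
  obtain ⟨c, ⟨ec⟩, -⟩ := PicPn.existsUnique_iso (K := k') le_rfl _
    (PicLoc.isInvertible_pullback θ.inv (CohFinite.isInvertible_twist 1 k 1))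
  have ha : 0 < a := (W7Proj.isAmple_twist_iff 1 k le_rfl a).1
    (TMul.isAmple_congr ea (TMul.isAmple_pullback_of_isAffineHom θ.hom (isAmple_twist 1 k')))
  have hc : 0 < c := (W7Proj.isAmple_twist_iff 1 k' le_rfl c).1
    (TMul.isAmple_congr ec (TMul.isAmple_pullback_of_isAffineHom θ.inv (isAmple_twist 1 k)))
  obtain ⟨n, rfl⟩ : ∃ n : ℕ, c = n := ⟨c.toNat, (Int.toNat_of_nonneg hc.le).symm⟩
  obtain ⟨p⟩ := nonempty_pullback_pow θ.hom ea n
  obtain ⟨i⟩ := nonempty_pow_twist k' n
  let j : (Scheme.Modules.pullback θ.hom).obj ((Scheme.Modules.pullback θ.inv).obj (Twist.twistProjSpace 1 k 1)) ≅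
      Twist.twistProjSpace 1 k 1 :=
    (Scheme.Modules.pullbackComp θ.hom θ.inv).app _ ≪≫ (Scheme.Modules.pullbackCongr θ.hom_inv_id).app _ ≪≫
      (Scheme.Modules.pullbackId _).app _
  have h := PtBlow.Line.eq_of_iso (p.symm ≪≫ (Scheme.Modules.pullback θ.hom).mapIso (i ≪≫ ec.symm) ≪≫ j)
  have ha1 : a = 1 := Int.eq_one_of_mul_eq_one_right ha.le h
  exact ⟨ea ≪≫ eqToIso (by rw [ha1])⟩

end Groth.Agent.Castel
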