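import Groth.Agent.Castel.VertLine
import Groth.Agent.Castel.LineVanish
import Groth.Agent.Castel.ArithY
import Groth.Agent.PtBlow.Contraction
import Groth.Agent.PnSpec.Basic

/-!
The exceptional line over the residue field of the blown up point.
-/

set_option autoImplicit false
set_option backward.isDefEq.respectTransparency false
set_option backward.isDefEq.respectTransparency.types false
set_option linter.style.haveILetI false

universe u

open CategoryTheory CategoryTheory.Limits AlgebraicGeometry TopologicalSpace Opposite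

noncomputable section

namespace Groth.Agent.Castel

/-- An isomorphism of base fields gives an isomorphism of projective lines. -/
theorem exists_line_iso {k k' : Type u} [Field k] [Field k'] (σ : Spec (CommRingCat.of k) ≅ Spec (CommRingCat.of k')) :
    ∃ e : CohB1.ProjSpace 1 k ≅ CohB1.ProjSpace 1 k',
      e.hom ≫ CohB1.ProjSpace.toSpec 1 k' = CohB1.ProjSpace.toSpec 1 k ≫ σ.hom := by
  obtain ⟨t, ht⟩ := PnSpec.exists_iso 1 k
  obtain ⟨t', ht'⟩ := PnSpec.exists_iso 1 k'
  haveI : IsIso (FGA.projMap 1 σ.hom) := by unfold FGA.projMap; infer_instance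
  refine ⟨t ≪≫ asIso (FGA.projMap 1 σ.hom) ≪≫ t'.symm, ?_⟩
  have h : FGA.projMap 1 σ.hom ≫ CohB1.ProjSpaceOver.toBase 1 (Spec (CommRingCat.of k')) =
      CohB1.ProjSpaceOver.toBase 1 (Spec (CommRingCat.of k)) ≫ σ.hom := pullback.lift_snd _ _ _
  simp only [Iso.trans_hom, asIso_hom, Iso.symm_hom, Category.assoc]
  rw [← ht', Iso.inv_hom_id_assoc, h, ← ht, Category.assoc]

/-- A closed point where the blow-up has an infinite fibre has a two-dimensional local ring. -/
theorem ringKrullDim_of_blowUp {X Y : Scheme.{u}} [IsIntegral Y] [IsNoetherian Y] (hdY : topologicalKrullDim Y = 2)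
    (hY : ∀ y : Y, IsRegularLocalRing (Y.presheaf.stalk y)) {y : Y} (hy : IsClosed ({y} : Set Y)) {f : X ⟶ Y}
    (hf : BlowUp.IsBlowUp f (Scheme.IdealSheafData.vanishingIdeal ⟨{y}, hy⟩))
    (hbig : ∃ x x' : X, x ≠ x' ∧ f x = y ∧ f x' = y) : ringKrullDim (Y.presheaf.stalk y) = 2 := by
  obtain ⟨x, x', hne, hx, hx'⟩ := hbig
  have hle := (ringKrullDim_stalk_le_dim y).trans hdY.le
  rcases le_one_or_two_le (ringKrullDim (Y.presheaf.stalk y)) with h1 | h2
  · exfalso
    set I := Scheme.IdealSheafData.vanishingIdeal (X := Y) ⟨{y}, hy⟩ with hI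
    have hsupp : (I.support : Set Y) = {y} := by
      rw [hI, Scheme.IdealSheafData.coe_support_vanishingIdeal]
      rfl
    have hne' : y ≠ genericPoint Y := by
      intro h
      have huniv : ({y} : Set Y) = Set.univ := by
        rw [← hy.closure_eq, h, genericPoint_closure]
      haveI : Subsingleton Y := ⟨fun p q => by
        have hp : p ∈ ({y} : Set Y) := huniv.ge trivial
        have hq : q ∈ ({y} : Set Y) := huniv.ge trivial
        exact (Set.mem_singleton_iff.1 hp).trans (Set.mem_singleton_iff.1 hq).symm⟩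
      have h0 : topologicalKrullDim Y ≤ ((0 : ℕ) : WithBot ℕ∞) :=
        Unibranch.topologicalKrullDim_le_natCast fun l c hc => by
          rcases l with _ | l
          · exact le_rfl
          · exact absurd (Subsingleton.elim _ _) (hc 0).2
      rw [hdY] at h0
      exact absurd h0 (by decide)
    have hge : (1 : WithBot ℕ∞) ≤ ringKrullDim (Y.presheaf.stalk y) := by
      rw [ringKrullDim_stalk_eq_coheight]
      refine WithBot.coe_le_coe.2 (Order.one_le_iff_pos.mpr (Order.coheight_pos.2 fun hmax => ?_))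
      exact hne' (((genericPoint_specializes y).antisymm (hmax (genericPoint_specializes y))).eq).symm
    have hr : Set.range I.subschemeι = {y} := by rw [I.range_subschemeι, hsupp]
    haveI : Nonempty I.subscheme := by
      obtain ⟨z, -⟩ := hr.ge (Set.mem_singleton y)
      exact ⟨z⟩
    haveI : Subsingleton I.subscheme := ⟨fun p q => I.subschemeι.isClosedEmbedding.injective
      ((Set.mem_singleton_iff.1 (hr.le ⟨p, rfl⟩)).trans (Set.mem_singleton_iff.1 (hr.le ⟨q, rfl⟩)).symm)⟩
    haveI : IsReduced I.subscheme := by rw [hI]; infer_instance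
    haveI : IrreducibleSpace I.subscheme := { isPreirreducible_univ := Set.Subsingleton.isPreirreducible (fun p _ q _ => Subsingleton.elim p q), toNonempty := ‹_› }
    haveI : IsIntegral I.subscheme := isIntegral_of_irreducibleSpace_of_isReduced _
    have hgen : I.subschemeι (genericPoint I.subscheme) = y := hr.le ⟨_, rfl⟩
    have hC : BlowUp.IsEffCartierIdeal I := Groth.Agent.S1684.result Y I (by rw [hgen]; exact le_antisymm h1 hge)
      fun z _ => by haveI := hY z; exact Groth.Agent.S2821.result _
    obtain ⟨s, hs, -⟩ := hf.2 Y (𝟙 Y) (by rw [Scheme.IdealSheafData.comap_id]; exact hC)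
    obtain ⟨u, -, hu⟩ := hf.2 X f hf.1
    have hid : f ≫ s = 𝟙 X := (hu _ (show (f ≫ s) ≫ f = f by rw [Category.assoc, hs, Category.comp_id])).trans (hu _ (Category.id_comp f)).symm
    refine hne ?_
    calc x = (f ≫ s) x := by rw [hid]; rfl
      _ = (f ≫ s) x' := by rw [Scheme.Hom.comp_apply, Scheme.Hom.comp_apply, hx, hx']
      _ = x' := by rw [hid]; rfl
  · exact le_antisymm hle h2

/-- The structure map at the residue field of a point. -/
theorem fromSpecResidueField_comp {R : Type u} [CommRing R] {Y : Scheme.{u}} (q : Y ⟶ Spec (CommRingCat.of R)) (y : Y) :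
    Y.fromSpecResidueField y ≫ q = Spec.map (CommRingCat.ofHom
      ((Y.residue y).hom.comp ((Y.presheaf.germ ⊤ y trivial).hom.comp (Coh.toGlobal q)))) := by
  have h : q = Y.toSpecΓ ≫ Spec.map ((Scheme.ΓSpecIso (CommRingCat.of R)).inv ≫ q.appTop) := by
    refine ext_to_Spec ?_
    simp
  conv_lhs => rw [h]
  rw [Scheme.fromSpecResidueField, Category.assoc, Scheme.fromSpecStalk_toSpecΓ_assoc, ← Spec.map_comp, ← Spec.map_comp]
  congr 1

end Groth.Agent.Castel

namespace Groth.Agent.Castel

/-- The structure map of the line can be cancelled. -/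
theorem toSpec_cancel {k : Type u} [Field k] {A : CommRingCat.{u}} (u v : Spec (CommRingCat.of k) ⟶ Spec A)
    (h : CohB1.ProjSpace.toSpec 1 k ≫ u = CohB1.ProjSpace.toSpec 1 k ≫ v) : u = v := by
  refine ext_to_Spec ?_
  have h1 := congrArg Scheme.Hom.appTop h
  rw [Scheme.Hom.comp_appTop, Scheme.Hom.comp_appTop] at h1
  letI : (CohB1.ProjSpace 1 k).Over (Spec (CommRingCat.of k)) := ⟨CohB1.ProjSpace.toSpec 1 k⟩
  have hinj : Function.Injective (CohB1.ProjSpace.toSpec 1 k).appTop := by
    intro a b hab
    have h2 : ∀ c, CurveRR.cst k (CohB1.ProjSpace 1 k) ⊤ ((Scheme.ΓSpecIso (CommRingCat.of k)).hom c) =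
        (CohB1.ProjSpace.toSpec 1 k).appTop c := fun c => by
      show QC.resO _ (le_refl _) ((CohB1.ProjSpace.toSpec 1 k).appTop
        ((Scheme.ΓSpecIso (CommRingCat.of k)).inv ((Scheme.ΓSpecIso (CommRingCat.of k)).hom c))) = _
      rw [QC.resO_self]
      exact congrArg _ (ConcreteCategory.congr_hom (Scheme.ΓSpecIso (CommRingCat.of k)).hom_inv_id c)
    exact (ConcreteCategory.bijective_of_isIso (Scheme.ΓSpecIso (CommRingCat.of k)).hom).1
      ((bijective_cst_projLine k).1 ((h2 a).trans (hab.trans (h2 b).symm)))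
  ext r
  exact hinj (ConcreteCategory.congr_hom h1 ((Scheme.ΓSpecIso A).inv r))

end Groth.Agent.Castel
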