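import Groth.Agent.Castel.AmpleDeg
import Groth.Agent.Intersect.CurveOnSurface
import Groth.Agent.W7Cover.Degree
import Groth.Agent.DimAffMap.Basic
import Groth.Agent.LefRel.Embed

/-!
Degrees on the projective line and dimension of contracted surfaces.
-/

set_option autoImplicit false
set_option backward.isDefEq.respectTransparency false
set_option backward.isDefEq.respectTransparency.types false
set_option linter.style.haveILetI false

universe u

open CategoryTheory CategoryTheory.Limits AlgebraicGeometry TopologicalSpace Opposite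
open Groth.Agent.CurveRR

noncomputable section

namespace Groth.Agent.Castel

/-- The Euler characteristic of a twist on the line. -/
theorem euler_twist_line (k : Type u) [Field k] (a : ℤ) :
    Curv2.euler k (CohB1.ProjSpace 1 k) (Twist.twistProjSpace 1 k a) = a + 1 := by
  haveI : IsProper (CohB1.ProjSpace 1 k ↘ Spec (CommRingCat.of k)) := ProjMor.isProper_toSpec 1 k
  rw [euler_eq (Groth.Agent.S10829.result k 1).le]
  have h := Groth.Agent.S4466.result k 1 one_pos a
  rw [Finset.sum_range_succ, Finset.sum_range_one, Ring.choose_one_right] at h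
  push_cast at h
  simp only [CurveRR.h] at h ⊢
  linarith

/-- The degree of a twist on the line. -/
theorem deg_twist_line (k : Type u) [Field k] (a : ℤ) :
    Curv2.deg k (CohB1.ProjSpace 1 k) (Twist.twistProjSpace 1 k a) 1 = a := by
  obtain ⟨o⟩ := Horrocks.Om_zero (k := k) (d := 1)
  haveI : IsProper (CohB1.ProjSpace 1 k ↘ Spec (CommRingCat.of k)) := ProjMor.isProper_toSpec 1 k
  have h0 : Curv2.euler k (CohB1.ProjSpace 1 k) (Coh.structureModule (CohB1.ProjSpace 1 k)) = 1 := by
    rw [← euler_eq_of_iso o]
    exact euler_twist_line k 0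
  rw [Curv2.deg, euler_twist_line, h0]
  ring

/-- The degree of a twist, for any spelling of the structure map. -/
theorem deg_twist_line' (k : Type u) [Field k] (a : ℤ) (q : CohB1.ProjSpace 1 k ⟶ Spec (CommRingCat.of k))
    (hq : q = CohB1.ProjSpace.toSpec 1 k) :
    letI : (CohB1.ProjSpace 1 k).Over (Spec (CommRingCat.of k)) := ⟨q⟩
    Curv2.deg k (CohB1.ProjSpace 1 k) (Twist.twistProjSpace 1 k a) 1 = a := by
  subst hq
  exact deg_twist_line k a

/-- A proper surjection onto a space with an open isomorphic to a dense open preserves dimension. -/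
theorem dim_eq_of_iso_off {k : Type u} [Field k] {X Y : Scheme.{u}} [IsIntegral X] [IsIntegral Y]
    (f : X ⟶ Spec (CommRingCat.of k)) [LocallyOfFiniteType f] [QuasiCompact f]
    (q : Y ⟶ Spec (CommRingCat.of k)) [LocallyOfFiniteType q] [QuasiCompact q]
    (b : X ⟶ Y) (V : Y.Opens) (hV : (V : Set Y).Nonempty) (hV' : ((b ⁻¹ᵁ V : X.Opens) : Set X).Nonempty)
    [IsIso (b ∣_ V)] : topologicalKrullDim Y = topologicalKrullDim X := by
  rw [← DimAffMap.dim_opens q V (V.isOpen.dense hV), ← DimAffMap.dim_opens f _ ((b ⁻¹ᵁ V).isOpen.dense hV')]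
  exact ((b ∣_ V).homeomorph.isHomeomorph.topologicalKrullDim_eq).symm

/-- A scheme whose functions inject into those of a reduced scheme is reduced. -/
theorem isReduced_of_app_injective {X Y : Scheme.{u}} [IsReduced X] (b : X ⟶ Y)
    (h : ∀ V : Y.Opens, Function.Injective (b.app V)) : IsReduced Y := by
  haveI : ∀ V : Y.Opens, _root_.IsReduced Γ(Y, V) := fun V => isReduced_of_injective (b.app V).hom (h V)
  constructor
  exact fun V => inferInstance

end Groth.Agent.Castel
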