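import Groth.Agent.Castel.PicContract
import Groth.Agent.Nagata.ProjBundles
import Groth.Agent.PtBlow.Contraction
import Groth.Agent.PurePair.FlatBC
import Groth.Agent.SymAlg.PnOfFT

/-!
Invertible modules trivial on a contracted line come from the contraction.
-/

set_option autoImplicit false
set_option backward.isDefEq.respectTransparency false
set_option backward.isDefEq.respectTransparency.types false
set_option linter.style.haveILetI false

universe u

open CategoryTheory CategoryTheory.Limits AlgebraicGeometry TopologicalSpace Opposite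
open Groth.Agent.QC (res resO resO_resO resO_self app_res res_smul res_self res_res)
open TMul (IsGen val homOf)

noncomputable section

namespace Groth.Agent.Castel

/-- An invertible module trivial on a contracted line is an inverse image. -/
theorem exists_descent_contract {X Y : Scheme.{u}} [IsNoetherian Y] (b : X ⟶ Y) [IsProper b]
    (hb : ∀ V : Y.Opens, Function.Bijective (b.app V)) (y : Y) (hy : IsClosed ({y} : Set Y))
    (U : Y.Opens) (hU : ∀ z : Y, z ≠ y → z ∈ U) [IsIso (b ∣_ U)]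
    {k : Type u} [Field k] (ι₀ : CohB1.ProjSpace 1 k ⟶ X) [IsClosedImmersion ι₀]
    (hfib : b ⁻¹' {y} = Set.range ι₀) (hI : BlowUp.IsEffCartierIdeal ι₀.ker) {m : ℤ} (hm0 : 0 ≤ m)
    (e : (Scheme.Modules.pullback ι₀).obj (ClSub.idealMod ι₀.ker) ≅ Twist.twistProjSpace 1 k m)
    {L : X.Modules} (hL : PicF.IsInvertible L)
    (eL : (Scheme.Modules.pullback ι₀).obj L ≅ Twist.twistProjSpace 1 k 0) :
    ∃ L' : Y.Modules, PicF.IsInvertible L' ∧ Nonempty ((Scheme.Modules.pullback b).obj L' ≅ L) := by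
  refine exists_descent b hb hL fun z => ?_
  by_cases hz : z = y
  · subst hz
    obtain ⟨W, hW, hzW, -⟩ := exists_isAffineOpen_mem_and_subset (show z ∈ (⊤ : Y.Opens) from trivial)
    haveI : IsNoetherianRing Γ(Y, W) := IsLocallyNoetherian.component_noetherian ⟨W, hW⟩
    let μ := (b ⁻¹ᵁ W).ι
    letI : (b ⁻¹ᵁ W).toScheme.Over (Spec (CommRingCat.of Γ(Y, W))) := ⟨(b ∣_ W) ≫ hW.isoSpec.hom⟩
    haveI : IsProper ((b ⁻¹ᵁ W).toScheme ↘ Spec (CommRingCat.of Γ(Y, W))) :=
      inferInstanceAs (IsProper ((b ∣_ W) ≫ hW.isoSpec.hom))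
    haveI : Surjective (pullback.snd μ ι₀) := ⟨fun w => by
      have hw : ι₀ w ∈ Set.range μ := by
        rw [Scheme.Opens.range_ι]
        change b (ι₀ w) ∈ W
        rw [show b (ι₀ w) = z from hfib.ge ⟨w, rfl⟩]
        exact hzW
      obtain ⟨x, hx⟩ := hw
      obtain ⟨p, -, hp⟩ := Scheme.Pullback.exists_preimage_pullback (f := μ) (g := ι₀) x w hx
      exact ⟨p, hp⟩⟩
    haveI : IsIso (pullback.snd μ ι₀) := (isIso_iff_isOpenImmersion_and_surjective _).mpr ⟨inferInstance, inferInstance⟩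
    let ι₁ := inv (pullback.snd μ ι₀) ≫ pullback.fst μ ι₀
    haveI : IsClosedImmersion ι₁ := inferInstanceAs (IsClosedImmersion (inv (pullback.snd μ ι₀) ≫ pullback.fst μ ι₀))
    have hι₁ : ι₁ ≫ μ = ι₀ := by rw [Category.assoc, pullback.condition, IsIso.inv_hom_id_assoc]
    have hker₁ : ι₁.ker = ι₀.ker.comap μ :=
      (Scheme.Hom.ker_comp_of_isIso (inv (pullback.snd μ ι₀)) _).trans
        (Scheme.IdealSheafData.ker_fst_of_isClosedImmersion ι₀ μ)
    have hI₁ : BlowUp.IsEffCartierIdeal (ι₀.ker.comap μ) := BlowUpLib.cartier_comap_flat hI μ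
    obtain ⟨q⟩ := Nakai.nonempty_pullback_idealMod μ hI hI₁
    let r := (Scheme.Modules.restrictFunctorIsoPullback μ).app L
    have hL₁ : PicF.IsInvertible (L.restrict μ) :=
      Groth.Agent.Nagata.isInvertible_of_iso' r.symm (PicLoc.isInvertible_pullback μ hL)
    let pt : Spec (CommRingCat.of Γ(Y, W)) := hW.isoSpec.hom ⟨z, hzW⟩
    have hinj : ∀ a : W.toScheme, hW.isoSpec.hom a = pt ↔ a.1 = z := fun a =>
      ⟨fun h => congrArg Subtype.val ((hW.isoSpec.hom.homeomorph.injective h : a = ⟨z, hzW⟩)),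
        fun h => congrArg hW.isoSpec.hom (Subtype.ext h : a = ⟨z, hzW⟩)⟩
    have hpt : IsClosed ({pt} : Set (Spec (CommRingCat.of Γ(Y, W)))) := by
      have h1 : IsClosed ({⟨z, hzW⟩} : Set W.toScheme) := by
        have h2 : ({⟨z, hzW⟩} : Set W.toScheme) = W.ι ⁻¹' {z} := by
          ext a
          exact ⟨fun h => congrArg Subtype.val h, fun h => Subtype.ext h⟩
        rw [h2]
        exact hy.preimage W.ι.continuous
      simpa using hW.isoSpec.hom.isClosedMap _ h1
    have hfib₁ : ∀ x : (b ⁻¹ᵁ W).toScheme, ((b ⁻¹ᵁ W).toScheme ↘ Spec (CommRingCat.of Γ(Y, W))) x = pt ↔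
        x ∈ Set.range ι₁ := by
      intro x
      change hW.isoSpec.hom ((b ∣_ W) x) = pt ↔ _
      rw [hinj]
      have h1 : ((b ∣_ W) x).1 = b (μ x) := by
        change W.ι ((b ∣_ W) x) = _
        rw [← Scheme.Hom.comp_apply, morphismRestrict_ι]
        rfl
      rw [h1]
      constructor
      · intro h
        obtain ⟨w, hw⟩ := hfib.le h
        exact ⟨w, μ.isOpenEmbedding.injective ((congrArg (fun φ : _ ⟶ X => φ w) hι₁).trans hw)⟩
      · rintro ⟨w, rfl⟩
        exact hfib.ge ⟨w, (congrArg (fun φ : _ ⟶ X => φ w) hι₁).symm⟩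
    obtain ⟨V, hV, g, hg⟩ := exists_gen_fibre pt hpt hI₁ ι₁ hker₁ hfib₁ hL₁ hm0
      ((Scheme.Modules.pullback ι₁).mapIso q.symm ≪≫ (Scheme.Modules.pullbackComp ι₁ μ).app _ ≪≫
        (Scheme.Modules.pullbackCongr hι₁).app _ ≪≫ e)
      ((Scheme.Modules.pullback ι₁).mapIso r ≪≫ (Scheme.Modules.pullbackComp ι₁ μ).app _ ≪≫
        (Scheme.Modules.pullbackCongr hι₁).app _ ≪≫ eL)
    let V' : Y.Opens := W.ι ''ᵁ (hW.isoSpec.hom ⁻¹ᵁ V)
    have hpre : b ⁻¹ᵁ V' = μ ''ᵁ (((b ⁻¹ᵁ W).toScheme ↘ Spec (CommRingCat.of Γ(Y, W))) ⁻¹ᵁ V) :=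
      (image_morphismRestrict_preimage b W (hW.isoSpec.hom ⁻¹ᵁ V)).symm
    refine ⟨V', res L hpre.le (show Γ(L, μ ''ᵁ _) from g), ⟨⟨z, hzW⟩, hV, rfl⟩, ?_⟩
    exact Groth.Agent.SymAlg.isGen_res hpre.le (Groth.Agent.SymAlg.isGen_of_isGen_restrict μ g hg)
  · obtain ⟨x, hx⟩ := (b ∣_ U).homeomorph.surjective ⟨z, hU z hz⟩
    obtain ⟨O, hO, g, hxO, hg⟩ := CohFinite.exists_gen_le hL x.2
    let V : Y.Opens := U.ι ''ᵁ (inv (b ∣_ U) ⁻¹ᵁ ((b ⁻¹ᵁ U).ι ⁻¹ᵁ O))
    have hpre : b ⁻¹ᵁ V = O := by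
      rw [← image_morphismRestrict_preimage, ← Scheme.Hom.comp_preimage, IsIso.hom_inv_id, Scheme.Hom.id_preimage,
        Scheme.Hom.image_preimage_eq_opensRange_inf, Scheme.Opens.opensRange_ι, inf_eq_right.2 hO]
    have hxz : (inv (b ∣_ U)) ⟨z, hU z hz⟩ = x := by
      rw [← hx]
      change ((b ∣_ U) ≫ inv (b ∣_ U)) x = x
      rw [IsIso.hom_inv_id]
      rfl
    refine ⟨V, res L hpre.le g, ⟨⟨z, hU z hz⟩, ?_, rfl⟩, Groth.Agent.SymAlg.isGen_res hpre.le hg⟩
    change (b ⁻¹ᵁ U).ι ((inv (b ∣_ U)) ⟨z, hU z hz⟩) ∈ O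
    rw [hxz]
    exact hxO

/-- An invertible module pulls back trivially along a map to one point. -/
theorem nonempty_pullback_point {E Y : Scheme.{u}} (q : E ⟶ Y) (y : Y) (hq : ∀ e, q e = y) {L : Y.Modules}
    (hL : PicF.IsInvertible L) : Nonempty ((Scheme.Modules.pullback q).obj L ≅ Coh.structureModule E) := by
  obtain ⟨O, -, g, hy, hg⟩ := CohFinite.exists_gen_le hL (show y ∈ (⊤ : Y.Opens) from trivial)
  have h : (⊤ : E.Opens) ≤ q ⁻¹ᵁ O := fun e _ => by
    change q e ∈ O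
    rw [hq]
    exact hy
  obtain ⟨a⟩ := nonempty_iso_of_isGen (Groth.Agent.SymAlg.isGen_res h (Groth.Agent.SymAlg.isGen_unitP q hL hg))
  exact ⟨a.symm⟩

/-- Sections on the blow-up of a regular point of dimension two are the sections on the base. -/
theorem bijective_app_contract {X Y : Scheme.{u}} [IsNoetherian Y] {y : Y} (hy : PtBlow.IsRegPt Y y) {b : X ⟶ Y}
    (hb : BlowUp.IsBlowUp b (PtBlow.pt hy)) (V : Y.Opens) : Function.Bijective (b.app V) :=
  Groth.Agent.PurePair.bijective_app_of_basis b {W | IsAffineOpen W}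
    (fun W x hx => by
      obtain ⟨O, hO, hxO, hle⟩ := exists_isAffineOpen_mem_and_subset hx
      exact ⟨O, hO, hxO, hle⟩)
    (fun _ hW => PtBlow.bijective_app_blowUp hy hb hW) V

/-- The Picard group of the blow-up of a regular point of dimension two: descent. -/
theorem exists_descent_blowUp {X Y : Scheme.{u}} [IsNoetherian Y] {y : Y} (hy : PtBlow.IsRegPt Y y) {b : X ⟶ Y}
    (hb : BlowUp.IsBlowUp b (PtBlow.pt hy))
    {k : Type u} [Field k] (ι₀ : CohB1.ProjSpace 1 k ⟶ X) [IsClosedImmersion ι₀]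
    (hfib : b ⁻¹' {y} = Set.range ι₀) (hI : BlowUp.IsEffCartierIdeal ι₀.ker) {m : ℤ} (hm0 : 0 ≤ m)
    (e : (Scheme.Modules.pullback ι₀).obj (ClSub.idealMod ι₀.ker) ≅ Twist.twistProjSpace 1 k m)
    {L : X.Modules} (hL : PicF.IsInvertible L)
    (eL : (Scheme.Modules.pullback ι₀).obj L ≅ Coh.structureModule _) :
    ∃ L' : Y.Modules, PicF.IsInvertible L' ∧ Nonempty ((Scheme.Modules.pullback b).obj L' ≅ L) := by
  haveI := PtBlow.isProper_blowUp hy hb
  haveI := BlowUpLib.isIso_restrict hb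
  obtain ⟨t⟩ := Horrocks.Om_zero (k := k) (d := 1)
  refine exists_descent_contract b (bijective_app_contract hy hb) y hy.closed (PtBlow.pt hy).support.compl
    (fun z hz h' => hz ?_) ι₀ hfib hI hm0 e hL (eL ≪≫ t.symm)
  have h2 : z ∈ ((PtBlow.pt hy).support : Set Y) := h'
  rwa [PtBlow.coe_support_pt hy] at h2

/-- A line inside the fibre of the contracted point fills it. -/
theorem range_eq_of_subset {X : Scheme.{u}} {k k' : Type u} [Field k] [Field k'] (i : CohB1.ProjSpace 1 k ⟶ X)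
    (j : CohB1.ProjSpace 1 k' ⟶ X) [IsClosedImmersion i] [IsClosedImmersion j] (h : Set.range i ⊆ Set.range j) :
    Set.range i = Set.range j := by
  haveI : IsIntegral (CohB1.ProjSpace 1 k) := Horrocks.isIntegral_projSpace
  haveI : IsIntegral (CohB1.ProjSpace 1 k') := Horrocks.isIntegral_projSpace
  let S : Set (CohB1.ProjSpace 1 k') := j ⁻¹' Set.range i
  have hS : IsClosed S := i.isClosedEmbedding.isClosed_range.preimage j.continuous
  by_cases hg : genericPoint (CohB1.ProjSpace 1 k') ∈ S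
  · refine subset_antisymm h ?_
    rintro _ ⟨z, rfl⟩
    exact ((genericPoint_specializes z).mem_closed hS hg :)
  · exfalso
    obtain ⟨w, hw⟩ := h ⟨genericPoint _, rfl⟩
    have hall : ∀ p : CohB1.ProjSpace 1 k, i p = j w := fun p => by
      obtain ⟨z, hz⟩ := h ⟨p, rfl⟩
      have h1 : i (genericPoint _) ⤳ i p := (genericPoint_specializes p).map i.continuous
      rw [← hw, ← hz] at h1
      have h2 : w ⤳ z := j.isEmbedding.isInducing.specializes_iff.1 h1
      by_cases hwz : w = z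
      · rw [← hz, hwz]
      · have h3 : w ∈ S := ⟨_, hw.symm⟩
        exact absurd (subsingleton_chain_projLine w z h2 hwz ▸ h3) hg
    haveI : Subsingleton (CohB1.ProjSpace 1 k) := ⟨fun a c => i.isClosedEmbedding.injective ((hall a).trans (hall c).symm)⟩
    exact not_finite_projLine k inferInstance

end Groth.Agent.Castel
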