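import Groth.Agent.Castel.Global
import Groth.Agent.Castel.Cotangent
import Mathlib.AlgebraicGeometry.Morphisms.FlatMono

/-!
The cotangent space of a contracted point.
-/

set_option autoImplicit false
set_option backward.isDefEq.respectTransparency false
set_option backward.isDefEq.respectTransparency.types false
set_option linter.style.haveILetI false

universe u

open CategoryTheory CategoryTheory.Limits AlgebraicGeometry TopologicalSpace Opposite

noncomputable section

namespace Groth.Agent.Castel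

/-- The embedding dimension at a contracted line of conormal degree `m` is `m + 1`. -/
theorem finrank_cotangent_stalk {X X' : Scheme.{u}} [IsNoetherian X'] (b : X ⟶ X') [IsProper b]
    (hb : ∀ V : X'.Opens, Function.Bijective (b.app V)) (y : X') (hy : IsClosed ({y} : Set X'))
    {k : Type u} [Field k] (ι₀ : CohB1.ProjSpace 1 k ⟶ X) [IsClosedImmersion ι₀]
    (hI : BlowUp.IsEffCartierIdeal ι₀.ker) {m : ℕ} (hm : 0 < m)
    (e : (Scheme.Modules.pullback ι₀).obj (ClSub.idealMod ι₀.ker) ≅ Twist.twistProjSpace 1 k (m : ℤ))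
    (hfib : b ⁻¹' {y} = Set.range ι₀) :
    Module.finrank (IsLocalRing.ResidueField (X'.presheaf.stalk y))
      (IsLocalRing.CotangentSpace (X'.presheaf.stalk y)) = m + 1 := by
  haveI : IsLocallyNoetherian X := LocallyOfFiniteType.isLocallyNoetherian b
  haveI : CompactSpace X := QuasiCompact.compactSpace_of_compactSpace b
  haveI : IsNoetherian X := {}
  haveI : IsIntegral (CohB1.ProjSpace 1 k) := Horrocks.isIntegral_projSpace
  -- base change to the local ring
  let A := X'.presheaf.stalk y
  let j : Spec (CommRingCat.of A) ⟶ X' := X'.fromSpecStalk y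
  haveI : Flat j := GrpField.flat_fromSpecStalk y
  haveI : IsPreimmersion j := inferInstanceAs (IsPreimmersion (X'.fromSpecStalk y))
  haveI : IsNoetherianRing A := inferInstanceAs (IsNoetherianRing (X'.presheaf.stalk y))
  let X₁ := pullback j b
  letI : X₁.Over (Spec (CommRingCat.of A)) := ⟨pullback.fst j b⟩
  haveI : IsProper (X₁ ↘ Spec (CommRingCat.of A)) := inferInstanceAs (IsProper (pullback.fst j b))
  let v : X₁ ⟶ X := pullback.snd j b
  haveI : Flat v := inferInstanceAs (Flat (pullback.snd j b))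
  haveI : IsPreimmersion v := inferInstanceAs (IsPreimmersion (pullback.snd j b))
  have hjy : j (IsLocalRing.closedPoint A) = y := Scheme.fromSpecStalk_closedPoint
  have hinj : ∀ z, j z = y → z = IsLocalRing.closedPoint A := fun z hz =>
    j.isEmbedding.injective (hz.trans hjy.symm)
  -- the curve lifts
  haveI : QuasiCompact j := inferInstanceAs (QuasiCompact (X'.fromSpecStalk y))
  haveI : QuasiCompact v := inferInstanceAs (QuasiCompact (pullback.snd j b))
  let r := pullback.fst ι₀ v
  haveI : Flat r := inferInstanceAs (Flat (pullback.fst ι₀ v))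
  haveI : QuasiCompact r := inferInstanceAs (QuasiCompact (pullback.fst ι₀ v))
  haveI : Mono r := inferInstanceAs (Mono (pullback.fst ι₀ v))
  haveI : Surjective r := ⟨fun z => by
    have hz : b (ι₀ z) = y := hfib.ge ⟨z, rfl⟩
    obtain ⟨x₁, -, hx₁⟩ := Scheme.Pullback.exists_preimage_pullback _ _ (hjy.trans hz.symm)
    obtain ⟨w, hw, -⟩ := Scheme.Pullback.exists_preimage_pullback z x₁ hx₁.symm
    exact ⟨w, hw⟩⟩
  haveI : IsIso r := Flat.isIso_of_surjective_of_mono r
  let ι₁ : CohB1.ProjSpace 1 k ⟶ X₁ := inv r ≫ pullback.snd ι₀ v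
  haveI : IsClosedImmersion ι₁ := inferInstanceAs (IsClosedImmersion (inv r ≫ pullback.snd ι₀ v))
  have hι₁ : ι₁ ≫ v = ι₀ := by
    rw [Category.assoc, ← pullback.condition, IsIso.inv_hom_id_assoc]
  let I₁ := ι₀.ker.comap v
  have hI₁ : BlowUp.IsEffCartierIdeal I₁ := BlowUpLib.cartier_comap_flat hI v
  have hker₁ : ι₁.ker = I₁ := by
    have h1 : ι₁.ker = (pullback.snd ι₀ v).ker := Scheme.Hom.ker_comp_of_isIso (inv r) _
    have h2 : pullback.snd ι₀ v = (pullbackSymmetry ι₀ v).hom ≫ pullback.fst v ι₀ :=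
      (pullbackSymmetry_hom_comp_fst _ _).symm
    let T := pullback.map v ι₀ v ι₀.ker.subschemeι (𝟙 _) ι₀.toImage (𝟙 _) (by simp)
      (by rw [Category.comp_id]; exact ι₀.toImage_imageι.symm)
    haveI : IsIso T := inferInstance
    have h3 : pullback.fst v ι₀ = T ≫ pullback.fst v ι₀.ker.subschemeι := by
      rw [pullback.lift_fst, Category.comp_id]
    rw [h1, h2, Scheme.Hom.ker_comp_of_isIso, h3, Scheme.Hom.ker_comp_of_isIso]
    rfl
  obtain ⟨q⟩ := Nakai.nonempty_pullback_idealMod v hI hI₁
  let e₁ : (Scheme.Modules.pullback ι₁).obj (ClSub.idealMod I₁) ≅ Twist.twistProjSpace 1 k (m : ℤ) :=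
    (Scheme.Modules.pullback ι₁).mapIso q.symm ≪≫ (Scheme.Modules.pullbackComp ι₁ v).app _ ≪≫
      (Scheme.Modules.pullbackCongr hι₁).app _ ≪≫ e
  have hfib₁ : ∀ x : X₁, (X₁ ↘ Spec (CommRingCat.of A)) x = IsLocalRing.closedPoint A ↔ x ∈ I₁.support := by
    intro x
    have hc : j (pullback.fst j b x) = b (v x) := by
      rw [← Scheme.Hom.comp_apply, ← Scheme.Hom.comp_apply]
      exact congrArg (fun φ : X₁ ⟶ X' => φ x) pullback.condition
    have hs : x ∈ I₁.support ↔ b (v x) = y := by
      rw [← SetLike.mem_coe, Scheme.IdealSheafData.support_comap]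
      change v x ∈ (ι₀.ker.support : Set X) ↔ _
      rw [Scheme.Hom.support_ker, ι₀.isClosedMap.isClosed_range.closure_eq, ← hfib]
      rfl
    rw [hs]
    exact ⟨fun h => hc.symm.trans ((congrArg j h).trans hjy), fun h => hinj _ (hc.trans h)⟩
  have hA : Function.Bijective (Coh.toGlobal (X₁ ↘ Spec (CommRingCat.of A))) := by
    have h1 := PurePair.bijective_app_of_flat_baseChange j b (fun V _ => hb V)
      (IsPullback.of_hasPullback j b) ⊤
    have h2 := Function.Bijective.comp h1
      (ConcreteCategory.bijective_of_isIso (Scheme.ΓSpecIso (CommRingCat.of A)).inv)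
    rw [show Coh.toGlobal (X₁ ↘ Spec (CommRingCat.of A)) =
      ((pullback.fst j b).app ⊤).hom.comp (Scheme.ΓSpecIso (CommRingCat.of A)).inv.hom from rfl]
    exact h2
  haveI : IsLocallyNoetherian X₁ := LocallyOfFiniteType.isLocallyNoetherian (X₁ ↘ Spec (CommRingCat.of A))
  haveI : CompactSpace X₁ := QuasiCompact.compactSpace_of_compactSpace (X₁ ↘ Spec (CommRingCat.of A))
  haveI : IsNoetherian X₁ := {}
  have hsupp : (((ptIdeal A).comap (X₁ ↘ Spec (CommRingCat.of A))).support : Set X₁) = I₁.support := by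
    ext x
    rw [Scheme.IdealSheafData.support_comap]
    exact (mem_support_ptIdeal _).trans (hfib₁ x)
  obtain ⟨c, hc⟩ := exists_pow_le I₁ ((ptIdeal A).comap (X₁ ↘ Spec (CommRingCat.of A))) hsupp.subset
  exact finrank_cotangent (X := X₁) hA hI₁ ι₁ hker₁ hm e₁ (fun x hx => (hfib₁ x).1 hx)
    (fun W => (hc W).trans (comap_ptIdeal W).le)

end Groth.Agent.Castel
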