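import Groth.Agent.Castel.ArithY
import Groth.Agent.Castel.GlobalCot
import Groth.Agent.NormSect.Basic
import Groth.Agent.RegLoc.Normal

/-!
Dimension and normality of a contracted surface.
-/

set_option autoImplicit false
set_option backward.isDefEq.respectTransparency false
set_option backward.isDefEq.respectTransparency.types false
set_option linter.style.haveILetI false

universe u

open CategoryTheory CategoryTheory.Limits AlgebraicGeometry TopologicalSpace Opposite

noncomputable section

namespace Groth.Agent.Castel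

/-- A modification contracting only a line keeps dimension at least two. -/
theorem two_le_dim_of_contract {X Y : Scheme.{u}} [IsIntegral X] [IsIntegral Y] [IsNoetherian X] [IsNoetherian Y]
    (f : X ⟶ Y) [IsProper f] {k : Type u} [Field k] (ι₀ : CohB1.ProjSpace 1 k ⟶ X) [IsClosedImmersion ι₀]
    (hI : BlowUp.IsEffCartierIdeal ι₀.ker) (y : Y) (hy : IsClosed ({y} : Set Y))
    (hfib : f ⁻¹' {y} = Set.range ι₀)
    [hiso : IsIso (f ∣_ (⟨({y} : Set Y)ᶜ, hy.isOpen_compl⟩ : Y.Opens))] :
    (2 : WithBot ℕ∞) ≤ topologicalKrullDim Y := by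
  haveI : IsIntegral (CohB1.ProjSpace 1 k) := Horrocks.isIntegral_projSpace
  set V : Y.Opens := ⟨({y} : Set Y)ᶜ, hy.isOpen_compl⟩ with hV
  have hinj : ∀ x x' : X, f x = f x' → f x ≠ y → x = x' := by
    intro x x' h hne
    have hx : f x ∈ V := hne
    have := (f ∣_ V).isOpenEmbedding.injective (a₁ := ⟨x, hx⟩) (a₂ := ⟨x', show f x' ∈ V from h ▸ hx⟩)
      (Subtype.ext (by rw [morphismRestrict_base_coe, morphismRestrict_base_coe]; exact h))
    exact congrArg Subtype.val this
  let η : X := ι₀ (genericPoint (CohB1.ProjSpace 1 k))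
  let ζ : X := genericPoint X
  have hfη : f η = y := hfib.ge ⟨_, rfl⟩
  have hζI : ζ ∉ ι₀.ker.support := BlowUpLib.notMem_support_of_maximalPt hI fun z hz =>
    (hz.antisymm (genericPoint_specializes z)).eq
  have hfζ : f ζ ≠ y := fun h => hζI (by
    have := hfib.subset h
    rw [← SetLike.mem_coe, Scheme.Hom.support_ker]
    exact subset_closure this)
  by_contra hlt
  have hY : topologicalKrullDim Y ≤ ((1 : ℕ) : WithBot ℕ∞) := by
    rcases le_one_or_two_le (topologicalKrullDim Y) with h | h
    · exact h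
    · exact absurd h hlt
  obtain ⟨p₀, hp₀⟩ : ∃ p₀ : CohB1.ProjSpace 1 k, p₀ ≠ genericPoint (CohB1.ProjSpace 1 k) := by
    by_contra! hall
    haveI : Subsingleton (CohB1.ProjSpace 1 k) := ⟨fun p q => (hall p).trans (hall q).symm⟩
    have h0 : topologicalKrullDim (CohB1.ProjSpace 1 k) ≤ ((0 : ℕ) : WithBot ℕ∞) :=
      Unibranch.topologicalKrullDim_le_natCast fun l c hc => by
        rcases l with _ | l
        · exact le_rfl
        · exact absurd (Subsingleton.elim _ _) (hc 0).2
    rw [Groth.Agent.S10829.result k 1] at h0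
    exact absurd h0 (by decide)
  have hζη : ζ ⤳ η := genericPoint_specializes η
  have hne : ζ ≠ η := fun h => hfζ (h ▸ hfη)
  have hchain : f η = f (ι₀ p₀) := hfη.trans (show f (ι₀ p₀) = y from hfib.ge ⟨_, rfl⟩).symm
  have key := DimFormula.dimension_inequality f (ζ := ζ) (x := η) hζη (a := 1) (c := 1) (d := 1) (e := 0)
    ⟨![ζ, η], fun i => by fin_cases i; exact ⟨hζη, hne⟩, specializes_rfl, rfl⟩
    (fun m c' h1 _ _ => by
      have := (Unibranch.natCast_le_topologicalKrullDim c' h1).trans hY
      exact_mod_cast this)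
    ⟨![η, ι₀ p₀], fun i => by
      fin_cases i
      · exact ⟨subset_closure rfl, rfl⟩
      · exact ⟨specializes_iff_mem_closure.1 ((genericPoint_specializes p₀).map ι₀.continuous), hchain.symm⟩,
      fun i => by
        fin_cases i
        exact ⟨(genericPoint_specializes p₀).map ι₀.continuous,
          fun h => hp₀ (ι₀.isClosedEmbedding.injective h).symm⟩⟩
    (fun m c' h1 h2 => by
      rcases m with _ | m
      · exact le_rfl
      exact absurd ((hinj _ _ ((h1 0).2.symm ▸ rfl) ((h1 0).2.symm ▸ hfζ)).trans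
        (hinj ζ _ ((h1 1).2.symm) hfζ) ) (h2 0).2)
  omega

/-- A scheme with the functions of a regular integral one is normal. -/
theorem normal_of_app_bijective {X Y : Scheme.{u}} [IsIntegral X] [IsIntegral Y] (b : X ⟶ Y)
    (hb : ∀ V : Y.Opens, Function.Bijective (b.app V)) (hs : Function.Surjective b)
    (hX : ∀ x : X, IsRegularLocalRing (X.presheaf.stalk x)) (y : Y) :
    IsIntegrallyClosed (Y.presheaf.stalk y) := by
  obtain ⟨V, hV, hyV, -⟩ := exists_isAffineOpen_mem_and_subset (x := y) (U := (⊤ : Y.Opens)) trivial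
  haveI : Nonempty V := ⟨⟨y, hyV⟩⟩
  obtain ⟨x, hx⟩ := hs y
  haveI : Nonempty ((b ⁻¹ᵁ V : X.Opens) : Scheme.{u}) := ⟨⟨x, show b x ∈ V from hx.symm ▸ hyV⟩⟩
  haveI : IsIntegrallyClosed Γ(X, b ⁻¹ᵁ V) := NormSect.isIntegrallyClosed_sections _ fun x _ => by
    haveI := hX x
    exact RegLoc.isIntegrallyClosed
  haveI : IsIntegrallyClosed Γ(Y, V) :=
    IsIntegrallyClosed.of_equiv (RingEquiv.ofBijective (b.app V).hom (hb V)).symm
  exact NormSect.isIntegrallyClosed_stalk V hV ⟨y, hyV⟩

end Groth.Agent.Castel
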