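import Groth.Agent.Castel.ProperModel
import Groth.Agent.S1365
import Groth.Agent.RatBlow.Base

/-!
The closed fibre of a regular proper model is connected.
-/

set_option autoImplicit false
set_option backward.isDefEq.respectTransparency false
set_option backward.isDefEq.respectTransparency.types false
set_option linter.style.haveILetI false

universe u

open CategoryTheory CategoryTheory.Limits AlgebraicGeometry TopologicalSpace Topology

noncomputable section

namespace Groth.Agent.Castel

variable {R : Type u} [CommRing R] [IsDomain R] [IsDiscreteValuationRing R]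

/-- Zariski connectedness for regular proper models. -/
theorem geometricallyConnected_of_regularProper {C X : Scheme.{u}}
    {f : C ⟶ Spec (CommRingCat.of (FractionRing R))} {p : X ⟶ Spec (CommRingCat.of R)}
    (hC : Curve.IsSmoothProperCurve (FractionRing R) C f) (hH0 : IsIso f.appTop)
    (hX : Models.IsRegularProperModel R X p C f) : GeometricallyConnected p := by
  obtain ⟨hint, -⟩ := surface_of_regularProper hC hX
  obtain ⟨⟨hfl, -, -, g, hg⟩, hp, -⟩ := hX
  haveI := hint; haveI := hfl; haveI := hp; haveI := hH0
  let S := Spec (CommRingCat.of R)
  let j := Neron.genPt R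
  haveI : IsPreimmersion j := IsPreimmersion.of_isLocalization (nonZeroDivisors R)
  have hη : j (IsLocalRing.closedPoint (FractionRing R)) = genericPoint S := by
    have h1 : j (IsLocalRing.closedPoint (FractionRing R)) ∈ Set.range j := Set.mem_range_self _
    rw [RelMinSmooth.range_genPt] at h1
    refine ((specializes_of_eq ?_).trans ((PrimeSpectrum.le_iff_specializes
      (⟨⊥, Ideal.isPrime_bot⟩ : PrimeSpectrum R) _).mp bot_le)).antisymm (genericPoint_specializes _) |>.eq
    exact h1
  refine (S1365.result p RatBlow.isNormal_spec (fun Z hZ x hx => ?_) ?_).2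
  · rw [irreducibleComponents_eq_singleton, Set.mem_singleton_iff] at hZ
    subst hZ
    rw [hx.eq (genericPoint_spec X)]
    obtain ⟨w, hw, hw'⟩ := Flat.generalizingMap p (a := genericPoint X) (genericPoint_specializes (p (genericPoint X)))
    rw [(hw.antisymm ((genericPoint_spec X).specializes trivial)).eq] at hw'
    exact hw'
  · rw [← hη]
    set η' := j (IsLocalRing.closedPoint (FractionRing R))
    let φ := S.descResidueField (Scheme.stalkClosedPointTo j)
    haveI : IsIso φ := by
      refine (ConcreteCategory.isIso_iff_bijective _).2 ⟨φ.hom.injective, fun x => ?_⟩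
      have h1 : Function.Surjective (Scheme.stalkClosedPointTo j).hom := by
        show Function.Surjective ((j.stalkMap _ ≫ (stalkClosedPointIso _).hom).hom)
        rw [CommRingCat.hom_comp, RingHom.coe_comp]
        exact (ConcreteCategory.bijective_of_isIso (stalkClosedPointIso (CommRingCat.of (FractionRing R))).hom).2.comp
          (j.stalkMap_surjective _)
      obtain ⟨a, ha⟩ := h1 x
      exact ⟨S.residue η' a, (ConcreteCategory.congr_hom (S.residue_descResidueField _) a).trans ha⟩
    let e : Spec (CommRingCat.of (FractionRing R)) ⟶ Spec (S.residueField η') := Spec.map φ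
    have he : e ≫ S.fromSpecResidueField η' = j :=
      Scheme.descResidueField_stalkClosedPointTo_fromSpecResidueField _ _ _
    let m : pullback p j ⟶ pullback p (S.fromSpecResidueField η') :=
      pullback.map p j p (S.fromSpecResidueField η') (𝟙 X) e (𝟙 S)
        ((Category.comp_id _).trans (Category.id_comp _).symm) (by rw [Category.comp_id, he])
    let θ : C ⟶ p.fiber η' := hg.isoPullback.hom ≫ m
    have hθ : θ ≫ p.fiberToSpecResidueField η' = f ≫ e := by
      show (hg.isoPullback.hom ≫ m) ≫ pullback.snd p (S.fromSpecResidueField η') = f ≫ e
      rw [Category.assoc, show m ≫ pullback.snd p (S.fromSpecResidueField η') = pullback.snd p j ≫ e from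
        pullback.lift_snd _ _ _, IsPullback.isoPullback_hom_snd_assoc]
    haveI : IsIso θ := inferInstance
    have h2 : IsIso ((θ ≫ p.fiberToSpecResidueField η').appTop) := by
      rw [hθ, Scheme.Hom.comp_appTop]; infer_instance
    rw [Scheme.Hom.comp_appTop] at h2
    haveI := @IsIso.of_isIso_comp_right _ _ _ _ _ _ θ.appTop _ h2
    exact ConcreteCategory.bijective_of_isIso (p.fiberToSpecResidueField η').appTop

end Groth.Agent.Castel
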