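import Groth.Agent.Castel.FibreEuler
import Groth.Agent.Castel.FibreConn
import Groth.Agent.DualGeneric.GenusZero

/-!
The numerical type of a regular proper model.
-/

set_option autoImplicit false
set_option backward.isDefEq.respectTransparency false
set_option backward.isDefEq.respectTransparency.types false
set_option linter.style.haveILetI false

universe u

open CategoryTheory CategoryTheory.Limits AlgebraicGeometry TopologicalSpace Opposite

noncomputable section

namespace Groth.Agent.Castel

variable {R : Type u} [CommRing R] [IsDomain R] [IsDiscreteValuationRing R] {X : Over (Spec (CommRingCat.of R))}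

/-- The degree of the constants is positive and divides `h¹` and all degrees on the divisor. -/
theorem wdeg_facts [IsProper X.hom] (Γ : ArSurf.VertComp R X) :
    0 < Models.wdeg R X Γ ∧ Models.wdeg R X Γ ∣ Models.h1 R X Γ ∧
      ∀ I : X.left.IdealSheafData, (Models.wdeg R X Γ : ℤ) ∣ degI Γ I := by
  let k := IsLocalRing.ResidueField R
  haveI : IsProper (Γ.curve.left ↘ Spec (CommRingCat.of k)) := isProper_curve Γ
  have hw : Models.wdeg R X Γ = CurveRR.h k (Coh.structureModule Γ.curve.left) 0 := rfl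
  refine ⟨hw ▸ Nakai.h0_one_pos (k := k) (X := Γ.curve.left), ?_, fun I => ?_⟩
  · have h := DualGeneric.h0_dvd_euler k Γ.dim_eq.le (Coh.structureModule Γ.curve.left)
    rw [CurveRR.euler_eq Γ.dim_eq.le] at h
    have h' : (Models.wdeg R X Γ : ℤ) ∣ (Models.h1 R X Γ : ℤ) := by
      have h2 := dvd_sub (dvd_refl (CurveRR.h k (Coh.structureModule Γ.curve.left) 0 : ℤ)) h
      rwa [sub_sub_cancel] at h2
    exact_mod_cast h'
  · rw [degI, Curv2.deg]
    exact dvd_sub (DualGeneric.h0_dvd_euler k Γ.dim_eq.le _)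
      (dvd_mul_of_dvd_right (DualGeneric.h0_dvd_euler k Γ.dim_eq.le _) _)

/-- The numerical type of a regular proper model. -/
theorem exists_numType {C X : Scheme.{u}} {f : C ⟶ Spec (CommRingCat.of (FractionRing R))}
    {p : X ⟶ Spec (CommRingCat.of R)} (hC : Curve.IsSmoothProperCurve (FractionRing R) C f) (hH0 : IsIso f.appTop)
    (hX : Models.IsRegularProperModel R X p C f) {n : ℕ} (Γ : Fin n → ArSurf.VertComp R (Over.mk p))
    (hΓ : Models.IsComponentList R (Over.mk p) Γ) :
    ∃ T : Models.NumericalType n, (∀ i, T.m i = (Models.mult R (Over.mk p) (Γ i) : ℤ)) ∧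
      (∀ i j, T.a i j = interMat Γ i j) ∧ (∀ i, T.w i = (Models.wdeg R (Over.mk p) (Γ i) : ℤ)) ∧
      (∀ i, T.w i * T.g i = (Models.h1 R (Over.mk p) (Γ i) : ℤ)) ∧
      T.genus = (Models.curveGenus (FractionRing R) C f : ℤ) := by
  have hA := isArithSurface_of_regularProper hC hX
  haveI : IsProper (Over.mk p).hom := hX.2.1
  haveI := geometricallyConnected_of_regularProper hC hH0 hX
  have hconn : _root_.IsConnected (Models.specialFibreSet R (Over.mk p)) := p.isConnected_preimage_singleton _
  obtain ⟨hsym, hoff, J, -, hrow⟩ := interMat_facts hA Γ hΓ.1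
  haveI : Flat (Over.mk p).hom := hA.2.2.2.1
  have hfib : fibreIdeal (Over.mk p) = divI Γ fun j => Models.mult R (Over.mk p) (Γ j) :=
    fibreIdeal_eq_prod hA Γ hΓ.1 (componentList_cover hΓ)
  have hz : ∀ i, ∑ j, (Models.mult R (Over.mk p) (Γ j) : ℤ) * interMat Γ i j = 0 := fun i => by
    have h := degI_divI hA Γ (fun j => Models.mult R (Over.mk p) (Γ j)) i
    rw [← hfib, degI_fibreIdeal] at h
    exact neg_eq_zero.1 h.symm
  have hpos : 0 < n := by
    obtain ⟨x, hx⟩ := hconn.nonempty
    obtain ⟨i, -⟩ := Set.mem_iUnion.1 (componentList_cover hΓ hx)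
    exact Fin.pos i
  let T : Models.NumericalType n :=
    { m := fun i => Models.mult R (Over.mk p) (Γ i)
      a := fun i j => interMat Γ i j
      w := fun i => Models.wdeg R (Over.mk p) (Γ i)
      g := fun i => ((Models.h1 R (Over.mk p) (Γ i) / Models.wdeg R (Over.mk p) (Γ i) : ℕ) : ℤ)
      pos := hpos
      m_pos := fun i => Int.natCast_pos.2 (hrow i).1
      w_pos := fun i => Int.natCast_pos.2 (wdeg_facts (Γ i)).1
      g_nonneg := fun i => Int.natCast_nonneg _
      symm := Matrix.IsSymm.ext fun i j => hsym j i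
      offDiag_nonneg := fun i j h => (hoff i j h).1
      connected := fun I h1 h2 => interMat_connected hA hconn hΓ I h1 h2
      mulVec_m := funext fun i => by
        rw [Matrix.mulVec, dotProduct, Pi.zero_apply, ← hz i]
        exact Finset.sum_congr rfl fun j _ => mul_comm _ _
      w_dvd := fun i j => by
        rw [interMat, Int.dvd_neg]
        exact (wdeg_facts (Γ i)).2.2 _ }
  have hwg : ∀ i, T.w i * T.g i = (Models.h1 R (Over.mk p) (Γ i) : ℤ) := fun i => by
    show (Models.wdeg R (Over.mk p) (Γ i) : ℤ) *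
      ((Models.h1 R (Over.mk p) (Γ i) / Models.wdeg R (Over.mk p) (Γ i) : ℕ) : ℤ) = _
    exact_mod_cast Nat.mul_div_cancel' (wdeg_facts (Γ i)).2.1
  refine ⟨T, fun _ => rfl, fun _ _ => rfl, fun _ => rfl, hwg, ?_⟩
  have hg := genus_formula hC hH0 hX Γ hΓ
  have h2 : ∑ i, T.m i * T.a i i = 2 * (1 + (∑ i, T.m i * T.w i * (T.g i - 1)) -
      (Models.curveGenus (FractionRing R) C f : ℤ)) := by
    have e : ∀ i, T.m i * T.w i * (T.g i - 1) = (Models.mult R (Over.mk p) (Γ i) : ℤ) *
        ((Models.h1 R (Over.mk p) (Γ i) : ℤ) - (Models.wdeg R (Over.mk p) (Γ i) : ℤ)) := fun i => by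
      rw [mul_assoc, mul_sub, hwg, mul_one]
    simp only [e]
    show ∑ i, (Models.mult R (Over.mk p) (Γ i) : ℤ) * interMat Γ i i = _
    simp only [mul_sub, mul_add, Finset.sum_sub_distrib, mul_left_comm _ (2 : ℤ), ← Finset.mul_sum] at hg ⊢
    linarith
  rw [Models.NumericalType.genus, h2, Int.mul_ediv_cancel_left _ (by norm_num : (2 : ℤ) ≠ 0)]
  ring

end Groth.Agent.Castel
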