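import Groth.Agent.Castel.PicModel
import Groth.Agent.NumType.Form

/-!
Torsion and lifting along `Pic(X) → Pic(C)` for a regular proper model.
-/

set_option autoImplicit false
set_option backward.isDefEq.respectTransparency false
set_option backward.isDefEq.respectTransparency.types false
set_option linter.style.haveILetI false
set_option linter.unusedSectionVars false

universe u

open CategoryTheory CategoryTheory.Limits AlgebraicGeometry TopologicalSpace Opposite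

noncomputable section

namespace Groth.Agent.Castel

attribute [local instance] W7Cube.law

variable {R : Type u} [CommRing R] [IsDomain R] [IsDiscreteValuationRing R]
  {C X : Scheme.{u}} {f : C ⟶ Spec (CommRingCat.of (FractionRing R))}
  {p : X ⟶ Spec (CommRingCat.of R)}
  (hC : Curve.IsSmoothProperCurve (FractionRing R) C f) (hH0 : IsIso f.appTop)
  (hX : Models.IsRegularProperModel R X p C f) {n : ℕ} (Γ : Fin n → ArSurf.VertComp R (Over.mk p))
  (hΓ : Models.IsComponentList R (Over.mk p) Γ)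
include hC hH0 hX hΓ

/-- There is a component, all multiplicities are positive, and the gcd is a combination of them. -/
theorem mult_facts : 0 < n ∧ (∀ i, 0 < Models.mult R (Over.mk p) (Γ i)) ∧
    (∀ i, Models.multGcd R (Over.mk p) Γ ∣ Models.mult R (Over.mk p) (Γ i)) ∧
    0 < Models.multGcd R (Over.mk p) Γ ∧
    ∃ u : Fin n → ℤ, ∑ i, u i * (Models.mult R (Over.mk p) (Γ i) : ℤ) = (Models.multGcd R (Over.mk p) Γ : ℤ) := by
  obtain ⟨T, hm, -, -, -, -⟩ := exists_numType hC hH0 hX Γ hΓ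
  have hpos : ∀ i, 0 < Models.mult R (Over.mk p) (Γ i) := fun i => by
    have h := T.m_pos i
    rw [hm] at h
    exact_mod_cast h
  have hdvd : ∀ i, Models.multGcd R (Over.mk p) Γ ∣ Models.mult R (Over.mk p) (Γ i) :=
    fun i => Finset.gcd_dvd (Finset.mem_univ i)
  refine ⟨T.pos, hpos, hdvd, Nat.pos_of_dvd_of_pos (hdvd ⟨0, T.pos⟩) (hpos _), ?_⟩
  classical
  have key : ∀ s : Finset (Fin n), ∃ u : Fin n → ℤ,
      ∑ i ∈ s, u i * (Models.mult R (Over.mk p) (Γ i) : ℤ) =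
        ((s.gcd fun i => Models.mult R (Over.mk p) (Γ i) : ℕ) : ℤ) := by
    intro s
    induction s using Finset.induction with
    | empty => exact ⟨0, by simp⟩
    | insert j t hj ih =>
      obtain ⟨w, hw⟩ := ih
      let a := Nat.gcdA (Models.mult R (Over.mk p) (Γ j)) (t.gcd fun i => Models.mult R (Over.mk p) (Γ i))
      let b := Nat.gcdB (Models.mult R (Over.mk p) (Γ j)) (t.gcd fun i => Models.mult R (Over.mk p) (Γ i))
      refine ⟨fun i => if i = j then a else b * w i, ?_⟩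
      rw [Finset.sum_insert hj]
      dsimp only
      rw [if_pos rfl, Finset.sum_congr rfl (fun i hi => by
        rw [if_neg (ne_of_mem_of_not_mem hi hj), mul_assoc]), ← Finset.mul_sum, hw, Finset.gcd_insert, gcd_eq_nat_gcd,
        Nat.gcd_eq_gcd_ab]
      ring
  exact key Finset.univ

/-- The kernel of the intersection matrix. -/
theorem proportional_of_degP_eq_zero (v : Fin n → ℤ) (h : ∀ i, degP (Γ i) (picO Γ v) = 0) :
    ∃ q : ℤ, ∀ i, (Models.multGcd R (Over.mk p) Γ : ℤ) * v i = q * (Models.mult R (Over.mk p) (Γ i) : ℤ) := by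
  have hA := isArithSurface_of_regularProper hC hX
  obtain ⟨T, hm, ha, -, -, -⟩ := exists_numType hC hH0 hX Γ hΓ
  obtain ⟨hn, hpos, -, -, u, hu⟩ := mult_facts hC hH0 hX Γ hΓ
  let i₀ : Fin n := ⟨0, hn⟩
  let x : Fin n → ℤ := fun i => v i * T.m i₀ - T.m i * v i₀
  have hAx : ∀ i, ∑ j, T.a i j * x j = 0 := fun i => by
    have h1 : ∑ j, T.a i j * v j = 0 := by
      rw [← h i, degP_picO hA]
      simp only [ha]
    have h2 : ∑ j, T.a i j * T.m j = 0 := congrFun T.mulVec_m i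
    calc ∑ j, T.a i j * x j = (∑ j, T.a i j * v j) * T.m i₀ - (∑ j, T.a i j * T.m j) * v i₀ := by
          rw [Finset.sum_mul, Finset.sum_mul, ← Finset.sum_sub_distrib]
          exact Finset.sum_congr rfl fun j _ => by ring
      _ = 0 := by rw [h1, h2]; ring
  have hx : ∀ i, x i = 0 := fun i => by
    by_contra hi
    have hlt := NumType.form_neg T (fun i => (x i : ℝ)) ⟨i₀, by simp [x, mul_comm]⟩
      fun h0 => hi (by simpa using congrFun h0 i)
    refine hlt.ne ?_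
    have h0 : ∑ a, ∑ b, T.a a b * x a * x b = 0 := Finset.sum_eq_zero fun a _ => by
      rw [Finset.sum_congr rfl fun b _ => show T.a a b * x a * x b = x a * (T.a a b * x b) by ring,
        ← Finset.mul_sum, hAx, mul_zero]
    exact_mod_cast h0
  refine ⟨∑ i, u i * v i, fun i => ?_⟩
  have hm0 : (T.m i₀) ≠ 0 := (T.m_pos i₀).ne'
  have hprop : ∀ j, v j * T.m i₀ = T.m j * v i₀ := fun j => sub_eq_zero.1 (hx j)
  refine mul_right_cancel₀ hm0 ?_
  have hS : (∑ j, u j * v j) * T.m i₀ = (Models.multGcd R (Over.mk p) Γ : ℤ) * v i₀ := by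
    rw [Finset.sum_mul, ← hu, Finset.sum_mul]
    exact Finset.sum_congr rfl fun j _ => by rw [mul_assoc, hprop, hm]; ring
  rw [← hm i, mul_assoc, hprop, mul_right_comm _ (T.m i), hS]
  ring

variable {g : C ⟶ X} (hg : IsPullback g f p (Spec.map (CommRingCat.ofHom (algebraMap R (FractionRing R)))))
include hg

/-- Classes trivial on the generic fibre and numerically trivial on the closed fibre are killed by `d`. -/
theorem pow_multGcd_eq_one (c : PicLoc.PicSet X) (hc : W7Cube.pull g c = 1) (hdeg : ∀ i, degP (Γ i) c = 0) :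
    c ^ Models.multGcd R (Over.mk p) Γ = 1 := by
  obtain ⟨v, rfl⟩ := exists_picO_of_pull_eq_one hC hH0 hX Γ hΓ hg c hc
  obtain ⟨q, hq⟩ := proportional_of_degP_eq_zero hC hH0 hX Γ hΓ v hdeg
  rw [← zpow_natCast, ← picO_smul, picO_eq_one_iff hC hH0 hX Γ hΓ]
  exact ⟨q, fun i => hq i⟩

omit hg in
theorem degP_eq_zero_of_pow (c : PicLoc.PicSet X) {h : ℕ} (hh : 0 < h) (hc : c ^ h = 1) (i : Fin n) :
    degP (Γ i) c = 0 := by
  haveI : IsProper (Over.mk p).hom := hX.2.1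
  have h2 := degP_zpow (Γ i) c (h : ℤ)
  rw [zpow_natCast, hc, degP_one] at h2
  exact (mul_eq_zero.1 h2.symm).resolve_left (by exact_mod_cast hh.ne')

/-- `Pic(X)[h] → Pic(C)[h]` is injective for `h` prime to `d`. -/
theorem eq_one_of_coprime (c : PicLoc.PicSet X) {h : ℕ} (hh : 0 < h)
    (hcop : Nat.Coprime h (Models.multGcd R (Over.mk p) Γ)) (hch : c ^ h = 1) (hc : W7Cube.pull g c = 1) : c = 1 := by
  have h1 := pow_multGcd_eq_one hC hH0 hX Γ hΓ hg c hc (degP_eq_zero_of_pow hC hH0 hX Γ hΓ c hh hch)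
  have h2 := pow_gcd_eq_one.2 ⟨hch, h1⟩
  rwa [Nat.coprime_iff_gcd_eq_one.1 hcop, pow_one] at h2

/-- Lifting torsion classes of degree vector in the image of the matrix. -/
theorem exists_torsion_lift (c : PicLoc.PicSet X) {h : ℕ}
    (hcop : Nat.Coprime h (Models.multGcd R (Over.mk p) Γ)) (hch : W7Cube.pull g c ^ h = 1)
    (v : Fin n → ℤ) (hv : ∀ i, degP (Γ i) c = ∑ j, interMat Γ i j * v j) :
    ∃ c' : PicLoc.PicSet X, c' ^ h = 1 ∧ W7Cube.pull g c' = W7Cube.pull g c := by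
  have hA := isArithSurface_of_regularProper hC hX
  haveI : IsProper (Over.mk p).hom := hX.2.1
  let d := Models.multGcd R (Over.mk p) Γ
  let c₀ := c * (show PicLoc.PicSet X from picO Γ v)⁻¹
  have hp0 : W7Cube.pull g c₀ = W7Cube.pull g c := by
    rw [map_mul, map_inv, pull_picO hC hX Γ hg, inv_one, mul_one]
  have h1 : (c₀ ^ h) ^ d = 1 := pow_multGcd_eq_one hC hH0 hX Γ hΓ hg _ (by rw [map_pow, hp0, hch]) fun i => by
    rw [← zpow_natCast, degP_zpow, degP_mul, degP_inv, degP_picO hA, hv, add_neg_cancel, mul_zero]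
  have hb : (h : ℤ) * Nat.gcdA h d + (d : ℤ) * Nat.gcdB h d = 1 := by
    rw [← Nat.gcd_eq_gcd_ab, Nat.coprime_iff_gcd_eq_one.1 hcop, Nat.cast_one]
  refine ⟨c₀ ^ ((d : ℤ) * Nat.gcdB h d), ?_, ?_⟩
  · rw [← zpow_natCast, ← zpow_mul, show (d : ℤ) * Nat.gcdB h d * h = (h * d : ℕ) * Nat.gcdB h d by push_cast; ring,
      zpow_mul, zpow_natCast, pow_mul, h1, one_zpow]
  · rw [map_zpow, hp0, eq_sub_of_add_eq' hb, zpow_sub, zpow_one, zpow_mul, zpow_natCast, hch, one_zpow, inv_one,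
      mul_one]

/-- Degree vectors in the image of the matrix. -/
theorem exists_deg_zero_iff (c : PicLoc.PicSet X) :
    (∃ v : Fin n → ℤ, ∀ i, degP (Γ i) c = ∑ j, interMat Γ i j * v j) ↔
      ∃ c' : PicLoc.PicSet X, W7Cube.pull g c' = W7Cube.pull g c ∧ ∀ i, degP (Γ i) c' = 0 := by
  have hA := isArithSurface_of_regularProper hC hX
  haveI : IsProper (Over.mk p).hom := hX.2.1
  constructor
  · rintro ⟨v, hv⟩
    exact ⟨c * (show PicLoc.PicSet X from picO Γ v)⁻¹, by rw [map_mul, map_inv, pull_picO hC hX Γ hg, inv_one, mul_one],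
      fun i => by rw [degP_mul, degP_inv, degP_picO hA, hv, add_neg_cancel]⟩
  · rintro ⟨c', hc', hd⟩
    obtain ⟨v, hv⟩ := exists_picO_of_pull_eq_one hC hH0 hX Γ hΓ hg (c * c'⁻¹)
      (by rw [map_mul, map_inv, hc', mul_inv_cancel])
    refine ⟨v, fun i => ?_⟩
    rw [← degP_picO hA, ← hv, degP_mul, degP_inv, hd, neg_zero, add_zero]

/-- The kernel of `Pic(X)[h] → Pic(C)[h]`. -/
theorem existsUnique_ker (c : PicLoc.PicSet X) {h : ℕ} (hh : 0 < h) (hch : c ^ h = 1) (hc : W7Cube.pull g c = 1) :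
    ∃! k : ℕ, k < Nat.gcd h (Models.multGcd R (Over.mk p) Γ) ∧
      c = picO Γ (fun i => ((k * (Models.mult R (Over.mk p) (Γ i) / Nat.gcd h (Models.multGcd R (Over.mk p) Γ)) : ℕ) : ℤ)) := by
  obtain ⟨hn, hpos, hdvd, hd, u, hu⟩ := mult_facts hC hH0 hX Γ hΓ
  let d := Models.multGcd R (Over.mk p) Γ
  let e := Nat.gcd h d
  have he0 : 0 < e := Nat.gcd_pos_of_pos_left _ hh
  have hme : ∀ i, ((Models.mult R (Over.mk p) (Γ i) / e : ℕ) : ℤ) * e = (Models.mult R (Over.mk p) (Γ i) : ℤ) :=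
    fun i => by exact_mod_cast Nat.div_mul_cancel ((Nat.gcd_dvd_right h d).trans (hdvd i))
  have he0' : (e : ℤ) ≠ 0 := by exact_mod_cast he0.ne'
  obtain ⟨v, hv⟩ := exists_picO_of_pull_eq_one hC hH0 hX Γ hΓ hg c hc
  rw [hv, ← zpow_natCast, ← picO_smul, picO_eq_one_iff hC hH0 hX Γ hΓ] at hch
  obtain ⟨z, hz⟩ := hch
  have hz' : ∀ i, (h : ℤ) * v i = z * (Models.mult R (Over.mk p) (Γ i) : ℤ) := hz
  have hzd : (h : ℤ) ∣ z * d := by
    refine ⟨∑ i, u i * v i, ?_⟩
    rw [Finset.mul_sum, ← hu, Finset.mul_sum]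
    exact Finset.sum_congr rfl fun i _ => by rw [← mul_left_comm, ← hz']; ring
  obtain ⟨y, hy⟩ : ((h / e : ℕ) : ℤ) ∣ z := by
    refine (Int.isCoprime_iff_nat_coprime.2 ?_).dvd_of_dvd_mul_right (z := ((d / e : ℕ) : ℤ)) ?_
    · rw [Int.natAbs_natCast, Int.natAbs_natCast]
      exact Nat.coprime_div_gcd_div_gcd (m := h) (n := d) he0
    · refine Int.dvd_of_mul_dvd_mul_right (a := (e : ℤ)) he0' ?_
      rw [mul_assoc, ← Nat.cast_mul, ← Nat.cast_mul, Nat.div_mul_cancel (Nat.gcd_dvd_left h d),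
        Nat.div_mul_cancel (Nat.gcd_dvd_right h d)]
      exact hzd
  have hhe : ((h / e : ℕ) : ℤ) * e = (h : ℤ) := by exact_mod_cast Nat.div_mul_cancel (Nat.gcd_dvd_left h d)
  have hvy : ∀ i, v i = y * ((Models.mult R (Over.mk p) (Γ i) / e : ℕ) : ℤ) := fun i => by
    refine mul_left_cancel₀ (a := (h : ℤ)) (by exact_mod_cast hh.ne') ?_
    rw [hz', hy, ← hme i, ← hhe]
    ring
  have hw : ∀ k : ℕ, c = picO Γ (fun i => ((k * (Models.mult R (Over.mk p) (Γ i) / e) : ℕ) : ℤ)) ↔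
      (e : ℤ) ∣ y - k := fun k => by
    rw [hv, picO_eq_iff hC hH0 hX Γ hΓ]
    constructor
    · rintro ⟨t, ht⟩
      refine ⟨t, ?_⟩
      have h1 := ht ⟨0, hn⟩
      rw [hvy, Nat.cast_mul, ← sub_mul, ← hme ⟨0, hn⟩] at h1
      refine mul_right_cancel₀ (b := ((Models.mult R (Over.mk p) (Γ ⟨0, hn⟩) / e : ℕ) : ℤ)) ?_ (by rw [h1]; ring)
      intro h2
      have h3 := hme ⟨0, hn⟩
      rw [h2, zero_mul] at h3
      exact (hpos ⟨0, hn⟩).ne' (by exact_mod_cast h3.symm)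
    · rintro ⟨t, ht⟩
      refine ⟨t, fun i => ?_⟩
      rw [hvy, Nat.cast_mul, ← sub_mul, ht, ← hme i]
      ring
  refine ⟨(y % e).toNat, ⟨?_, (hw _).2 ?_⟩, fun k hk => ?_⟩
  · have := Int.emod_lt_of_pos y (Int.natCast_pos.2 he0)
    have := Int.emod_nonneg y he0'
    show (y % (e : ℤ)).toNat < e
    omega
  · rw [Int.toNat_of_nonneg (Int.emod_nonneg y he0')]
    exact Int.dvd_self_sub_emod
  · have h1 := (hw k).1 hk.2
    have h2 : (y % e) = (k : ℤ) := by
      rw [← Int.emod_eq_of_lt (Int.natCast_nonneg k) (Int.ofNat_lt.2 hk.1)]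
      exact (Int.emod_eq_emod_iff_emod_sub_eq_zero).2 (Int.emod_eq_zero_of_dvd h1)
    omega

/-- The obstruction to lifting a torsion class. -/
theorem torsion_lift_iff (c : PicLoc.PicSet X) (h : ℕ) (a : Fin n → ℤ) (hc : c ^ h = picO Γ a) :
    (∃ c' : PicLoc.PicSet X, c' ^ h = 1 ∧ W7Cube.pull g c' = W7Cube.pull g c) ↔
      ∃ (w : Fin n → ℤ) (e : ℤ), ∀ i, a i = (h : ℤ) * w i + e * (Models.mult R (Over.mk p) (Γ i) : ℤ) := by
  constructor
  · rintro ⟨c', h1, h2⟩
    obtain ⟨v, hv⟩ := exists_picO_of_pull_eq_one hC hH0 hX Γ hΓ hg (c * c'⁻¹)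
      (by rw [map_mul, map_inv, h2, mul_inv_cancel])
    have h3 : picO Γ a = picO Γ ((h : ℤ) • v) := by
      rw [picO_smul, ← hv, zpow_natCast, mul_pow, inv_pow, h1, inv_one, mul_one, hc]
    obtain ⟨e, he⟩ := (picO_eq_iff hC hH0 hX Γ hΓ _ _).1 h3
    exact ⟨v, e, fun i => by have := he i; simp only [Pi.smul_apply, smul_eq_mul] at this; linarith⟩
  · rintro ⟨w, e, he⟩
    refine ⟨c * (show PicLoc.PicSet X from picO Γ w)⁻¹, ?_, by rw [map_mul, map_inv, pull_picO hC hX Γ hg, inv_one, mul_one]⟩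
    rw [mul_pow, inv_pow, mul_inv_eq_one, hc, ← zpow_natCast, ← picO_smul, picO_eq_iff hC hH0 hX Γ hΓ]
    exact ⟨e, fun i => by rw [Pi.smul_apply, smul_eq_mul, he]; ring⟩

end Groth.Agent.Castel
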