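import Groth.Agent.Castel.StepDiv
import Groth.Agent.Castel.NumType
import Groth.Agent.Castel.PicApps
import Groth.Agent.NumType.Form
import Groth.Agent.CurveRR.Zero

/-!
`H⁰(D, O)` is a field for `D = Σ (m_i/d) Γ_i`, along a chain starting at the reduced closed fibre.
-/

set_option autoImplicit false
set_option backward.isDefEq.respectTransparency false
set_option backward.isDefEq.respectTransparency.types false
set_option linter.style.haveILetI false
set_option linter.unusedSectionVars false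

universe u

open CategoryTheory CategoryTheory.Limits AlgebraicGeometry TopologicalSpace Opposite

noncomputable section

namespace Groth.Agent.Castel

variable {R : Type u} [CommRing R] [IsDomain R] [IsDiscreteValuationRing R]

section Good

variable {X : Over (Spec (CommRingCat.of R))}

/-- `R → Γ(D, O)`. -/
abbrev toΓ (X : Over (Spec (CommRingCat.of R))) (I : X.left.IdealSheafData) : R →+* Γ(I.subscheme, ⊤) :=
  Coh.toGlobal (I.subschemeι ≫ X.hom)

/-- The global functions form a finite extension field of the residue field. -/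
def GoodH0 (X : Over (Spec (CommRingCat.of R))) (I : X.left.IdealSheafData) : Prop :=
  IsField Γ(I.subscheme, ⊤) ∧ (toΓ X I).Finite ∧ ∀ r ∈ IsLocalRing.maximalIdeal R, toΓ X I r = 0

/-- A domain finite over `R` killed by the maximal ideal is a field. -/
theorem isField_of_finite {A : Type u} [CommRing A] [IsDomain A] (φ : R →+* A) (hf : φ.Finite)
    (hk : ∀ r ∈ IsLocalRing.maximalIdeal R, φ r = 0) : IsField A := by
  let ψ : IsLocalRing.ResidueField R →+* A := Ideal.Quotient.lift _ φ hk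
  letI := ψ.toAlgebra
  haveI : Algebra.IsIntegral (IsLocalRing.ResidueField R) A := by
    have h : (ψ.comp (IsLocalRing.residue R)).Finite := hf
    exact ⟨(RingHom.Finite.of_comp_finite h).to_isIntegral⟩
  exact isField_of_isIntegral_of_isField' (Field.toIsField (IsLocalRing.ResidueField R))

theorem toΓ_inclusion {I J : X.left.IdealSheafData} (h : I ≤ J) (r : R) :
    (Scheme.IdealSheafData.inclusion h).appTop (toΓ X I r) = toΓ X J r := by
  show (Scheme.IdealSheafData.inclusion h).appTop ((I.subschemeι ≫ X.hom).appTop _) = (J.subschemeι ≫ X.hom).appTop _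
  conv_rhs => rw [← Scheme.IdealSheafData.inclusion_subschemeι h, Category.assoc, Scheme.Hom.comp_appTop]
  rfl

/-- Fields of global functions propagate to injectively restricting thickenings. -/
theorem good_of_injective {I J : X.left.IdealSheafData} (h : I ≤ J)
    (hinj : Function.Injective (Scheme.IdealSheafData.inclusion h).appTop) (hJ : GoodH0 X J) : GoodH0 X I := by
  obtain ⟨hF, hfin, hk⟩ := hJ
  let A := Γ(I.subscheme, ⊤)
  let B := Γ(J.subscheme, ⊤)
  haveI : IsDomain B := hF.isDomain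
  let ι : A →+* B := (Scheme.IdealSheafData.inclusion h).appTop.hom
  haveI : IsDomain A := Function.Injective.isDomain ι hinj
  have hkI : ∀ r ∈ IsLocalRing.maximalIdeal R, toΓ X I r = 0 := fun r hr => hinj (by
    rw [toΓ_inclusion h, hk r hr, map_zero])
  have hfinI : (toΓ X I).Finite := by
    letI : Algebra R A := (toΓ X I).toAlgebra
    letI : Algebra R B := (toΓ X J).toAlgebra
    haveI : Module.Finite R B := hfin
    let l : A →ₐ[R] B := { ι with commutes' := fun r => toΓ_inclusion h r }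
    exact Module.Finite.of_injective l.toLinearMap hinj
  exact ⟨isField_of_finite _ hfinI hkI, hfinI, hkI⟩

/-- A vertical prime divisor. -/
theorem good_component [IsProper X.hom] (Γ : ArSurf.VertComp R X) : GoodH0 X Γ.ι.ker := by
  let k := IsLocalRing.ResidueField R
  haveI : IsProper Γ.curve.hom := isProper_curve Γ
  haveI := Γ.isIntegral
  haveI : IsIso Γ.ι.toImage := inferInstance
  haveI : Nonempty Γ.ι.ker.subscheme := ⟨Γ.ι.toImage (genericPoint Γ.curve.left)⟩
  haveI : IsIntegral Γ.ι.ker.subscheme := isIntegral_of_isOpenImmersion (inv Γ.ι.toImage)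
  have hw : Γ.ι.ker.subschemeι ≫ X.hom = inv Γ.ι.toImage ≫ Γ.curve.hom ≫
      Spec.map (CommRingCat.ofHom (IsLocalRing.residue R)) := by
    rw [IsIso.eq_inv_comp, ← Γ.w, ← Category.assoc]
    congr 1
    exact Γ.ι.toImage_imageι
  have hφ : ∀ r, toΓ X Γ.ι.ker r =
      (inv Γ.ι.toImage).appTop (Coh.toGlobal Γ.curve.hom (IsLocalRing.residue R r)) := fun r => by
    have h1 := ConcreteCategory.congr_hom (congrArg Scheme.Hom.appTop hw)
      ((Scheme.ΓSpecIso (CommRingCat.of R)).inv r)
    simp only [Scheme.Hom.comp_appTop] at h1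
    refine h1.trans ?_
    have h2 := ConcreteCategory.congr_hom
      (Scheme.ΓSpecIso_inv_naturality (CommRingCat.ofHom (IsLocalRing.residue R))) r
    exact congrArg (fun z => (inv Γ.ι.toImage).appTop (Γ.curve.hom.appTop z)) h2.symm
  have hk : ∀ r ∈ IsLocalRing.maximalIdeal R, toΓ X Γ.ι.ker r = 0 := fun r hr => by
    rw [hφ, (IsLocalRing.residue_eq_zero_iff r).2 hr, map_zero, map_zero]
  have hfin : (toΓ X Γ.ι.ker).Finite := by
    have h1 : RingHom.Finite (A := k) (B := Γ(Γ.curve.left, ⊤)) (Coh.toGlobal Γ.curve.hom) := RingHom.Finite.comp (finite_appTop_of_universallyClosed k Γ.curve.hom)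
      (RingHom.Finite.of_surjective _ (ConcreteCategory.bijective_of_isIso (Scheme.ΓSpecIso (CommRingCat.of k)).inv).2)
    rw [show toΓ X Γ.ι.ker = ((inv Γ.ι.toImage).appTop.hom.comp (Coh.toGlobal Γ.curve.hom : k →+* Γ(Γ.curve.left, ⊤))).comp
      (IsLocalRing.residue R) from RingHom.ext hφ]
    exact RingHom.Finite.comp (RingHom.Finite.comp (RingHom.Finite.of_surjective _
      (ConcreteCategory.bijective_of_isIso (inv Γ.ι.toImage).appTop).2) h1)
      (RingHom.Finite.of_surjective _ IsLocalRing.residue_surjective)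
  exact ⟨isField_of_finite _ hfin hk, hfin, hk⟩

/-- `H⁰(X, O/I) ≅ Γ(D, O)` has the same length. -/
theorem lengthH_quot_zero (I : X.left.IdealSheafData) :
    letI := (toΓ X I).toAlgebra
    Models.lengthH R X (ClSub.quotMod I) 0 = (Module.length R Γ(I.subscheme, ⊤)).toNat := by
  letI alg := (toΓ X I).toAlgebra
  letI : X.left.Over (Spec (CommRingCat.of R)) := ⟨X.hom⟩
  letI : I.subscheme.Over (Spec (CommRingCat.of R)) := ⟨I.subschemeι ≫ X.hom⟩
  let G := Coh.structureModule I.subscheme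
  obtain ⟨b⟩ := CohFinite.hh_push_linear (A := R) I.subschemeι rfl G
    (haveI : Coh.IsQCoh G := Groth.Agent.QC.isQCoh_unit _; CohQC.directAcyclic_of_isAffineHom I.subschemeι _) 0
  let e : Γ(I.subscheme, ⊤) ≃ₗ[R] Coh.HH I.subscheme G 0 :=
    { (Sheaf.H.equiv₀ (Coh.toAb G) (Limits.isTerminalTop (α := I.subscheme.Opens))).symm with
      map_smul' := fun a x => by
        refine Eq.trans (congrArg (W7Cech.gsH0 R G) ?_) (Sheaf.H.equiv₀_symm_naturality (Limits.isTerminalTop
          (α := I.subscheme.Opens)) (Coh.smulAb G (Coh.toGlobal (I.subscheme ↘ Spec (CommRingCat.of R)) a)) x).symm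
        rw [Coh.smulAb_app]
        show (toΓ X I a) * (show Γ(I.subscheme, ⊤) from x) =
          (I.subscheme.presheaf.map _).hom (toΓ X I a) * (show Γ(I.subscheme, ⊤) from x)
        exact congrArg (· * (show Γ(I.subscheme, ⊤) from x)) (Groth.Agent.QC.resO_self (X := I.subscheme) le_rfl _).symm }
  exact congrArg ENat.toNat (b.length_eq.symm.trans e.length_eq.symm)

end Good

section Chain

variable {C X : Scheme.{u}} {f : C ⟶ Spec (CommRingCat.of (FractionRing R))}
  {p : X ⟶ Spec (CommRingCat.of R)}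
  (hC : Curve.IsSmoothProperCurve (FractionRing R) C f) (hH0 : IsIso f.appTop)
  (hX : Models.IsRegularProperModel R X p C f) {n : ℕ} (Γ : Fin n → ArSurf.VertComp R (Over.mk p))
  (hΓ : Models.IsComponentList R (Over.mk p) Γ)
include hC hH0 hX hΓ

/-- `m/d`. -/
abbrev redMult (_ : Unit) : Fin n → ℕ :=
  fun i => Models.mult R (Over.mk p) (Γ i) / Models.multGcd R (Over.mk p) Γ

omit hC hH0 hX hΓ in
/-- The step data: `b ≺ b + e_i` with `b · Γ_i > 0`. -/
def IsStep (b b' : Fin n → ℕ) : Prop :=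
  ∃ i, b' = b + Pi.single i 1 ∧ 0 < ∑ j, (b j : ℤ) * interMat Γ i j

/-- Steps preserve the field of constants, and the inequalities. -/
theorem isStep_facts {b b' : Fin n → ℕ} (h : IsStep Γ b b') (hg : GoodH0 (Over.mk p) (divI Γ b)) :
    GoodH0 (Over.mk p) (divI Γ b') ∧
    Models.lengthH R (Over.mk p) (ClSub.quotMod (divI Γ b')) 0 ≤ Models.lengthH R (Over.mk p) (ClSub.quotMod (divI Γ b)) 0 ∧
    Models.lengthH R (Over.mk p) (ClSub.quotMod (divI Γ b)) 1 ≤ Models.lengthH R (Over.mk p) (ClSub.quotMod (divI Γ b')) 1 ∧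
    ∃ i, b' = b + Pi.single i 1 ∧
      (Models.lengthH R (Over.mk p) (ClSub.quotMod (divI Γ b')) 1 : ℤ) - Models.lengthH R (Over.mk p) (ClSub.quotMod (divI Γ b)) 1 =
        (Models.lengthH R (Over.mk p) (ClSub.quotMod (divI Γ b')) 0 : ℤ) - Models.lengthH R (Over.mk p) (ClSub.quotMod (divI Γ b)) 0 +
          ∑ j, (b j : ℤ) * interMat Γ i j + ((Models.h1 R (Over.mk p) (Γ i) : ℤ) - Models.wdeg R (Over.mk p) (Γ i)) := by
  classical
  obtain ⟨i, rfl, hi⟩ := h
  have hA := isArithSurface_of_regularProper hC hX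
  haveI : IsProper (Over.mk p).hom := hX.2.1
  obtain ⟨h1, h2, h3, h4⟩ := step_facts (Γ i) (cartier_divI hA Γ b) (isEffCartierIdeal_ker hA (Γ i))
    (chiL_divI hA Γ hΓ.1 b).1 (by rw [degI_divI hA]; omega)
  have he : divI Γ (b + Pi.single i 1) = (Γ i).ι.ker * divI Γ b := by
    rw [← divI_add_single]
    congr 1
    funext j
    by_cases hj : j = i <;> simp [hj]
  rw [he]
  refine ⟨good_of_injective _ h1 hg, h2, h4, i, rfl, ?_⟩
  rw [h3, degI_divI hA]
  ring

/-- A step exists below the reduced fibre. -/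
theorem exists_step_one (b : Fin n → ℕ) (hb : ∀ i, b i ≤ 1) (h0 : b ≠ 0) (h1 : ∃ i, b i = 0) :
    ∃ i, b i = 0 ∧ 0 < ∑ j, (b j : ℤ) * interMat Γ i j := by
  classical
  obtain ⟨T, -, ha, -, -, -⟩ := exists_numType hC hH0 hX Γ hΓ
  obtain ⟨i₁, hi₁⟩ := h1
  obtain ⟨i₀, hi₀⟩ := Function.ne_iff.1 h0
  let S : Finset (Fin n) := Finset.univ.filter fun i => b i = 0
  obtain ⟨i, hi, j, hj, hij⟩ := T.connected S ⟨i₁, by simp [S, hi₁]⟩ fun h => hi₀ (by
    have h' : i₀ ∈ S := h ▸ Finset.mem_univ i₀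
    simpa [S] using h')
  simp only [S, Finset.mem_filter, Finset.mem_univ, true_and] at hi hj
  have hnn : ∀ l, 0 ≤ (b l : ℤ) * interMat Γ i l := fun l => by
    by_cases hl : l = i
    · simp [hl, hi]
    · exact mul_nonneg (Int.natCast_nonneg _) (ha i l ▸ T.offDiag_nonneg i l (Ne.symm hl))
  refine ⟨i, hi, lt_of_lt_of_le ?_ (Finset.single_le_sum (fun l _ => hnn l) (Finset.mem_univ j))⟩
  refine lt_of_le_of_ne (hnn j) (Ne.symm (mul_ne_zero (by exact_mod_cast hj) (ha i j ▸ hij)))

/-- A step exists below `m/d`. -/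
theorem exists_step_red (b : Fin n → ℕ) (hb : ∀ i, b i ≤ redMult Γ () i) (h0 : b ≠ 0) (h1 : b ≠ redMult Γ ()) :
    ∃ i, b i < redMult Γ () i ∧ 0 < ∑ j, (b j : ℤ) * interMat Γ i j := by
  classical
  obtain ⟨T, hm, ha, -, -, -⟩ := exists_numType hC hH0 hX Γ hΓ
  let d := Models.multGcd R (Over.mk p) Γ
  let a : Fin n → ℕ := redMult Γ ()
  have hd : ∀ i, d * a i = Models.mult R (Over.mk p) (Γ i) :=
    fun i => Nat.mul_div_cancel' (Finset.gcd_dvd (Finset.mem_univ i))
  have hd0 : 0 < d := Nat.pos_of_dvd_of_pos (Finset.gcd_dvd (Finset.mem_univ (⟨0, T.pos⟩ : Fin n))) (by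
    have h := T.m_pos ⟨0, T.pos⟩
    rw [hm] at h; exact_mod_cast h)
  have hz : ∀ i, ∑ j, (a j : ℤ) * interMat Γ i j = 0 := fun i => by
    refine (mul_eq_zero.1 ?_).resolve_left (show (d : ℤ) ≠ 0 by exact_mod_cast hd0.ne')
    rw [Finset.mul_sum, ← (show ∑ j, T.a i j * T.m j = 0 from congrFun T.mulVec_m i)]
    refine Finset.sum_congr rfl fun j _ => ?_
    rw [hm, ha, ← mul_assoc, ← Nat.cast_mul, hd, mul_comm]
  let c : Fin n → ℤ := fun i => (a i : ℤ) - b i
  by_contra hcon
  push Not at hcon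
  have hnn : 0 ≤ ∑ i, ∑ j, T.a i j * c i * c j := Finset.sum_nonneg fun i _ => by
    rw [Finset.sum_congr rfl fun j _ => show T.a i j * c i * c j = c i * (T.a i j * c j) by ring, ← Finset.mul_sum]
    rcases Nat.lt_or_eq_of_le (hb i) with h | h
    · refine mul_nonneg (sub_nonneg.2 (Int.ofNat_le.2 (hb i))) ?_
      have e : ∑ j, T.a i j * c j = - ∑ j, (b j : ℤ) * interMat Γ i j := by
        rw [← zero_sub, ← hz i, ← Finset.sum_sub_distrib]
        exact Finset.sum_congr rfl fun j _ => by rw [ha]; ring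
      rw [e]
      linarith [hcon i h]
    · simp [c, a, h]
  let i₀ : Fin n := ⟨0, T.pos⟩
  let x : Fin n → ℤ := fun i => c i * T.m i₀ - T.m i * c i₀
  have hAm : ∀ i, ∑ j, T.a i j * T.m j = 0 := congrFun T.mulVec_m
  have hform : ∑ i, ∑ j, T.a i j * x i * x j = T.m i₀ * T.m i₀ * ∑ i, ∑ j, T.a i j * c i * c j := by
    have hAm' : ∀ j, ∑ i, T.a i j * T.m i = 0 := fun j => by
      rw [← hAm j]; exact Finset.sum_congr rfl fun i _ => by rw [T.symm.apply j i]
    have s1 : ∑ i, ∑ j, T.a i j * c i * T.m j = 0 := Finset.sum_eq_zero fun i _ => by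
      rw [Finset.sum_congr rfl fun j _ => show T.a i j * c i * T.m j = c i * (T.a i j * T.m j) by ring,
        ← Finset.mul_sum, hAm, mul_zero]
    have s2 : ∑ i, ∑ j, T.a i j * T.m i * c j = 0 := by
      rw [Finset.sum_comm]
      exact Finset.sum_eq_zero fun j _ => by rw [← Finset.sum_mul, hAm', zero_mul]
    have s3 : ∑ i, ∑ j, T.a i j * T.m i * T.m j = 0 := by
      rw [Finset.sum_comm]
      exact Finset.sum_eq_zero fun j _ => by rw [← Finset.sum_mul, hAm', zero_mul]
    calc ∑ i, ∑ j, T.a i j * x i * x j = T.m i₀ * T.m i₀ * (∑ i, ∑ j, T.a i j * c i * c j) -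
          T.m i₀ * c i₀ * (∑ i, ∑ j, T.a i j * c i * T.m j) - T.m i₀ * c i₀ * (∑ i, ∑ j, T.a i j * T.m i * c j) +
          c i₀ * c i₀ * (∑ i, ∑ j, T.a i j * T.m i * T.m j) := by
            simp only [Finset.mul_sum, ← Finset.sum_sub_distrib, ← Finset.sum_add_distrib]
            exact Finset.sum_congr rfl fun i _ => Finset.sum_congr rfl fun j _ => by ring
      _ = _ := by rw [s1, s2, s3]; ring
  have hx : ∀ i, x i = 0 := fun i => by
    by_contra hi
    have hlt := NumType.form_neg T (fun i => (x i : ℝ)) ⟨i₀, by simp [x, mul_comm]⟩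
      fun h => hi (by simpa using congrFun h i)
    have hge : 0 ≤ ∑ i, ∑ j, T.a i j * x i * x j := hform ▸ mul_nonneg (mul_self_nonneg _) hnn
    refine hlt.not_ge ?_
    exact_mod_cast hge
  have hprop : ∀ i, (a i : ℤ) * c i₀ = c i * a i₀ := fun i => by
    refine mul_left_cancel₀ (show (d : ℤ) ≠ 0 by exact_mod_cast hd0.ne') ?_
    rw [← mul_assoc, ← Nat.cast_mul, hd, mul_left_comm, ← Nat.cast_mul, hd, ← hm, ← hm]
    have := hx i
    simp only [x] at this
    linarith
  obtain ⟨u, hu⟩ : ∃ u : Fin n → ℤ, ∑ i, u i * (a i : ℤ) = 1 := by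
    obtain ⟨-, -, -, -, u, hu⟩ := mult_facts hC hH0 hX Γ hΓ
    refine ⟨u, mul_left_cancel₀ (show (d : ℤ) ≠ 0 by exact_mod_cast hd0.ne') ?_⟩
    rw [Finset.mul_sum, mul_one]
    exact (Finset.sum_congr rfl fun i _ => by rw [← hd i]; push_cast; ring).trans hu
  let q := ∑ i, u i * c i
  have ha0 : (0 : ℤ) < a i₀ := by
    have h := T.m_pos i₀
    rw [hm, ← hd i₀, Nat.cast_mul] at h
    exact pos_of_mul_pos_right h (Int.natCast_nonneg _)
  have hq0 : q * a i₀ = c i₀ := by
    rw [Finset.sum_mul, ← one_mul (c i₀), ← hu, Finset.sum_mul]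
    exact Finset.sum_congr rfl fun j _ => by rw [mul_assoc, ← hprop j, mul_assoc]
  have hq : ∀ i, c i = q * a i := fun i =>
    mul_right_cancel₀ ha0.ne' (by rw [← hprop i, ← hq0]; ring)
  have hq1 : 0 ≤ q := nonneg_of_mul_nonneg_left (hq0 ▸ sub_nonneg.2 (Int.ofNat_le.2 (hb i₀))) ha0
  have hq2 : q ≤ 1 := le_of_mul_le_mul_right (by rw [hq0, one_mul]; simp [c]) ha0
  rcases (show q = 0 ∨ q = 1 by omega) with h | h
  · refine h1 (funext fun i => ?_)
    have := hq i
    rw [h, zero_mul] at this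
    simp only [c, a] at this
    omega
  · refine h0 (funext fun i => ?_)
    have := hq i
    rw [h, one_mul] at this
    simp only [c, a, Pi.zero_apply] at this ⊢
    omega

/-- The reduced fibre has a field of constants. -/
theorem good_red : GoodH0 (Over.mk p) (divI Γ fun _ => 1) := by
  classical
  obtain ⟨T, -, -, -, -, -⟩ := exists_numType hC hH0 hX Γ hΓ
  haveI : IsProper (Over.mk p).hom := hX.2.1
  suffices key : ∀ N : ℕ, ∀ b : Fin n → ℕ, (∀ i, b i ≤ 1) → b ≠ 0 → GoodH0 (Over.mk p) (divI Γ b) →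
      ∑ i, (1 - b i) = N → GoodH0 (Over.mk p) (divI Γ fun _ => 1) by
    let i₀ : Fin n := ⟨0, T.pos⟩
    refine key _ (Pi.single i₀ 1) (fun i => ?_) (by simp) ?_ rfl
    · by_cases h : i = i₀ <;> simp [h]
    · rw [show divI Γ (Pi.single i₀ 1) = (Γ i₀).ι.ker from ?_]
      · exact good_component (Γ i₀)
      · rw [divI, Finset.prod_eq_single i₀ (fun j _ hj => by simp [hj]) (fun h => absurd (Finset.mem_univ i₀) h)]
        simp
  intro N
  induction N with
  | zero =>
    intro b hb _ hg hs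
    have : b = fun _ => 1 := funext fun i => by
      have := (Finset.sum_eq_zero_iff.1 hs) i (Finset.mem_univ i)
      have := hb i
      omega
    exact this ▸ hg
  | succ N ih =>
    intro b hb h0 hg hs
    obtain ⟨i₁, -, hi₁⟩ := Finset.exists_ne_zero_of_sum_ne_zero (show ∑ i, (1 - b i) ≠ 0 by omega)
    obtain ⟨i, hi, hpos⟩ := exists_step_one hC hH0 hX Γ hΓ b hb h0 ⟨i₁, by omega⟩
    refine ih (b + Pi.single i 1) (fun j => ?_) (fun h => by simpa [hi] using congrFun h i)
      (isStep_facts hC hH0 hX Γ hΓ ⟨i, rfl, hpos⟩ hg).1 ?_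
    · by_cases h : j = i
      · subst h; simp [hi]
      · simp [h, hb j]
    · have hsplit : ∀ g : Fin n → ℕ, ∑ j, g j = g i + ∑ j ∈ Finset.univ.erase i, g j :=
        fun g => (Finset.add_sum_erase _ g (Finset.mem_univ i)).symm
      rw [hsplit] at hs ⊢
      rw [Finset.sum_congr rfl fun j hj => by rw [Pi.add_apply, Pi.single_eq_of_ne (Finset.ne_of_mem_erase hj), add_zero]]
      simp only [Pi.add_apply, Pi.single_eq_same, hi] at hs ⊢
      omega

/-- A chain of steps from the reduced fibre to `m/d`. -/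
theorem exists_chain : ∃ (s : ℕ) (a : Fin (s + 1) → Fin n → ℕ), (a 0 = fun _ => 1) ∧ a (Fin.last s) = redMult Γ () ∧
    (∀ j : Fin s, IsStep Γ (a j.castSucc) (a j.succ)) ∧ ∀ j, GoodH0 (Over.mk p) (divI Γ (a j)) := by
  classical
  obtain ⟨T, hm, -, -, -, -⟩ := exists_numType hC hH0 hX Γ hΓ
  suffices key : ∀ N : ℕ, ∀ b : Fin n → ℕ, (∀ i, b i ≤ redMult Γ () i) → b ≠ 0 → GoodH0 (Over.mk p) (divI Γ b) →
      ∑ i, (redMult Γ () i - b i) = N → ∃ (s : ℕ) (a : Fin (s + 1) → Fin n → ℕ), a 0 = b ∧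
        a (Fin.last s) = redMult Γ () ∧ (∀ j : Fin s, IsStep Γ (a j.castSucc) (a j.succ)) ∧
        ∀ j, GoodH0 (Over.mk p) (divI Γ (a j)) by
    refine key _ (fun _ => 1) (fun i => ?_) (fun h => Nat.one_ne_zero (congrFun h ⟨0, T.pos⟩))
      (good_red hC hH0 hX Γ hΓ) rfl
    have h := T.m_pos i
    rw [hm] at h
    refine Nat.div_pos (Nat.le_of_dvd (by exact_mod_cast h) (Finset.gcd_dvd (Finset.mem_univ i))) ?_
    exact Nat.pos_of_dvd_of_pos (Finset.gcd_dvd (Finset.mem_univ i)) (by exact_mod_cast h)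
  intro N
  induction N with
  | zero =>
    intro b hb _ hg hs
    have : b = redMult Γ () := funext fun i => by
      have := (Finset.sum_eq_zero_iff.1 hs) i (Finset.mem_univ i)
      have := hb i
      omega
    exact ⟨0, fun _ => b, rfl, this, fun j => j.elim0, fun _ => hg⟩
  | succ N ih =>
    intro b hb h0 hg hs
    have h1 : b ≠ redMult Γ () := fun h => by
      rw [h] at hs
      simp at hs
    obtain ⟨i, hi, hpos⟩ := exists_step_red hC hH0 hX Γ hΓ b hb h0 h1
    have hstep : IsStep Γ b (b + Pi.single i 1) := ⟨i, rfl, hpos⟩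
    have hb' : ∀ j, (b + Pi.single i 1 : Fin n → ℕ) j ≤ redMult Γ () j := fun j => by
      by_cases h : j = i
      · subst h
        simp only [Pi.add_apply, Pi.single_eq_same]
        omega
      · simp [h, hb j]
    have hs' : ∑ j, (redMult Γ () j - (b + Pi.single i 1 : Fin n → ℕ) j) = N := by
      have hsplit : ∀ g : Fin n → ℕ, ∑ j, g j = g i + ∑ j ∈ Finset.univ.erase i, g j :=
        fun g => (Finset.add_sum_erase _ g (Finset.mem_univ i)).symm
      rw [hsplit] at hs ⊢
      rw [Finset.sum_congr rfl fun j hj => by rw [Pi.add_apply, Pi.single_eq_of_ne (Finset.ne_of_mem_erase hj), add_zero]]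
      simp only [Pi.add_apply, Pi.single_eq_same] at hs ⊢
      omega
    obtain ⟨s, a, ha0, hal, has, hag⟩ := ih (b + Pi.single i 1) hb'
      (fun h => by simpa using congrFun h i) (isStep_facts hC hH0 hX Γ hΓ hstep hg).1 hs'
    refine ⟨s + 1, Fin.cons b a, rfl, ?_, fun j => ?_, fun j => ?_⟩
    · rw [← Fin.succ_last, Fin.cons_succ]; exact hal
    · refine Fin.cases ?_ (fun l => ?_) j
      · rw [Fin.cons_succ, ha0]; exact hstep
      · rw [← Fin.succ_castSucc, Fin.cons_succ, Fin.cons_succ]; exact has l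
    · refine Fin.cases hg (fun l => ?_) j
      rw [Fin.cons_succ]; exact hag l

end Chain

end Groth.Agent.Castel
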