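import Groth.Agent.Castel.GenusNegDiv
import Groth.Agent.Castel.DivField
import Groth.Agent.CurveRR.GlobGen

/-!
Global generation on vertical divisors without `H¹(O)`, and the numerical meaning of `H¹(Z, O) = 0`.
-/

set_option autoImplicit false
set_option backward.isDefEq.respectTransparency false
set_option backward.isDefEq.respectTransparency.types false
set_option linter.style.haveILetI false
set_option linter.unusedSectionVars false

universe u

open CategoryTheory CategoryTheory.Limits AlgebraicGeometry TopologicalSpace Opposite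
open Groth.Agent.QC (res resO res_res res_self app_res res_smul section_eq_of_locally)
open Groth.Agent.CohFinite (tmap tmap_tm hhMap shortExact_tmap shortExact_toAb)

noncomputable section

namespace Groth.Agent.Castel

/-- On a curve without `H¹(O)` nonnegative degree means no base points. -/
theorem exists_gen_of_genus_zero {k : Type u} [Field k] {X : Scheme.{u}} [X.Over (Spec (CommRingCat.of k))]
    [IsProper (X ↘ Spec (CommRingCat.of k))] [IsIntegral X] (hdim : topologicalKrullDim X ≤ 1)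
    (h1 : Subsingleton (Coh.HH X (Coh.structureModule X) 1))
    (h0 : 0 < CurveRR.h k (Coh.structureModule X) 0) {L : X.Modules} (hL : PicF.IsInvertible L)
    (hdeg : 0 ≤ Curv2.deg k X L 1) {x : X} (hx : IsClosed ({x} : Set X)) :
    ∃ t : Γ(L, ⊤), x ∈ CohB1.genLocus L (TMul.homOf t) := by
  haveI := CurveRR.isNoetherian_of_proper k X
  by_contra! hno
  let I := Scheme.IdealSheafData.vanishingIdeal ⟨{x}, hx⟩
  have hsupp : (I.support : Set X) = {x} := by simp [I]
  have hd : topologicalKrullDim (I.support : Set X) ≤ 0 := by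
    rw [hsupp]
    exact topologicalKrullDim_zero_of_discreteTopology _
  have hM := CohFinite.isCoh_tensor (CurveRR.isCoh_idealMod I).1 hL
  haveI := CurveRR.mono_idealIncl hL I
  haveI := CohFinite.finite_proper k X _ hM 0
  have hle : CurveRR.h k L 0 ≤ CurveRR.h k (CohB1.tensorMod (ClSub.idealMod I) L) 0 := by
    letI := CurveRR.secMod k L ⊤
    letI := CurveRR.secMod k (CohB1.tensorMod (ClSub.idealMod I) L) ⊤
    haveI : Module.Finite k Γ(CohB1.tensorMod (ClSub.idealMod I) L, ⊤) :=
      Module.Finite.equiv (CurveRR.secH0 (k := k) (CohB1.tensorMod (ClSub.idealMod I) L)).symm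
    let φ : Γ(CohB1.tensorMod (ClSub.idealMod I) L, ⊤) →ₗ[k] Γ(L, ⊤) :=
      { toFun := (CurveRR.idealIncl I L).app ⊤
        map_add' := map_add _
        map_smul' := fun a s => TMul.app_smul _ _ _ }
    have := φ.finrank_range_le
    rw [LinearMap.range_eq_top.mpr fun t => CurveRR.mem_range_idealIncl hL ⟨{x}, hx⟩ t fun z hz => by
      rw [Set.mem_singleton_iff.mp hz]; exact hno t, finrank_top, CurveRR.finrank_sec, CurveRR.finrank_sec] at this
    exact this
  have hv := subsingleton_h1_of_genus_zero (k := k) hdim h1 hL (by omega)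
  rw [Curv2.deg, CurveRR.euler_eq hdim, CurveRR.euler_eq hdim, CurveRR.h_eq_zero hv, CurveRR.h_eq_zero h1] at hdeg
  have he := CurveRR.euler_ideal_tensor (k := k) hL I hd
  rw [CurveRR.euler_eq hdim, CurveRR.euler_eq hdim, CurveRR.h_eq_zero hv] at he
  have hQ := CurveRR.h0_quotMod_pos (k := k) I (by rw [hsupp]; exact ⟨x, rfl⟩)
  haveI := CohFinite.finite_proper k X _ hM 1
  have hnt : Nontrivial (Coh.HH X (CohB1.tensorMod (ClSub.idealMod I) L) 1) := by
    rw [← Module.finrank_pos_iff (R := k)]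
    change 0 < CurveRR.h k (CohB1.tensorMod (ClSub.idealMod I) L) 1
    omega
  have := CurveRR.h0_le_genus (k := k) hdim hM hL (CurveRR.idealIncl I L) hnt
  have hg : Curv2.genus k X = 0 := Module.finrank_zero_of_subsingleton
  push_cast at hdeg
  omega

section Push

variable {Γ Z : Scheme.{u}} (γ : Γ ⟶ Z)

/-- A multiple equal to a section generating at `y` has a coefficient invertible at `γ y`. -/
theorem isUnit_germ_of_push {Q : Γ.Modules} {u : Γ(Q, ⊤)} {y : Γ} (hu : y ∈ CohB1.genLocus Q (TMul.homOf u))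
    {W : Z.Opens} (hy : γ y ∈ W) (c : Γ(Z, W)) (w : Γ(Q, γ ⁻¹ᵁ W))
    (h : res Q (le_top : γ ⁻¹ᵁ W ≤ ⊤) u = (γ.app W).hom c • w) : IsUnit (Z.presheaf.germ W (γ y) hy c) := by
  let V : Γ.Opens := γ ⁻¹ᵁ W ⊓ CohB1.genLocus Q (TMul.homOf u)
  have hyV : y ∈ V := ⟨hy, hu⟩
  have hg := (TMul.isGen_genLocus (TMul.homOf u)).res (inf_le_right : V ≤ _)
  rw [TMul.val_homOf, res_res] at hg
  obtain ⟨a, ha⟩ := (hg V le_rfl).2 (res Q inf_le_left w)
  change a • res Q le_rfl (res Q (le_top : V ≤ ⊤) u) = _ at ha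
  rw [res_self] at ha
  have h2 : res Q (le_top : V ≤ ⊤) u = (resO Γ inf_le_left ((γ.app W).hom c) * a) • res Q (le_top : V ≤ ⊤) u := by
    rw [mul_smul, ha]
    conv_lhs => rw [← res_res Q (inf_le_left : V ≤ γ ⁻¹ᵁ W) le_top, h, res_smul]
  have h3 : resO Γ inf_le_left ((γ.app W).hom c) * a = (1 : Γ(Γ, V)) := (hg V le_rfl).1 (by
    show _ • res Q le_rfl (res Q (le_top : V ≤ ⊤) u) = (1 : Γ(Γ, V)) • res Q le_rfl (res Q (le_top : V ≤ ⊤) u)
    rw [res_self, one_smul, ← h2])
  have hu1 : IsUnit (Γ.presheaf.germ (γ ⁻¹ᵁ W) y hy ((γ.app W).hom c)) := by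
    have := (IsUnit.of_mul_eq_one a h3).map (Γ.presheaf.germ V y hyV).hom
    rwa [resO, TopCat.Presheaf.germ_res_apply] at this
  rw [← Scheme.Hom.germ_stalkMap_apply γ W y hy c] at hu1
  exact (isUnit_map_iff (γ.stalkMap y).hom _).1 hu1

/-- If `M → γ_* Q` sends `t` to a section generating at `y` then `t` generates at `γ y`. -/
theorem mem_genLocus_of_push {M : Z.Modules} (hM : PicF.IsInvertible M) {Q : Γ.Modules}
    (φ : M ⟶ (Scheme.Modules.pushforward γ).obj Q) {t : Γ(M, ⊤)} {y : Γ} {u : Γ(Q, ⊤)}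
    (ht : φ.app ⊤ t = u) (hu : y ∈ CohB1.genLocus Q (TMul.homOf u)) :
    γ y ∈ CohB1.genLocus M (TMul.homOf t) := by
  obtain ⟨D, g, hxD, hg⟩ := TMul.exists_isGen hM (γ y)
  obtain ⟨c, hc⟩ := (hg D le_rfl).2 (res M le_top t)
  change c • res M le_rfl g = _ at hc
  rw [res_self] at hc
  refine (TMul.mem_genLocus_iff_isUnit (TMul.homOf t) hg (c := c) (by rw [TMul.val_homOf]; exact hc.symm) hxD).mpr ?_
  refine isUnit_germ_of_push γ hu hxD c (φ.app D g) ?_
  have h1 := congrArg (φ.app D) hc
  rw [TMul.app_smul, ← app_res, ht] at h1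
  exact h1.symm

/-- The image of a generating section under a monomorphism which is onto near the point. -/
theorem mem_genLocus_of_mono {M : Z.Modules} (hM : PicF.IsInvertible M) {Q : Γ.Modules}
    (ψ : (Scheme.Modules.pushforward γ).obj Q ⟶ M) [Mono ψ] (O : Z.Opens) {y : Γ} (hy : γ y ∈ O)
    (hsurj : ∀ D : Z.Opens, D ≤ O → Function.Surjective (ψ.app D)) {u : Γ(Q, ⊤)}
    (hu : y ∈ CohB1.genLocus Q (TMul.homOf u)) :
    γ y ∈ CohB1.genLocus M (TMul.homOf (ψ.app ⊤ u)) := by
  obtain ⟨D₀, g₀, hxD₀, hg₀⟩ := TMul.exists_isGen hM (γ y)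
  have hxD : γ y ∈ D₀ ⊓ O := ⟨hxD₀, hy⟩
  have hg := hg₀.res (inf_le_left : D₀ ⊓ O ≤ D₀)
  obtain ⟨c, hc⟩ := (hg (D₀ ⊓ O) le_rfl).2 (res M le_top (ψ.app ⊤ u))
  change c • res M le_rfl (res M inf_le_left g₀) = _ at hc
  rw [res_self] at hc
  refine (TMul.mem_genLocus_iff_isUnit _ hg (c := c) (by rw [TMul.val_homOf]; exact hc.symm) hxD).mpr ?_
  obtain ⟨w, hw⟩ := hsurj (D₀ ⊓ O) inf_le_right (res M inf_le_left g₀)
  refine isUnit_germ_of_push γ hu hxD c w ?_
  refine Groth.Agent.QC.app_injective_of_mono ψ (D₀ ⊓ O) ?_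
  refine Eq.trans ?_ ((TMul.app_smul ψ c w).trans (by rw [hw])).symm
  rw [hc]
  exact (app_res ψ (le_top : D₀ ⊓ O ≤ ⊤) u).symm

end Push

section Step

variable {Z Γ Z' : Scheme.{u}} (γ : Γ ⟶ Z) [IsClosedImmersion γ] (j : Z' ⟶ Z) [IsClosedImmersion j] {P : Γ.Modules}
  {f : (Scheme.Modules.pushforward γ).obj P ⟶ Coh.structureModule Z} {w : f ≫ ClSub.unitToPush j = 0}
  (hS : (ShortComplex.mk f (ClSub.unitToPush j) w).ShortExact) (hP : PicF.IsInvertible P)
  {M : Z.Modules} (hM : PicF.IsInvertible M)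
include hS hP hM

omit hP in
/-- Away from `Z'` the kernel is everything. -/
theorem surjective_tmap_off (D : Z.Opens) (hD : ∀ z : Z', j z ∉ D) :
    Function.Surjective ((tmap f M).app D) := fun g => by
  obtain ⟨e₃⟩ := nonempty_restr_iso j hM
  refine Groth.Agent.SiteCoh.sections_exact (shortExact_toAb (shortExact_tmap hM hS)) D g ?_
  apply (ConcreteCategory.bijective_of_isIso (e₃.hom.app D)).1
  refine Eq.trans ?_ (map_zero _).symm
  exact section_eq_of_locally (M := (Scheme.Modules.pullback j).obj M) fun z hz => (hD z hz).elim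

/-- Sections generating on `Z'` lift. -/
theorem exists_gen_lift (h1 : Subsingleton (Coh.HH Γ (CohB1.tensorMod P ((Scheme.Modules.pullback γ).obj M)) 1))
    {z' : Z'} {u : Γ((Scheme.Modules.pullback j).obj M, ⊤)}
    (hu : z' ∈ CohB1.genLocus _ (TMul.homOf u)) : ∃ t : Γ(M, ⊤), j z' ∈ CohB1.genLocus M (TMul.homOf t) := by
  obtain ⟨e⟩ := nonempty_restr_iso j hM
  obtain ⟨t, ht⟩ := (step_restr γ j hS hP hM h1).1 (e.inv.app ⊤ u)
  refine ⟨t, mem_genLocus_of_push j hM (restrMap j M ≫ e.hom) ?_ hu⟩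
  show e.hom.app ⊤ ((restrMap j M).app ⊤ t) = u
  rw [ht]
  show (e.inv ≫ e.hom).app ⊤ u = u
  rw [e.inv_hom_id]
  rfl

/-- Sections of the kernel generate away from `Z'`. -/
theorem exists_gen_off {y : Γ} (hy : γ y ∉ Set.range j)
    {u : Γ(CohB1.tensorMod P ((Scheme.Modules.pullback γ).obj M), ⊤)}
    (hu : y ∈ CohB1.genLocus _ (TMul.homOf u)) : ∃ t : Γ(M, ⊤), γ y ∈ CohB1.genLocus M (TMul.homOf t) := by
  haveI := Groth.Agent.S0927.isIso_proj γ M (fun x => let ⟨U, hx, e⟩ := CurveRR.isFinLocFreeOfRank_one hM x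
    ⟨U, 1, hx, e⟩) P
  obtain ⟨c₁⟩ : Nonempty (CohB1.tensorMod ((Scheme.Modules.pushforward γ).obj P) M ≅
      (Scheme.Modules.pushforward γ).obj (CohB1.tensorMod P ((Scheme.Modules.pullback γ).obj M))) :=
    ⟨TMul.commIso _ _ ≪≫ asIso (Groth.Agent.S0927.proj γ M P) ≪≫
      (Scheme.Modules.pushforward γ).mapIso (TMul.commIso _ _)⟩
  have hmono : Mono (tmap f M) := (shortExact_tmap hM hS).mono_f
  haveI := hmono
  haveI : Mono (tmap f M ≫ (TMul.leftUnitIso M).hom) := mono_comp _ _
  haveI : Mono (c₁.inv ≫ tmap f M ≫ (TMul.leftUnitIso M).hom) := mono_comp _ _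
  refine ⟨_, mem_genLocus_of_mono γ hM (c₁.inv ≫ tmap f M ≫ (TMul.leftUnitIso M).hom)
    ⟨(Set.range j)ᶜ, j.isClosedEmbedding.isClosed_range.isOpen_compl⟩ hy (fun D hD g => ?_) hu⟩
  obtain ⟨b, hb⟩ := surjective_tmap_off γ j hS hM D (fun z hz => hD hz ⟨z, rfl⟩) ((TMul.leftUnitIso M).inv.app D g)
  refine ⟨c₁.hom.app D b, ?_⟩
  show (c₁.hom ≫ c₁.inv ≫ tmap f M ≫ (TMul.leftUnitIso M).hom).app D b = g
  rw [c₁.hom_inv_id_assoc]
  show (TMul.leftUnitIso M).hom.app D ((tmap f M).app D b) = g
  rw [hb]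
  show ((TMul.leftUnitIso M).inv ≫ (TMul.leftUnitIso M).hom).app D g = g
  rw [Iso.inv_hom_id]
  rfl

end Step

variable {R : Type u} [CommRing R] [IsDomain R] [IsDiscreteValuationRing R] {X : Over (Spec (CommRingCat.of R))}
  (hX : ArSurf.IsArithSurface R X) {r : ℕ} (Γ : Fin r → ArSurf.VertComp R X)
include hX

omit hX in
/-- `H⁰(X, O/I)` has the length of `Γ(D, O)`. -/
theorem length_quot_zero (I : X.left.IdealSheafData) :
    letI := (toΓ X I).toAlgebra
    letI : X.left.Over (Spec (CommRingCat.of R)) := ⟨X.hom⟩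
    Module.length R (Coh.HH X.left (ClSub.quotMod I) 0) = Module.length R Γ(I.subscheme, ⊤) := by
  letI alg := (toΓ X I).toAlgebra
  letI : X.left.Over (Spec (CommRingCat.of R)) := ⟨X.hom⟩
  letI : I.subscheme.Over (Spec (CommRingCat.of R)) := ⟨I.subschemeι ≫ X.hom⟩
  let G := Coh.structureModule I.subscheme
  obtain ⟨b⟩ := CohFinite.hh_push_linear (A := R) I.subschemeι rfl G
    (haveI : Coh.IsQCoh G := Groth.Agent.QC.isQCoh_unit _; CohQC.directAcyclic_of_isAffineHom I.subschemeι _) 0
  let e : Γ(I.subscheme, ⊤) ≃ₗ[R] Coh.HH I.subscheme G 0 :=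
    { (Sheaf.H.equiv₀ (Coh.toAb G) (Limits.isTerminalTop (α := I.subscheme.Opens))).symm with
      map_smul' := fun a x => by
        refine Eq.trans (congrArg (W7Cech.gsH0 R G) ?_) (Sheaf.H.equiv₀_symm_naturality (Limits.isTerminalTop
          (α := I.subscheme.Opens)) (Coh.smulAb G (Coh.toGlobal (I.subscheme ↘ Spec (CommRingCat.of R)) a)) x).symm
        rw [Coh.smulAb_app]
        show (toΓ X I a) * (show Γ(I.subscheme, ⊤) from x) =
          (I.subscheme.presheaf.map _).hom (toΓ X I a) * (show Γ(I.subscheme, ⊤) from x)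
        exact congrArg (· * (show Γ(I.subscheme, ⊤) from x)) (Groth.Agent.QC.resO_self (X := I.subscheme) le_rfl _).symm }
  exact b.length_eq.symm.trans e.length_eq.symm

/-- Nonnegative degrees: no base points. -/
theorem thick_gen (b : Fin r → ℕ) (hb : AdjNeg Γ b) (M : (divI Γ b).subscheme.Modules) (hM : PicF.IsInvertible M)
    (hdeg : ∀ (i : Fin r) (g : (Γ i).curve.left ⟶ (divI Γ b).subscheme),
      g ≫ (divI Γ b).subschemeι = (Γ i).ι → 0 ≤ degAlong (Γ i) g M) :
    ∀ z : (divI Γ b).subscheme, IsClosed ({z} : Set (divI Γ b).subscheme) →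
      ∃ t : Γ(M, ⊤), z ∈ CohB1.genLocus M (TMul.homOf t) := by
  classical
  induction hN : ∑ i, b i generalizing b with
  | zero =>
    intro z _
    have ht : divI Γ b = ⊤ := by
      rw [divI, Finset.prod_eq_one fun j _ => by
        rw [(Finset.sum_eq_zero_iff.1 hN) j (Finset.mem_univ j), pow_zero], Scheme.IdealSheafData.one_eq_top]
    have hz : (divI Γ b).subschemeι z ∈ ((divI Γ b).support : Set X.left) := by
      rw [← Scheme.IdealSheafData.range_subschemeι]; exact ⟨z, rfl⟩
    have hs : ((divI Γ b).support : Set X.left) = ∅ := by rw [ht, Scheme.IdealSheafData.support_top]; rfl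
    rw [hs] at hz
    exact hz.elim
  | succ N ih =>
    intro z hzc
    have h0 : b ≠ 0 := fun h => by rw [h] at hN; simp at hN
    obtain ⟨i, hbi, hO, hd, hdneg⟩ := exists_removable hX Γ hb h0
    haveI := isProper_hom_of_isArithSurface hX
    let b' : Fin r → ℕ := Function.update b i (b i - 1)
    have hb' : b' ≤ b := fun j => by by_cases hj : j = i <;> simp [b', hj]
    have hN' : ∑ j, b' j = N := by
      rw [← Finset.add_sum_erase _ _ (Finset.mem_univ i), Finset.sum_congr rfl fun j hj => by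
        rw [show b' j = b j from Function.update_of_ne (Finset.ne_of_mem_erase hj) _ _]]
      rw [← Finset.add_sum_erase _ b (Finset.mem_univ i)] at hN
      simp only [b', Function.update_self]
      have : (Finset.univ.erase i).sum b = ∑ x ∈ Finset.univ.erase i, b x := rfl
      omega
    have heq : (Γ i).ι.ker * divI Γ b' = divI Γ b := by
      rw [← divI_add_single]
      congr 1
      funext j
      by_cases hj : j = i
      · subst hj; simp [b']; omega
      · simp [b', hj]
    have hI := cartier_divI hX Γ b'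
    have hJ := isEffCartierIdeal_ker hX (Γ i)
    obtain ⟨hle, γ, hγι, _, f, w, hS⟩ := exists_shortExact_thick hI hJ heq (Γ i).ι rfl
    let j := Scheme.IdealSheafData.inclusion hle
    have hjι : j ≫ (divI Γ b).subschemeι = (divI Γ b').subschemeι := Scheme.IdealSheafData.inclusion_subschemeι hle
    let k := IsLocalRing.ResidueField R
    haveI : IsProper ((Γ i).curve.left ↘ Spec (CommRingCat.of k)) := isProper_curve (Γ i)
    haveI := (Γ i).isIntegral
    have hdim : topologicalKrullDim (Γ i).curve.left ≤ 1 := (Γ i).dim_eq.le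
    let P := (Scheme.Modules.pullback (Γ i).ι).obj (ClSub.idealMod (divI Γ b'))
    have hP : PicF.IsInvertible P := PicLoc.isInvertible_pullback _ ((Groth.Agent.S8914.result _).2 hI)
    have hγM := PicLoc.isInvertible_pullback γ hM
    have hPM := CurveRR.deg_tensor_inv (k := k) hdim hP hγM
    have hdeg' : 0 ≤ Curv2.deg k (Γ i).curve.left ((Scheme.Modules.pullback γ).obj M) 1 := hdeg i γ hγι
    change -(Models.wdeg R X (Γ i) : ℤ) ≤ Curv2.deg k (Γ i).curve.left P 1 at hd
    have h1 : Subsingleton (Coh.HH (Γ i).curve.left (CohB1.tensorMod P ((Scheme.Modules.pullback γ).obj M)) 1) := by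
      refine subsingleton_h1_of_genus_zero (k := k) hdim hO (TMul.isInvertible_tensorMod hP hγM) ?_
      rw [hPM]
      change -(Models.wdeg R X (Γ i) : ℤ) ≤ _
      omega
    let M' := (Scheme.Modules.pullback j).obj M
    have hM' : PicF.IsInvertible M' := PicLoc.isInvertible_pullback j hM
    have hd' : ∀ (l : Fin r) (g : (Γ l).curve.left ⟶ (divI Γ b').subscheme),
        g ≫ (divI Γ b').subschemeι = (Γ l).ι → 0 ≤ degAlong (Γ l) g M' := fun l g hg => by
      rw [degAlong_comp (Γ l) (g' := g ≫ j) rfl M]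
      exact hdeg l _ (by rw [Category.assoc, hjι, hg])
    have lift : ∀ z', IsClosed ({j z'} : Set (divI Γ b).subscheme) →
        ∃ t : Γ(M, ⊤), j z' ∈ CohB1.genLocus M (TMul.homOf t) := fun z' hc => by
      have hzc' : IsClosed ({z'} : Set (divI Γ b').subscheme) := by
        have h := hc.preimage j.continuous
        rwa [← Set.image_singleton, Set.preimage_image_eq _ j.isClosedEmbedding.injective] at h
      obtain ⟨u, hu⟩ := ih b' (fun a' ha => hb a' (ha.trans hb')) M' hM' hd' hN' z' hzc'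
      exact exists_gen_lift γ j hS hP hM h1 hu
    by_cases hzj : z ∈ Set.range j
    · obtain ⟨z', rfl⟩ := hzj
      exact lift z' hzc
    obtain ⟨y, rfl⟩ : z ∈ Set.range γ := by
      have inj : Function.Injective (divI Γ b).subschemeι := (divI Γ b).subschemeι.isClosedEmbedding.injective
      rcases support_or heq z with h | h
      · rw [← range_eq_support] at h
        obtain ⟨y, hy⟩ := h
        exact ⟨y, inj (by rw [← hy, ← hγι]; rfl)⟩
      · rw [← Scheme.IdealSheafData.range_subschemeι] at h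
        obtain ⟨y, hy⟩ := h
        exact absurd ⟨y, inj (by rw [← hy, ← hjι]; rfl)⟩ hzj
    by_cases hpos : 0 ≤ Curv2.deg k (Γ i).curve.left (CohB1.tensorMod P ((Scheme.Modules.pullback γ).obj M)) 1
    · have hyc : IsClosed ({y} : Set (Γ i).curve.left) := by
        have h := hzc.preimage γ.continuous
        rwa [← Set.image_singleton, Set.preimage_image_eq _ γ.isClosedEmbedding.injective] at h
      obtain ⟨u, hu⟩ := exists_gen_of_genus_zero (k := k) hdim hO (wdeg_facts (Γ i)).1
        (TMul.isInvertible_tensorMod hP hγM) hpos hyc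
      exact exists_gen_off γ j hS hP hM hzj hu
    · rw [hPM] at hpos
      have hneg : Curv2.deg k (Γ i).curve.left P 1 < 0 := by omega
      have hP' : Curv2.deg k (Γ i).curve.left P 1 = -(Models.wdeg R X (Γ i) : ℤ) := hdneg hneg
      have hdvd : (Models.wdeg R X (Γ i) : ℤ) ∣ Curv2.deg k (Γ i).curve.left ((Scheme.Modules.pullback γ).obj M) 1 :=
        dvd_sub (DualGeneric.h0_dvd_euler k (Γ i).dim_eq.le _)
          (dvd_mul_of_dvd_right (DualGeneric.h0_dvd_euler k (Γ i).dim_eq.le _) _)
      have hz0 : Curv2.deg k (Γ i).curve.left ((Scheme.Modules.pullback γ).obj M) 1 = 0 :=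
        Int.eq_zero_of_dvd_of_nonneg_of_lt hdeg' (by omega) hdvd
      -- `Γ` meets `Z'`
      obtain ⟨y', hy'⟩ : ∃ y', γ y' ∈ Set.range j := by
        by_contra! hdis
        have hcomap : (divI Γ b').comap (Γ i).ι = ⊤ := by
          refine (Scheme.IdealSheafData.support_eq_bot_iff _).1 (TopologicalSpace.Closeds.ext ?_)
          rw [Scheme.IdealSheafData.support_comap]
          refine Set.eq_empty_of_forall_notMem fun x hx => ?_
          change (Γ i).ι x ∈ ((divI Γ b').support : Set X.left) at hx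
          rw [← Scheme.IdealSheafData.range_subschemeι] at hx
          obtain ⟨z', hz'⟩ := hx
          exact hdis x ⟨z', (divI Γ b).subschemeι.isClosedEmbedding.injective
            (by rw [← Scheme.Hom.comp_apply, ← Scheme.Hom.comp_apply, hγι, hjι, hz'])⟩
        obtain ⟨n⟩ := Nakai.nonempty_pullback_idealMod (Γ i).ι hI (hcomap ▸ BlowUpLib.cartier_top)
        obtain ⟨n'⟩ := RatBlow.nonempty_idealMod_top (X := (Γ i).curve.left)
        rw [hcomap] at n
        refine hneg.ne ?_
        rw [Curv2.deg, CurveRR.euler_eq_of_iso (k := k) (n ≪≫ n')]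
        simp
      haveI : QuasiCompact X.hom := inferInstance
      haveI : CompactSpace X.left := QuasiCompact.compactSpace_of_compactSpace X.hom
      haveI : CompactSpace (divI Γ b).subscheme := (divI Γ b).subschemeι.isClosedEmbedding.compactSpace
      obtain ⟨zc, hzc1, hzc2⟩ := (isClosed_closure (s := ({γ y'} : Set (divI Γ b).subscheme))).exists_closed_singleton
        ⟨γ y', subset_closure rfl⟩
      obtain ⟨y'', rfl⟩ : zc ∈ Set.range γ :=
        γ.isClosedEmbedding.isClosed_range.closure_subset_iff.2 (Set.singleton_subset_iff.2 ⟨y', rfl⟩) hzc1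
      obtain ⟨z', hz'⟩ : γ y'' ∈ Set.range j :=
        j.isClosedEmbedding.isClosed_range.closure_subset_iff.2 (Set.singleton_subset_iff.2 hy') hzc1
      obtain ⟨t, ht⟩ := lift z' (hz' ▸ hzc2)
      rw [hz'] at ht
      refine ⟨t, ?_⟩
      let e := (PicLoc.pullbackStructureIso γ).symm
      have hpb := TMul.genLocus_pullback γ hM (TMul.homOf t) e
      have := genLocus_eq_top_of_deg_zero (k := k) hdim hγM hz0 (e.hom ≫ (Scheme.Modules.pullback γ).map
        (TMul.homOf t)) (x := y'') (by rw [hpb]; exact ht) y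
      rw [hpb] at this
      exact this

/-- `H¹` of structure sheaves decreases along subdivisors. -/
theorem lengthH_one_le_of_le (hinj : Function.Injective fun i => Set.range (Γ i).ι) {a' a : Fin r → ℕ} (h : a' ≤ a) :
    Models.lengthH R X (ClSub.quotMod (divI Γ a')) 1 ≤ Models.lengthH R X (ClSub.quotMod (divI Γ a)) 1 := by
  classical
  haveI := isProper_hom_of_isArithSurface hX
  induction hN : ∑ i, (a i - a' i) generalizing a' with
  | zero =>
    rw [show a' = a from funext fun i => by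
      have := (Finset.sum_eq_zero_iff.1 hN) i (Finset.mem_univ i)
      have : a' i ≤ a i := h i
      omega]
  | succ N ih =>
    obtain ⟨i, -, hi⟩ := Finset.exists_ne_zero_of_sum_ne_zero (show ∑ i, (a i - a' i) ≠ 0 by omega)
    have hle : (a' + Pi.single i 1 : Fin r → ℕ) ≤ a := fun j => by
      by_cases hj : j = i
      · subst hj; simp; omega
      · simpa [hj] using h j
    refine le_trans ?_ (ih hle ?_)
    · have he : divI Γ (a' + Pi.single i 1) = (Γ i).ι.ker * divI Γ a' := by
        rw [← divI_add_single]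
        congr 1
        funext j
        by_cases hj : j = i <;> simp [hj]
      rw [he]
      have hI := cartier_divI hX Γ a'
      have hJ := isEffCartierIdeal_ker hX (Γ i)
      obtain ⟨hf, -⟩ := finLen_and_chiL_mul (Γ i) hI hJ (chiL_divI hX Γ hinj a').1
      obtain ⟨S, hS, ⟨a₁⟩, ⟨a₂⟩, ⟨a₃⟩⟩ := exists_shortExact_quotMod_mul hI hJ
      have hA := (Groth.Agent.S8914.result (divI Γ a')).2 hI
      haveI := Groth.Agent.S0927.isIso_proj (Γ i).ι (ClSub.idealMod (divI Γ a')) (fun x =>
        let ⟨U, hx, e⟩ := CurveRR.isFinLocFreeOfRank_one hA x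
        ⟨U, 1, hx, e⟩) (Coh.structureModule (Γ i).curve.left)
      obtain ⟨qi⟩ := ExtShX.nonempty_quotMod_iso (Γ i).ι
      let k := IsLocalRing.ResidueField R
      haveI : IsProper ((Γ i).curve.left ↘ Spec (CommRingCat.of k)) := isProper_curve (Γ i)
      haveI := CurveRR.isNoetherian_of_proper k (Γ i).curve.left
      let P := (Scheme.Modules.pullback (Γ i).ι).obj (ClSub.idealMod (divI Γ a'))
      have b₁ : S.X₁ ≅ (Scheme.Modules.pushforward (Γ i).ι).obj P := a₁ ≪≫ PicGrp.tensorModIso (Iso.refl _) qi ≪≫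
        asIso (Groth.Agent.S0927.proj (Γ i).ι (ClSub.idealMod (divI Γ a')) (Coh.structureModule (Γ i).curve.left)) ≪≫
        (Scheme.Modules.pushforward (Γ i).ι).mapIso (TMul.commIso _ _ ≪≫ TMul.leftUnitIso _)
      have hfl := (finLen_and_chiL_push (Γ i) P (CurveRR.isCoh_of_inv (PicLoc.isInvertible_pullback _ hA))).1
      letI : X.left.Over (Spec (CommRingCat.of R)) := ⟨X.hom⟩
      have hsurj : Function.Surjective (hhMap R S.g 1) := fun x => by
        have h2 : Subsingleton (Coh.HH X.left S.X₁ (1 + 1)) := (finLen_of_iso b₁.symm hfl 2).2 le_rfl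
        exact (CohFinite.δH_eq_zero_iff (CohFinite.shortExact_toAb hS) 1 x).1 (@Subsingleton.elim _ h2 _ _)
      have hl1 : Models.lengthH R X S.X₃ 1 ≤ Models.lengthH R X S.X₂ 1 :=
        ENat.toNat_le_toNat (Module.length_le_of_surjective _ hsurj) (finLen_of_iso a₂.symm hf 1).1
      rwa [lengthH_eq_of_iso a₂, lengthH_eq_of_iso a₃] at hl1
    · have hsplit : ∀ g : Fin r → ℕ, ∑ j, g j = g i + ∑ j ∈ Finset.univ.erase i, g j :=
        fun g => (Finset.add_sum_erase _ g (Finset.mem_univ i)).symm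
      rw [hsplit] at hN ⊢
      rw [Finset.sum_congr rfl fun j hj => by rw [Pi.add_apply, Pi.single_eq_of_ne (Finset.ne_of_mem_erase hj), add_zero]]
      simp only [Pi.add_apply, Pi.single_eq_same] at hN ⊢
      omega

/-- `H¹(Z, O) = 0` makes all adjunction numbers of subdivisors negative. -/
theorem adjNeg_of_h1_zero (hinj : Function.Injective fun i => Set.range (Γ i).ι) {a : Fin r → ℕ}
    (h : Subsingleton (Coh.HH (divI Γ a).subscheme (Coh.structureModule (divI Γ a).subscheme) 1)) : AdjNeg Γ a := by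
  classical
  haveI := isProper_hom_of_isArithSurface hX
  intro a' hle h0
  obtain ⟨hfin, hchi⟩ := chiL_divI hX Γ hinj a'
  have hl1 : Models.lengthH R X (ClSub.quotMod (divI Γ a')) 1 = 0 := by
    refine Nat.eq_zero_of_le_zero ((lengthH_one_le_of_le hX Γ hinj hle).trans (le_of_eq ?_))
    haveI := subsingleton_hh_push (divI Γ a).subschemeι (QC.isQCoh_unit _) 1 h
    rw [Models.lengthH, Module.length_eq_zero]
    rfl
  have hl0 : 0 < Models.lengthH R X (ClSub.quotMod (divI Γ a')) 0 := by
    letI := (toΓ X (divI Γ a')).toAlgebra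
    rw [lengthH_quot_zero]
    obtain ⟨i, hi⟩ := Function.ne_iff.1 h0
    haveI : Nonempty (divI Γ a').subscheme := by
      have hx : (Γ i).ι (haveI := (Γ i).isIntegral; genericPoint (Γ i).curve.left) ∈
          ((divI Γ a').support : Set X.left) := by
        rw [divI, ← Finset.mul_prod_erase _ _ (Finset.mem_univ i), Scheme.IdealSheafData.support_mul]
        refine Or.inl ?_
        rw [Scheme.IdealSheafData.support_pow _ _ hi, Scheme.Hom.support_ker]
        exact subset_closure ⟨_, rfl⟩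
      rw [← Scheme.IdealSheafData.range_subschemeι] at hx
      obtain ⟨z, -⟩ := hx
      exact ⟨z⟩
    haveI : Nonempty (⊤ : (divI Γ a').subscheme.Opens) := ⟨⟨Classical.arbitrary _, trivial⟩⟩
    haveI : Nontrivial Γ((divI Γ a').subscheme, ⊤) := inferInstance
    refine Nat.pos_of_ne_zero fun h0' => ?_
    have hne : Module.length R Γ((divI Γ a').subscheme, ⊤) ≠ ⊤ := fun htop => by
      exact (hfin 0).1 ((length_quot_zero (divI Γ a')).trans htop)
    rw [ENat.toNat_eq_zero] at h0'
    rcases h0' with h0' | h0'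
    · exact (Module.length_pos (R := R) (M := Γ((divI Γ a').subscheme, ⊤))).ne' h0'
    · exact hne h0'
  have hx : ∀ i, adjK (Γ i) = -(2 * ((Models.wdeg R X (Γ i) : ℤ) - Models.h1 R X (Γ i)) + interMat Γ i i) :=
    fun i => by rw [adjK, interMat]; ring
  simp only [hx, mul_add, mul_neg, Finset.sum_add_distrib, Finset.sum_neg_distrib, Finset.mul_sum]
  simp only [chiL, mul_add, Finset.sum_add_distrib, hl1] at hchi
  simp only [← mul_assoc] at hchi ⊢
  push_cast at hchi
  linarith [show (0 : ℤ) < (Models.lengthH R X (ClSub.quotMod (divI Γ a')) 0 : ℤ) by exact_mod_cast hl0]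

end Groth.Agent.Castel

namespace Groth.Agent.Castel

theorem homOf_val {Z : Scheme.{u}} {L : Z.Modules} (φ : Coh.structureModule Z ⟶ L) :
    TMul.homOf (TMul.val φ ⊤) = φ := by
  refine Scheme.Modules.hom_ext _ _ fun U => ?_
  ext c
  exact (TMul.app_eq_smul (TMul.homOf (TMul.val φ ⊤)) (V := U) c).trans
    (((TMul.app_eq_smul φ (V := U) c).trans (by rw [TMul.val_homOf, TMul.res_val])).symm)

/-- A closed subscheme is the subscheme of its ideal. -/
theorem exists_iso_of_ker_eq {Z X : Scheme.{u}} (z : Z ⟶ X) [IsClosedImmersion z] {I : X.IdealSheafData}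
    (h : z.ker = I) : ∃ e : Z ⟶ I.subscheme, IsIso e ∧ e ≫ I.subschemeι = z := by
  subst h
  exact ⟨z.toImage, inferInstance, z.toImage_imageι⟩

/-- Reverse transport of vanishing along a closed immersion. -/
theorem subsingleton_hh_of_push {Y X : Scheme.{u}} (i : Y ⟶ X) [IsClosedImmersion i] {M : Y.Modules}
    (hM : Coh.IsQCoh M) (n : ℕ) (h : Subsingleton (Coh.HH X ((Scheme.Modules.pushforward i).obj M) n)) :
    Subsingleton (Coh.HH Y M n) := by
  haveI := hM
  obtain ⟨a, -⟩ := Groth.Agent.CohFinite.h_push_natural i.base n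
  exact @Equiv.subsingleton _ _ (a (Coh.toAb M) (CohQC.directAcyclic_of_isAffineHom i M)).toEquiv h

/-- Direct images along isomorphisms are inverse images along the inverse. -/
theorem nonempty_pullback_inv_iso {Y X : Scheme.{u}} (e : Y ⟶ X) [IsIso e] (L : Y.Modules) :
    Nonempty ((Scheme.Modules.pullback (inv e)).obj L ≅ (Scheme.Modules.pushforward e).obj L) := by
  haveI := Groth.Agent.GrothSS.isIso_counit_push e
  exact ⟨(Scheme.Modules.pullback (inv e)).mapIso
      ((asIso (Scheme.Modules.pullbackPushforwardAdjunction e).counit).app L).symm ≪≫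
    (Scheme.Modules.pullbackComp (inv e) e).app _ ≪≫
    (Scheme.Modules.pullbackCongr (IsIso.inv_hom_id e)).app _ ≪≫
    (Scheme.Modules.pullbackId X).app _⟩

variable {R : Type u} [CommRing R] [IsDomain R] [IsDiscreteValuationRing R] {X : Over (Spec (CommRingCat.of R))}

/-- On a vertical Cartier divisor without `H¹(O)`, nonnegative degrees give no `H¹` and no base points. -/
theorem h1_zero_and_gg (hX : ArSurf.IsArithSurface R X) {r : ℕ} (Γ : Fin r → ArSurf.VertComp R X)
    (hinj : Function.Injective fun i => Set.range (Γ i).ι) {a : Fin r → ℕ} {Z : Scheme.{u}} (z : Z ⟶ X.left)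
    [IsClosedImmersion z] (ha : z.ker = divI Γ a) (hH1 : Subsingleton (Coh.HH Z (Coh.structureModule Z) 1))
    {L : Z.Modules} (hL : PicF.IsInvertible L)
    (hdeg : ∀ (i : Fin r) (g : (Γ i).curve.left ⟶ Z), g ≫ z = (Γ i).ι → 0 ≤ degAlong (Γ i) g L) :
    Subsingleton (Coh.HH Z L 1) ∧ Curv2.IsGloballyGenerated L := by
  haveI := isProper_hom_of_isArithSurface hX
  haveI : CompactSpace X.left := QuasiCompact.compactSpace_of_compactSpace X.hom
  haveI : CompactSpace Z := z.isClosedEmbedding.compactSpace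
  obtain ⟨e, he, hez⟩ := exists_iso_of_ker_eq z ha
  have hO : Subsingleton (Coh.HH (divI Γ a).subscheme (Coh.structureModule (divI Γ a).subscheme) 1) := by
    obtain ⟨q⟩ := nonempty_push_structure e
    exact subsingleton_hh_iso q 1 (subsingleton_hh_push e (QC.isQCoh_unit _) 1 hH1)
  have hA := adjNeg_of_h1_zero hX Γ hinj hO
  let M := (Scheme.Modules.pullback (inv e)).obj L
  have hM : PicF.IsInvertible M := PicLoc.isInvertible_pullback _ hL
  obtain ⟨m⟩ := nonempty_pullback_inv_iso e L
  have hdM : ∀ (i : Fin r) (g : (Γ i).curve.left ⟶ (divI Γ a).subscheme),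
      g ≫ (divI Γ a).subschemeι = (Γ i).ι → 0 ≤ degAlong (Γ i) g M := fun i g hg => by
    rw [degAlong_comp (Γ i) (g' := g ≫ inv e) rfl L]
    exact hdeg i _ (by rw [← hez, Category.assoc, IsIso.inv_hom_id_assoc, hg])
  refine ⟨subsingleton_hh_of_push e (TMul.isQCoh_of_isInvertible hL) 1
    (subsingleton_hh_iso m 1 (thick_vanish hX Γ a hA M hM hdM).1), ?_⟩
  refine CurveRR.isGloballyGenerated_of_closed hL fun x hx => ?_
  have hex : IsClosed ({e x} : Set (divI Γ a).subscheme) := by
    simpa using e.isClosedEmbedding.isClosedMap _ hx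
  obtain ⟨t, ht⟩ := thick_gen hX Γ a hA M hM hdM (e x) hex
  let c : (Scheme.Modules.pullback e).obj M ≅ L := (Scheme.Modules.pullbackComp e (inv e)).app L ≪≫
    (Scheme.Modules.pullbackCongr (IsIso.hom_inv_id e)).app L ≪≫ (Scheme.Modules.pullbackId Z).app L
  refine ⟨TMul.val (((PicLoc.pullbackStructureIso e).inv ≫ (Scheme.Modules.pullback e).map (TMul.homOf t)) ≫ c.hom) ⊤, ?_⟩
  rw [homOf_val, TMul.genLocus_comp]
  exact (SetLike.ext_iff.1 (TMul.genLocus_pullback e hM (TMul.homOf t) (PicLoc.pullbackStructureIso e).symm) x).2 ht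

end Groth.Agent.Castel
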