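import Groth.Agent.Castel.ArtinContract
import Groth.Agent.Castel.ThickGG
import Groth.Agent.DivPart.Sum

/-!
Contractibility of configurations with negative adjunction numbers.
-/

set_option autoImplicit false
set_option backward.isDefEq.respectTransparency false
set_option backward.isDefEq.respectTransparency.types false
set_option linter.style.haveILetI false

universe u

open CategoryTheory CategoryTheory.Limits AlgebraicGeometry TopologicalSpace Opposite

noncomputable section

namespace Groth.Agent.Castel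

variable {R : Type u} [CommRing R] [IsDomain R] [IsDiscreteValuationRing R] {X : Over (Spec (CommRingCat.of R))}
  (hX : ArSurf.IsArithSurface R X) {r : ℕ} (Γ : Fin r → ArSurf.VertComp R X)
include hX

/-- A Cartier divisor supported on the configuration is `Σ aⱼ Γⱼ`. -/
theorem exists_eq_divI_config {I : X.left.IdealSheafData} (hI : BlowUp.IsEffCartierIdeal I)
    (hsupp : (I.support : Set X.left) ⊆ ⋃ i, Set.range (Γ i).ι) : ∃ a : Fin r → ℕ, I = divI Γ a := by
  haveI := isProper_hom_of_isArithSurface hX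
  haveI : IsLocallyNoetherian X.left := LocallyOfFiniteType.isLocallyNoetherian X.hom
  haveI : CompactSpace X.left := QuasiCompact.compactSpace_of_compactSpace X.hom
  haveI : AlgebraicGeometry.IsNoetherian X.left := {}
  have hint : ∀ i, IsIntegral (Γ i).ι.ker.subscheme := fun i => by
    haveI := (Γ i).isIntegral
    haveI : IsIso (Γ i).ι.toImage := inferInstance
    haveI : Nonempty (Γ i).ι.ker.subscheme := ⟨(Γ i).ι.toImage (genericPoint (Γ i).curve.left)⟩
    exact isIntegral_of_isOpenImmersion (inv (Γ i).ι.toImage)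
  refine DivPart.exists_eq_prod I hI r (fun i => (Γ i).ι.ker) (fun i => isEffCartierIdeal_ker hX (Γ i)) hint
    fun x hx => ?_
  obtain ⟨i, hi⟩ := Set.mem_iUnion.1 (hsupp hx)
  refine Set.mem_iUnion.2 ⟨i, ?_⟩
  rw [Scheme.Hom.support_ker]
  exact subset_closure hi

/-- Negative adjunction numbers give trivial `Pic⁰` on all divisors in the configuration. -/
theorem pic_hyp_of_adjNeg (h : ∀ a : Fin r → ℕ, AdjNeg Γ a) (Z : Scheme.{u}) (z : Z ⟶ X.left) [IsClosedImmersion z]
    (hZ : BlowUp.IsEffCartierIdeal z.ker) (hsub : Set.range z.base ⊆ (⋃ i, Set.range (Γ i).ι.base))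
    {N : Z.Modules} (hN : PicF.IsInvertible N)
    (hdeg : ∀ (i : Fin r) (g : (Γ i).curve.left ⟶ Z), g ≫ z = (Γ i).ι →
      ArSurf.curveDeg (IsLocalRing.ResidueField R) (Γ i).curve.left ((Scheme.Modules.pullback g).obj N) = 0) :
    Nonempty (N ≅ Coh.structureModule Z) := by
  haveI := isProper_hom_of_isArithSurface hX
  obtain ⟨a, ha⟩ := exists_eq_divI_config hX Γ hZ (by
    rw [Scheme.Hom.support_ker, z.isClosedEmbedding.isClosed_range.closure_eq]; exact hsub)
  obtain ⟨e, he, hez⟩ := exists_iso_of_ker_eq z ha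
  obtain ⟨c⟩ := (h1_zero_and_pic0_trivial hX Γ (h a)).2 ((Scheme.Modules.pullback (inv e)).obj N)
    (PicLoc.isInvertible_pullback _ hN) fun i g hg => by
      rw [degAlong_comp (Γ i) (g' := g ≫ inv e) rfl N, ← curveDeg_eq_degAlong]
      exact hdeg i _ (by rw [← hez, Category.assoc, IsIso.inv_hom_id_assoc, hg])
  exact ⟨((Scheme.Modules.pullbackId Z).app N).symm ≪≫ (Scheme.Modules.pullbackCongr (IsIso.hom_inv_id e).symm).app N ≪≫
    ((Scheme.Modules.pullbackComp e (inv e)).app N).symm ≪≫ (Scheme.Modules.pullback e).mapIso c ≪≫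
    PicLoc.pullbackStructureIso e⟩

omit hX in
/-- Vanishing adjunction numbers and negative definiteness. -/
theorem adjNeg_of_adjK_nonpos (hK : ∀ i, adjK (Γ i) ≤ 0)
    (hneg : ∀ a : Fin r → ℤ, a ≠ 0 → ∑ i, ∑ j, a i * a j * interMat Γ i j < 0) (a : Fin r → ℕ) : AdjNeg Γ a := by
  intro a' _ h0
  have h1 := hneg (fun i => (a' i : ℤ)) fun h => h0 (funext fun i => by
    exact Int.natCast_eq_zero.1 (congrFun h i))
  refine lt_of_le_of_lt (Finset.sum_le_sum fun i _ => ?_) h1
  rw [mul_add, Finset.mul_sum]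
  have h2 : (a' i : ℤ) * adjK (Γ i) ≤ 0 := mul_nonpos_of_nonneg_of_nonpos (Int.natCast_nonneg _) (hK i)
  have h3 : (∑ j, (a' i : ℤ) * ((a' j : ℤ) * interMat Γ i j)) = ∑ j, (a' i : ℤ) * (a' j : ℤ) * interMat Γ i j :=
    Finset.sum_congr rfl fun j _ => (mul_assoc _ _ _).symm
  linarith

/-- Configurations with nonpositive canonical degrees and negative definite form are contractible. -/
theorem exists_contraction_adj (hinj : Function.Injective fun i => Set.range (Γ i).ι)
    (hK : ∀ i, adjK (Γ i) ≤ 0)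
    (hneg : ∀ a : Fin r → ℤ, a ≠ 0 → ∑ i, ∑ j, a i * a j * interMat Γ i j < 0) :
    ∃ (Y : Over (Spec (CommRingCat.of R))) (f : X ⟶ Y),
      IsIntegral Y.left ∧ (∀ q : Y.left, IsIntegrallyClosed (Y.left.presheaf.stalk q)) ∧
      topologicalKrullDim Y.left = 2 ∧ Flat Y.hom ∧ Neron.IsProjectiveOver R Y ∧
      (∀ i, ∃ y : Y.left, Set.range (((Γ i).ι ≫ f.left).base : (Γ i).curve.left → Y.left) = {y}) ∧
      f.left.base ⁻¹' (f.left.base '' ⋃ i, Set.range (Γ i).ι.base) = ⋃ i, Set.range (Γ i).ι.base ∧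
      ∀ V : Y.left.Opens, (V : Set Y.left) ∩ f.left.base '' (⋃ i, Set.range (Γ i).ι.base) = ∅ →
        IsIso (f.left ∣_ V) :=
  exists_contraction_artin hX Γ (fun Z z _ hZ _ hsub N hN hd =>
    pic_hyp_of_adjNeg hX Γ (adjNeg_of_adjK_nonpos Γ hK hneg) Z z hZ hsub hN hd) hinj hneg

end Groth.Agent.Castel
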