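import Groth.Agent.Castel.FibreConn
import Groth.Agent.FinDim.Basic
import Groth.Agent.Castel.FibreEuler
import Groth.Agent.Castel.ProperArith
import Groth.Agent.RedSepLib.Basic

/-!
Component lists of connected closed fibres of arithmetic surfaces exist.
-/

set_option autoImplicit false
set_option backward.isDefEq.respectTransparency false
set_option backward.isDefEq.respectTransparency.types false
set_option linter.style.haveILetI false

universe u

open CategoryTheory CategoryTheory.Limits AlgebraicGeometry TopologicalSpace Topology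

noncomputable section

namespace Groth.Agent.Castel.Arith

variable {R : Type u} [CommRing R] [IsDomain R] [IsDiscreteValuationRing R]

/-- The closed fibre of an arithmetic surface is not a single point. -/
theorem fibre_ne_singleton {X : Scheme.{u}} {p : X ⟶ Spec (CommRingCat.of R)} (hA : ArSurf.IsArithSurface R (Over.mk p))
    (x : X) : Models.specialFibreSet R (Over.mk p) ≠ {x} := by
  intro hfib
  haveI : IsProper p := isProper_hom_of_isArithSurface hA
  haveI : IsLocallyNoetherian X := LocallyOfFiniteType.isLocallyNoetherian p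
  haveI : CompactSpace X := QuasiCompact.compactSpace_of_compactSpace p
  -- `x` is the only closed point, so `X` is affine and finite over `R`
  have hall : ∀ z : X, z ⤳ x := fun z => by
    obtain ⟨w, hw, hwc⟩ := (isClosed_closure (s := ({z} : Set X))).exists_closed_singleton ⟨z, subset_closure rfl⟩
    have hne := base_ne_bot_of_closed (IsDiscreteValuationRing.not_isField R) p hwc
    haveI : Ideal.IsMaximal (p w).asIdeal := Ideal.IsPrime.isMaximal (p w).isPrime hne
    have h1 : p w = IsLocalRing.closedPoint R := PrimeSpectrum.ext (IsLocalRing.eq_maximalIdeal inferInstance)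
    have h2 : w = x := Set.mem_singleton_iff.1 (hfib ▸ (h1 : w ∈ Models.specialFibreSet R (Over.mk p)))
    exact h2 ▸ specializes_iff_mem_closure.2 hw
  haveI : IsAffine X := by
    obtain ⟨U, hU, hxU, -⟩ := exists_isAffineOpen_mem_and_subset (show x ∈ (⊤ : X.Opens) from trivial)
    have htop : U = ⊤ := top_le_iff.1 fun z _ => (hall z).mem_open U.2 hxU
    subst htop
    haveI : IsAffine ((⊤ : X.Opens) : Scheme.{u}) := hU
    exact IsAffine.of_isIso X.topIso.inv
  haveI : IsFinite p := IsFinite.iff_isProper_and_isAffineHom.2 ⟨inferInstance, inferInstance⟩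
  have h2 : topologicalKrullDim X = 2 := hA.2.2.1
  have h1 := FinDim.topologicalKrullDim_le_of_isFinite p
  rw [h2, show topologicalKrullDim (Spec (CommRingCat.of R)) = 1 from
    (PrimeSpectrum.topologicalKrullDim_eq_ringKrullDim R).trans (IsPrincipalIdealRing.ringKrullDim_eq_one R
      (IsDiscreteValuationRing.not_isField R))] at h1
  exact absurd h1 (by decide)

/-- Component lists exist. -/
theorem exists_componentList {X : Scheme.{u}} {p : X ⟶ Spec (CommRingCat.of R)}
    (hA : ArSurf.IsArithSurface R (Over.mk p)) (hconn : _root_.IsConnected (Models.specialFibreSet R (Over.mk p))) :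
    ∃ (n : ℕ) (Γ : Fin n → ArSurf.VertComp R (Over.mk p)), Models.IsComponentList R (Over.mk p) Γ := by
  classical
  obtain ⟨hXr, hXi, hXd, hXf, -⟩ := id hA
  haveI := hXi
  haveI : IsIntegral X := hXi
  haveI : Flat p := hXf
  haveI : IsProper p := isProper_hom_of_isArithSurface hA
  haveI : IsLocallyNoetherian X := LocallyOfFiniteType.isLocallyNoetherian p
  haveI : CompactSpace X := QuasiCompact.compactSpace_of_compactSpace p
  haveI : AlgebraicGeometry.IsNoetherian X := {}
  haveI : NoetherianSpace (Models.specialFibreSet R (Over.mk p)) :=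
    TopologicalSpace.NoetherianSpace.set (α := X) _
  have hcl : IsClosed (Models.specialFibreSet R (Over.mk p)) := Models.isClosed_specialFibreSet R (Over.mk p)
  have hfin : (Models.fibreComponents R (Over.mk p)).Finite := by
    refine (Set.Finite.image (fun s : Set (Models.specialFibreSet R (Over.mk p)) => Subtype.val '' s)
      (TopologicalSpace.NoetherianSpace.finite_irreducibleComponents
        (α := Models.specialFibreSet R (Over.mk p)))).subset ?_
    rintro Z ⟨⟨hZi, hZs⟩, hZmax⟩
    refine ⟨Subtype.val ⁻¹' Z, ⟨?_, ?_⟩, ?_⟩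
    · refine ⟨?_, ?_⟩
      · obtain ⟨z, hz⟩ := hZi.1
        exact ⟨⟨z, hZs hz⟩, hz⟩
      · rintro a b ha hb ⟨za, hza, hza'⟩ ⟨zb, hzb, hzb'⟩
        obtain ⟨A, hA', rfl⟩ := isOpen_induced_iff.mp ha
        obtain ⟨B, hB, rfl⟩ := isOpen_induced_iff.mp hb
        obtain ⟨z, hz, hzA, hzB⟩ := hZi.2 A B hA' hB ⟨za.1, hza, hza'⟩ ⟨zb.1, hzb, hzb'⟩
        exact ⟨⟨z, hZs hz⟩, hz, hzA, hzB⟩
    · intro T hT hle z hz
      have hsub : Z ⊆ Subtype.val '' T := fun w hwZ => ⟨⟨w, hZs hwZ⟩, hle hwZ, rfl⟩
      exact hZmax ⟨hT.image _ continuous_subtype_val.continuousOn, by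
        rintro _ ⟨a, -, rfl⟩; exact a.2⟩ hsub ⟨z, hz, rfl⟩
    · exact Set.image_preimage_eq_of_subset (by rwa [Subtype.range_coe])
  have hclosed : ∀ Z ∈ Models.fibreComponents R (Over.mk p), IsClosed Z := fun Z hZ =>
    closure_eq_iff_isClosed.mp ((hZ.2 ⟨hZ.1.1.closure, hcl.closure_subset_iff.mpr hZ.1.2⟩ subset_closure).antisymm
      subset_closure)
  -- the scheme on a component
  have hex : ∀ Z ∈ Models.fibreComponents R (Over.mk p),
      ∃ Γ : ArSurf.VertComp R (Over.mk p), Set.range Γ.ι = Z := by
    intro Z hZ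
    let Zc : Closeds X := ⟨Z, hclosed Z hZ⟩
    let I := Scheme.IdealSheafData.vanishingIdeal Zc
    haveI : IsReduced I.subscheme := Groth.Agent.DvrDom.isReduced_vanishingIdeal_subscheme _
    have hr : Set.range I.subschemeι = Z := by
      rw [I.range_subschemeι]; simp [I, Zc]
    have hirr : IsIrreducible (Set.univ : Set I.subscheme) := by
      refine ⟨⟨((hr.symm ▸ hZ.1.1.nonempty : (Set.range I.subschemeι).Nonempty).choose_spec).choose, trivial⟩, ?_⟩
      intro u v hu hv hun hvn
      obtain ⟨A, hA', rfl⟩ := I.subschemeι.isEmbedding.isInducing.isOpen_iff.1 hu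
      obtain ⟨B, hB, rfl⟩ := I.subschemeι.isEmbedding.isInducing.isOpen_iff.1 hv
      obtain ⟨a, -, ha⟩ := hun
      obtain ⟨b, -, hb⟩ := hvn
      obtain ⟨z, hz, hzA, hzB⟩ := hZ.1.1.2 A B hA' hB ⟨_, hr.le ⟨a, rfl⟩, ha⟩ ⟨_, hr.le ⟨b, rfl⟩, hb⟩
      obtain ⟨c, rfl⟩ := hr.ge hz
      exact ⟨c, trivial, hzA, hzB⟩
    haveI : IrreducibleSpace I.subscheme := (irreducibleSpace_def I.subscheme).2 hirr
    haveI : IsIntegral I.subscheme := isIntegral_of_irreducibleSpace_of_isReduced _
    haveI : IsClosedImmersion (Spec.map (CommRingCat.ofHom (IsLocalRing.residue R))) :=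
      IsClosedImmersion.spec_of_surjective _ Ideal.Quotient.mk_surjective
    obtain ⟨l, hl⟩ := RedSepLib.exists_lift_of_isReduced (I.subschemeι ≫ p)
      (Spec.map (CommRingCat.ofHom (IsLocalRing.residue R))) (by
        rintro _ ⟨x, rfl⟩
        refine ⟨(show PrimeSpectrum (IsLocalRing.ResidueField R) from default), ?_⟩
        have hx : p (I.subschemeι x) = IsLocalRing.closedPoint R := hZ.1.2 (hr.le ⟨x, rfl⟩)
        rw [show (I.subschemeι ≫ p) x = p (I.subschemeι x) from rfl, hx]
        exact IsLocalRing.comap_closedPoint (R := R) (S := IsLocalRing.ResidueField R)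
          (IsLocalRing.residue R))
    have hgen : p (genericPoint X) ≠ IsLocalRing.closedPoint R := fun e => by
      obtain ⟨w, hw, hw'⟩ := Flat.generalizingMap p (a := genericPoint X)
        ((PrimeSpectrum.le_iff_specializes (⟨⊥, Ideal.isPrime_bot⟩ : PrimeSpectrum R) (p (genericPoint X))).mp bot_le)
      rw [(hw.antisymm ((genericPoint_spec X).specializes trivial)).eq, e] at hw'
      exact IsDiscreteValuationRing.not_a_field R (congrArg PrimeSpectrum.asIdeal hw')
    have hle : topologicalKrullDim I.subscheme ≤ ((1 : ℕ) : WithBot ℕ∞) :=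
      Unibranch.topologicalKrullDim_le_natCast fun l c hc => by
        have hemb := I.subschemeι.isEmbedding
        have hne : ∀ y, genericPoint X ≠ I.subschemeι y := fun y e =>
          hgen (e ▸ hZ.1.2 (hr.le ⟨y, rfl⟩))
        have h := (Unibranch.natCast_le_topologicalKrullDim (α := X) (k := l + 1)
          (Fin.cons (genericPoint X) fun i => I.subschemeι (c i)) fun i => by
            refine Fin.cases ?_ (fun j => ?_) i
            · simp only [Fin.castSucc_zero, Fin.cons_zero, Fin.cons_succ]
              exact ⟨genericPoint_specializes _, hne _⟩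
            · simp only [← Fin.succ_castSucc, Fin.cons_succ]
              exact ⟨(hc j).1.map hemb.continuous, fun e => (hc j).2 (hemb.injective e)⟩).trans hXd.le
        have h' : ((l + 1 : ℕ) : WithBot ℕ∞) ≤ ((2 : ℕ) : WithBot ℕ∞) := h
        have := CartierDim.natCast_le_withBot.mp h'
        omega
    obtain ⟨a, ha⟩ : ∃ a : I.subscheme, a ≠ genericPoint I.subscheme := by
      by_contra! hall
      -- the component would be an isolated point
      have hZ1 : Z = {I.subschemeι (genericPoint I.subscheme)} := by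
        rw [← hr]
        exact Set.range_eq_singleton_iff.2 fun a => by rw [hall a]
      let O : Set X := ⋃ W ∈ (Models.fibreComponents R (Over.mk p) \ {Z}), W
      have hO : IsClosed O := Set.Finite.isClosed_biUnion (hfin.sdiff (t := {Z})) fun W hW => hclosed W hW.1
      have hcov : Models.specialFibreSet R (Over.mk p) ⊆ Z ∪ O := fun x hx => by
        obtain ⟨W, hW, hxW⟩ := exists_component (X := Over.mk p) x hx
        by_cases hWZ : W = Z
        · exact Or.inl (hWZ ▸ hxW)
        · exact Or.inr (Set.mem_iUnion₂.2 ⟨W, ⟨hW, hWZ⟩, hxW⟩)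
      have hdis : Models.specialFibreSet R (Over.mk p) ∩ (Z ∩ O) = ∅ := by
        refine Set.eq_empty_iff_forall_notMem.2 fun x hx => ?_
        obtain ⟨W, ⟨hW, hWZ⟩, hxW⟩ := Set.mem_iUnion₂.1 hx.2.2
        have hle : Z ⊆ W := by
          have h := hx.2.1
          rw [hZ1] at h ⊢
          exact Set.singleton_subset_iff.2 ((Set.mem_singleton_iff.1 h) ▸ hxW)
        exact hWZ (hle.antisymm' (hZ.2 ⟨hW.1.1, hW.1.2⟩ hle))
      rcases isPreconnected_iff_subset_of_disjoint_closed.1 hconn.isPreconnected Z O (hclosed Z hZ) hO hcov hdis with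
        h | h
      · refine fibre_ne_singleton hA (I.subschemeι (genericPoint I.subscheme)) ?_
        rw [← hZ1]
        exact subset_antisymm h hZ.1.2
      · have hm : I.subschemeι (genericPoint I.subscheme) ∈ Models.specialFibreSet R (Over.mk p) :=
          hZ.1.2 (hr.le ⟨_, rfl⟩)
        exact Set.eq_empty_iff_forall_notMem.1 hdis _ ⟨hm, hr.le ⟨_, rfl⟩, h hm⟩
    have hge : ((1 : ℕ) : WithBot ℕ∞) ≤ topologicalKrullDim I.subscheme :=
      Unibranch.natCast_le_topologicalKrullDim (α := I.subscheme) (k := 1)
        ![genericPoint I.subscheme, a] (fun i => by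
          fin_cases i
          exact ⟨genericPoint_specializes _, ha.symm⟩)
    exact ⟨{ curve := Over.mk l, ι := I.subschemeι, isClosedImmersion := inferInstance,
             isIntegral := ‹IsIntegral I.subscheme›
             dim_eq := (hle.antisymm hge).trans Nat.cast_one
             w := hl.symm }, hr⟩
  obtain ⟨n, e, hinj, he⟩ := hfin.fin_param
  choose Γ hΓ using fun i : Fin n => hex (e i) (he ▸ ⟨i, rfl⟩)
  refine ⟨n, Γ, fun i j h => hinj ((hΓ i).symm.trans (h.trans (hΓ j))), ?_⟩
  rw [← he]
  exact congrArg Set.range (funext hΓ)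

end Groth.Agent.Castel.Arith
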