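import Groth.Agent.Castel.ArithDim
import Groth.Agent.Castel.PicDescent
import Groth.Agent.Castel.CompListArith
import Groth.Agent.S1664

/-!
Contractions given by globally generated modules.
-/

set_option autoImplicit false
set_option backward.isDefEq.respectTransparency false
set_option backward.isDefEq.respectTransparency.types false
set_option linter.style.haveILetI false

universe u

open CategoryTheory CategoryTheory.Limits AlgebraicGeometry TopologicalSpace Opposite
open TMul (homOf val val_homOf)

noncomputable section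

namespace Groth.Agent.Castel

/-- In a space of dimension at most one a proper generalisation is the generic point. -/
theorem eq_genericPoint_of_dim_le_one {C : Scheme.{u}} [IsIntegral C] (hdim : topologicalKrullDim C ≤ 1) {x x' : C}
    (h : x ⤳ x') (hne : x ≠ x') : x = genericPoint C := by
  by_contra hη
  have h2 := (Unibranch.natCast_le_topologicalKrullDim (α := C) (k := 2) ![genericPoint C, x, x'] fun i => by
    fin_cases i
    · exact ⟨genericPoint_specializes x, Ne.symm hη⟩
    · exact ⟨h, hne⟩).trans hdim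
  exact absurd (CartierDim.natCast_le_withBot.mp (show ((2 : ℕ) : WithBot ℕ∞) ≤ ((1 : ℕ) : WithBot ℕ∞) from h2))
    (by omega)

/-- A proper non-generic point of a curve is closed. -/
theorem isClosed_of_ne_genericPoint {C : Scheme.{u}} [IsIntegral C] (hdim : topologicalKrullDim C ≤ 1) {x : C}
    (hne : x ≠ genericPoint C) : IsClosed ({x} : Set C) := by
  rw [← closure_eq_iff_isClosed]
  refine subset_antisymm (fun w hw => ?_) subset_closure
  by_contra hwx
  exact hne (eq_genericPoint_of_dim_le_one hdim (specializes_iff_mem_closure.2 hw) fun e => hwx e.symm)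

/-- A proper curve with only one point has dimension zero. -/
theorem exists_ne_genericPoint {C : Scheme.{u}} [IsIntegral C] (hdim : topologicalKrullDim C = 1) :
    ∃ x : C, x ≠ genericPoint C := by
  by_contra! hall
  have h0 : topologicalKrullDim C ≤ ((0 : ℕ) : WithBot ℕ∞) :=
    Unibranch.topologicalKrullDim_le_natCast fun l c hc => by
      rcases l with _ | l
      · exact le_rfl
      · exact absurd ((hall _).trans (hall _).symm) (hc 0).2
  rw [hdim] at h0
  exact absurd h0 (by decide)

/-- A morphism from a proper curve over a field killing an ample module is constant. -/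
theorem const_of_trivial' {k : Type u} [Field k] {C P : Scheme.{u}} [IsIntegral C]
    (hdim : topologicalKrullDim C = 1) (q : C ⟶ Spec (CommRingCat.of k)) [IsProper q]
    {A : P.Modules} (hA : CohB1.IsAmple A) (φ : C ⟶ P) [IsProper φ]
    (e : (Scheme.Modules.pullback φ).obj A ≅ Coh.structureModule _) :
    ∃ p, ∀ z, φ z = p := by
  by_contra hn
  push Not at hn
  haveI : LocallyQuasiFinite φ := by
    refine LocallyQuasiFinite.of_finite_preimage_singleton φ fun p => ?_
    refine BiratCodimTwo.finite_of_no_specializations φ p fun x x' hx hx' hs => ?_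
    by_contra hne
    have hgen := eq_genericPoint_of_dim_le_one hdim.le hs hne
    have hcl : IsClosed ({x} : Set C) :=
      isClosed_of_ne_genericPoint hdim.le fun e => hne (hgen.trans e.symm)
    have hpc : IsClosed ({p} : Set P) := by
      have := φ.isClosedMap _ hcl
      rwa [Set.image_singleton, hx] at this
    obtain ⟨w, hw⟩ := hn p
    refine hw ?_
    have h1 : φ w ∈ closure ({p} : Set P) := by
      rw [← hx', hgen]
      exact specializes_iff_mem_closure.1 ((genericPoint_specializes w).map φ.continuous)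
    rwa [hpc.closure_eq] at h1
  haveI : IsFinite φ := IsFinite.of_isProper_of_locallyQuasiFinite φ
  haveI := TMul.isQuasiAffine_of_isAmple
    (TMul.isAmple_congr e (TMul.isAmple_pullback_of_isAffineHom φ hA))
  have hf := finite_of_injective q C.toSpecΓ C.toSpecΓ.isEmbedding.injective
  haveI : JacobsonSpace C := LocallyOfFiniteType.jacobsonSpace q
  haveI : DiscreteTopology C := inferInstance
  obtain ⟨x, hx⟩ := exists_ne_genericPoint hdim
  exact hx ((genericPoint_specializes x).mem_open (isOpen_discrete {x}) rfl).symm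

variable {R : Type u} [CommRing R] [IsDomain R] [IsDiscreteValuationRing R]

/-- A point of `Spec R` other than the closed one is generic. -/
theorem eq_bot_of_ne_closedPoint {y : Spec (CommRingCat.of R)} (h : y ≠ IsLocalRing.closedPoint R) :
    y.asIdeal = ⊥ := by
  by_contra hne
  haveI : y.asIdeal.IsMaximal := Ideal.IsPrime.isMaximal y.isPrime hne
  exact h (PrimeSpectrum.ext (IsLocalRing.eq_maximalIdeal inferInstance))

/-- An irreducible closed curve in the closed fibre is a vertical prime divisor. -/
theorem exists_vertComp_of_specializes {X : Over (Spec (CommRingCat.of R))} [IsIntegral X.left]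
    (hdim : topologicalKrullDim X.left = 2) [Flat X.hom] {s t : X.left}
    (hs : s ∈ Models.specialFibreSet R X) (hst : s ⤳ t) (hne : s ≠ t) :
    ∃ (E : ArSurf.VertComp R X) (e : E.curve.left), Set.range E.ι = closure {s} ∧
      E.ι (haveI := E.isIntegral; genericPoint E.curve.left) = s ∧ E.ι e = t := by
  let Zc : Closeds X.left := ⟨closure {s}, isClosed_closure⟩
  let I := Scheme.IdealSheafData.vanishingIdeal Zc
  haveI : IsReduced I.subscheme := Groth.Agent.DvrDom.isReduced_vanishingIdeal_subscheme _
  have hr : Set.range I.subschemeι = closure {s} := by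
    rw [I.range_subschemeι]; simp [I, Zc]
  obtain ⟨s₀, hs₀⟩ := hr.ge (subset_closure rfl)
  have hd : closure ({s₀} : Set I.subscheme) = Set.univ := by
    rw [I.subschemeι.isClosedEmbedding.isEmbedding.isInducing.closure_eq_preimage_closure_image, Set.image_singleton,
      hs₀, ← hr, Set.preimage_range]
  haveI : IrreducibleSpace I.subscheme :=
    { isPreirreducible_univ := hd ▸ isIrreducible_singleton.closure.2, toNonempty := ⟨s₀⟩ }
  haveI : IsIntegral I.subscheme := isIntegral_of_irreducibleSpace_of_isReduced _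
  have hgen : genericPoint I.subscheme = s₀ := ((genericPoint_spec I.subscheme).eq hd)
  have hsub : closure ({s} : Set X.left) ⊆ Models.specialFibreSet R X :=
    (Models.isClosed_specialFibreSet R X).closure_subset_iff.2 (Set.singleton_subset_iff.2 hs)
  haveI : IsClosedImmersion (Spec.map (CommRingCat.ofHom (IsLocalRing.residue R))) :=
    IsClosedImmersion.spec_of_surjective _ Ideal.Quotient.mk_surjective
  obtain ⟨l, hl⟩ := RedSepLib.exists_lift_of_isReduced (I.subschemeι ≫ X.hom)
    (Spec.map (CommRingCat.ofHom (IsLocalRing.residue R))) (by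
      rintro _ ⟨x, rfl⟩
      refine ⟨(show PrimeSpectrum (IsLocalRing.ResidueField R) from default), ?_⟩
      have hx : X.hom (I.subschemeι x) = IsLocalRing.closedPoint R := hsub (hr.le ⟨x, rfl⟩)
      rw [show (I.subschemeι ≫ X.hom) x = X.hom (I.subschemeι x) from rfl, hx]
      exact IsLocalRing.comap_closedPoint (R := R) (S := IsLocalRing.ResidueField R) (IsLocalRing.residue R))
  have hη : X.hom (genericPoint X.left) ≠ IsLocalRing.closedPoint R := fun e => by
    obtain ⟨w, hw, hw'⟩ := Flat.generalizingMap X.hom (a := genericPoint X.left)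
      ((PrimeSpectrum.le_iff_specializes (⟨⊥, Ideal.isPrime_bot⟩ : PrimeSpectrum R) (X.hom (genericPoint X.left))).mp
        bot_le)
    rw [(hw.antisymm ((genericPoint_spec X.left).specializes trivial)).eq, e] at hw'
    exact IsDiscreteValuationRing.not_a_field R (congrArg PrimeSpectrum.asIdeal hw')
  have hemb := I.subschemeι.isEmbedding
  have hle : topologicalKrullDim I.subscheme ≤ ((1 : ℕ) : WithBot ℕ∞) :=
    Unibranch.topologicalKrullDim_le_natCast fun l c hc => by
      have hne' : ∀ y, genericPoint X.left ≠ I.subschemeι y := fun y e =>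
        hη (e ▸ hsub (hr.le ⟨y, rfl⟩))
      have h := (Unibranch.natCast_le_topologicalKrullDim (α := X.left) (k := l + 1)
        (Fin.cons (genericPoint X.left) fun i => I.subschemeι (c i)) fun i => by
          refine Fin.cases ?_ (fun j => ?_) i
          · simp only [Fin.castSucc_zero, Fin.cons_zero, Fin.cons_succ]
            exact ⟨genericPoint_specializes _, hne' _⟩
          · simp only [← Fin.succ_castSucc, Fin.cons_succ]
            exact ⟨(hc j).1.map hemb.continuous, fun e => (hc j).2 (hemb.injective e)⟩).trans hdim.le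
      have h' : ((l + 1 : ℕ) : WithBot ℕ∞) ≤ ((2 : ℕ) : WithBot ℕ∞) := h
      have := CartierDim.natCast_le_withBot.mp h'
      omega
  obtain ⟨t₀, ht₀⟩ := hr.ge (specializes_iff_mem_closure.1 hst)
  have hge : ((1 : ℕ) : WithBot ℕ∞) ≤ topologicalKrullDim I.subscheme :=
    Unibranch.natCast_le_topologicalKrullDim (α := I.subscheme) (k := 1)
      ![genericPoint I.subscheme, t₀] (fun i => by
        fin_cases i
        refine ⟨genericPoint_specializes _, fun e => hne ?_⟩
        simp at e
        rw [← ht₀, ← e, hgen, hs₀])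
  exact ⟨{ curve := Over.mk l, ι := I.subschemeι, isClosedImmersion := inferInstance,
           isIntegral := ‹IsIntegral I.subscheme›
           dim_eq := (hle.antisymm hge).trans Nat.cast_one
           w := hl.symm }, t₀, hr, (congrArg I.subschemeι hgen).trans hs₀, ht₀⟩

variable {X : Over (Spec (CommRingCat.of R))} [IsIntegral X.left]
  (hdim : topologicalKrullDim X.left = 2) [Flat X.hom] [IsProper X.hom]
  {r : ℕ} (Γ : Fin r → ArSurf.VertComp R X) {L : X.left.Modules}
  (hdeg : 0 < ArSurf.curveDeg (FractionRing R) ((Neron.genericFibre R).obj X).left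
      ((Scheme.Modules.pullback (pullback.fst X.hom (Neron.genPt R))).obj L))
include hdeg

omit [IsIntegral X.left] [Flat X.hom] [IsProper X.hom] in
/-- A map to a scheme killing the module does not contract the generic fibre. -/
theorem exists_ne_of_deg_pos {P : Scheme.{u}} {A : P.Modules} (hA : PicF.IsInvertible A) (φ : X.left ⟶ P)
    (τ : (Scheme.Modules.pullback φ).obj A ≅ L) (y : P) :
    ∃ w : X.left, w ∉ Models.specialFibreSet R X ∧ φ w ≠ y := by
  by_contra hn
  push Not at hn
  let fst := pullback.fst X.hom (Neron.genPt R)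
  obtain ⟨i⟩ := nonempty_pullback_point (fst ≫ φ) y (fun e => hn (fst e) fun h => by
    have h1 : X.hom (fst e) = IsLocalRing.closedPoint R := h
    rw [← Scheme.Hom.comp_apply, pullback.condition, Scheme.Hom.comp_apply] at h1
    have h2 : Ideal.comap (algebraMap R (FractionRing R)) ((pullback.snd X.hom (Neron.genPt R)) e).asIdeal =
        IsLocalRing.maximalIdeal R := congrArg PrimeSpectrum.asIdeal h1
    rw [(Ideal.eq_bot_or_top ((pullback.snd X.hom (Neron.genPt R)) e).asIdeal).resolve_right
      (((pullback.snd X.hom (Neron.genPt R)) e).isPrime.ne_top), ← RingHom.ker_eq_comap_bot,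
      (RingHom.injective_iff_ker_eq_bot _).1 (IsFractionRing.injective R (FractionRing R))] at h2
    exact IsDiscreteValuationRing.not_a_field R h2.symm) hA
  let i' : (Scheme.Modules.pullback fst).obj L ≅ Coh.structureModule ((Neron.genericFibre R).obj X).left :=
    (Scheme.Modules.pullback fst).mapIso τ.symm ≪≫ (Scheme.Modules.pullbackComp fst φ).app A ≪≫ i
  have h : ArSurf.curveDeg (FractionRing R) ((Neron.genericFibre R).obj X).left
      ((Scheme.Modules.pullback fst).obj L) = 0 := by
    simp only [ArSurf.curveDeg, FGA.eulerCharLE]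
    rw [sub_eq_zero]
    exact Finset.sum_congr rfl fun q _ => congrArg (fun n : ℕ => (-1 : ℤ) ^ q * (n : ℤ))
      (CurveRR.h_eq_of_iso (k := FractionRing R) (X := ((Neron.genericFibre R).obj X).left)
        (F := (Scheme.Modules.pullback fst).obj L) i' q)
  exact hdeg.ne' h

variable (htriv : ∀ E : ArSurf.VertComp R X,
      Nonempty ((Scheme.Modules.pullback E.ι).obj L ≅ Coh.structureModule E.curve.left) ↔
        ∃ i, Set.range (E.ι.base : E.curve.left → X.left) = Set.range (Γ i).ι.base)
include hdim htriv

/-- Two distinct comparable points with the same image lie on the contracted curves. -/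
theorem mem_iUnion_of_specializes {n : ℕ} (φ : X.left ⟶ CohB1.ProjSpace n R)
    (hφ : φ ≫ CohB1.ProjSpace.toSpec n R = X.hom)
    (τ : (Scheme.Modules.pullback φ).obj (Twist.twistProjSpace n R 1) ≅ L) {s t : X.left} (hst : s ⤳ t) (hne : s ≠ t)
    (he : φ s = φ t) : s ∈ ⋃ i, Set.range (Γ i).ι := by
  haveI := ProjMor.isProper_toSpec n R
  haveI : IsProper (φ ≫ CohB1.ProjSpace.toSpec n R) := hφ.symm ▸ inferInstance
  haveI : IsProper φ := IsProper.of_comp φ (CohB1.ProjSpace.toSpec n R)
  have hA := CohFinite.isInvertible_twist n R 1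
  have hp : ∀ a b : X.left, φ a = φ b → X.hom a = X.hom b := fun a b h => by
    rw [← hφ, Scheme.Hom.comp_apply, Scheme.Hom.comp_apply, h]
  by_cases hs : s ∈ Models.specialFibreSet R X
  · obtain ⟨E, e, hrE, hgE, heE⟩ := exists_vertComp_of_specializes hdim hs hst hne
    haveI := E.isIntegral
    have hdE : topologicalKrullDim E.curve.left = 1 := E.dim_eq
    have hec : IsClosed ({e} : Set E.curve.left) := by
      refine isClosed_of_ne_genericPoint hdE.le fun h => hne ?_
      rw [← hgE, ← h, heE]
    have hyc : IsClosed ({φ t} : Set (CohB1.ProjSpace n R)) := by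
      have := φ.isClosedMap _ (E.ι.isClosedMap _ hec)
      rwa [Set.image_singleton, Set.image_singleton, heE] at this
    obtain ⟨i⟩ := nonempty_pullback_point (E.ι ≫ φ) (φ t) (fun z => by
      rw [← Set.mem_singleton_iff, ← hyc.closure_eq, ← specializes_iff_mem_closure, ← he, ← hgE,
        Scheme.Hom.comp_apply]
      exact ((genericPoint_specializes z).map E.ι.continuous).map φ.continuous) hA
    obtain ⟨l, hl⟩ := (htriv E).1 ⟨(Scheme.Modules.pullback E.ι).mapIso τ.symm ≪≫
      (Scheme.Modules.pullbackComp E.ι φ).app _ ≪≫ i⟩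
    exact Set.mem_iUnion.2 ⟨l, hl.le ⟨_, hgE⟩⟩
  · exfalso
    have ht : t ∉ Models.specialFibreSet R X := fun h => hs ((hp s t he).trans h)
    have hclosed : ∀ b : X.left, ∃ c, b ⤳ c ∧ c ∈ Models.specialFibreSet R X := fun b => by
      obtain ⟨c, hc, hc'⟩ := X.hom.isClosedMap.specializingMap (a := b) (b := IsLocalRing.closedPoint R)
        (IsLocalRing.specializes_closedPoint _)
      exact ⟨c, hc, hc'⟩
    obtain ⟨c, htc, hc⟩ := hclosed t
    have hη : s = genericPoint X.left := by
      by_contra hη
      have h3 := (Unibranch.natCast_le_topologicalKrullDim (α := X.left) (k := 3) ![genericPoint X.left, s, t, c]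
        fun i => by
          fin_cases i
          · exact ⟨genericPoint_specializes _, Ne.symm hη⟩
          · exact ⟨hst, hne⟩
          · exact ⟨htc, fun e => ht ((show t = c from e) ▸ hc)⟩).trans hdim.le
      exact absurd (CartierDim.natCast_le_withBot.mp (show ((3 : ℕ) : WithBot ℕ∞) ≤ ((2 : ℕ) : WithBot ℕ∞) from h3))
        (by omega)
    obtain ⟨w, hw, hwy⟩ := exists_ne_of_deg_pos hdeg hA φ τ (φ t)
    have h1 : φ t ⤳ φ w := by
      rw [← he, hη]
      exact (genericPoint_specializes w).map φ.continuous
    obtain ⟨v, hv, hv'⟩ := φ.isClosedMap.specializingMap h1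
    by_cases hvt : v = t
    · exact hwy (hv' ▸ hvt ▸ rfl)
    have hvs : v ∉ Models.specialFibreSet R X := fun h => hw ((hp v w hv').symm.trans h)
    obtain ⟨c', hvc, hc'⟩ := hclosed v
    have h3 := (Unibranch.natCast_le_topologicalKrullDim (α := X.left) (k := 3) ![s, t, v, c']
      fun i => by
        fin_cases i
        · exact ⟨hst, hne⟩
        · exact ⟨hv, Ne.symm hvt⟩
        · exact ⟨hvc, fun e => hvs ((show v = c' from e) ▸ hc')⟩).trans hdim.le
    exact absurd (CartierDim.natCast_le_withBot.mp (show ((3 : ℕ) : WithBot ℕ∞) ≤ ((2 : ℕ) : WithBot ℕ∞) from h3))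
      (by omega)

/-- The contraction of the curves on which a globally generated module is trivial. -/
theorem exists_contraction_gg (hnor : ∀ x : X.left, IsIntegrallyClosed (X.left.presheaf.stalk x))
    (hL : PicF.IsInvertible L) (hgg : Curv2.IsGloballyGenerated L) :
    ∃ (Y : Over (Spec (CommRingCat.of R))) (f : X ⟶ Y),
      IsIntegral Y.left ∧ (∀ q : Y.left, IsIntegrallyClosed (Y.left.presheaf.stalk q)) ∧
      topologicalKrullDim Y.left = 2 ∧ Flat Y.hom ∧ Neron.IsProjectiveOver R Y ∧
      (∀ i, ∃ y : Y.left, Set.range (((Γ i).ι ≫ f.left).base : (Γ i).curve.left → Y.left) = {y}) ∧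
      f.left.base ⁻¹' (f.left.base '' ⋃ i, Set.range (Γ i).ι.base) = ⋃ i, Set.range (Γ i).ι.base ∧
      ∀ V : Y.left.Opens, (V : Set Y.left) ∩ f.left.base '' (⋃ i, Set.range (Γ i).ι.base) = ∅ →
        IsIso (f.left ∣_ V) := by
  classical
  haveI : IsLocallyNoetherian X.left := LocallyOfFiniteType.isLocallyNoetherian X.hom
  haveI : CompactSpace X.left := QuasiCompact.compactSpace_of_compactSpace X.hom
  haveI : AlgebraicGeometry.IsNoetherian X.left := {}
  choose σ hσ using Groth.Agent.S1664.gen_of_globallyGenerated hL hgg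
  obtain ⟨F, hF⟩ := isCompact_univ.elim_finite_subcover (fun x => (CohB1.genLocus _ (σ x) : Set X.left))
    (fun x => (CohB1.genLocus _ (σ x)).2) (fun x _ => Set.mem_iUnion.mpr ⟨x, hσ x⟩)
  let sec : Fin (F.card + 1) → ProjUP.Γm L :=
    Fin.cons (0 : Γ(L, ⊤)) fun j => val (σ (F.equivFin.symm j).1) ⊤
  have hsec : ProjUP.GeneratedBy L sec := ProjMor.generatedBy_of_mem_genLocus sec fun x => by
    obtain ⟨p, hp, hxp⟩ := Set.mem_iUnion₂.mp (hF (Set.mem_univ x))
    refine ⟨(F.equivFin ⟨p, hp⟩).succ, ?_⟩
    have e : sec (F.equivFin ⟨p, hp⟩).succ = val (σ p) ⊤ := by simp [sec]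
    rw [e, CohFinite.homOf_val]
    exact hxp
  obtain ⟨φ, hφ, τ, -⟩ := ProjMor.exists_projSpace (R := R) X.hom hL sec hsec
  haveI := ProjMor.isProper_toSpec F.card R
  haveI : IsProper (φ ≫ CohB1.ProjSpace.toSpec F.card R) := hφ.symm ▸ inferInstance
  haveI : IsProper φ := IsProper.of_comp φ (CohB1.ProjSpace.toSpec F.card R)
  haveI : IsLocallyNoetherian (CohB1.ProjSpace F.card R) :=
    LocallyOfFiniteType.isLocallyNoetherian (CohB1.ProjSpace.toSpec F.card R)
  haveI : CompactSpace (CohB1.ProjSpace F.card R) :=
    QuasiCompact.compactSpace_of_compactSpace (CohB1.ProjSpace.toSpec F.card R)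
  haveI : AlgebraicGeometry.IsNoetherian (CohB1.ProjSpace F.card R) := {}
  have key := @mem_iUnion_of_specializes _ _ _ _ X _ hdim _ _ r Γ L hdeg htriv F.card φ hφ τ
  set g := φ.fromNormalization
  set b := φ.toNormalization
  have hbg : b ≫ g = φ := φ.toNormalization_fromNormalization
  haveI : IsFinite g := S1297.result φ
  haveI : IsProper (b ≫ g) := by rw [hbg]; infer_instance
  haveI : IsProper b := IsProper.of_comp b g
  haveI : IsLocallyNoetherian φ.normalization := LocallyOfFiniteType.isLocallyNoetherian g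
  haveI : CompactSpace φ.normalization := QuasiCompact.compactSpace_of_compactSpace g
  have hbapp : ∀ V : φ.normalization.Opens, Function.Bijective (b.app V) := fun V =>
    haveI := SteinGen.isIso_toNormalization_app φ V
    ConcreteCategory.bijective_of_isIso _
  haveI : GeometricallyConnected b :=
    SteinGen.geometricallyConnected_of_isIso_app b fun V => SteinGen.isIso_toNormalization_app φ V
  have hbφ : ∀ {a c : X.left}, b a = b c → φ a = φ c := fun {a c} h => by
    rw [← hbg, Scheme.Hom.comp_apply, Scheme.Hom.comp_apply, h]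
  have hsurj : Function.Surjective b := fun y => (b.isConnected_preimage_singleton y).nonempty
  haveI : IsReduced φ.normalization := isReduced_of_app_injective b fun V => (hbapp V).1
  haveI : IrreducibleSpace φ.normalization := hsurj.irreducibleSpace b.continuous
  haveI hYint : IsIntegral φ.normalization := isIntegral_of_irreducibleSpace_of_isReduced _
  let S : Set X.left := ⋃ i, Set.range (Γ i).ι
  have hS : IsClosed S := isClosed_iUnion_of_finite fun i => (Γ i).ι.isClosedEmbedding.isClosed_range
  have hcl : ∀ i, ∃ y, IsClosed ({y} : Set φ.normalization) ∧ ∀ e, b ((Γ i).ι e) = y := fun i => by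
    haveI := (Γ i).isIntegral
    haveI : IsProper (Γ i).curve.hom := isProper_curve (Γ i)
    obtain ⟨ec⟩ := (htriv (Γ i)).2 ⟨i, rfl⟩
    obtain ⟨p, hp⟩ := const_of_trivial' (Γ i).dim_eq (Γ i).curve.hom (isAmple_twist F.card R) ((Γ i).ι ≫ φ)
      (((Scheme.Modules.pullbackComp (Γ i).ι φ).app _).symm ≪≫ (Scheme.Modules.pullback (Γ i).ι).mapIso τ ≪≫ ec)
    have hg : ∀ e, g (b ((Γ i).ι e)) = p := fun e => by
      rw [← Scheme.Hom.comp_apply b g, hbg]; exact hp e
    have hconst : ∀ e, b ((Γ i).ι e) = b ((Γ i).ι (genericPoint (Γ i).curve.left)) := fun e =>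
      eq_of_specializes_qf g (g.quasiFiniteAt _) ((hg _).trans (hg _).symm)
        (((genericPoint_specializes e).map (Γ i).ι.continuous).map b.continuous)
    refine ⟨_, ?_, hconst⟩
    have h := b.isClosedMap _ (Γ i).ι.isClosedEmbedding.isClosed_range
    rwa [show b '' Set.range (Γ i).ι = {b ((Γ i).ι (genericPoint (Γ i).curve.left))} from subset_antisymm
      (by rintro _ ⟨_, ⟨e, rfl⟩, rfl⟩; exact hconst e) (by rintro _ rfl; exact ⟨_, ⟨_, rfl⟩, rfl⟩)] at h
  have hpre : b ⁻¹' (b '' S) = S := by
    refine subset_antisymm (fun x hx => ?_) (Set.subset_preimage_image _ _)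
    by_contra hxS
    obtain ⟨x', hx'S, hx'⟩ := hx
    obtain ⟨i, e, rfl⟩ := Set.mem_iUnion.1 hx'S
    obtain ⟨y, hyc, hy⟩ := hcl i
    rw [hy] at hx'
    subst hx'
    have hfc : IsClosed (b ⁻¹' {b x}) := hyc.preimage b.continuous
    have hiso : ∀ z ∈ b ⁻¹' {b x} \ S, IsClosed ({z} : Set X.left) := fun z hz => by
      rw [← closure_eq_iff_isClosed]
      refine subset_antisymm (fun w hw => ?_) subset_closure
      by_contra hwz
      exact hz.2 (key (specializes_iff_mem_closure.2 hw) (fun h => hwz h.symm)
        (hbφ (hz.1.trans (hfc.closure_subset_iff.2 (Set.singleton_subset_iff.2 hz.1) hw).symm)))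
    let U : X.left.Opens := ⟨Sᶜ, hS.isOpen_compl⟩
    have hfin : (b ⁻¹' {b x} \ S).Finite := by
      have h1 := BiratCodimTwo.finite_of_no_specializations (U.ι ≫ b) (b x) fun a c ha hc hs => by
        by_contra hac
        exact c.2 (key (s := c.1) (t := a.1) (hs.map U.ι.continuous) (fun h => hac (Subtype.ext h))
          (hbφ ((show b c.1 = b x from hc).trans (show b a.1 = b x from ha).symm)))
      exact (h1.image U.ι).subset fun z hz => ⟨⟨z, hz.2⟩, hz.1, rfl⟩
    have hC : IsClosed (b ⁻¹' {b x} \ S) := by
      rw [← Set.biUnion_of_singleton (b ⁻¹' {b x} \ S)]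
      exact hfin.isClosed_biUnion hiso
    obtain ⟨w, -, hwS, hwC⟩ := (isPreconnected_closed_iff.1 (b.isConnected_preimage_singleton (b x)).isPreconnected)
      S (b ⁻¹' {b x} \ S) hS hC (fun z hz => (em (z ∈ S)).imp id fun h => ⟨hz, h⟩)
      ⟨(Γ i).ι e, hy e, Set.mem_iUnion.2 ⟨i, e, rfl⟩⟩ ⟨x, rfl, rfl, hxS⟩
    exact hwC.2 hwS
  have hiso : ∀ V : φ.normalization.Opens, (V : Set φ.normalization) ∩ b '' S = ∅ → IsIso (b ∣_ V) := fun V hV => by
    haveI : LocallyQuasiFinite (b ∣_ V) := by
      refine LocallyQuasiFinite.of_finite_preimage_singleton _ fun y => ?_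
      refine BiratCodimTwo.finite_of_no_specializations (b ∣_ V) y fun a c ha hc hs => ?_
      by_contra hac
      have hb : ∀ z : (b ⁻¹ᵁ V : X.left.Opens), z.1 ∉ S := fun z hz =>
        Set.eq_empty_iff_forall_notMem.1 hV _ ⟨z.2, z.1, hz, rfl⟩
      refine hb c (key (hs.map (b ⁻¹ᵁ V).ι.continuous) (fun h => hac (Subtype.ext h)) (hbφ ?_))
      exact (morphismRestrict_base_coe b V c).symm.trans ((congrArg Subtype.val (hc.trans ha.symm)).trans
        (morphismRestrict_base_coe b V a))
    haveI : IsFinite (b ∣_ V) := IsFinite.of_isProper_of_locallyQuasiFinite (b ∣_ V)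
    exact BiratCodimTwo.isIso_restrict_of_isAffineHom b hbapp V
  have hnorY : ∀ q : φ.normalization, IsIntegrallyClosed (φ.normalization.presheaf.stalk q) := fun q => by
    obtain ⟨V, hV, hqV, -⟩ := exists_isAffineOpen_mem_and_subset (x := q) (U := (⊤ : φ.normalization.Opens)) trivial
    haveI : Nonempty V := ⟨⟨q, hqV⟩⟩
    obtain ⟨x, hx⟩ := hsurj q
    haveI : Nonempty ((b ⁻¹ᵁ V : X.left.Opens) : Scheme.{u}) := ⟨⟨x, show b x ∈ V from hx.symm ▸ hqV⟩⟩
    haveI : IsIntegrallyClosed Γ(X.left, b ⁻¹ᵁ V) := NormSect.isIntegrallyClosed_sections _ fun z _ => hnor z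
    haveI : IsIntegrallyClosed Γ(φ.normalization, V) :=
      IsIntegrallyClosed.of_equiv (RingEquiv.ofBijective (b.app V).hom (hbapp V)).symm
    exact NormSect.isIntegrallyClosed_stalk V hV ⟨q, hqV⟩
  let q : φ.normalization ⟶ Spec (CommRingCat.of R) := g ≫ CohB1.ProjSpace.toSpec F.card R
  have hbq : b ≫ q = X.hom := by rw [← Category.assoc, hbg, hφ]
  haveI : Flat (b ≫ q) := hbq.symm ▸ ‹Flat X.hom›
  haveI : IsProper q := inferInstanceAs (IsProper (g ≫ _))
  have hdimY : topologicalKrullDim φ.normalization = 2 := by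
    refine le_antisymm (dim_le_of_closedMap b hsurj b.isClosedMap (n := 2) hdim.le) ?_
    obtain ⟨t, ht, hty⟩ := exists_ne_of_deg_pos hdeg (CohFinite.isInvertible_twist F.card R 1) φ τ
      (φ (genericPoint X.left))
    obtain ⟨c, htc, hc⟩ := X.hom.isClosedMap.specializingMap (a := t) (b := IsLocalRing.closedPoint R)
      (IsLocalRing.specializes_closedPoint _)
    refine Unibranch.natCast_le_topologicalKrullDim (α := φ.normalization) (k := 2)
      ![b (genericPoint X.left), b t, b c] fun i => ?_
    fin_cases i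
    · exact ⟨(genericPoint_specializes t).map b.continuous, fun h => hty (hbφ h).symm⟩
    · refine ⟨htc.map b.continuous, fun h => ht ?_⟩
      change X.hom t = _
      rw [← hbq, Scheme.Hom.comp_apply]
      simp at h
      rw [h, ← Scheme.Hom.comp_apply, hbq]
      exact hc
  refine ⟨Over.mk q, Over.homMk b hbq, hYint, hnorY, hdimY, flat_of_app_injective b q fun V => (hbapp V).1,
    isProjectiveOver_of_ample q (TMul.isAmple_pullback_of_isAffineHom g (isAmple_twist F.card R)), fun i => ?_,
    hpre, hiso⟩
  haveI := (Γ i).isIntegral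
  obtain ⟨y, -, hy⟩ := hcl i
  refine ⟨y, subset_antisymm ?_ ?_⟩
  · rintro _ ⟨e, rfl⟩
    exact hy e
  · rintro _ rfl
    exact ⟨genericPoint _, hy _⟩

end Groth.Agent.Castel
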