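import Groth.Agent.Castel.StepDiv
import Groth.Agent.GrothSS.ChangeRings

/-!
Removing one component from a thickening: the short exact sequence on the thickening itself.
-/

set_option autoImplicit false
set_option backward.isDefEq.respectTransparency false
set_option backward.isDefEq.respectTransparency.types false
set_option linter.style.haveILetI false
set_option linter.unusedSectionVars false

universe u

open CategoryTheory CategoryTheory.Limits AlgebraicGeometry TopologicalSpace Opposite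
open Groth.Agent.QC (res resO res_res res_self app_res res_smul)
open Groth.Agent.CohFinite (tmap tmap_tm shortExact_tmap shortExact_toAb)

noncomputable section

namespace Groth.Agent.Castel

/-- `H` of isomorphic modules. -/
theorem subsingleton_hh_iso {X : Scheme.{u}} {M N : X.Modules} (e : M ≅ N) (n : ℕ)
    (h : Subsingleton (Coh.HH X M n)) : Subsingleton (Coh.HH X N n) := by
  refine subsingleton_of_forall_eq 0 fun x => ?_
  have h1 : W7Rees.hm e.hom n (W7Rees.hm e.inv n x) = x := by
    refine (W7Rees.hm_comp e.inv e.hom n x).symm.trans ?_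
    rw [e.inv_hom_id]
    exact (congrArg (fun φ => Sheaf.H.map φ n x) (CategoryTheory.Functor.map_id _ _)).trans (Sheaf.H.map_id_apply _)
  rw [← h1, @Subsingleton.elim _ h (W7Rees.hm e.inv n x) 0]
  exact map_zero _

/-- `H` of a closed immersion's direct image. -/
theorem subsingleton_hh_push {Y X : Scheme.{u}} (i : Y ⟶ X) [IsClosedImmersion i] {M : Y.Modules} (hM : Coh.IsQCoh M)
    (n : ℕ) (h : Subsingleton (Coh.HH Y M n)) :
    Subsingleton (Coh.HH X ((Scheme.Modules.pushforward i).obj M) n) := by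
  haveI := hM
  obtain ⟨a, -⟩ := Groth.Agent.CohFinite.h_push_natural i.base n
  exact (a (Coh.toAb M) (CohQC.directAcyclic_of_isAffineHom i M)).symm.toEquiv.subsingleton

section Thick

variable {X Γ : Scheme.{u}}

/-- `0 → γ_* (I|Γ) → O_Z → j_* O → 0` on `Z = V(J·I)`, for `Γ = V(J)`. -/
theorem exists_shortExact_thick {I J K : X.IdealSheafData} (hI : BlowUp.IsEffCartierIdeal I)
    (hJ : BlowUp.IsEffCartierIdeal J) (hK : J * I = K) (γ₀ : Γ ⟶ X) [IsClosedImmersion γ₀] (hγ : γ₀.ker = J) :
    ∃ (hle : K ≤ I) (γ : Γ ⟶ K.subscheme), γ ≫ K.subschemeι = γ₀ ∧ IsClosedImmersion γ ∧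
      ∃ (f : (Scheme.Modules.pushforward γ).obj ((Scheme.Modules.pullback γ₀).obj (ClSub.idealMod I)) ⟶
          Coh.structureModule K.subscheme)
        (w : f ≫ ClSub.unitToPush (Scheme.IdealSheafData.inclusion hle) = 0),
        (ShortComplex.mk f (ClSub.unitToPush (Scheme.IdealSheafData.inclusion hle)) w).ShortExact := by
  have hle : J * I ≤ I := fun U => by
    rw [Scheme.IdealSheafData.ideal_mul, Pi.mul_apply]; exact Ideal.mul_le_right
  have hleJ : J * I ≤ J := fun U => by
    rw [Scheme.IdealSheafData.ideal_mul, Pi.mul_apply]; exact Ideal.mul_le_left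
  subst hK
  let i := (J * I).subschemeι
  have hk : i.ker ≤ γ₀.ker := by
    rw [hγ, Scheme.IdealSheafData.ker_subschemeι]; exact hleJ
  let γ : Γ ⟶ (J * I).subscheme := IsClosedImmersion.lift i γ₀ hk
  have hγi : γ ≫ i = γ₀ := IsClosedImmersion.lift_fac i γ₀ hk
  haveI : IsClosedImmersion (γ ≫ i) := hγi.symm ▸ ‹IsClosedImmersion γ₀›
  haveI : IsClosedImmersion γ := IsClosedImmersion.of_comp γ i
  refine ⟨hle, γ, hγi, inferInstance, ?_⟩
  obtain ⟨S, hS, ⟨a₁⟩, a₂, a₃, hq⟩ := exists_shortExact_restrict hI hJ hle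
  have hA := (Groth.Agent.S8914.result I).2 hI
  have hAf : FlatMod.IsFinLocFree (ClSub.idealMod I) := fun x =>
    let ⟨U, hx, e⟩ := CurveRR.isFinLocFreeOfRank_one hA x
    ⟨U, 1, hx, e⟩
  haveI := Groth.Agent.S0927.isIso_proj γ₀ (ClSub.idealMod I) hAf (Coh.structureModule Γ)
  obtain ⟨qi⟩ := ExtShX.nonempty_quotMod_iso γ₀
  subst hγ
  let P := (Scheme.Modules.pullback γ₀).obj (ClSub.idealMod I)
  have b₁ : S.X₁ ≅ (Scheme.Modules.pushforward i).obj ((Scheme.Modules.pushforward γ).obj P) :=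
    a₁ ≪≫ PicGrp.tensorModIso (Iso.refl _) qi ≪≫
      asIso (Groth.Agent.S0927.proj γ₀ (ClSub.idealMod I) (Coh.structureModule Γ)) ≪≫
      (Scheme.Modules.pushforward γ₀).mapIso (TMul.commIso _ _ ≪≫ TMul.leftUnitIso _) ≪≫
      ((Scheme.Modules.pushforwardCongr hγi).app P).symm ≪≫
      ((Scheme.Modules.pushforwardComp γ i).app P).symm
  let j := Scheme.IdealSheafData.inclusion hle
  let e := (Scheme.Modules.pushforwardComp j i).app (Coh.structureModule I.subscheme) ≪≫
    (Scheme.Modules.pushforwardCongr (Scheme.IdealSheafData.inclusion_subschemeι hle)).app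
      (Coh.structureModule I.subscheme)
  have he : (Scheme.Modules.pushforward i).map (ClSub.unitToPush j) ≫ e.hom = Lef.quotMap hle := rfl
  haveI := Groth.Agent.GrothSS.isIso_counit_push i
  haveI := Groth.Agent.GrothSS.preservesFiniteLimits_push i
  haveI := Groth.Agent.GrothSS.preservesFiniteColimits_push i
  let ff := (Scheme.Modules.pullbackPushforwardAdjunction i).fullyFaithfulROfIsIsoCounit
  haveI : (Scheme.Modules.pushforward i).Faithful := ff.faithful
  let f := ff.preimage (X := (Scheme.Modules.pushforward γ).obj P) (Y := Coh.structureModule _)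
    (b₁.inv ≫ S.f ≫ a₂.hom)
  have hf : (Scheme.Modules.pushforward i).map f = b₁.inv ≫ S.f ≫ a₂.hom := ff.map_preimage _
  have hg : a₂.inv ≫ S.g ≫ a₃.hom = (Scheme.Modules.pushforward i).map (ClSub.unitToPush j) ≫ e.hom := hq.trans he.symm
  have w : f ≫ ClSub.unitToPush j = 0 := by
    refine (Scheme.Modules.pushforward i).map_injective ?_
    rw [Functor.map_comp, Functor.map_zero, hf, ← cancel_mono e.hom, Category.assoc, Category.assoc, Category.assoc,
      ← hg, a₂.hom_inv_id_assoc, S.zero_assoc, zero_comp, zero_comp, comp_zero]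
  refine ⟨f, w, ?_⟩
  have h1 : ((ShortComplex.mk f (ClSub.unitToPush j) w).map (Scheme.Modules.pushforward i)).ShortExact := by
    refine ShortComplex.shortExact_of_iso (ShortComplex.isoMk b₁ a₂ (a₃ ≪≫ e.symm) ?_ ?_) hS
    · show b₁.hom ≫ (Scheme.Modules.pushforward i).map f = S.f ≫ a₂.hom
      rw [hf, b₁.hom_inv_id_assoc]
    · show a₂.hom ≫ (Scheme.Modules.pushforward i).map (ClSub.unitToPush j) = S.g ≫ a₃.hom ≫ e.inv
      rw [← cancel_mono e.hom, Category.assoc, ← hg, a₂.hom_inv_id_assoc, Category.assoc, Category.assoc,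
        e.inv_hom_id, Category.comp_id]
  haveI := h1.mono_f
  haveI := h1.epi_g
  exact { exact := (ShortComplex.exact_map_iff_of_faithful _ (Scheme.Modules.pushforward i)).1 h1.exact
          mono_f := (Scheme.Modules.pushforward i).mono_of_mono_map h1.mono_f
          epi_g := (Scheme.Modules.pushforward i).epi_of_epi_map h1.epi_g }

end Thick

section Step

variable {Z Γ Z' : Scheme.{u}} (γ : Γ ⟶ Z) [IsClosedImmersion γ] (j : Z' ⟶ Z) [IsClosedImmersion j] {P : Γ.Modules}

/-- The restriction of an invertible module to a closed subscheme. -/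
def restrMap (M : Z.Modules) :
    M ⟶ CohB1.tensorMod ((Scheme.Modules.pushforward j).obj (Coh.structureModule Z')) M :=
  (TMul.leftUnitIso M).inv ≫ tmap (ClSub.unitToPush j) M

theorem nonempty_restr_iso {M : Z.Modules} (hM : PicF.IsInvertible M) :
    Nonempty (CohB1.tensorMod ((Scheme.Modules.pushforward j).obj (Coh.structureModule Z')) M ≅
      (Scheme.Modules.pushforward j).obj ((Scheme.Modules.pullback j).obj M)) := by
  haveI := Groth.Agent.S0927.isIso_proj j M (fun x => let ⟨U, hx, e⟩ := CurveRR.isFinLocFreeOfRank_one hM x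
    ⟨U, 1, hx, e⟩) (Coh.structureModule Z')
  exact ⟨TMul.commIso _ _ ≪≫ asIso (Groth.Agent.S0927.proj j M (Coh.structureModule Z')) ≪≫
    (Scheme.Modules.pushforward j).mapIso (TMul.commIso _ _ ≪≫ TMul.leftUnitIso _)⟩

variable {f : (Scheme.Modules.pushforward γ).obj P ⟶ Coh.structureModule Z} {w : f ≫ ClSub.unitToPush j = 0}
  (hS : (ShortComplex.mk f (ClSub.unitToPush j) w).ShortExact) (hP : PicF.IsInvertible P)
  {M : Z.Modules} (hM : PicF.IsInvertible M)
  (h1 : Subsingleton (Coh.HH Γ (CohB1.tensorMod P ((Scheme.Modules.pullback γ).obj M)) 1))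
include hS hP hM h1

theorem step_restr :
    Function.Surjective ((restrMap j M).app ⊤) ∧
    (Subsingleton (Coh.HH Z' ((Scheme.Modules.pullback j).obj M) 1) → Subsingleton (Coh.HH Z M 1)) := by
  have hT := shortExact_toAb (shortExact_tmap hM hS)
  have hγ := PicLoc.isInvertible_pullback γ hM
  haveI := Groth.Agent.S0927.isIso_proj γ M (fun x => let ⟨U, hx, e⟩ := CurveRR.isFinLocFreeOfRank_one hM x
    ⟨U, 1, hx, e⟩) P
  have c₁ : CohB1.tensorMod ((Scheme.Modules.pushforward γ).obj P) M ≅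
      (Scheme.Modules.pushforward γ).obj (CohB1.tensorMod P ((Scheme.Modules.pullback γ).obj M)) :=
    TMul.commIso _ _ ≪≫ asIso (Groth.Agent.S0927.proj γ M P) ≪≫
      (Scheme.Modules.pushforward γ).mapIso (TMul.commIso _ _)
  haveI := h1
  have hh1 : Subsingleton (Coh.HH Z (CohB1.tensorMod ((Scheme.Modules.pushforward γ).obj P) M) 1) := by
    exact subsingleton_hh_iso c₁.symm 1
      (subsingleton_hh_push γ (TMul.isQCoh_of_isInvertible (TMul.isInvertible_tensorMod hP hγ)) 1 h1)
  refine ⟨fun y => ?_, fun h' => ?_⟩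
  · let y' := (Sheaf.H.equiv₀ (Coh.toAb (CohB1.tensorMod ((Scheme.Modules.pushforward j).obj
      (Coh.structureModule Z')) M)) (Limits.isTerminalTop (α := Z.Opens))).symm y
    obtain ⟨x, hx⟩ := (CohFinite.δH_eq_zero_iff hT 0 y').1 (@Subsingleton.elim _ hh1 _ _)
    refine ⟨(TMul.leftUnitIso M).hom.app ⊤ (Sheaf.H.equiv₀ (Coh.toAb (CohB1.tensorMod (Coh.structureModule Z) M))
      (Limits.isTerminalTop (α := Z.Opens)) x), ?_⟩
    have hn := Sheaf.H.equiv₀_symm_naturality (Limits.isTerminalTop (α := Z.Opens))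
      ((SheafOfModules.toSheaf Z.ringCatSheaf).map (tmap (ClSub.unitToPush j) M))
      (Sheaf.H.equiv₀ (Coh.toAb (CohB1.tensorMod (Coh.structureModule Z) M)) (Limits.isTerminalTop (α := Z.Opens)) x)
    rw [AddEquiv.symm_apply_apply] at hn
    apply (Sheaf.H.equiv₀ (Coh.toAb (CohB1.tensorMod ((Scheme.Modules.pushforward j).obj
      (Coh.structureModule Z')) M)) (Limits.isTerminalTop (α := Z.Opens))).symm.injective
    refine Eq.trans ?_ hx
    refine Eq.trans (congrArg _ ?_) hn.symm
    show (restrMap j M).app ⊤ ((TMul.leftUnitIso M).hom.app ⊤ _) = _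
    rw [← ConcreteCategory.comp_apply, ← Scheme.Modules.Hom.comp_app,
      show (TMul.leftUnitIso M).hom ≫ restrMap j M = tmap (ClSub.unitToPush j) M by simp [restrMap]]
    rfl
  · obtain ⟨c₃⟩ := nonempty_restr_iso j hM
    haveI := h'
    have hh3 : Subsingleton (Coh.HH Z (CohB1.tensorMod ((Scheme.Modules.pushforward j).obj
        (Coh.structureModule Z')) M) 1) := by
      exact subsingleton_hh_iso c₃.symm 1
        (subsingleton_hh_push j (TMul.isQCoh_of_isInvertible (PicLoc.isInvertible_pullback j hM)) 1 h')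
    haveI : Subsingleton (Coh.HH Z (CohB1.tensorMod (Coh.structureModule Z) M) 1) := subsingleton_of_forall_eq 0
      fun x => by
        obtain ⟨y, rfl⟩ := (CohFinite.map_g_eq_zero_iff hT 1 x).1 (@Subsingleton.elim _ hh3 _ _)
        rw [@Subsingleton.elim _ hh1 y 0]
        exact map_zero _
    exact subsingleton_hh_iso (TMul.leftUnitIso M) 1 inferInstance

/-- A lift of a trivialisation on `Z'` generates along `Z'`. -/
theorem exists_section_gen (ht : Nonempty ((Scheme.Modules.pullback j).obj M ≅ Coh.structureModule Z')) :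
    ∃ t : Γ(M, ⊤), ∀ z' : Z', j z' ∈ CohB1.genLocus M (TMul.homOf t) := by
  obtain ⟨c⟩ := nonempty_restr_iso j hM
  obtain ⟨τ⟩ := ht
  let e := c ≪≫ (Scheme.Modules.pushforward j).mapIso τ
  let Q := CohB1.tensorMod ((Scheme.Modules.pushforward j).obj (Coh.structureModule Z')) M
  let σ : Coh.structureModule Z ⟶ Q := ClSub.unitToPush j ≫ e.inv
  haveI := hS.epi_g
  haveI : Epi (ClSub.unitToPush j) := hS.epi_g
  haveI : Epi σ := epi_comp _ _
  let v : Γ(Q, ⊤) := TMul.val σ ⊤
  obtain ⟨t, htv⟩ := (step_restr γ j hS hP hM h1).1 v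
  refine ⟨t, fun z' => ?_⟩
  by_contra hno
  obtain ⟨D, g, hxD, hg⟩ := TMul.exists_isGen hM (j z')
  obtain ⟨W, hW, hxW, (d : Γ(Z, W)), hd⟩ := TMul.exists_app_eq_of_epi σ ((restrMap j M).app D g) hxD
  obtain ⟨c', hc⟩ := (hg W hW).2 (res M le_top t)
  change c' • res M hW g = _ at hc
  have hu : IsUnit (1 - Z.presheaf.germ W (j z') hxW (d * c')) := IsLocalRing.isUnit_one_sub_self_of_mem_nonunits _
    fun hu => hno ((TMul.mem_genLocus_iff_isUnit (TMul.homOf t) (hg.res hW) (c := c')
      (by rw [TMul.val_homOf]; exact hc.symm) hxW).mpr (isUnit_of_mul_isUnit_right (by rwa [← map_mul])))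
  rw [← map_one (Z.presheaf.germ W (j z') hxW).hom, ← map_sub] at hu
  let V := Z.basicOpen (1 - d * c')
  have hxV : j z' ∈ V := (Z.mem_basicOpen _ _ hxW).mpr hu
  have hVW : V ≤ W := Z.basicOpen_le _
  have hvW : res Q (le_top : W ≤ ⊤) v = c' • res Q hW ((restrMap j M).app D g) := by
    rw [← htv, app_res, app_res, ← TMul.app_smul, hc]
  have hπ : res Q hW ((restrMap j M).app D g) = d • res Q (le_top : W ≤ ⊤) v := by
    rw [← hd, TMul.app_eq_smul, TMul.res_val]
  have h0 : (1 - d * c') • res Q (le_top : W ≤ ⊤) v = 0 := by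
    rw [sub_smul, one_smul, sub_eq_zero, mul_comm, mul_smul, ← hπ, ← hvW]
  have h1' : res Q (hVW.trans le_top : V ≤ ⊤) v = 0 := by
    refine ZeroSch.unit_smul_cancel (ZeroSch.isUnit_res (1 - d * c')) ?_
    rw [smul_zero, ← res_res Q hVW (le_top : W ≤ ⊤), ← res_smul, h0, map_zero]
  have h2 : (ClSub.unitToPush j).app V (1 : Γ(Z, V)) = 0 := by
    have h3 : σ.app V (1 : Γ(Z, V)) = res Q (hVW.trans le_top : V ≤ ⊤) v := by
      rw [TMul.app_eq_smul, one_smul]
      exact (TMul.res_val σ _).symm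
    have h4 : (ClSub.unitToPush j).app V (1 : Γ(Z, V)) = e.hom.app V (σ.app V (1 : Γ(Z, V))) := by
      show _ = (σ ≫ e.hom).app V (1 : Γ(Z, V))
      simp [σ]
    rw [h4, h3, h1', map_zero]
  haveI : Nonempty (j ⁻¹ᵁ V) := ⟨⟨z', hxV⟩⟩
  exact one_ne_zero (α := Γ(Z', j ⁻¹ᵁ V)) ((map_one (j.app V).hom).symm.trans h2)

end Step

end Groth.Agent.Castel
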