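import Groth.Agent.Castel.GenusNeg
import Groth.Agent.Castel.ThickStep
import Groth.Agent.RatBlow.Sections
import Groth.Agent.TMul.Pullback

/-!
Vertical divisors all of whose subdivisors have negative adjunction number.
-/

set_option autoImplicit false
set_option backward.isDefEq.respectTransparency false
set_option backward.isDefEq.respectTransparency.types false
set_option linter.style.haveILetI false
set_option linter.unusedSectionVars false

universe u

open CategoryTheory CategoryTheory.Limits AlgebraicGeometry TopologicalSpace Opposite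
open Groth.Agent.QC (res resO res_res res_self res_smul resO_resO section_eq_of_locally)

noncomputable section

namespace Groth.Agent.Castel

theorem subsingleton_hh_of_isEmpty' {X : Scheme.{u}} [IsEmpty X] (M : X.Modules) (n : ℕ) :
    Subsingleton (Coh.HH X M n) := by
  refine subsingleton_of_forall_eq 0 fun x => ?_
  have hid : 𝟙 M = 0 := by
    ext U s
    exact section_eq_of_locally fun y _ => (IsEmpty.false (y : X)).elim
  have h : W7Rees.hm (𝟙 M) n x = x :=
    (congrArg (fun φ => Sheaf.H.map φ n x) (CategoryTheory.Functor.map_id _ _)).trans (Sheaf.H.map_id_apply _)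
  rw [← h, hid]
  refine (congrArg (fun φ => Sheaf.H.map φ n x) (Functor.map_zero _ _ _)).trans ?_
  change Abelian.Ext.comp x (Abelian.Ext.mk₀ 0) (add_zero n) = 0
  rw [Abelian.Ext.mk₀_zero, Abelian.Ext.comp_zero]

variable {R : Type u} [CommRing R] [IsDomain R] [IsDiscreteValuationRing R] {X : Over (Spec (CommRingCat.of R))}

/-- Every subdivisor of `b` has negative adjunction number. -/
def AdjNeg {r : ℕ} (Γ : Fin r → ArSurf.VertComp R X) (b : Fin r → ℕ) : Prop :=
  ∀ a' : Fin r → ℕ, a' ≤ b → a' ≠ 0 →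
    ∑ i, (a' i : ℤ) * (∑ j, (a' j : ℤ) * interMat Γ i j + adjK (Γ i)) < 0

/-- The degree on `Γ` of the pull back along `g : Γ → Z`. -/
abbrev degAlong (Γ : ArSurf.VertComp R X) {Z : Scheme.{u}} (g : Γ.curve.left ⟶ Z) (M : Z.Modules) : ℤ :=
  Curv2.deg (IsLocalRing.ResidueField R) Γ.curve.left ((Scheme.Modules.pullback g).obj M) 1

theorem degAlong_comp (Γ : ArSurf.VertComp R X) {Z Z' : Scheme.{u}} {g : Γ.curve.left ⟶ Z'} {j : Z' ⟶ Z}
    {g' : Γ.curve.left ⟶ Z} (h : g ≫ j = g') (M : Z.Modules) :
    degAlong Γ g ((Scheme.Modules.pullback j).obj M) = degAlong Γ g' M := by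
  have e : (Scheme.Modules.pullback g).obj ((Scheme.Modules.pullback j).obj M) ≅ (Scheme.Modules.pullback g').obj M :=
    (Scheme.Modules.pullbackComp g j).app M ≪≫ (Scheme.Modules.pullbackCongr h).app M
  rw [degAlong, degAlong, Curv2.deg, Curv2.deg, CurveRR.euler_eq_of_iso e]

/-- One removable component, and the degree of the kernel on it. -/
theorem exists_removable (hX : ArSurf.IsArithSurface R X) {r : ℕ} (Γ : Fin r → ArSurf.VertComp R X)
    {b : Fin r → ℕ} (h : AdjNeg Γ b) (h0 : b ≠ 0) :
    ∃ i, 1 ≤ b i ∧ Subsingleton (Coh.HH (Γ i).curve.left (Coh.structureModule (Γ i).curve.left) 1) ∧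
      -(Models.wdeg R X (Γ i) : ℤ) ≤ degI (Γ i) (divI Γ (Function.update b i (b i - 1))) ∧
      (degI (Γ i) (divI Γ (Function.update b i (b i - 1))) < 0 → degI (Γ i) (divI Γ (Function.update b i (b i - 1))) =
        -(Models.wdeg R X (Γ i) : ℤ)) := by
  classical
  haveI := isProper_hom_of_isArithSurface hX
  let S : Fin r → ℤ := fun i => ∑ j, (b j : ℤ) * interMat Γ i j + adjK (Γ i)
  obtain ⟨i, hi⟩ : ∃ i, (b i : ℤ) * S i < 0 := by
    by_contra! hh
    exact absurd (Finset.sum_nonneg fun i _ => hh i) (not_le.2 (h b le_rfl h0))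
  have hbi : 1 ≤ b i := by
    by_contra hc
    rw [show b i = 0 by omega] at hi
    simp at hi
  have hSi : S i < 0 := by
    by_contra hc
    exact absurd (mul_nonneg (Int.natCast_nonneg (b i)) (not_lt.1 hc)) (not_le.2 hi)
  have hsing := h (Pi.single i 1) (fun j => by by_cases hj : j = i <;> simp [hj, hbi]) (by simp)
  have hadj : interMat Γ i i + adjK (Γ i) < 0 := by
    simpa [Pi.single_apply, apply_ite Nat.cast, Finset.sum_ite_eq', ite_mul] using hsing
  obtain ⟨h1, h2⟩ := subsingleton_h1_of_adj_neg (Γ i) hadj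
  refine ⟨i, hbi, h1, ?_⟩
  have hw := wdeg_facts (Γ i)
  have hdvd : (Models.wdeg R X (Γ i) : ℤ) ∣ S i := dvd_add (Finset.dvd_sum fun j _ => dvd_mul_of_dvd_right
    (Int.dvd_neg.2 (hw.2.2 _)) _) (Int.dvd_neg.2 (dvd_sub (dvd_mul_of_dvd_right (dvd_sub (dvd_refl _)
      (by exact_mod_cast hw.2.1)) _) (hw.2.2 _)))
  have hle := Int.le_of_dvd (neg_pos.2 hSi) (Int.dvd_neg.2 hdvd)
  have hsum : ∑ j, (Function.update b i (b i - 1) j : ℤ) * interMat Γ i j =
      (∑ j, (b j : ℤ) * interMat Γ i j) - interMat Γ i i := by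
    rw [← Finset.add_sum_erase _ _ (Finset.mem_univ i), ← Finset.add_sum_erase _ (fun j => (b j : ℤ) * interMat Γ i j)
      (Finset.mem_univ i), Function.update_self, Finset.sum_congr rfl fun j hj => by
      rw [Function.update_of_ne (Finset.ne_of_mem_erase hj)], Nat.cast_sub hbi]
    push_cast
    ring
  rw [degI_divI hX, hsum]
  change -degI (Γ i) (Γ i).ι.ker + adjK (Γ i) = _ at h2
  change interMat Γ i i + adjK (Γ i) = _ at h2
  simp only [S] at hle
  refine ⟨by omega, fun hneg => ?_⟩
  obtain ⟨q, hq⟩ := hdvd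
  have hw0 : (0 : ℤ) < Models.wdeg R X (Γ i) := by exact_mod_cast hw.1
  simp only [S] at hq
  have hq1 : q ≤ -1 := by nlinarith
  have hq2 : -2 < q := by nlinarith
  have : q = -1 := by omega
  subst this
  linarith

theorem support_or {X : Scheme.{u}} {I J K : X.IdealSheafData} (hK : J * I = K) (z : K.subscheme) :
    K.subschemeι z ∈ (J.support : Set X) ∨ K.subschemeι z ∈ (I.support : Set X) := by
  subst hK
  have hz : (J * I).subschemeι z ∈ ((J * I).support : Set X) := by
    rw [← Scheme.IdealSheafData.range_subschemeι]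
    exact ⟨z, rfl⟩
  rwa [Scheme.IdealSheafData.support_mul] at hz

theorem range_eq_support {X Y : Scheme.{u}} (f : Y ⟶ X) [IsClosedImmersion f] :
    Set.range f = (f.ker.support : Set X) := by
  rw [Scheme.Hom.support_ker]
  exact f.isClosedEmbedding.isClosed_range.closure_eq.symm

/-- Two sections generating along disjoint closed pieces combine. -/
theorem exists_combine {Z : Scheme.{u}} {M : Z.Modules} (hM : PicF.IsInvertible M) {A B : Set Z} (hA : IsClosed A)
    (hB : IsClosed B) (hd : Disjoint A B) (hc : A ∪ B = Set.univ) (t₁ t₂ : Γ(M, ⊤))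
    (h1 : ∀ z ∈ A, z ∈ CohB1.genLocus M (TMul.homOf t₁)) (h2 : ∀ z ∈ B, z ∈ CohB1.genLocus M (TMul.homOf t₂)) :
    ∃ t : Γ(M, ⊤), ∀ z, z ∈ CohB1.genLocus M (TMul.homOf t) := by
  let V : Z.Opens := ⟨Bᶜ, hB.isOpen_compl⟩
  let W : Z.Opens := ⟨Aᶜ, hA.isOpen_compl⟩
  have hVA : ∀ z, z ∈ V → z ∈ A := fun z hz => ((hc.symm ▸ Set.mem_univ z : z ∈ A ∪ B)).resolve_right hz
  have hWB : ∀ z, z ∈ W → z ∈ B := fun z hz => ((hc.symm ▸ Set.mem_univ z : z ∈ A ∪ B)).resolve_left hz
  have hVW : Disjoint V W := by
    rw [disjoint_iff, eq_bot_iff]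
    exact fun z hz => (hz.2 (hVA z hz.1)).elim
  have hcov : (V : Set Z) ∪ W = Set.univ := Set.eq_univ_of_forall fun z => by
    by_cases hz : z ∈ A
    · exact Or.inl fun hB' => hd.le_bot ⟨hz, hB'⟩
    · exact Or.inr hz
  obtain ⟨e, he1, he0⟩ := LefConn.exists_idem hVW hcov
  refine ⟨e • t₁ + (1 - e) • t₂, fun z => ?_⟩
  have key : ∀ (U : Z.Opens) (t : Γ(M, ⊤)), res M (le_top : U ≤ ⊤) (e • t₁ + (1 - e) • t₂) = res M le_top t →
      z ∈ U → z ∈ CohB1.genLocus M (TMul.homOf t) → z ∈ CohB1.genLocus M (TMul.homOf (e • t₁ + (1 - e) • t₂)) := by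
    intro U t he hzU hz
    have hg := (TMul.isGen_genLocus (TMul.homOf t)).res (inf_le_left : CohB1.genLocus M (TMul.homOf t) ⊓ U ≤ _)
    refine TMul.le_genLocus _ (U := CohB1.genLocus M (TMul.homOf t) ⊓ U) ?_ ⟨hz, hzU⟩
    rw [TMul.val_homOf, ← res_res M inf_le_right (le_top : U ≤ ⊤), he, res_res]
    rwa [TMul.val_homOf, res_res] at hg
  rcases (hcov.symm ▸ Set.mem_univ z : z ∈ (V : Set Z) ∪ W) with hz | hz
  · refine key V t₁ ?_ hz (h1 z (hVA z hz))
    rw [map_add, res_smul, res_smul]
    change resO Z _ e • _ + resO Z _ (1 - e) • _ = _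
    rw [map_sub, map_one, he1, one_smul, sub_self, zero_smul, add_zero]
  · refine key W t₂ ?_ hz (h2 z (hWB z hz))
    rw [map_add, res_smul, res_smul]
    change resO Z _ e • _ + resO Z _ (1 - e) • _ = _
    rw [map_sub, map_one, he0, zero_smul, sub_zero, one_smul, zero_add]

variable (hX : ArSurf.IsArithSurface R X) {r : ℕ} (Γ : Fin r → ArSurf.VertComp R X)
include hX

/-- Nonnegative degrees: no `H¹`; degree zero: a section generating everywhere. -/
theorem thick_vanish (b : Fin r → ℕ) (hb : AdjNeg Γ b) (M : (divI Γ b).subscheme.Modules)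
    (hM : PicF.IsInvertible M)
    (hdeg : ∀ (i : Fin r) (g : (Γ i).curve.left ⟶ (divI Γ b).subscheme),
      g ≫ (divI Γ b).subschemeι = (Γ i).ι → 0 ≤ degAlong (Γ i) g M) :
    Subsingleton (Coh.HH (divI Γ b).subscheme M 1) ∧
    ((∀ (i : Fin r) (g : (Γ i).curve.left ⟶ (divI Γ b).subscheme),
        g ≫ (divI Γ b).subschemeι = (Γ i).ι → degAlong (Γ i) g M = 0) →
      ∃ t : Γ(M, ⊤), ∀ z, z ∈ CohB1.genLocus M (TMul.homOf t)) := by
  classical
  induction hN : ∑ i, b i generalizing b with
  | zero =>
    have ht : divI Γ b = ⊤ := by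
      rw [divI, Finset.prod_eq_one fun j _ => by
        rw [(Finset.sum_eq_zero_iff.1 hN) j (Finset.mem_univ j), pow_zero], Scheme.IdealSheafData.one_eq_top]
    haveI : IsEmpty (divI Γ b).subscheme := ⟨fun z => by
      have hz : (divI Γ b).subschemeι z ∈ ((divI Γ b).support : Set X.left) := by
        rw [← Scheme.IdealSheafData.range_subschemeι]; exact ⟨z, rfl⟩
      have hs : ((divI Γ b).support : Set X.left) = ∅ := by rw [ht, Scheme.IdealSheafData.support_top]; rfl
      rw [hs] at hz
      exact hz⟩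
    exact ⟨subsingleton_hh_of_isEmpty' M 1, fun _ => ⟨0, fun z => isEmptyElim z⟩⟩
  | succ N ih =>
    have h0 : b ≠ 0 := fun h => by rw [h] at hN; simp at hN
    obtain ⟨i, hbi, hO, hd, -⟩ := exists_removable hX Γ hb h0
    haveI := isProper_hom_of_isArithSurface hX
    let b' : Fin r → ℕ := Function.update b i (b i - 1)
    have hb' : b' ≤ b := fun j => by by_cases hj : j = i <;> simp [b', hj]
    have hN' : ∑ j, b' j = N := by
      rw [← Finset.add_sum_erase _ _ (Finset.mem_univ i), Finset.sum_congr rfl fun j hj => by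
        rw [show b' j = b j from Function.update_of_ne (Finset.ne_of_mem_erase hj) _ _]]
      rw [← Finset.add_sum_erase _ b (Finset.mem_univ i)] at hN
      simp only [b', Function.update_self]
      have : (Finset.univ.erase i).sum b = ∑ x ∈ Finset.univ.erase i, b x := rfl
      omega
    have heq : (Γ i).ι.ker * divI Γ b' = divI Γ b := by
      rw [← divI_add_single]
      congr 1
      funext j
      by_cases hj : j = i
      · subst hj; simp [b']; omega
      · simp [b', hj]
    have hI := cartier_divI hX Γ b'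
    have hJ := isEffCartierIdeal_ker hX (Γ i)
    obtain ⟨hle, γ, hγι, _, f, w, hS⟩ := exists_shortExact_thick hI hJ heq (Γ i).ι rfl
    let j := Scheme.IdealSheafData.inclusion hle
    have hjι : j ≫ (divI Γ b).subschemeι = (divI Γ b').subschemeι := Scheme.IdealSheafData.inclusion_subschemeι hle
    let k := IsLocalRing.ResidueField R
    haveI : IsProper ((Γ i).curve.left ↘ Spec (CommRingCat.of k)) := isProper_curve (Γ i)
    haveI := (Γ i).isIntegral
    have hdim : topologicalKrullDim (Γ i).curve.left ≤ 1 := (Γ i).dim_eq.le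
    let P := (Scheme.Modules.pullback (Γ i).ι).obj (ClSub.idealMod (divI Γ b'))
    have hP : PicF.IsInvertible P := PicLoc.isInvertible_pullback _ ((Groth.Agent.S8914.result _).2 hI)
    have hγM := PicLoc.isInvertible_pullback γ hM
    have h1 : Subsingleton (Coh.HH (Γ i).curve.left (CohB1.tensorMod P ((Scheme.Modules.pullback γ).obj M)) 1) := by
      refine subsingleton_h1_of_genus_zero (k := k) hdim hO (TMul.isInvertible_tensorMod hP hγM) ?_
      rw [CurveRR.deg_tensor_inv (k := k) hdim hP hγM]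
      have := hdeg i γ hγι
      change 0 ≤ Curv2.deg k (Γ i).curve.left ((Scheme.Modules.pullback γ).obj M) 1 at this
      change -(Models.wdeg R X (Γ i) : ℤ) ≤ Curv2.deg k (Γ i).curve.left P 1 at hd
      change -(Models.wdeg R X (Γ i) : ℤ) ≤ _
      omega
    let M' := (Scheme.Modules.pullback j).obj M
    have hM' : PicF.IsInvertible M' := PicLoc.isInvertible_pullback j hM
    have hd' : ∀ (l : Fin r) (g : (Γ l).curve.left ⟶ (divI Γ b').subscheme),
        g ≫ (divI Γ b').subschemeι = (Γ l).ι → degAlong (Γ l) g M' = degAlong (Γ l) (g ≫ j) M ∧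
          (g ≫ j) ≫ (divI Γ b).subschemeι = (Γ l).ι := fun l g hg =>
      ⟨degAlong_comp (Γ l) rfl M, by rw [Category.assoc, hjι, hg]⟩
    obtain ⟨ih1, ih2⟩ := ih b' (fun a' ha => hb a' (ha.trans hb')) M' hM'
      (fun l g hg => (hd' l g hg).1 ▸ hdeg l _ (hd' l g hg).2) hN'
    refine ⟨(step_restr γ j hS hP hM h1).2 ih1, fun hz => ?_⟩
    obtain ⟨t', ht'⟩ := ih2 fun l g hg => (hd' l g hg).1 ▸ hz l _ (hd' l g hg).2
    have htriv : Nonempty (M' ≅ Coh.structureModule (divI Γ b').subscheme) := by
      haveI : IsIso (TMul.homOf t') := RelTilde.isIso_of_bijective_near _ fun z =>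
        ⟨_, ht' z, fun V hV => by
          have h2 := TMul.isGen_genLocus (TMul.homOf t') V hV
          rw [show (fun c : Γ((divI Γ b').subscheme, V) => c • res M' hV (TMul.val (TMul.homOf t') _)) =
            fun c => (TMul.homOf t').app V c from funext fun c => by rw [TMul.app_eq_smul, TMul.res_val]] at h2
          exact h2⟩
      exact ⟨(asIso (TMul.homOf t')).symm⟩
    obtain ⟨t₁, ht₁⟩ := exists_section_gen γ j hS hP hM h1 htriv
    -- the section on `Γ i`
    have hdeg0 : Curv2.deg k (Γ i).curve.left ((Scheme.Modules.pullback γ).obj M) 1 = 0 := hz i γ hγι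
    let e := (PicLoc.pullbackStructureIso γ).symm
    have hpb := TMul.genLocus_pullback γ hM (TMul.homOf t₁) e
    by_cases hmeet : ∃ x : (Γ i).curve.left, γ x ∈ CohB1.genLocus M (TMul.homOf t₁)
    · obtain ⟨x, hx⟩ := hmeet
      have hall : ∀ y : (Γ i).curve.left, γ y ∈ CohB1.genLocus M (TMul.homOf t₁) := fun y => by
        have := genLocus_eq_top_of_deg_zero (k := k) hdim hγM hdeg0 (e.hom ≫ (Scheme.Modules.pullback γ).map
          (TMul.homOf t₁)) (x := x) (by rw [hpb]; exact hx) y
        rw [hpb] at this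
        exact this
      refine ⟨t₁, fun z => ?_⟩
      have hz' := support_or heq z
      have inj : Function.Injective (divI Γ b).subschemeι := (divI Γ b).subschemeι.isClosedEmbedding.injective
      rcases hz' with h | h
      · rw [← range_eq_support] at h
        obtain ⟨y, hy⟩ := h
        rw [← inj (show (divI Γ b).subschemeι (γ y) = (divI Γ b).subschemeι z by rw [← hy, ← hγι]; rfl)]
        exact hall y
      · rw [← Scheme.IdealSheafData.range_subschemeι] at h
        obtain ⟨y, hy⟩ := h
        rw [← inj (show (divI Γ b).subschemeι (j y) = (divI Γ b).subschemeι z by rw [← hy, ← hjι]; rfl)]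
        exact ht₁ y
    · push Not at hmeet
      have hdis : Disjoint (Set.range γ) (Set.range j) := Set.disjoint_left.2 fun z hz1 hz2 => by
        obtain ⟨x, rfl⟩ := hz1
        obtain ⟨y, hy⟩ := hz2
        exact hmeet x (hy ▸ ht₁ y)
      have hcomap : (Γ i).ι.ker.comap (divI Γ b').subschemeι = ⊤ := by
        refine (Scheme.IdealSheafData.support_eq_bot_iff _).1 (TopologicalSpace.Closeds.ext ?_)
        rw [Scheme.IdealSheafData.support_comap]
        refine Set.eq_empty_of_forall_notMem fun y hy => ?_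
        change (divI Γ b').subschemeι y ∈ ((Γ i).ι.ker.support : Set X.left) at hy
        rw [← range_eq_support] at hy
        obtain ⟨x, hx⟩ := hy
        exact Set.disjoint_left.1 hdis ⟨x, rfl⟩ ⟨y, (divI Γ b).subschemeι.isClosedEmbedding.injective
          (by rw [← Scheme.Hom.comp_apply, ← Scheme.Hom.comp_apply, hγι, hjι, hx])⟩
      obtain ⟨hleJ, γ', hγ'ι, _, f', w', hS'⟩ := exists_shortExact_thick hJ hI
        (show divI Γ b' * (Γ i).ι.ker = divI Γ b by rw [mul_comm]; exact heq) (divI Γ b').subschemeι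
        (Scheme.IdealSheafData.ker_subschemeι _)
      have hγ'j : γ' = j := (cancel_mono (divI Γ b).subschemeι).1 (hγ'ι.trans hjι.symm)
      let P' := (Scheme.Modules.pullback (divI Γ b').subschemeι).obj (ClSub.idealMod (Γ i).ι.ker)
      have hP' : PicF.IsInvertible P' := PicLoc.isInvertible_pullback _ ((Groth.Agent.S8914.result _).2 hJ)
      obtain ⟨n⟩ := Nakai.nonempty_pullback_idealMod (divI Γ b').subschemeι hJ (hcomap ▸ BlowUpLib.cartier_top)
      obtain ⟨n'⟩ := RatBlow.nonempty_idealMod_top (X := (divI Γ b').subscheme)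
      rw [hcomap] at n
      have h1' : Subsingleton (Coh.HH (divI Γ b').subscheme
          (CohB1.tensorMod P' ((Scheme.Modules.pullback γ').obj M)) 1) :=
        subsingleton_hh_iso (PicGrp.tensorModIso (n ≪≫ n') ((Scheme.Modules.pullbackCongr hγ'j).app M) ≪≫
          TMul.leftUnitIso _).symm 1 ih1
      have htrivΓ : Nonempty ((Scheme.Modules.pullback (Scheme.IdealSheafData.inclusion hleJ)).obj M ≅
          Coh.structureModule (Γ i).ι.ker.subscheme) := by
        haveI : IsIso (Γ i).ι.toImage := inferInstance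
        have hh : inv (Γ i).ι.toImage ≫ γ = Scheme.IdealSheafData.inclusion hleJ := by
          rw [IsIso.inv_comp_eq, ← cancel_mono (divI Γ b).subschemeι, Category.assoc, hγι,
            Scheme.IdealSheafData.inclusion_subschemeι]
          exact (Γ i).ι.toImage_imageι.symm
        obtain ⟨τ⟩ := nonempty_iso_of_genus_zero (k := k) hdim hO (wdeg_facts (Γ i)).1 hγM hdeg0
        exact ⟨(Scheme.Modules.pullbackCongr hh.symm).app M ≪≫
          ((Scheme.Modules.pullbackComp (inv (Γ i).ι.toImage) γ).app M).symm ≪≫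
          (Scheme.Modules.pullback (inv (Γ i).ι.toImage)).mapIso τ ≪≫ PicLoc.pullbackStructureIso _⟩
      haveI : IsClosedImmersion (Scheme.IdealSheafData.inclusion hleJ) := inferInstance
      obtain ⟨t₂, ht₂⟩ := exists_section_gen γ' (Scheme.IdealSheafData.inclusion hleJ) hS' hP' hM h1' htrivΓ
      have hrγ : Set.range γ ⊆ Set.range (Scheme.IdealSheafData.inclusion hleJ) := by
        rintro _ ⟨x, rfl⟩
        refine ⟨(Γ i).ι.toImage x, (divI Γ b).subschemeι.isClosedEmbedding.injective ?_⟩
        have e1 : (Γ i).ι.toImage ≫ Scheme.IdealSheafData.inclusion hleJ ≫ (divI Γ b).subschemeι =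
            γ ≫ (divI Γ b).subschemeι := by
          rw [Scheme.IdealSheafData.inclusion_subschemeι, hγι]
          exact (Γ i).ι.toImage_imageι
        exact congrArg (fun q : _ ⟶ X.left => q x) e1
      refine exists_combine hM γ.isClosedEmbedding.isClosed_range j.isClosedEmbedding.isClosed_range hdis
        (Set.eq_univ_of_forall fun z => ?_) t₂ t₁ ?_ ?_
      · have hz' := support_or heq z
        have inj : Function.Injective (divI Γ b).subschemeι := (divI Γ b).subschemeι.isClosedEmbedding.injective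
        rcases hz' with h | h
        · rw [← range_eq_support] at h
          obtain ⟨y, hy⟩ := h
          exact Or.inl ⟨y, inj (by rw [← hy, ← hγι]; rfl)⟩
        · rw [← Scheme.IdealSheafData.range_subschemeι] at h
          obtain ⟨y, hy⟩ := h
          exact Or.inr ⟨y, inj (by rw [← hy, ← hjι]; rfl)⟩
      · intro z hz2
        obtain ⟨y, rfl⟩ := hrγ hz2
        exact ht₂ y
      · rintro _ ⟨y, rfl⟩
        exact ht₁ y

end Groth.Agent.Castel

namespace Groth.Agent.Castel

variable {R : Type u} [CommRing R] [IsDomain R] [IsDiscreteValuationRing R] {X : Over (Spec (CommRingCat.of R))}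

theorem curveDeg_eq_degAlong [IsProper X.hom] (Γ : ArSurf.VertComp R X) {Z : Scheme.{u}} (g : Γ.curve.left ⟶ Z)
    (M : Z.Modules) :
    ArSurf.curveDeg (IsLocalRing.ResidueField R) Γ.curve.left ((Scheme.Modules.pullback g).obj M) = degAlong Γ g M := by
  haveI : IsProper (Γ.curve.left ↘ Spec (CommRingCat.of (IsLocalRing.ResidueField R))) := isProper_curve Γ
  rw [degAlong, Curv2.deg, CurveRR.euler_eq Γ.dim_eq.le, CurveRR.euler_eq Γ.dim_eq.le]
  simp only [ArSurf.curveDeg, FGA.eulerCharLE, CurveRR.h, Finset.sum_range_succ, Finset.sum_range_zero,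
    zero_add, pow_zero, one_mul, pow_one]
  push_cast
  ring

/-- `H¹(Z, O) = 0` and `Pic⁰(Z)` is trivial. -/
theorem h1_zero_and_pic0_trivial (hX : ArSurf.IsArithSurface R X) {r : ℕ} (Γ : Fin r → ArSurf.VertComp R X)
    {b : Fin r → ℕ} (hb : AdjNeg Γ b) :
    Subsingleton (Coh.HH (divI Γ b).subscheme (Coh.structureModule (divI Γ b).subscheme) 1) ∧
    ∀ N : (divI Γ b).subscheme.Modules, PicF.IsInvertible N →
      (∀ (i : Fin r) (g : (Γ i).curve.left ⟶ (divI Γ b).subscheme), g ≫ (divI Γ b).subschemeι = (Γ i).ι →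
        degAlong (Γ i) g N = 0) → Nonempty (N ≅ Coh.structureModule (divI Γ b).subscheme) := by
  haveI := isProper_hom_of_isArithSurface hX
  refine ⟨(thick_vanish hX Γ b hb _ TMul.isInvertible_structureModule fun i g _ => le_of_eq ?_).1,
    fun N hN h => ?_⟩
  · haveI : IsProper ((Γ i).curve.left ↘ Spec (CommRingCat.of (IsLocalRing.ResidueField R))) := isProper_curve (Γ i)
    rw [degAlong, Curv2.deg, CurveRR.euler_eq_of_iso (PicLoc.pullbackStructureIso g)]
    exact (CurveRR.deg_structure (k := IsLocalRing.ResidueField R) (X := (Γ i).curve.left)).symm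
  · obtain ⟨t, ht⟩ := (thick_vanish hX Γ b hb N hN fun i g hg => (h i g hg).ge).2 h
    haveI : IsIso (TMul.homOf t) := RelTilde.isIso_of_bijective_near _ fun z =>
      ⟨_, ht z, fun V hV => by
        have h2 := TMul.isGen_genLocus (TMul.homOf t) V hV
        rw [show (fun c : Γ((divI Γ b).subscheme, V) => c • res N hV (TMul.val (TMul.homOf t) _)) =
          fun c => (TMul.homOf t).app V c from funext fun c => by rw [TMul.app_eq_smul, TMul.res_val]] at h2
        exact h2⟩
    exact ⟨(asIso (TMul.homOf t)).symm⟩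

end Groth.Agent.Castel
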