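import Groth.Agent.Castel.ArtinPos
import Groth.Agent.Castel.Morphism
import Groth.Agent.Castel.GenusNegDiv
import Groth.Agent.Castel.ContractGG

/-!
Artin's contractibility criterion: the globally generated module `H^(mn) ⊗ O(nD)`.
-/

set_option autoImplicit false
set_option backward.isDefEq.respectTransparency false
set_option backward.isDefEq.respectTransparency.types false
set_option linter.style.haveILetI false

universe u

open CategoryTheory CategoryTheory.Limits AlgebraicGeometry TopologicalSpace Opposite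
open TMul (homOf val val_homOf)

noncomputable section

namespace Groth.Agent.Castel

/-- A section generating everywhere on the pull back trivialises it. -/
theorem nonempty_pullback_iso_of_range {X E : Scheme.{u}} (g : E ⟶ X) {A : X.Modules} (hA : PicF.IsInvertible A)
    (s : Coh.structureModule X ⟶ A) (h : ∀ z, g z ∈ CohB1.genLocus A s) :
    Nonempty ((Scheme.Modules.pullback g).obj A ≅ Coh.structureModule E) :=
  Groth.Agent.DualGeneric.nonempty_iso_of_genLocus_eq_top
    ((PicLoc.pullbackStructureIso g).inv ≫ (Scheme.Modules.pullback g).map s)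
    (top_le_iff.1 fun z _ =>
      (SetLike.ext_iff.1 (TMul.genLocus_pullback g hA s (PicLoc.pullbackStructureIso g).symm) z).2 (h z))

/-- `I ⊗ (A ⊗ D) ≅ A` for an inverse `D` of `I`. -/
theorem nonempty_cancel_inverse {X : Scheme.{u}} (A : X.Modules) {D I : X.Modules} (h : ClSub.IsInverseOf D I) :
    Nonempty (CohB1.tensorMod I (CohB1.tensorMod A D) ≅ A) := by
  obtain ⟨q⟩ := h
  exact ⟨TMul.commIso I (CohB1.tensorMod A D) ≪≫ TMul.assocIso A D I ≪≫
    PicGrp.tensorModIso (Iso.refl A) q ≪≫ SecTwist.unitorR A⟩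

variable {R : Type u} [CommRing R] [IsDomain R] [IsDiscreteValuationRing R] {X : Over (Spec (CommRingCat.of R))}

/-- The intersection number of a module trivial on the curve. -/
theorem inter_eq_zero_of_trivial [IsProper X.hom] (Γ : ArSurf.VertComp R X) {A : X.left.Modules}
    (e : (Scheme.Modules.pullback Γ.ι).obj A ≅ Coh.structureModule Γ.curve.left) : ArSurf.inter R X A Γ = 0 := by
  haveI : IsProper (Γ.curve.left ↘ Spec (CommRingCat.of (IsLocalRing.ResidueField R))) := isProper_curve Γ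
  rw [inter_eq_deg, Curv2.deg, CurveRR.euler_eq_of_iso e]
  exact CurveRR.deg_structure (k := IsLocalRing.ResidueField R) (X := Γ.curve.left)

variable (hX : ArSurf.IsArithSurface R X) {r : ℕ} (Γ : Fin r → ArSurf.VertComp R X)
include hX

omit hX in
/-- The support of `Σ dⱼ Γⱼ` lies in the union of the `Γⱼ`, with equality if all `dⱼ > 0`. -/
theorem support_divI (a : Fin r → ℕ) :
    ((divI Γ a).support : Set X.left) ⊆ ⋃ i, Set.range (Γ i).ι ∧
      ∀ i, 1 ≤ a i → Set.range (Γ i).ι ⊆ ((divI Γ a).support : Set X.left) := by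
  classical
  refine ⟨fun x hx => ?_, fun i hi x hx => ?_⟩
  · have key : ∀ s : Finset (Fin r), x ∈ ((∏ j ∈ s, (Γ j).ι.ker ^ a j).support : Set X.left) →
        ∃ j ∈ s, x ∈ Set.range (Γ j).ι := fun s => by
      induction s using Finset.induction with
      | empty =>
        intro hx
        rw [Finset.prod_empty, Scheme.IdealSheafData.one_eq_top, Scheme.IdealSheafData.support_top] at hx
        exact hx.elim
      | insert b s hb ih =>
        intro hx
        rw [Finset.prod_insert hb, Scheme.IdealSheafData.support_mul] at hx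
        rcases hx with hx | hx
        · refine ⟨b, Finset.mem_insert_self b s, ?_⟩
          rcases Nat.eq_zero_or_pos (a b) with h0 | h0
          · rw [h0, pow_zero, Scheme.IdealSheafData.one_eq_top, Scheme.IdealSheafData.support_top] at hx
            exact hx.elim
          · rw [Scheme.IdealSheafData.support_pow _ _ h0.ne', Scheme.Hom.support_ker,
              (Γ b).ι.isClosedEmbedding.isClosed_range.closure_eq] at hx
            exact hx
        · obtain ⟨j, hj, hxj⟩ := ih hx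
          exact ⟨j, Finset.mem_insert_of_mem hj, hxj⟩
    obtain ⟨j, -, hj⟩ := key Finset.univ hx
    exact Set.mem_iUnion.2 ⟨j, hj⟩
  · rw [divI, ← Finset.mul_prod_erase _ _ (Finset.mem_univ i), Scheme.IdealSheafData.support_mul]
    refine Or.inl ?_
    rw [Scheme.IdealSheafData.support_pow _ _ (Nat.one_le_iff_ne_zero.1 hi), Scheme.Hom.support_ker]
    exact subset_closure hx

variable (hpic : ∀ (Z : Scheme.{u}) (z : Z ⟶ X.left) [IsClosedImmersion z], BlowUp.IsEffCartierIdeal z.ker →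
      Nonempty Z → Set.range z.base ⊆ (⋃ i, Set.range (Γ i).ι.base) →
      ∀ N : Z.Modules, PicF.IsInvertible N →
        (∀ (i : Fin r) (g : (Γ i).curve.left ⟶ Z), g ≫ z = (Γ i).ι →
          ArSurf.curveDeg (IsLocalRing.ResidueField R) (Γ i).curve.left ((Scheme.Modules.pullback g).obj N) = 0) →
        Nonempty (N ≅ Coh.structureModule Z))
include hpic

/-- A numerically trivial module with liftable sections has a section generating along the configuration. -/
theorem exists_gen_vert (a : Fin r → ℕ) (ha : ∀ i, 1 ≤ a i) {G : X.left.Modules} (hG : PicF.IsInvertible G)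
    (h0 : ∀ i, ArSurf.inter R X G (Γ i) = 0)
    (h1 : Subsingleton (Coh.HH X.left (CohB1.tensorMod (ClSub.idealMod (divI Γ a)) G) 1)) :
    ∃ σ : Γ(G, ⊤), (⋃ i, Set.range (Γ i).ι) ⊆ (CohB1.genLocus G (homOf σ) : Set X.left) := by
  haveI := isProper_hom_of_isArithSurface hX
  rcases isEmpty_or_nonempty (Fin r) with hr | ⟨⟨i₀⟩⟩
  · exact ⟨0, fun x hx => (hr.elim (Set.mem_iUnion.1 hx).choose)⟩
  set I := divI Γ a with hI
  let Z := I.subscheme
  let z : Z ⟶ X.left := I.subschemeι
  have hrz : Set.range z = (I.support : Set X.left) := I.range_subschemeι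
  have hne : Nonempty Z := by
    haveI := (Γ i₀).isIntegral
    obtain ⟨w, -⟩ := hrz.ge ((support_divI Γ a).2 i₀ (ha i₀) ⟨genericPoint _, rfl⟩)
    exact ⟨w⟩
  obtain ⟨e⟩ := hpic Z z (by rw [I.ker_subschemeι]; exact cartier_divI hX Γ a) hne
    (hrz.le.trans (support_divI Γ a).1) _ (PicLoc.isInvertible_pullback z hG) fun i g hg => by
      rw [curveDeg_eq_degAlong, degAlong_comp (Γ i) hg, ← h0 i, inter_eq_deg]
  let one : Γ(Coh.structureModule Z, ⊤) := (1 : Γ(Z, ⊤))
  obtain ⟨σ, hσ⟩ := surjective_eta_of_h1 (I := I) hG h1 (e.inv.app ⊤ one)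
  refine ⟨σ, fun x hx => ?_⟩
  obtain ⟨i, hxi⟩ := Set.mem_iUnion.1 hx
  obtain ⟨w, rfl⟩ := hrz.ge ((support_divI Γ a).2 i (ha i) hxi)
  change w ∈ z ⁻¹ᵁ CohB1.genLocus G (homOf σ)
  rw [← ProjMor.genLocus_pullSec z hG σ]
  change w ∈ CohB1.genLocus _ (homOf (L := (Scheme.Modules.pullback z).obj G) (ProjMor.eta z G ⊤ σ))
  rw [hσ]
  erw [ProjMor.homOf_app, TMul.genLocus_comp]
  refine (TMul.mem_genLocus_iff_isUnit (homOf one) (TMul.isGen_one ⊤) (c := 1) ?_ trivial).2 ?_
  · rw [val_homOf, one_smul]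
    exact Groth.Agent.QC.res_self _ _ _
  · rw [map_one]
    exact isUnit_one

variable (hinj : Function.Injective fun i => Set.range (Γ i).ι)
  (hneg : ∀ a : Fin r → ℤ, a ≠ 0 → ∑ i, ∑ j, a i * a j * interMat Γ i j < 0)
include hinj hneg

/-- The module defining the contraction, and generators along the configuration for a twist of it. -/
theorem exists_artin_module {M : X.left.Modules} (hM : PicF.IsInvertible M)
    (hM0 : ∀ i, ArSurf.inter R X M (Γ i) = 0) :
    ∃ A : X.left.Modules, PicF.IsInvertible A ∧ Curv2.IsGloballyGenerated A ∧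
      0 < ArSurf.curveDeg (FractionRing R) ((Neron.genericFibre R).obj X).left
        ((Scheme.Modules.pullback (pullback.fst X.hom (Neron.genPt R))).obj A) ∧
      (∀ E : ArSurf.VertComp R X,
        Nonempty ((Scheme.Modules.pullback E.ι).obj A ≅ Coh.structureModule E.curve.left) ↔
          ∃ i, Set.range (E.ι.base : E.curve.left → X.left) = Set.range (Γ i).ι.base) ∧
      ∃ W : X.left.Opens, (⋃ i, Set.range (Γ i).ι) ⊆ (W : Set X.left) ∧
        Nonempty (M.restrict W.ι ≅ Coh.structureModule (W : Scheme.{u})) := by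
  classical
  obtain ⟨-, hXi, hXd, hfl, hproj⟩ := id hX
  haveI := hXi
  haveI := hfl
  haveI := isProper_hom_of_isArithSurface hX
  haveI : IsLocallyNoetherian X.left := LocallyOfFiniteType.isLocallyNoetherian X.hom
  haveI : CompactSpace X.left := QuasiCompact.compactSpace_of_compactSpace X.hom
  haveI : AlgebraicGeometry.IsNoetherian X.left := {}
  obtain ⟨H, hH⟩ := exists_ample_of_proj hproj
  obtain ⟨m, d, hm, hd, hmd⟩ := exists_negdef_solution (interMat Γ)
    (fun i j h => ((interMat_facts hX Γ hinj).2.1 i j h).1) hneg (fun i => ArSurf.inter R X H (Γ i))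
    fun i => inter_pos_of_isAmple (Γ i) hH
  choose dd t hxt hta using hH.2.2
  obtain ⟨T, hT⟩ := isCompact_univ.elim_finite_subcover
    (fun x : X.left => ((CohB1.genLocus _ (t x) : X.left.Opens) : Set X.left))
    (fun x => (CohB1.genLocus _ (t x)).2) (fun x _ => Set.mem_iUnion.mpr ⟨x, hxt x⟩)
  obtain ⟨n₁, hn₁⟩ := CohFinite.vanish_ample X.hom hH (RefStalk.isCoh_structureModule (X := X.left))
  haveI : Coh.IsQCoh M := TMul.isQCoh_of_isInvertible hM
  obtain ⟨n₂, hn₂⟩ := CohFinite.vanish_ample X.hom hH (CurveRR.isCoh_of_inv hM)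
  set n := (∏ x ∈ T, (dd x + 1)) * (n₁ + n₂ + 1) with hn
  have hP : 0 < ∏ x ∈ T, (dd x + 1) := Finset.prod_pos fun i _ => Nat.succ_pos _
  have hnpos : 0 < m * n := Nat.mul_pos hm (Nat.mul_pos hP (Nat.succ_pos _))
  have hge : n₁ + n₂ + 1 ≤ m * n :=
    (Nat.le_mul_of_pos_left _ hP).trans (Nat.le_mul_of_pos_left _ hm)
  obtain ⟨N, hN⟩ : ∃ N, m * n = N + 1 := ⟨m * n - 1, by omega⟩
  have hdvd : ∀ x ∈ T, dd x + 1 ∣ N + 1 := fun x hx => hN ▸
    dvd_mul_of_dvd_right ((Finset.dvd_prod_of_mem _ hx).mul_right _) m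
  choose t' ht' using fun x : T => TMul.exists_genLocus_pow hH.1 (hdvd x x.2) (t x)
  let a : Fin r → ℕ := fun i => n * d i
  have ha : ∀ i, 1 ≤ a i := fun i =>
    Nat.succ_le_of_lt (Nat.mul_pos (Nat.mul_pos hP (Nat.succ_pos _)) (hd i))
  have hI := cartier_divI hX Γ a
  obtain ⟨D, hDi, hD⟩ := exists_inverse_module ((Groth.Agent.S8914.result _).2 hI)
  obtain ⟨χ, hχ⟩ := exists_canonical hDi hD
  have hHN : PicF.IsInvertible (CohB1.tensorPow H (N + 1)) := TMul.isInvertible_tensorPow hH.1 _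
  set A := CohB1.tensorMod (CohB1.tensorPow H (N + 1)) D with hA
  have hAi : PicF.IsInvertible A := TMul.isInvertible_tensorMod hHN hDi
  have hA0 : ∀ i, ArSurf.inter R X A (Γ i) = 0 := fun i => by
    rw [inter_tensor (Γ i) hHN hDi, inter_pow (Γ i) hH.1, inter_eq_neg_degI (Γ i) hI hD, degI_divI hX, neg_neg,
      ← hN]
    simp only [a, Nat.cast_mul]
    rw [show ∑ j, (n : ℤ) * (d j : ℤ) * interMat Γ i j = (n : ℤ) * ∑ j, (d j : ℤ) * interMat Γ i j by
      rw [Finset.mul_sum]; exact Finset.sum_congr rfl fun j _ => by ring, hmd i]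
    ring
  have hvA : Subsingleton (Coh.HH X.left (CohB1.tensorMod (ClSub.idealMod (divI Γ a)) A) 1) := by
    obtain ⟨c⟩ := nonempty_cancel_inverse (CohB1.tensorPow H (N + 1)) hD
    exact CohQC.hh_subsingleton_of_iso (c ≪≫ (TMul.leftUnitIso _).symm).symm 1 (hn₁ (N + 1) (by omega) 0)
  obtain ⟨σ, hσ⟩ := exists_gen_vert hX Γ hpic a ha hAi hA0 hvA
  have hMAi : PicF.IsInvertible (CohB1.tensorMod M A) := TMul.isInvertible_tensorMod hM hAi
  obtain ⟨σ', hσ'⟩ := exists_gen_vert hX Γ hpic a ha hMAi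
    (fun i => by rw [inter_tensor (Γ i) hM hAi, hM0 i, hA0 i, add_zero]) (by
      obtain ⟨c⟩ := nonempty_cancel_inverse (CohB1.tensorMod M (CohB1.tensorPow H (N + 1))) hD
      exact CohQC.hh_subsingleton_of_iso (PicGrp.tensorModIso (Iso.refl _)
        (TMul.assocIso M (CohB1.tensorPow H (N + 1)) D).symm ≪≫ c).symm 1 (hn₂ (N + 1) (by omega) 0))
  refine ⟨A, hAi, ?_, ?_, fun E => ⟨?_, ?_⟩, ?_⟩
  · refine CurveRR.isGloballyGenerated_of_closed hAi fun x _ => ?_
    by_cases hx : x ∈ ⋃ i, Set.range (Γ i).ι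
    · exact ⟨σ, hσ hx⟩
    obtain ⟨p, hp, hxp⟩ := Set.mem_iUnion₂.mp (hT (Set.mem_univ x))
    refine ⟨val (SecTwist.tmulHom (t' ⟨p, hp⟩) χ) ⊤, ?_⟩
    rw [CohFinite.homOf_val, TMul.genLocus_tmulHom hHN hDi (t' ⟨p, hp⟩) χ, ht' ⟨p, hp⟩]
    exact ⟨hxp, hχ x fun h => hx ((support_divI Γ a).1 h)⟩
  · refine curveDeg_generic_pos hXd hH hDi χ (fun x hx => hχ x fun h => hx ?_) (Nat.succ_pos N)
    obtain ⟨i, hi⟩ := Set.mem_iUnion.1 ((support_divI Γ a).1 h)
    exact range_subset_specialFibre (Γ i) hi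
  · rintro ⟨e⟩
    by_contra hne
    push Not at hne
    haveI := E.isIntegral
    have hE : E.ι (genericPoint E.curve.left) ∉ ((divI Γ a).support : Set X.left) := fun h => by
      obtain ⟨i, hi⟩ := Set.mem_iUnion.1 ((support_divI Γ a).1 h)
      refine genPt_notMem (hne i) ?_
      rw [SetLike.mem_coe, ← SetLike.mem_coe, Scheme.Hom.support_ker]
      exact subset_closure hi
    have h1 := inter_eq_zero_of_trivial E e
    rw [hA, inter_tensor E hHN hDi, inter_pow E hH.1] at h1
    have h2 := (inter_nonneg E hI hE hD).1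
    have h3 : (0 : ℤ) < ((N + 1 : ℕ) : ℤ) * ArSurf.inter R X H E :=
      mul_pos (by exact_mod_cast Nat.succ_pos N) (inter_pos_of_isAmple E hH)
    omega
  · rintro ⟨i, hi⟩
    exact nonempty_pullback_iso_of_range E.ι hAi (homOf σ) fun z =>
      hσ (Set.mem_iUnion.2 ⟨i, hi.le ⟨z, rfl⟩⟩)
  · let W : X.left.Opens := CohB1.genLocus A (homOf σ) ⊓ CohB1.genLocus _ (homOf σ')
    refine ⟨W, fun x hx => ⟨hσ hx, hσ' hx⟩, ?_⟩
    obtain ⟨eA⟩ := nonempty_pullback_iso_of_range W.ι hAi (homOf σ) fun z => z.2.1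
    obtain ⟨eMA⟩ := nonempty_pullback_iso_of_range W.ι hMAi (homOf σ') fun z => z.2.2
    obtain ⟨p⟩ := TMul.nonempty_pullTensorIso W.ι M A
    exact ⟨(Scheme.Modules.restrictFunctorIsoPullback W.ι).app M ≪≫ (SecTwist.unitorR _).symm ≪≫
      PicGrp.tensorModIso (Iso.refl _) eA.symm ≪≫ p ≪≫ eMA⟩

omit hpic hinj hneg in
/-- The negative definiteness hypothesis in matrix form. -/
theorem negdef_interMat {L : Fin r → X.left.Modules} (hL : ∀ j, ClSub.IsInverseOf (L j) (ClSub.idealMod (Γ j).ι.ker))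
    (h : ∀ a : Fin r → ℤ, a ≠ 0 →
      (Finset.univ : Finset (Fin r × Fin r)).sum (fun p => a p.1 * a p.2 * ArSurf.inter R X (L p.2) (Γ p.1)) < 0) :
    ∀ a : Fin r → ℤ, a ≠ 0 → ∑ i, ∑ j, a i * a j * interMat Γ i j < 0 := fun a ha => by
  have h1 := h a ha
  rw [Fintype.sum_prod_type] at h1
  simp only [inter_eq_interMat hX Γ (hL _)] at h1
  exact h1

/-- Artin's contractibility criterion. -/
theorem exists_contraction_artin :
    ∃ (Y : Over (Spec (CommRingCat.of R))) (f : X ⟶ Y),
      IsIntegral Y.left ∧ (∀ q : Y.left, IsIntegrallyClosed (Y.left.presheaf.stalk q)) ∧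
      topologicalKrullDim Y.left = 2 ∧ Flat Y.hom ∧ Neron.IsProjectiveOver R Y ∧
      (∀ i, ∃ y : Y.left, Set.range (((Γ i).ι ≫ f.left).base : (Γ i).curve.left → Y.left) = {y}) ∧
      f.left.base ⁻¹' (f.left.base '' ⋃ i, Set.range (Γ i).ι.base) = ⋃ i, Set.range (Γ i).ι.base ∧
      ∀ V : Y.left.Opens, (V : Set Y.left) ∩ f.left.base '' (⋃ i, Set.range (Γ i).ι.base) = ∅ →
        IsIso (f.left ∣_ V) := by
  obtain ⟨hreg, hXi, hXd, hfl, -⟩ := id hX
  haveI := hXi
  haveI := hfl
  haveI := isProper_hom_of_isArithSurface hX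
  obtain ⟨A, hAi, hgg, hdeg, htriv, -⟩ := exists_artin_module hX Γ hpic hinj hneg TMul.isInvertible_structureModule
    fun i => inter_eq_zero_of_trivial (Γ i) (PicLoc.pullbackStructureIso (Γ i).ι)
  exact exists_contraction_gg hXd Γ hdeg htriv (fun x => by haveI := hreg x; exact RegLoc.isIntegrallyClosed) hAi hgg

end Groth.Agent.Castel
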