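import Groth.Agent.Castel.ProperArith
import Groth.Agent.Castel.FibreConn
import Groth.Agent.Castel.InterNeg

/-!
The intersection form of the closed fibre of a regular proper model.
-/

set_option autoImplicit false
set_option backward.isDefEq.respectTransparency false
set_option backward.isDefEq.respectTransparency.types false
set_option linter.style.haveILetI false

universe u

open CategoryTheory CategoryTheory.Limits AlgebraicGeometry TopologicalSpace

noncomputable section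

namespace Groth.Agent.Castel

variable {R : Type u} [CommRing R] [IsDomain R] [IsDiscreteValuationRing R] {X : Over (Spec (CommRingCat.of R))}

/-- A component list covers the closed fibre. -/
theorem componentList_cover {n : ℕ} {Γ : Fin n → ArSurf.VertComp R X} (hΓ : Models.IsComponentList R X Γ) :
    Models.specialFibreSet R X ⊆ ⋃ i, Set.range (Γ i).ι := fun x hx => by
  obtain ⟨Z, hZ, hxZ⟩ := exists_component x hx
  obtain ⟨i, rfl⟩ := hΓ.2.ge hZ
  exact Set.mem_iUnion.2 ⟨i, hxZ⟩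

/-- The intersection matrix of a connected closed fibre is connected. -/
theorem interMat_connected (hX : ArSurf.IsArithSurface R X)
    (hconn : _root_.IsConnected (Models.specialFibreSet R X)) {n : ℕ} {Γ : Fin n → ArSurf.VertComp R X}
    (hΓ : Models.IsComponentList R X Γ) (I : Finset (Fin n)) (hI : I.Nonempty) (hI' : I ≠ Finset.univ) :
    ∃ i ∈ I, ∃ j ∉ I, interMat Γ i j ≠ 0 := by
  by_contra! hall
  obtain ⟨-, hoff, -⟩ := interMat_facts hX Γ hΓ.1
  let U : Set X.left := ⋃ i ∈ (I : Set (Fin n)), Set.range (Γ i).ι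
  let V : Set X.left := ⋃ i ∈ (I : Set (Fin n))ᶜ, Set.range (Γ i).ι
  have hU : IsClosed U := Set.Finite.isClosed_biUnion (Set.toFinite _) fun j _ => (Γ j).ι.isClosedEmbedding.isClosed_range
  have hV : IsClosed V := Set.Finite.isClosed_biUnion (Set.toFinite _) fun j _ => (Γ j).ι.isClosedEmbedding.isClosed_range
  obtain ⟨i₀, hi₀⟩ := hI
  obtain ⟨j₀, hj₀⟩ : ∃ j, j ∉ I := by
    by_contra! h
    exact hI' (Finset.eq_univ_iff_forall.2 h)
  obtain ⟨z, -, hzU, hzV⟩ := isPreconnected_closed_iff.1 hconn.isPreconnected U V hU hV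
    (fun x hx => by
      obtain ⟨j, hj⟩ := Set.mem_iUnion.1 (componentList_cover hΓ hx)
      by_cases hj' : j ∈ I
      · exact Or.inl (Set.mem_iUnion₂.2 ⟨j, hj', hj⟩)
      · exact Or.inr (Set.mem_iUnion₂.2 ⟨j, hj', hj⟩))
    ⟨(Γ i₀).ι (genericPoint (Γ i₀).curve.left), range_subset_specialFibre (Γ i₀) ⟨_, rfl⟩,
      Set.mem_iUnion₂.2 ⟨i₀, hi₀, ⟨_, rfl⟩⟩⟩
    ⟨(Γ j₀).ι (genericPoint (Γ j₀).curve.left), range_subset_specialFibre (Γ j₀) ⟨_, rfl⟩,
      Set.mem_iUnion₂.2 ⟨j₀, hj₀, ⟨_, rfl⟩⟩⟩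
  obtain ⟨i, hi, hzi⟩ := Set.mem_iUnion₂.1 hzU
  obtain ⟨j, hj, hzj⟩ := Set.mem_iUnion₂.1 hzV
  exact Set.disjoint_left.1 ((hoff i j fun e => hj (e ▸ hi)).2.1 (hall i hi j hj)) hzi hzj

/-- The intersection form is negative semidefinite with kernel spanned by the closed fibre. -/
theorem interMat_form (hX : ArSurf.IsArithSurface R X) [IsProper X.hom]
    (hconn : _root_.IsConnected (Models.specialFibreSet R X)) {n : ℕ} {Γ : Fin n → ArSurf.VertComp R X}
    (hΓ : Models.IsComponentList R X Γ) {L : Fin n → X.left.Modules}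
    (hL : ∀ i, ClSub.IsInverseOf (L i) (ClSub.idealMod (Γ i).ι.ker)) (a : Fin n → ℤ) :
    (∑ i, ∑ j, a i * a j * interMat Γ i j) ≤ 0 ∧ ((∑ i, ∑ j, a i * a j * interMat Γ i j) = 0 ↔
      ∃ c : ℚ, ∀ i, (a i : ℚ) = c * (Models.mult R X (Γ i) : ℚ)) := by
  obtain ⟨hsym, hoff, J, -, hrow⟩ := interMat_facts hX Γ hΓ.1
  have hz : ∀ i, ∑ j, (Models.mult R X (Γ j) : ℤ) * interMat Γ i j = 0 := fun i => by
    rw [← sum_mult_inter_eq_zero hX Γ hΓ.1 (componentList_cover hΓ) L hL (Γ i)]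
    exact Finset.sum_congr rfl fun j _ => by rw [inter_eq_interMat hX Γ (hL j)]
  obtain ⟨hle, heq⟩ := quad_nonpos _ hsym (fun i j h => (hoff i j h).1) _ (fun i => (hrow i).1)
    (fun i => (hz i).le) a
  refine ⟨hle, fun h0 => ?_, fun ⟨c, hc⟩ => ?_⟩
  · obtain ⟨hprop, -⟩ := heq h0
    obtain ⟨x₀, hx₀⟩ := hconn.nonempty
    obtain ⟨i₀, -⟩ := Set.mem_iUnion.1 (componentList_cover hΓ hx₀)
    let d : Fin n → ℕ := fun i => Models.mult R X (Γ i)
    let I : Finset (Fin n) := Finset.univ.filter fun i => a i * (d i₀ : ℤ) = a i₀ * (d i : ℤ)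
    have hI : I = Finset.univ := by
      by_contra hne
      obtain ⟨i, hi, j, hj, hM⟩ := interMat_connected hX hconn hΓ I
        ⟨i₀, Finset.mem_filter.2 ⟨Finset.mem_univ _, rfl⟩⟩ hne
      refine hj (Finset.mem_filter.2 ⟨Finset.mem_univ _, ?_⟩)
      have h1 := hprop i j hM
      have h2 := (Finset.mem_filter.1 hi).2
      have hdi : (d i : ℤ) ≠ 0 := Nat.cast_ne_zero.2 (hrow i).1.ne'
      refine mul_right_cancel₀ hdi ?_
      linear_combination (d j : ℤ) * h2 - (d i₀ : ℤ) * h1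
    have hd0 : (d i₀ : ℚ) ≠ 0 := Nat.cast_ne_zero.2 (hrow i₀).1.ne'
    refine ⟨(a i₀ : ℚ) / (d i₀ : ℚ), fun i => ?_⟩
    have h3 : (a i : ℚ) * (d i₀ : ℚ) = (a i₀ : ℚ) * (d i : ℚ) := by
      exact_mod_cast (Finset.mem_filter.1 (hI.symm ▸ Finset.mem_univ i : i ∈ I)).2
    rw [div_mul_eq_mul_div, eq_div_iff hd0]
    exact h3
  · have h1 : ((∑ i, ∑ j, a i * a j * interMat Γ i j : ℤ) : ℚ) =
        ∑ i, c * c * (Models.mult R X (Γ i) : ℚ) * ((∑ j, (Models.mult R X (Γ j) : ℤ) * interMat Γ i j : ℤ) : ℚ) := by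
      push_cast
      refine Finset.sum_congr rfl fun i _ => ?_
      rw [Finset.mul_sum]
      exact Finset.sum_congr rfl fun j _ => by rw [hc i, hc j]; ring
    simp only [hz, Int.cast_zero, mul_zero, Finset.sum_const_zero] at h1
    exact_mod_cast h1

end Groth.Agent.Castel
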