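import Groth.Agent.Castel.EulerAdd
import Groth.Agent.Castel.ModelsInter

/-!
Euler characteristics of effective vertical divisors.
-/

set_option autoImplicit false
set_option backward.isDefEq.respectTransparency false
set_option backward.isDefEq.respectTransparency.types false
set_option linter.style.haveILetI false

universe u

open CategoryTheory CategoryTheory.Limits AlgebraicGeometry TopologicalSpace Opposite

noncomputable section

namespace Groth.Agent.Castel

variable {R : Type u} [CommRing R] [IsDomain R] [IsDiscreteValuationRing R] {X : Over (Spec (CommRingCat.of R))}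

/-- The ideal of the divisor `Σ aⱼ Γⱼ`. -/
def divI {n : ℕ} (Γ : Fin n → ArSurf.VertComp R X) (a : Fin n → ℕ) : X.left.IdealSheafData :=
  ∏ j, (Γ j).ι.ker ^ a j

theorem divI_add_single {n : ℕ} (Γ : Fin n → ArSurf.VertComp R X) (a : Fin n → ℕ) (i : Fin n) :
    divI Γ (fun j => a j + if j = i then 1 else 0) = (Γ i).ι.ker * divI Γ a := by
  simp only [divI, pow_add, Finset.prod_mul_distrib]
  rw [mul_comm]
  congr 1
  rw [Finset.prod_eq_single i (fun j _ hj => by rw [if_neg hj, pow_zero])
    (fun h => absurd (Finset.mem_univ i) h), if_pos rfl, pow_one]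

theorem cartier_divI (hX : ArSurf.IsArithSurface R X) {n : ℕ} (Γ : Fin n → ArSurf.VertComp R X) (a : Fin n → ℕ) :
    BlowUp.IsEffCartierIdeal (divI Γ a) := by
  haveI := isProper_hom_of_isArithSurface hX
  cases n with
  | zero => rw [divI, Finset.univ_eq_empty, Finset.prod_empty, Scheme.IdealSheafData.one_eq_top]; exact BlowUpLib.cartier_top
  | succ n => exact (degI_prod (Γ 0) Finset.univ (fun j => (Γ j).ι.ker ^ a j)
      fun j => DivPart.cartier_pow (isEffCartierIdeal_ker hX (Γ j)) _).1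

theorem degI_divI (hX : ArSurf.IsArithSurface R X) {n : ℕ} (Γ : Fin n → ArSurf.VertComp R X) (a : Fin n → ℕ)
    (i : Fin n) : degI (Γ i) (divI Γ a) = - ∑ j, (a j : ℤ) * interMat Γ i j := by
  haveI := isProper_hom_of_isArithSurface hX
  rw [divI, (degI_prod (Γ i) Finset.univ (fun j => (Γ j).ι.ker ^ a j)
    fun j => DivPart.cartier_pow (isEffCartierIdeal_ker hX (Γ j)) _).2, ← Finset.sum_neg_distrib]
  exact Finset.sum_congr rfl fun j _ => by rw [degI_pow (Γ i) (isEffCartierIdeal_ker hX (Γ j)), interMat]; ring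

/-- Adding one component. -/
theorem chiL_divI_succ (hX : ArSurf.IsArithSurface R X) {n : ℕ} (Γ : Fin n → ArSurf.VertComp R X) (a : Fin n → ℕ)
    (i : Fin n) (h : FinLen R X (ClSub.quotMod (divI Γ a))) :
    FinLen R X (ClSub.quotMod (divI Γ fun j => a j + if j = i then 1 else 0)) ∧
    chiL R X (ClSub.quotMod (divI Γ fun j => a j + if j = i then 1 else 0)) =
      chiL R X (ClSub.quotMod (divI Γ a)) - ∑ j, (a j : ℤ) * interMat Γ i j +
        ((Models.wdeg R X (Γ i) : ℤ) - Models.h1 R X (Γ i)) := by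
  haveI := isProper_hom_of_isArithSurface hX
  obtain ⟨h1, h2⟩ := finLen_and_chiL_mul (Γ i) (cartier_divI hX Γ a) (isEffCartierIdeal_ker hX (Γ i)) h
  rw [divI_add_single]
  refine ⟨h1, ?_⟩
  rw [h2, degI_divI hX]
  ring

/-- `χ(O_D)` for an effective vertical divisor `D`. -/
theorem chiL_divI (hX : ArSurf.IsArithSurface R X) {n : ℕ} (Γ : Fin n → ArSurf.VertComp R X)
    (hinj : Function.Injective fun i => Set.range (Γ i).ι) (a : Fin n → ℕ) :
    FinLen R X (ClSub.quotMod (divI Γ a)) ∧
    2 * chiL R X (ClSub.quotMod (divI Γ a)) = - ∑ i, ∑ j, (a i : ℤ) * a j * interMat Γ i j +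
      ∑ i, (a i : ℤ) * (2 * ((Models.wdeg R X (Γ i) : ℤ) - Models.h1 R X (Γ i)) + interMat Γ i i) := by
  classical
  haveI := isProper_hom_of_isArithSurface hX
  suffices key : ∀ N : ℕ, ∀ a : Fin n → ℕ, ∑ j, a j = N → FinLen R X (ClSub.quotMod (divI Γ a)) ∧
    2 * chiL R X (ClSub.quotMod (divI Γ a)) = - ∑ i, ∑ j, (a i : ℤ) * a j * interMat Γ i j +
      ∑ i, (a i : ℤ) * (2 * ((Models.wdeg R X (Γ i) : ℤ) - Models.h1 R X (Γ i)) + interMat Γ i i) from
    key _ a rfl
  intro N
  induction N with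
  | zero =>
    intro a ha
    have h0 : ∀ j, a j = 0 := fun j => (Finset.sum_eq_zero_iff.1 ha) j (Finset.mem_univ j)
    have ht : divI Γ a = ⊤ := by
      rw [divI, Finset.prod_eq_one fun j _ => by rw [h0 j, pow_zero], Scheme.IdealSheafData.one_eq_top]
    rw [ht]
    obtain ⟨h1, h2⟩ := finLen_and_chiL_top (X := X)
    refine ⟨h1, ?_⟩
    rw [h2]
    simp [h0]
  | succ N ih =>
    intro a ha
    obtain ⟨i, -, hi⟩ : ∃ i ∈ (Finset.univ : Finset (Fin n)), a i ≠ 0 :=
      Finset.exists_ne_zero_of_sum_ne_zero (by omega)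
    let b : Fin n → ℕ := Function.update a i (a i - 1)
    have hab : a = fun j => b j + if j = i then 1 else 0 := funext fun j => by
      by_cases hj : j = i
      · subst hj; simp [b]; omega
      · simp [b, hj]
    have hb : ∑ j, b j = N := by
      rw [hab, Finset.sum_add_distrib, Finset.sum_ite_eq' Finset.univ i, if_pos (Finset.mem_univ i)] at ha
      omega
    obtain ⟨hf, hchi⟩ := ih b hb
    obtain ⟨h1, h2⟩ := chiL_divI_succ hX Γ b i hf
    rw [hab]
    refine ⟨h1, ?_⟩
    rw [h2]
    have hsym := (interMat_facts hX Γ hinj).1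
    have hM : ∀ x, interMat Γ x i = interMat Γ i x := fun x => hsym x i
    let δ : Fin n → ℤ := fun j => if j = i then 1 else 0
    have e0 : ∀ j, (((b j + if j = i then 1 else 0 : ℕ)) : ℤ) = (b j : ℤ) + δ j := fun j => by
      push_cast
      simp [δ]
    have d1 : ∀ f : Fin n → ℤ, ∑ j, δ j * f j = f i := fun f => by simp [δ]
    simp only [e0]
    have e1 : ∑ x, ∑ y, ((b x : ℤ) + δ x) * ((b y : ℤ) + δ y) * interMat Γ x y =
        (∑ x, ∑ y, (b x : ℤ) * b y * interMat Γ x y) + 2 * (∑ y, (b y : ℤ) * interMat Γ i y) + interMat Γ i i := by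
      simp only [add_mul, mul_add, Finset.sum_add_distrib]
      have a1 : ∑ x, ∑ y, (b x : ℤ) * δ y * interMat Γ x y = ∑ y, (b y : ℤ) * interMat Γ i y :=
        Finset.sum_congr rfl fun x _ => by simp only [mul_comm (b x : ℤ) (δ _), mul_assoc]; rw [d1, hM]
      have a2 : ∑ x, ∑ y, δ x * (b y : ℤ) * interMat Γ x y = ∑ y, (b y : ℤ) * interMat Γ i y := by
        simp only [mul_assoc, ← Finset.mul_sum]
        exact d1 _
      have a3 : ∑ x, ∑ y, δ x * δ y * interMat Γ x y = interMat Γ i i := by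
        simp only [mul_assoc, ← Finset.mul_sum, d1]
      linarith
    have e2 : ∀ f : Fin n → ℤ, ∑ x, ((b x : ℤ) + δ x) * f x = ∑ x, (b x : ℤ) * f x + f i := fun f => by
      simp only [add_mul, Finset.sum_add_distrib, d1]
    rw [e1, e2]
    linarith

end Groth.Agent.Castel
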