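import Groth.Agent.Castel.InterNeg
import Groth.Agent.Castel.DivEuler
import Groth.Agent.Castel.ArithY
import Groth.Agent.Castel.NefMinimal
import Groth.Agent.CurveRR.Ample
import Groth.Agent.RelMinSmooth.Main
import Groth.Agent.DualGeneric.TwistH1

/-!
Positivity for Artin's contractibility criterion: the generic fibre of a surface is a curve, intersection numbers
with ample modules are positive, and a negative definite configuration carries a divisor with prescribed numbers.
-/

set_option autoImplicit false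
set_option backward.isDefEq.respectTransparency false
set_option backward.isDefEq.respectTransparency.types false
set_option linter.style.haveILetI false

universe u

open CategoryTheory CategoryTheory.Limits AlgebraicGeometry TopologicalSpace Opposite

noncomputable section

namespace Groth.Agent.Castel

/-- A negative definite matrix with nonnegative off-diagonal entries inverts negative vectors to positive ones. -/
theorem exists_negdef_solution {ι : Type} [Fintype ι] (N : ι → ι → ℤ) (hoff : ∀ i j, i ≠ j → 0 ≤ N i j)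
    (hneg : ∀ a : ι → ℤ, a ≠ 0 → ∑ i, ∑ j, a i * a j * N i j < 0) (h : ι → ℤ) (hh : ∀ i, 0 < h i) :
    ∃ (m : ℕ) (d : ι → ℕ), 1 ≤ m ∧ (∀ i, 1 ≤ d i) ∧ ∀ i, ∑ j, (d j : ℤ) * N i j = -((m : ℤ) * h i) := by
  classical
  let A : Matrix ι ι ℤ := Matrix.of N
  have hA : A.det ≠ 0 := fun h0 => by
    obtain ⟨v, hv, hv'⟩ := Matrix.exists_mulVec_eq_zero_iff.2 h0
    refine (hneg v hv).ne (Finset.sum_eq_zero fun i _ => ?_)
    have h1 : ∑ j, N i j * v j = 0 := congrFun hv' i
    calc ∑ j, v i * v j * N i j = v i * ∑ j, N i j * v j := by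
          rw [Finset.mul_sum]; exact Finset.sum_congr rfl fun j _ => by ring
      _ = 0 := by rw [h1, mul_zero]
  obtain ⟨m, hm, z, hz⟩ : ∃ m : ℕ, 1 ≤ m ∧ ∃ z : ι → ℤ, ∀ i, ∑ j, z j * N i j = -((m : ℤ) * h i) := by
    refine ⟨A.det.natAbs, Int.natAbs_pos.2 hA, fun j => -A.det.sign * (A.adjugate.mulVec h) j, fun i => ?_⟩
    have h1 : A.mulVec (A.adjugate.mulVec h) = A.det • h := by
      rw [Matrix.mulVec_mulVec, Matrix.mul_adjugate, Matrix.smul_mulVec, Matrix.one_mulVec]
    have h2 : ∑ j, N i j * (A.adjugate.mulVec h) j = A.det * h i := congrFun h1 i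
    rw [show (∑ j, -A.det.sign * (A.adjugate.mulVec h) j * N i j) =
        -A.det.sign * ∑ j, N i j * (A.adjugate.mulVec h) j by
      rw [Finset.mul_sum]; exact Finset.sum_congr rfl fun j _ => by ring]
    rw [h2, ← mul_assoc, neg_mul, Int.sign_mul_self_eq_natAbs]
    ring
  have hz0 : ∀ i, 0 ≤ z i := fun i => by
    by_contra hi
    push Not at hi
    let a : ι → ℤ := fun j => max (-z j) 0
    have ha : a ≠ 0 := fun h0 => by
      have : max (-z i) 0 = 0 := congrFun h0 i
      have := le_max_left (-z i) 0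
      omega
    have h1 : ∀ k, a k * ∑ j, z j * N k j = a k * (-((m : ℤ) * h k)) := fun k => by rw [hz k]
    have h2 : ∑ k, a k * ∑ j, z j * N k j ≤ 0 := Finset.sum_nonpos fun k _ => by
      rw [h1 k]
      exact mul_nonpos_of_nonneg_of_nonpos (le_max_right _ _)
        (neg_nonpos.2 (mul_nonneg (Int.natCast_nonneg m) (hh k).le))
    have h3 : 0 ≤ ∑ k, ∑ j, a k * (z j + a j) * N k j := Finset.sum_nonneg fun k _ => Finset.sum_nonneg fun j _ => by
      rcases eq_or_ne k j with rfl | hkj
      · have : a k * (z k + a k) = 0 := by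
          rcases le_total 0 (z k) with hk | hk
          · simp [a, max_eq_right (neg_nonpos.2 hk)]
          · simp [a, max_eq_left (neg_nonneg.2 hk)]
        rw [this, zero_mul]
      · exact mul_nonneg (mul_nonneg (le_max_right _ _) (by
          have := le_max_left (-z j) 0
          show (0 : ℤ) ≤ z j + max (-z j) 0
          omega)) (hoff k j hkj)
    have h4 : ∑ k, ∑ j, a k * (z j + a j) * N k j = (∑ k, a k * ∑ j, z j * N k j) + ∑ k, ∑ j, a k * a j * N k j := by
      rw [← Finset.sum_add_distrib]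
      refine Finset.sum_congr rfl fun k _ => ?_
      rw [Finset.mul_sum, ← Finset.sum_add_distrib]
      exact Finset.sum_congr rfl fun j _ => by ring
    have h5 := hneg a ha
    omega
  refine ⟨m, fun i => (z i).toNat, hm, fun i => ?_, fun i => ?_⟩
  · by_contra hi
    have hi' : ¬ 1 ≤ (z i).toNat := hi
    have hzi : z i = 0 := by have := hz0 i; omega
    have h1 : 0 ≤ ∑ j, z j * N i j := Finset.sum_nonneg fun j _ => by
      rcases eq_or_ne i j with rfl | hij
      · rw [hzi, zero_mul]
      · exact mul_nonneg (hz0 j) (hoff i j hij)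
    rw [hz i] at h1
    have : (0 : ℤ) < m * h i := mul_pos (by exact_mod_cast hm) (hh i)
    omega
  · rw [← hz i]
    exact Finset.sum_congr rfl fun j _ => by rw [Int.toNat_of_nonneg (hz0 j)]

variable {R : Type u} [CommRing R] [IsDomain R] [IsDiscreteValuationRing R] {X : Over (Spec (CommRingCat.of R))}

/-- The generic point of an integral flat scheme is in the generic fibre. -/
theorem genericPoint_notMem_special [IsIntegral X.left] [Flat X.hom] :
    genericPoint X.left ∉ Models.specialFibreSet R X := fun e => by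
  obtain ⟨w, hw, hw'⟩ := Flat.generalizingMap X.hom (a := genericPoint X.left)
    ((PrimeSpectrum.le_iff_specializes (⟨⊥, Ideal.isPrime_bot⟩ : PrimeSpectrum R) (X.hom (genericPoint X.left))).mp
      bot_le)
  rw [(hw.antisymm ((genericPoint_spec X.left).specializes trivial)).eq,
    show X.hom (genericPoint X.left) = IsLocalRing.closedPoint R from e] at hw'
  exact IsDiscreteValuationRing.not_a_field R (congrArg PrimeSpectrum.asIdeal hw')

/-- The generic fibre of a surface is not just the generic point. -/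
theorem exists_point_generic_fibre [IsIntegral X.left] [Flat X.hom] [IsProper X.hom]
    (hdim : topologicalKrullDim X.left = 2) :
    ∃ t : X.left, t ∉ Models.specialFibreSet R X ∧ t ≠ genericPoint X.left := by
  classical
  haveI : IsLocallyNoetherian X.left := LocallyOfFiniteType.isLocallyNoetherian X.hom
  obtain ⟨c, hc⟩ := Unibranch.exists_chain_of_le_topologicalKrullDim (α := X.left) (k := 2) hdim.ge
  have h01 := hc 0
  have h12 := hc 1
  have hne : c 1 ≠ genericPoint X.left := fun e => h01.2 ((h01.1.antisymm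
    (show c 1 ⤳ c 0 from e.symm ▸ genericPoint_specializes _)).eq)
  by_cases hb : c 1 ∈ Models.specialFibreSet R X
  swap
  · exact ⟨c 1, hb, hne⟩
  obtain ⟨p, hp⟩ : c 1 ∈ Set.range (X.left.fromSpecStalk (c 2)) := by
    rw [Scheme.range_fromSpecStalk]; exact h12.1
  let A := X.left.presheaf.stalk (c 2)
  let ψ := Spec.preimage (X.left.fromSpecStalk (c 2) ≫ X.hom)
  have hψ : ∀ q : PrimeSpectrum A, X.hom (X.left.fromSpecStalk (c 2) q) = PrimeSpectrum.comap ψ.hom q := fun q => by
    rw [← Scheme.Hom.comp_apply, ← Spec.map_preimage (X.left.fromSpecStalk (c 2) ≫ X.hom)]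
    rfl
  obtain ⟨ϖ, hϖ⟩ := IsDiscreteValuationRing.exists_irreducible R
  have hspec : ∀ q : PrimeSpectrum A,
      X.left.fromSpecStalk (c 2) q ∈ Models.specialFibreSet R X → ψ.hom ϖ ∈ q.asIdeal := fun q hq => by
    have h1 : PrimeSpectrum.comap ψ.hom q = IsLocalRing.closedPoint R := (hψ q).symm.trans hq
    have h2 : ϖ ∈ (IsLocalRing.closedPoint R).asIdeal := (IsLocalRing.mem_maximalIdeal _).2 hϖ.not_isUnit
    rw [← h1] at h2
    exact h2
  let q₀ : PrimeSpectrum A := ⟨⊥, Ideal.isPrime_bot⟩
  have hq₀ : X.left.fromSpecStalk (c 2) q₀ = genericPoint X.left := by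
    obtain ⟨q, hq⟩ : genericPoint X.left ∈ Set.range (X.left.fromSpecStalk (c 2)) := by
      rw [Scheme.range_fromSpecStalk]; exact genericPoint_specializes _
    exact ((((PrimeSpectrum.le_iff_specializes q₀ q).1 bot_le).map (X.left.fromSpecStalk (c 2)).continuous).trans
      (specializes_of_eq hq)).antisymm (genericPoint_specializes _) |>.eq
  have hclosed : X.left.fromSpecStalk (c 2) (IsLocalRing.closedPoint A) = c 2 := Scheme.fromSpecStalk_closedPoint
  have hπp : ψ.hom ϖ ∈ p.asIdeal := hspec p (hp.symm ▸ hb)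
  have hπ0 : ψ.hom ϖ ≠ 0 := fun h0 => by
    refine genericPoint_notMem_special (R := R) (X := X) (hq₀ ▸ (?_ : _ = IsLocalRing.closedPoint R))
    rw [hψ]
    refine PrimeSpectrum.ext ?_
    show Ideal.comap ψ.hom ⊥ = IsLocalRing.maximalIdeal R
    refine ((IsLocalRing.maximalIdeal.isMaximal R).eq_of_le (Ideal.IsPrime.ne_top inferInstance) ?_).symm
    rw [hϖ.maximalIdeal_eq, Ideal.span_singleton_le_iff_mem, Ideal.mem_comap, h0]
    exact Ideal.zero_mem _
  have hpm : p.asIdeal ≠ IsLocalRing.maximalIdeal A := fun e => h12.2 (by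
    show c 1 = c 2
    rw [← hclosed, ← hp]
    exact congrArg _ (PrimeSpectrum.ext e))
  obtain ⟨a, ha, ha'⟩ : ∃ a ∈ IsLocalRing.maximalIdeal A,
      ∀ q ∈ (Ideal.span {ψ.hom ϖ}).minimalPrimes, a ∉ q := by
    by_contra! hall
    have hsub : ((IsLocalRing.maximalIdeal A : Ideal A) : Set A) ⊆
        ⋃ q ∈ ((Ideal.finite_minimalPrimes_of_isNoetherianRing A (Ideal.span {ψ.hom ϖ})).toFinset : Set (Ideal A)),
          (q : Set A) := fun a ha => by
      obtain ⟨q, hq, haq⟩ := hall a ha
      exact Set.mem_iUnion₂.2 ⟨q, by simpa using hq, haq⟩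
    obtain ⟨q, hq, hle⟩ := (Ideal.subset_union_prime ⊤ ⊤ fun q hq _ _ =>
      ((Set.Finite.mem_toFinset _).1 hq).1.1).1 hsub
    have hq' := (Set.Finite.mem_toFinset _).1 hq
    have hqm : q = IsLocalRing.maximalIdeal A :=
      ((IsLocalRing.maximalIdeal.isMaximal A).eq_of_le hq'.1.1.ne_top hle).symm
    refine hpm (le_antisymm (IsLocalRing.le_maximalIdeal p.isPrime.ne_top) (hqm ▸ ?_))
    exact hq'.2 ⟨p.isPrime, (Ideal.span_singleton_le_iff_mem _).2 hπp⟩
      (hqm ▸ IsLocalRing.le_maximalIdeal p.isPrime.ne_top)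
  obtain ⟨P, hP, -⟩ := Ideal.exists_minimalPrimes_le (I := Ideal.span {a})
    (J := IsLocalRing.maximalIdeal A) ((Ideal.span_singleton_le_iff_mem _).2 ha)
  haveI := hP.1.1
  have haP : a ∈ P := hP.1.2 (Ideal.mem_span_singleton_self a)
  have hP0 : P ≠ ⊥ := fun e => by
    obtain ⟨q, hq, -⟩ := Ideal.exists_minimalPrimes_le (I := Ideal.span {ψ.hom ϖ}) (J := p.asIdeal)
      ((Ideal.span_singleton_le_iff_mem _).2 hπp)
    rw [e, Ideal.mem_bot] at haP
    exact ha' q hq (haP ▸ q.zero_mem)
  have hπP : ψ.hom ϖ ∉ P := fun hmem => by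
    obtain ⟨q, hq, hqP⟩ := Ideal.exists_minimalPrimes_le (I := Ideal.span {ψ.hom ϖ}) (J := P)
      ((Ideal.span_singleton_le_iff_mem _).2 hmem)
    haveI := hq.1.1
    have hlt : q < P := hqP.lt_of_ne fun e => ha' q hq (e ▸ haP)
    have hbot : (⊥ : Ideal A) < q := bot_lt_iff_ne_bot.2 fun e => hπ0 (by
      have := hq.1.2 (Ideal.mem_span_singleton_self (ψ.hom ϖ))
      rwa [e, Ideal.mem_bot] at this)
    have h1 : P.height ≤ 1 := by
      haveI : (Ideal.span {a}).IsPrincipal := ⟨⟨a, rfl⟩⟩
      exact Ideal.height_le_one_of_isPrincipal_of_mem_minimalPrimes (Ideal.span {a}) P hP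
    have h2 : (1 : ℕ∞) ≤ q.height :=
      le_trans le_add_self (Ideal.height_add_one_le_of_lt_of_isPrime hbot)
    have h3 : q.height + 1 ≤ P.height := Ideal.height_add_one_le_of_lt_of_isPrime hlt
    have h4 : (1 : ℕ∞) + 1 ≤ 1 := (add_le_add h2 le_rfl).trans (h3.trans h1)
    norm_num at h4
  refine ⟨X.left.fromSpecStalk (c 2) ⟨P, hP.1.1⟩, fun h => hπP (hspec _ h), fun e => hP0 ?_⟩
  exact congrArg PrimeSpectrum.asIdeal
    ((X.left.fromSpecStalk (c 2)).isEmbedding.injective (e.trans hq₀.symm))

/-- Intersection numbers are additive in the module. -/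
theorem inter_tensor [IsProper X.hom] (Γ : ArSurf.VertComp R X) {L M : X.left.Modules} (hL : PicF.IsInvertible L)
    (hM : PicF.IsInvertible M) :
    ArSurf.inter R X (CohB1.tensorMod L M) Γ = ArSurf.inter R X L Γ + ArSurf.inter R X M Γ := by
  haveI : IsProper (Γ.curve.left ↘ Spec (CommRingCat.of (IsLocalRing.ResidueField R))) := isProper_curve Γ
  obtain ⟨p⟩ := TMul.nonempty_pullTensorIso Γ.ι L M
  rw [inter_eq_deg, inter_eq_deg, inter_eq_deg, ← CurveRR.deg_tensor_inv (k := IsLocalRing.ResidueField R)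
    Γ.dim_eq.le (PicLoc.isInvertible_pullback Γ.ι hL) (PicLoc.isInvertible_pullback Γ.ι hM), Curv2.deg, Curv2.deg,
    CurveRR.euler_eq_of_iso p]

/-- Intersection numbers of isomorphic modules agree. -/
theorem inter_congr [IsProper X.hom] (Γ : ArSurf.VertComp R X) {L M : X.left.Modules} (e : L ≅ M) :
    ArSurf.inter R X L Γ = ArSurf.inter R X M Γ := by
  haveI : IsProper (Γ.curve.left ↘ Spec (CommRingCat.of (IsLocalRing.ResidueField R))) := isProper_curve Γ
  rw [inter_eq_deg, inter_eq_deg, Curv2.deg, Curv2.deg,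
    CurveRR.euler_eq_of_iso ((Scheme.Modules.pullback Γ.ι).mapIso e)]

/-- Intersection numbers of powers. -/
theorem inter_pow [IsProper X.hom] (Γ : ArSurf.VertComp R X) {L : X.left.Modules} (hL : PicF.IsInvertible L) :
    ∀ n : ℕ, ArSurf.inter R X (CohB1.tensorPow L n) Γ = (n : ℤ) * ArSurf.inter R X L Γ
  | 0 => by
    haveI : IsProper (Γ.curve.left ↘ Spec (CommRingCat.of (IsLocalRing.ResidueField R))) := isProper_curve Γ
    rw [inter_eq_deg, Curv2.deg,
      CurveRR.euler_eq_of_iso (show (Scheme.Modules.pullback Γ.ι).obj (CohB1.tensorPow L 0) ≅ _ from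
        PicLoc.pullbackStructureIso Γ.ι), Nat.cast_zero, zero_mul]
    exact CurveRR.deg_structure (k := IsLocalRing.ResidueField R) (X := Γ.curve.left)
  | n + 1 => by
    rw [inter_congr Γ (show CohB1.tensorPow L (n + 1) ≅ CohB1.tensorMod (CohB1.tensorPow L n) L from Iso.refl _),
      inter_tensor Γ (TMul.isInvertible_tensorPow hL n) hL, inter_pow Γ hL n]
    push_cast
    ring

/-- An ample module is positive on vertical curves. -/
theorem inter_pos_of_isAmple [IsProper X.hom] (Γ : ArSurf.VertComp R X) {H : X.left.Modules}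
    (hH : CohB1.IsAmple H) : 0 < ArSurf.inter R X H Γ := by
  haveI : IsProper (Γ.curve.left ↘ Spec (CommRingCat.of (IsLocalRing.ResidueField R))) := isProper_curve Γ
  haveI := Γ.isIntegral
  rw [inter_eq_deg]
  exact CurveRR.deg_pos_of_isAmple Γ.dim_eq (TMul.isAmple_pullback_of_isAffineHom Γ.ι hH)

/-- The degree on the generic fibre of a twist of an ample module by a vertical divisor is positive. -/
theorem curveDeg_generic_pos [IsIntegral X.left] [Flat X.hom] [IsProper X.hom]
    (hdim : topologicalKrullDim X.left = 2) {H M : X.left.Modules} (hH : CohB1.IsAmple H)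
    (hM : PicF.IsInvertible M) (χ : Coh.structureModule X.left ⟶ M)
    (hχ : ∀ x : X.left, x ∉ Models.specialFibreSet R X → x ∈ CohB1.genLocus M χ) {n : ℕ} (hn : 0 < n) :
    0 < ArSurf.curveDeg (FractionRing R) ((Neron.genericFibre R).obj X).left
      ((Scheme.Modules.pullback (pullback.fst X.hom (Neron.genPt R))).obj
        (CohB1.tensorMod (CohB1.tensorPow H n) M)) := by
  haveI := isOpenImmersion_genPt (R := R)
  let C := ((Neron.genericFibre R).obj X).left
  let f : C ⟶ Spec (CommRingCat.of (FractionRing R)) := ((Neron.genericFibre R).obj X).hom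
  let g : C ⟶ X.left := pullback.fst X.hom (Neron.genPt R)
  have hgpb : IsPullback g f X.hom (Neron.genPt R) := IsPullback.of_hasPullback X.hom (Neron.genPt R)
  haveI : IsOpenImmersion g := MorphismProperty.of_isPullback (P := @IsOpenImmersion) hgpb.flip inferInstance
  haveI : IsAffineHom (Neron.genPt R) := inferInstanceAs (IsAffineHom (Spec.map _))
  haveI : IsAffineHom g := MorphismProperty.of_isPullback (P := @IsAffineHom) hgpb.flip inferInstance
  haveI hfp : IsProper f := MorphismProperty.of_isPullback (P := @IsProper) hgpb inferInstance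
  letI : C.Over (Spec (CommRingCat.of (FractionRing R))) := ⟨f⟩
  haveI : IsProper (C ↘ Spec (CommRingCat.of (FractionRing R))) := hfp
  have hrange : ∀ x : X.left, x ∈ Set.range g ↔ x ∉ Models.specialFibreSet R X := fun x => by
    show x ∈ Set.range (pullback.fst X.hom (Neron.genPt R)) ↔ _
    rw [Scheme.Pullback.range_fst, RelMinSmooth.range_genPt, Set.mem_preimage, Set.mem_singleton_iff]
    refine ⟨fun h h' => IsDiscreteValuationRing.not_a_field R
      ((congrArg PrimeSpectrum.asIdeal (h.symm.trans h')).symm), fun h => PrimeSpectrum.ext ?_⟩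
    by_contra hne
    haveI : (X.hom x).asIdeal.IsMaximal := Ideal.IsPrime.isMaximal (X.hom x).isPrime hne
    exact h (PrimeSpectrum.ext (IsLocalRing.eq_maximalIdeal inferInstance))
  obtain ⟨t, ht, htne⟩ := exists_point_generic_fibre hdim
  obtain ⟨t', rfl⟩ := (hrange t).2 ht
  haveI : Nonempty C := ⟨t'⟩
  haveI : IsIntegral C := isIntegral_of_isOpenImmersion g
  have hCdim : topologicalKrullDim C = 1 := by
    refine le_antisymm (show topologicalKrullDim C ≤ ((1 : ℕ) : WithBot ℕ∞) from
      Unibranch.topologicalKrullDim_le_natCast fun l c hc => ?_) ?_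
    · obtain ⟨w, hw, hw'⟩ := X.hom.isClosedMap.specializingMap (a := g (c (Fin.last l)))
        (b := IsLocalRing.closedPoint R) (IsLocalRing.specializes_closedPoint _)
      have hne : g (c (Fin.last l)) ≠ w := fun e => (hrange _).1 ⟨_, rfl⟩ (e.symm ▸ hw')
      have h := (Unibranch.natCast_le_topologicalKrullDim (α := X.left) (k := l + 1)
        (Fin.snoc (fun i => g (c i)) w) fun i => by
          refine Fin.lastCases ?_ (fun j => ?_) i
          · simp only [Fin.succ_last, Fin.snoc_last, Fin.snoc_castSucc]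
            exact ⟨hw, hne⟩
          · simp only [← Fin.castSucc_succ, Fin.snoc_castSucc]
            exact ⟨(hc j).1.map g.isEmbedding.continuous,
              fun e => (hc j).2 (g.isEmbedding.injective e)⟩).trans hdim.le
      have h' : ((l + 1 : ℕ) : WithBot ℕ∞) ≤ ((2 : ℕ) : WithBot ℕ∞) := h
      have := CartierDim.natCast_le_withBot.mp h'
      omega
    · exact Unibranch.natCast_le_topologicalKrullDim (α := C) (k := 1) ![genericPoint C, t'] fun i => by
        fin_cases i
        exact ⟨genericPoint_specializes _, fun (e : genericPoint C = t') =>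
          htne ((congrArg g e.symm).trans (genericPoint_eq_of_isOpenImmersion g))⟩
  let u : Coh.structureModule C ⟶ (Scheme.Modules.pullback g).obj M :=
    (PicLoc.pullbackStructureIso g).inv ≫ (Scheme.Modules.pullback g).map χ
  have hu : CohB1.genLocus _ u = ⊤ := top_le_iff.1 fun z _ =>
    (SetLike.ext_iff.1 (TMul.genLocus_pullback g hM χ (PicLoc.pullbackStructureIso g).symm) z).2
      (hχ _ ((hrange _).1 ⟨z, rfl⟩))
  obtain ⟨eu⟩ := Groth.Agent.DualGeneric.nonempty_iso_of_genLocus_eq_top u hu
  obtain ⟨p⟩ := TMul.nonempty_pullTensorIso g (CohB1.tensorPow H n) M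
  obtain ⟨a⟩ := TMul.nonempty_pullPowIso g H n
  let e : (Scheme.Modules.pullback g).obj (CohB1.tensorMod (CohB1.tensorPow H n) M) ≅
      CohB1.tensorPow ((Scheme.Modules.pullback g).obj H) n :=
    p.symm ≪≫ PicGrp.tensorModIso a.symm eu ≪≫ SecTwist.unitorR _
  have hamp : CohB1.IsAmple ((Scheme.Modules.pullback g).obj (CohB1.tensorMod (CohB1.tensorPow H n) M)) :=
    TMul.isAmple_congr e.symm (TMul.isAmple_tensorPow (TMul.isAmple_pullback_of_isAffineHom g hH) hn)
  have hpos := CurveRR.deg_pos_of_isAmple (k := FractionRing R) hCdim hamp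
  rw [Curv2.deg, CurveRR.euler_eq (k := FractionRing R) hCdim.le,
    CurveRR.euler_eq (k := FractionRing R) hCdim.le] at hpos
  simp only [ArSurf.curveDeg, FGA.eulerCharLE, Finset.sum_range_succ, Finset.sum_range_zero,
    zero_add, pow_zero, one_mul, pow_one]
  simp only [CurveRR.h, Nat.cast_one, one_mul] at hpos
  push_cast at hpos ⊢
  linarith

end Groth.Agent.Castel
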