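import Groth.Agent.Castel.ThickGG
import Groth.Agent.CurveDiv.Basic

/-!
Two sections without common zero over a local base with infinite residue field.
-/

set_option autoImplicit false
set_option backward.isDefEq.respectTransparency false
set_option backward.isDefEq.respectTransparency.types false
set_option linter.style.haveILetI false

universe u

open CategoryTheory CategoryTheory.Limits AlgebraicGeometry TopologicalSpace Opposite
open Groth.Agent.QC (res resO resO_resO resO_self app_res res_smul res_self res_res)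
open TMul (IsGen homOf val_homOf)

noncomputable section

namespace Groth.Agent.Castel

variable {R : Type u} [CommRing R] [IsLocalRing R] {Z : Scheme.{u}}

/-- A section nonvanishing at finitely many points, given one at each point. -/
theorem exists_avoid_points [Infinite (IsLocalRing.ResidueField R)] (q : Z ⟶ Spec (CommRingCat.of R))
    {L : Z.Modules} (hL : PicF.IsInvertible L) (S : Finset Z)
    (h : ∀ z ∈ S, ∃ t : Γ(L, ⊤), z ∈ CohB1.genLocus L (homOf t)) :
    ∃ t : Γ(L, ⊤), ∀ z ∈ S, z ∈ CohB1.genLocus L (homOf t) := by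
  classical
  induction S using Finset.induction_on with
  | empty => exact ⟨0, by simp⟩
  | @insert z S _ ih =>
    obtain ⟨t, ht⟩ := ih fun w hw => h w (Finset.mem_insert_of_mem hw)
    obtain ⟨s, hs⟩ := h z (Finset.mem_insert_self _ _)
    by_cases hz : z ∈ CohB1.genLocus L (homOf t)
    · exact ⟨t, fun w hw => (Finset.mem_insert.1 hw).elim (fun e => e ▸ hz) (ht w)⟩
    let P : Z → R → Prop := fun w r =>
      w ∈ CohB1.genLocus L (homOf (t + (show Γ(Z, ⊤) from Coh.toGlobal q r) • s))
    have key : ∀ w : Z, (w ∈ CohB1.genLocus L (homOf t) ∨ w ∈ CohB1.genLocus L (homOf s)) →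
        ∀ r r' : R, ¬ P w r → ¬ P w r' →
          IsLocalRing.residue R r = IsLocalRing.residue R r' := by
      intro w hw r r' hr hr'
      by_contra hne
      have hu : IsUnit (r - r') := by
        rw [← IsLocalRing.notMem_maximalIdeal, ← IsLocalRing.residue_eq_zero_iff, map_sub, sub_eq_zero]
        exact hne
      obtain ⟨D, g, hwD, hg⟩ := TMul.exists_isGen hL w
      obtain ⟨a, ha⟩ := (hg D le_rfl).2 (res L le_top t)
      obtain ⟨b, hb⟩ := (hg D le_rfl).2 (res L le_top s)
      simp only [res_self] at ha hb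
      have hcomb : ∀ r : R, res L (le_top : D ≤ ⊤) (t + (show Γ(Z, ⊤) from Coh.toGlobal q r) • s) =
          (a + resO Z le_top (Coh.toGlobal q r) * b) • g := fun r => by
        rw [map_add, res_smul, ← ha, ← hb, add_smul, mul_smul]
      have hu' : ∀ r, ¬ P w r → ¬ IsUnit (Z.presheaf.germ D w hwD (a + resO Z le_top (Coh.toGlobal q r) * b)) :=
        fun r hr hu => hr ((TMul.mem_genLocus_iff_isUnit (homOf _) hg
          (c := a + resO Z le_top (Coh.toGlobal q r) * b) (by rw [val_homOf]; exact hcomb r) hwD).2 hu)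
      have h1 := hu' r hr
      have h2 := hu' r' hr'
      rw [map_add, map_mul] at h1 h2
      set G := fun r => Z.presheaf.germ D w hwD (resO Z le_top (Coh.toGlobal q r)) with hG
      have hGu : IsUnit (G r - G r') := by
        have := hu.map ((Z.presheaf.germ D w hwD).hom.comp ((resO Z (le_top : D ≤ ⊤)).comp (Coh.toGlobal q)))
        rw [map_sub] at this
        exact this
      set α := Z.presheaf.germ D w hwD a
      set β := Z.presheaf.germ D w hwD b
      change α + G r * β ∈ nonunits _ at h1
      change α + G r' * β ∈ nonunits _ at h2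
      rw [← IsLocalRing.mem_maximalIdeal] at h1 h2
      have h3 : (G r - G r') * β ∈ IsLocalRing.maximalIdeal _ := by
        have := Ideal.sub_mem _ h1 h2
        convert this using 1; ring
      have hβ : β ∈ IsLocalRing.maximalIdeal _ := (Ideal.unit_mul_mem_iff_mem _ hGu).1 h3
      have hα : α ∈ IsLocalRing.maximalIdeal _ := by
        have := Ideal.sub_mem _ h1 (Ideal.mul_mem_left _ (G r) hβ)
        simpa using this
      rcases hw with h' | h'
      · exact hα ((TMul.mem_genLocus_iff_isUnit (homOf t) hg (c := a) (by rw [val_homOf]; exact ha.symm) hwD).1 h')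
      · exact hβ ((TMul.mem_genLocus_iff_isUnit (homOf s) hg (c := b) (by rw [val_homOf]; exact hb.symm) hwD).1 h')
    -- choose a residue class outside the finitely many bad ones
    let bad : Set (IsLocalRing.ResidueField R) :=
      ⋃ w ∈ (insert z S : Finset Z), IsLocalRing.residue R '' {r | ¬ P w r}
    have hfin : bad.Finite := Set.Finite.biUnion (Finset.finite_toSet _) fun w hw => by
      refine Set.Subsingleton.finite ?_
      rintro _ ⟨r, hr, rfl⟩ _ ⟨r', hr', rfl⟩
      rcases Finset.mem_insert.1 hw with h' | h'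
      · exact key w (Or.inr (h'.symm ▸ hs)) r r' hr hr'
      · exact key w (Or.inl (ht w h')) r r' hr hr'
    obtain ⟨c, hc⟩ := hfin.exists_notMem
    obtain ⟨r, rfl⟩ := IsLocalRing.residue_surjective c
    refine ⟨t + (show Γ(Z, ⊤) from Coh.toGlobal q r) • s, fun w hw => ?_⟩
    by_contra hP
    exact hc (Set.mem_biUnion hw ⟨r, hP, rfl⟩)

/-- Two sections without common zero, if one nonvanishing at given points leaves only finitely many zeros. -/
theorem exists_two_sections_gen [Infinite (IsLocalRing.ResidueField R)] [IsNoetherian Z]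
    (q : Z ⟶ Spec (CommRingCat.of R))
    {L : Z.Modules} (hL : PicF.IsInvertible L) (hgg : ∀ z : Z, ∃ t : Γ(L, ⊤), z ∈ CohB1.genLocus L (homOf t))
    (S : Finset Z) (hS : ∀ O : Z.Opens, (∀ z ∈ S, z ∈ O) → ∀ w, w ∉ O → IsClosed ({w} : Set Z)) :
    ∃ σ : Fin 2 → Γ(L, ⊤), ∀ x, x ∈ CohB1.genLocus L (homOf (σ 0)) ∨ x ∈ CohB1.genLocus L (homOf (σ 1)) := by
  obtain ⟨t, ht⟩ := exists_avoid_points q hL S fun z _ => hgg z
  have hfin : {z : Z | z ∈ (⊤ : Z.Opens) ∧ z ∉ CohB1.genLocus L (homOf t)}.Finite :=
    CurveDiv.finite_of_forall_isClosed ⊤ _ fun z _ hz => hS _ ht z hz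
  obtain ⟨s, hs⟩ := exists_avoid_points q hL hfin.toFinset fun z _ => hgg z
  refine ⟨![t, s], fun x => ?_⟩
  by_cases hx : x ∈ CohB1.genLocus L (homOf t)
  · exact Or.inl hx
  · exact Or.inr (hs x (hfin.mem_toFinset.2 ⟨trivial, hx⟩))

end Groth.Agent.Castel
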