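import Groth.Agent.Castel.Inter
import Groth.Agent.Castel.PicDescent
import Groth.Agent.CurveRR.Tensor
import Groth.Agent.DivPart.Sum
import Groth.Agent.DivPart.Basic
import Groth.Agent.SepReg.Scheme

/-!
The closed fibre of an arithmetic surface as a divisor, and its orthogonality to vertical divisors.
-/

set_option autoImplicit false
set_option backward.isDefEq.respectTransparency false
set_option backward.isDefEq.respectTransparency.types false
set_option linter.style.haveILetI false

universe u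

open CategoryTheory CategoryTheory.Limits AlgebraicGeometry TopologicalSpace Opposite
open Groth.Agent.DivPart (stI pr)

noncomputable section

namespace Groth.Agent.Castel

variable {R : Type u} [CommRing R] [IsDomain R] [IsDiscreteValuationRing R] {X : Over (Spec (CommRingCat.of R))}

/-- The degree of an ideal sheaf on a vertical prime divisor. -/
def degI (Γ : ArSurf.VertComp R X) (I : X.left.IdealSheafData) : ℤ :=
  Curv2.deg (IsLocalRing.ResidueField R) Γ.curve.left ((Scheme.Modules.pullback Γ.ι).obj (ClSub.idealMod I)) 1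

/-- Intersection numbers are degrees. -/
theorem inter_eq_deg [IsProper X.hom] (Γ : ArSurf.VertComp R X) (L : X.left.Modules) :
    ArSurf.inter R X L Γ = Curv2.deg (IsLocalRing.ResidueField R) Γ.curve.left ((Scheme.Modules.pullback Γ.ι).obj L) 1 := by
  haveI : IsProper (Γ.curve.left ↘ Spec (CommRingCat.of (IsLocalRing.ResidueField R))) := isProper_curve Γ
  rw [Curv2.deg, CurveRR.euler_eq Γ.dim_eq.le, CurveRR.euler_eq Γ.dim_eq.le]
  simp only [ArSurf.inter, ArSurf.curveDeg, FGA.eulerCharLE, CurveRR.h, Finset.sum_range_succ, Finset.sum_range_zero,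
    zero_add, pow_zero, one_mul, pow_one]
  push_cast
  ring

theorem inter_eq_neg_degI [IsProper X.hom] (Γ : ArSurf.VertComp R X) {I : X.left.IdealSheafData}
    (hI : BlowUp.IsEffCartierIdeal I) {L : X.left.Modules} (hL : ClSub.IsInverseOf L (ClSub.idealMod I)) :
    ArSurf.inter R X L Γ = - degI Γ I := by
  haveI : IsProper (Γ.curve.left ↘ Spec (CommRingCat.of (IsLocalRing.ResidueField R))) := isProper_curve Γ
  have hIi := (Groth.Agent.S8914.result _).2 hI
  have hLi := isInvertible_of_isInverseOf hIi hL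
  obtain ⟨q⟩ := hL
  obtain ⟨p⟩ := TMul.nonempty_pullTensorIso Γ.ι L (ClSub.idealMod I)
  have h := CurveRR.deg_tensor_inv (k := IsLocalRing.ResidueField R) Γ.dim_eq.le
    (PicLoc.isInvertible_pullback Γ.ι hLi) (PicLoc.isInvertible_pullback Γ.ι hIi)
  rw [Curv2.deg, CurveRR.euler_eq_of_iso (p ≪≫ (Scheme.Modules.pullback Γ.ι).mapIso q ≪≫
    PicLoc.pullbackStructureIso Γ.ι)] at h
  rw [inter_eq_deg, degI]
  simp only [Nat.cast_one, one_mul, sub_self] at h
  omega

theorem degI_mul [IsProper X.hom] (Γ : ArSurf.VertComp R X) {I J : X.left.IdealSheafData}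
    (hI : BlowUp.IsEffCartierIdeal I) (hJ : BlowUp.IsEffCartierIdeal J) :
    degI Γ (I * J) = degI Γ I + degI Γ J := by
  haveI : IsProper (Γ.curve.left ↘ Spec (CommRingCat.of (IsLocalRing.ResidueField R))) := isProper_curve Γ
  obtain ⟨μ⟩ := Nakai.nonempty_idealMod_mul hI hJ
  obtain ⟨p⟩ := TMul.nonempty_pullTensorIso Γ.ι (ClSub.idealMod I) (ClSub.idealMod J)
  rw [degI, degI, degI, ← CurveRR.deg_tensor_inv Γ.dim_eq.le
    (PicLoc.isInvertible_pullback Γ.ι ((Groth.Agent.S8914.result _).2 hI))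
    (PicLoc.isInvertible_pullback Γ.ι ((Groth.Agent.S8914.result _).2 hJ)), Curv2.deg, Curv2.deg,
    CurveRR.euler_eq_of_iso (p ≪≫ (Scheme.Modules.pullback Γ.ι).mapIso μ)]

theorem degI_top [IsProper X.hom] (Γ : ArSurf.VertComp R X) : degI Γ ⊤ = 0 := by
  have h := degI_mul Γ (BlowUpLib.cartier_top (X := X.left)) BlowUpLib.cartier_top
  rw [show (⊤ : X.left.IdealSheafData) * ⊤ = ⊤ by rw [← Scheme.IdealSheafData.one_eq_top, one_mul]] at h
  omega

theorem degI_pow [IsProper X.hom] (Γ : ArSurf.VertComp R X) {I : X.left.IdealSheafData}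
    (hI : BlowUp.IsEffCartierIdeal I) : ∀ a : ℕ, degI Γ (I ^ a) = a * degI Γ I
  | 0 => by rw [pow_zero, Scheme.IdealSheafData.one_eq_top, degI_top]; simp
  | a + 1 => by rw [pow_succ, degI_mul Γ (DivPart.cartier_pow hI a) hI, degI_pow Γ hI a]; push_cast; ring

theorem degI_prod [IsProper X.hom] (Γ : ArSurf.VertComp R X) {σ : Type} (s : Finset σ)
    (I : σ → X.left.IdealSheafData) (hI : ∀ i, BlowUp.IsEffCartierIdeal (I i)) :
    BlowUp.IsEffCartierIdeal (∏ i ∈ s, I i) ∧ degI Γ (∏ i ∈ s, I i) = ∑ i ∈ s, degI Γ (I i) := by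
  classical
  induction s using Finset.induction with
  | empty =>
    rw [Finset.prod_empty, Finset.sum_empty, Scheme.IdealSheafData.one_eq_top]
    exact ⟨BlowUpLib.cartier_top, degI_top Γ⟩
  | insert a s ha ih =>
    rw [Finset.prod_insert ha, Finset.sum_insert ha, degI_mul Γ (hI a) ih.1, ih.2]
    exact ⟨BlowUpLib.cartier_mul (hI a) ih.1, rfl⟩

/-- The ideal sheaf of the closed fibre. -/
def fibreIdeal (X : Over (Spec (CommRingCat.of R))) : X.left.IdealSheafData :=
  (Scheme.IdealSheafData.ofIdealTop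
    ((IsLocalRing.maximalIdeal R).map (Scheme.ΓSpecIso (CommRingCat.of R)).inv.hom)).comap X.hom

theorem fibreIdeal_ideal (W : X.left.affineOpens) :
    (fibreIdeal X).ideal W = (IsLocalRing.maximalIdeal R).map
      ((Groth.Agent.QC.resO X.left (le_top : W.1 ≤ ⊤)).comp (Coh.toGlobal X.hom)) := by
  let T : (Spec (CommRingCat.of R)).affineOpens := ⟨⊤, isAffineOpen_top _⟩
  rw [fibreIdeal, show Scheme.IdealSheafData.ideal (Scheme.IdealSheafData.comap _ X.hom) W = _ from
    Groth.Agent.FpqcDescent.ideal_comap_appLE _ X.hom T W le_top, Scheme.IdealSheafData.ofIdealTop_ideal]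
  simp only [T, homOfLE_refl, op_id, CategoryTheory.Functor.map_id, CommRingCat.hom_id, Ideal.map_map]
  rfl

theorem mem_support_fibreIdeal (x : X.left) :
    x ∈ ((fibreIdeal X).support : Set X.left) ↔ x ∈ Models.specialFibreSet R X := by
  rw [fibreIdeal, Scheme.IdealSheafData.support_comap]
  exact mem_support_ptIdeal (X.hom x)

theorem cartier_base : BlowUp.IsEffCartierIdeal (Scheme.IdealSheafData.ofIdealTop
    ((IsLocalRing.maximalIdeal R).map (Scheme.ΓSpecIso (CommRingCat.of R)).inv.hom)) := by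
  obtain ⟨ϖ, hϖ⟩ := IsDiscreteValuationRing.exists_irreducible R
  intro x
  refine ⟨⟨⊤, isAffineOpen_top _⟩, trivial, (Scheme.ΓSpecIso (CommRingCat.of R)).inv ϖ, ?_, ?_⟩
  · refine mem_nonZeroDivisors_of_ne_zero fun h => hϖ.ne_zero ?_
    exact (ConcreteCategory.bijective_of_isIso (Scheme.ΓSpecIso (CommRingCat.of R)).inv).1 (h.trans (map_zero _).symm)
  · rw [Scheme.IdealSheafData.ofIdealTop_ideal, hϖ.maximalIdeal_eq]
    simp only [homOfLE_refl, op_id, CategoryTheory.Functor.map_id, CommRingCat.hom_id, Ideal.map_span,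
      Set.image_singleton]
    rfl

theorem cartier_fibreIdeal [Flat X.hom] : BlowUp.IsEffCartierIdeal (fibreIdeal X) :=
  BlowUpLib.cartier_comap_flat cartier_base X.hom

/-- Vertical prime divisors lie in the closed fibre. -/
theorem range_subset_specialFibre (Γ : ArSurf.VertComp R X) : Set.range Γ.ι ⊆ Models.specialFibreSet R X := by
  rintro _ ⟨z, rfl⟩
  change X.hom (Γ.ι z) = IsLocalRing.closedPoint R
  rw [← Scheme.Hom.comp_apply, Γ.w, Scheme.Hom.comp_apply]
  refine PrimeSpectrum.ext ?_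
  show Ideal.comap (IsLocalRing.residue R) (Γ.curve.hom z).asIdeal = _
  rw [(Ideal.eq_bot_or_top (Γ.curve.hom z).asIdeal).resolve_right (Γ.curve.hom z).isPrime.ne_top,
    ← RingHom.ker_eq_comap_bot, IsLocalRing.ker_residue]
  rfl

/-- The closed fibre has degree zero on every vertical prime divisor. -/
theorem degI_fibreIdeal [IsProper X.hom] [Flat X.hom] (Γ : ArSurf.VertComp R X) : degI Γ (fibreIdeal X) = 0 := by
  haveI : IsProper (Γ.curve.left ↘ Spec (CommRingCat.of (IsLocalRing.ResidueField R))) := isProper_curve Γ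
  obtain ⟨n⟩ := Nakai.nonempty_pullback_idealMod X.hom (cartier_base (R := R)) (cartier_fibreIdeal (X := X))
  obtain ⟨t⟩ := nonempty_pullback_point (Γ.ι ≫ X.hom) (IsLocalRing.closedPoint R)
    (fun z => range_subset_specialFibre Γ ⟨z, rfl⟩) ((Groth.Agent.S8914.result _).2 (cartier_base (R := R)))
  rw [degI, Curv2.deg, fibreIdeal, CurveRR.euler_eq_of_iso ((Scheme.Modules.pullback Γ.ι).mapIso n.symm ≪≫
    (Scheme.Modules.pullbackComp Γ.ι X.hom).app _ ≪≫ t)]
  simp

/-- Every point of the closed fibre lies on a component. -/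
theorem exists_component (x : X.left) (hx : x ∈ Models.specialFibreSet R X) :
    ∃ Z ∈ Models.fibreComponents R X, x ∈ Z := by
  let x' : Models.specialFibreSet R X := ⟨x, hx⟩
  refine ⟨Subtype.val '' irreducibleComponent x', ⟨⟨isIrreducible_irreducibleComponent.image _
    continuous_subtype_val.continuousOn, by rintro _ ⟨a, -, rfl⟩; exact a.2⟩, ?_⟩, ⟨x', mem_irreducibleComponent, rfl⟩⟩
  rintro S ⟨hS, hSF⟩ hle a ha
  have hS' : IsPreirreducible (Subtype.val ⁻¹' S : Set (Models.specialFibreSet R X)) := by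
    intro u v hu hv ⟨b, hbS, hbu⟩ ⟨c, hcS, hcv⟩
    obtain ⟨U, hU, rfl⟩ := isOpen_induced_iff.1 hu
    obtain ⟨V, hV, rfl⟩ := isOpen_induced_iff.1 hv
    obtain ⟨d, hdS, hdU, hdV⟩ := hS.isPreirreducible U V hU hV ⟨b.1, hbS, hbu⟩ ⟨c.1, hcS, hcv⟩
    exact ⟨⟨d, hSF hdS⟩, hdS, hdU, hdV⟩
  have h := (irreducibleComponent_property x').2.2 _ hS' fun b hb => hle ⟨b, hb, rfl⟩
  exact ⟨⟨a, hSF ha⟩, h.le ha, rfl⟩

/-- The stalk of the ideal of a vertical prime divisor at its generic point. -/
theorem stI_ker_genPt (Γ : ArSurf.VertComp R X) (W : X.left.affineOpens) (hx : Models.genPtOf R X Γ ∈ W.1) :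
    stI Γ.ι.ker W hx = IsLocalRing.maximalIdeal (X.left.presheaf.stalk (Models.genPtOf R X Γ)) := by
  haveI : IsIso Γ.ι.toImage := inferInstance
  haveI : Nonempty Γ.ι.ker.subscheme := ⟨Γ.ι.toImage (genericPoint Γ.curve.left)⟩
  have hD : IsIntegral Γ.ι.ker.subscheme := isIntegral_of_isOpenImmersion (inv Γ.ι.toImage)
  have he : DivPart.eta Γ.ι.ker hD = Models.genPtOf R X Γ := by
    refine ((DivPart.eta_specializes _ hD ?_).antisymm ?_).eq
    · rw [← SetLike.mem_coe, Scheme.Hom.support_ker, Γ.ι.isClosedEmbedding.isClosed_range.closure_eq]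
      exact ⟨_, rfl⟩
    · have h := DivPart.eta_mem_support Γ.ι.ker hD
      rw [← SetLike.mem_coe, Scheme.Hom.support_ker, Γ.ι.isClosedEmbedding.isClosed_range.closure_eq] at h
      obtain ⟨z, hz⟩ := h
      rw [← hz]
      exact (genericPoint_specializes z).map Γ.ι.continuous
  have h0 := DivPart.stI_eta Γ.ι.ker hD W
  have key : ∀ (p : X.left), DivPart.eta Γ.ι.ker hD = p → ∀ hp : p ∈ W.1,
      stI Γ.ι.ker W hp = IsLocalRing.maximalIdeal (X.left.presheaf.stalk p) := by
    rintro p rfl hp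
    exact h0 hp
  exact key _ he hx

/-- The closed fibre is the sum of its components with their multiplicities. -/
theorem fibreIdeal_eq_prod (hX : ArSurf.IsArithSurface R X) {n : ℕ} (Γ : Fin n → ArSurf.VertComp R X)
    (hinj : Function.Injective fun i => Set.range (Γ i).ι)
    (hcov : Models.specialFibreSet R X ⊆ ⋃ i, Set.range (Γ i).ι) :
    fibreIdeal X = ∏ j, (Γ j).ι.ker ^ Models.mult R X (Γ j) := by
  classical
  have hX' := hX
  obtain ⟨hXr, hXi, hXd, hXf, -⟩ := hX'
  haveI := hXi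
  haveI := hXf
  haveI := isProper_hom_of_isArithSurface hX
  haveI : IsLocallyNoetherian X.left := LocallyOfFiniteType.isLocallyNoetherian X.hom
  haveI : CompactSpace X.left := QuasiCompact.compactSpace_of_compactSpace X.hom
  haveI : IsNoetherian X.left := {}
  have hc := fun j => isEffCartierIdeal_ker hX (Γ j)
  have hint : ∀ j, IsIntegral (Γ j).ι.ker.subscheme := fun j => by
    haveI : IsIso (Γ j).ι.toImage := inferInstance
    haveI : Nonempty (Γ j).ι.ker.subscheme := ⟨(Γ j).ι.toImage (genericPoint (Γ j).curve.left)⟩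
    exact isIntegral_of_isOpenImmersion (inv (Γ j).ι.toImage)
  obtain ⟨a, ha⟩ := DivPart.exists_eq_prod (fibreIdeal X) cartier_fibreIdeal n (fun j => (Γ j).ι.ker) hc hint
    (fun x hx => by
      obtain ⟨j, hj⟩ := Set.mem_iUnion.1 (hcov ((mem_support_fibreIdeal x).1 hx))
      refine Set.mem_iUnion.2 ⟨j, ?_⟩
      rw [Scheme.Hom.support_ker, (Γ j).ι.isClosedEmbedding.isClosed_range.closure_eq]
      exact hj)
  rw [ha]
  refine Finset.prod_congr rfl fun i _ => congrArg _ ?_
  let ξ := Models.genPtOf R X (Γ i)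
  obtain ⟨W, hW, hξW, -⟩ := exists_isAffineOpen_mem_and_subset (show ξ ∈ (⊤ : X.left.Opens) from trivial)
  let W' : X.left.affineOpens := ⟨W, hW⟩
  have h1 : stI (fibreIdeal X) W' hξW =
      (IsLocalRing.maximalIdeal R).map (Models.stalkHom R X ξ) := by
    rw [stI, fibreIdeal_ideal, Ideal.map_map]
    refine congrArg (fun φ => Ideal.map φ (IsLocalRing.maximalIdeal R)) ?_
    refine RingHom.ext fun r => ?_
    exact X.left.presheaf.germ_res_apply (homOfLE (le_top : W'.1 ≤ ⊤)) ξ hξW _
  have hmul : ∀ s : Finset (Fin n), stI (∏ j ∈ s, (Γ j).ι.ker ^ a j) W' hξW =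
      if i ∈ s then IsLocalRing.maximalIdeal (X.left.presheaf.stalk ξ) ^ a i else ⊤ := by
    intro s
    induction s using Finset.induction with
    | empty => simp [stI, Scheme.IdealSheafData.one_eq_top, Ideal.map_top]
    | insert j s hj ih =>
      have hstep : stI ((Γ j).ι.ker ^ a j * ∏ t ∈ s, (Γ t).ι.ker ^ a t) W' hξW =
          stI (Γ j).ι.ker W' hξW ^ a j * stI (∏ t ∈ s, (Γ t).ι.ker ^ a t) W' hξW := by
        simp only [stI, Scheme.IdealSheafData.ideal_mul, PtBlow.ideal_pow', Pi.mul_apply, Ideal.map_mul, Ideal.map_pow]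
      rw [Finset.prod_insert hj, hstep, ih]
      by_cases hji : j = i
      · subst hji
        rw [if_neg hj, if_pos (Finset.mem_insert_self _ _), stI_ker_genPt]
        exact Ideal.mul_top _
      · obtain ⟨g, -, hg, hu⟩ := DivPart.exists_generator (Γ j).ι.ker (hc j) W' hξW
        have htop : stI (Γ j).ι.ker W' hξW = ⊤ := by
          rw [hg, Ideal.span_singleton_eq_top]
          exact hu (genPt_notMem fun e => hji (hinj e).symm)
        rw [htop, Ideal.top_pow, Ideal.top_mul]
        simp only [Finset.mem_insert, Ne.symm hji, false_or]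
  have h2 := hmul Finset.univ
  rw [if_pos (Finset.mem_univ i), ← ha, h1] at h2
  have hdim : ringKrullDim (X.left.presheaf.stalk ξ) = 1 := by
    refine ringKrullDim_stalk_curve hXd ?_
    have hcl : closure ({ξ} : Set X.left) = Set.range (Γ i).ι := by
      refine subset_antisymm ((Γ i).ι.isClosedEmbedding.isClosed_range.closure_subset_iff.2
        (Set.singleton_subset_iff.2 ⟨_, rfl⟩)) ?_
      rintro _ ⟨z, rfl⟩
      exact specializes_iff_mem_closure.1 ((genericPoint_specializes z).map (Γ i).ι.continuous)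
    rw [hcl, ← (Γ i).ι.isClosedEmbedding.isEmbedding.toHomeomorph.isHomeomorph.topologicalKrullDim_eq,
      (Γ i).dim_eq]
    rfl
  have hnf : ¬ IsField (X.left.presheaf.stalk ξ) := fun h => by
    rw [ringKrullDim_eq_zero_of_isField h] at hdim
    exact zero_ne_one hdim
  haveI := hXr ξ
  haveI : IsDiscreteValuationRing (X.left.presheaf.stalk ξ) :=
    (SepReg.dvr_iff_regular _ hnf hdim.le).2 inferInstance
  rw [Models.mult]
  change a i = (Module.length _ (X.left.presheaf.stalk ξ ⧸ Ideal.map (Models.stalkHom R X ξ) _)).toNat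
  rw [h2, IsDiscreteValuationRing.length_quotient_pow_maximalIdeal]
  rfl

/-- `Σ d_j (Γ_j · Γ) = 0`. -/
theorem sum_mult_inter_eq_zero (hX : ArSurf.IsArithSurface R X) {n : ℕ} (Γ : Fin n → ArSurf.VertComp R X)
    (hinj : Function.Injective fun i => Set.range (Γ i).ι)
    (hcov : Models.specialFibreSet R X ⊆ ⋃ i, Set.range (Γ i).ι) (L : Fin n → X.left.Modules)
    (hL : ∀ j, ClSub.IsInverseOf (L j) (ClSub.idealMod (Γ j).ι.ker)) (Δ : ArSurf.VertComp R X) :
    ∑ j, (Models.mult R X (Γ j) : ℤ) * ArSurf.inter R X (L j) Δ = 0 := by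
  haveI := hX.2.2.2.1
  haveI := isProper_hom_of_isArithSurface hX
  have h := (degI_prod Δ Finset.univ (fun j => (Γ j).ι.ker ^ Models.mult R X (Γ j))
    fun j => DivPart.cartier_pow (isEffCartierIdeal_ker hX (Γ j)) _).2
  rw [← fibreIdeal_eq_prod hX Γ hinj hcov, degI_fibreIdeal Δ] at h
  rw [Finset.sum_congr rfl fun j _ => by rw [inter_eq_neg_degI Δ (isEffCartierIdeal_ker hX (Γ j)) (hL j), mul_neg,
    ← degI_pow Δ (isEffCartierIdeal_ker hX (Γ j))], Finset.sum_neg_distrib, ← h, neg_zero]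

end Groth.Agent.Castel
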