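import Groth.Agent.Castel.FactorApp
import Groth.Agent.RelMinSmooth.Main
import Groth.Agent.SteinGen.NormalBase
import Groth.Agent.Castel.InterForm

/-!
Uniqueness of contractions of normal fibred surfaces.
-/

set_option autoImplicit false
set_option backward.isDefEq.respectTransparency false
set_option backward.isDefEq.respectTransparency.types false

universe u

open CategoryTheory CategoryTheory.Limits AlgebraicGeometry TopologicalSpace Topology
open Groth.Agent.RelMinSmooth

namespace Groth.Agent.Castel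

/-- A proper birational map onto a normal scheme has `f_*O = O`. -/
theorem bijective_app_of_birational {X Y : Scheme.{u}} [IsIntegral X] [IsIntegral Y] (g : X ⟶ Y) [IsProper g]
    (hgen : g (genericPoint X) = genericPoint Y) [IsIso (g.stalkMap (genericPoint X))]
    (hY : ∀ y : Y, IsIntegrallyClosed (Y.presheaf.stalk y)) (U : Y.Opens) :
    Function.Bijective (g.app U).hom := by
  have key : ∀ V : Y.Opens, IsAffineOpen V → Function.Bijective (g.app V) := by
    intro V hV
    by_cases hne : (V : Set Y).Nonempty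
    · haveI : Nonempty V := hne.to_subtype
      haveI : IsIntegrallyClosed Γ(Y, V) := NormSect.isIntegrallyClosed_sections V fun y _ => hY y
      have hξ : genericPoint Y ∈ V := ((genericPoint_spec Y).mem_open_set_iff V.2).2 (by simpa using hne)
      have hξX : genericPoint X ∈ g ⁻¹ᵁ V := show g (genericPoint X) ∈ V by rw [hgen]; exact hξ
      haveI : Nonempty ↥(g ⁻¹ᵁ V) := ⟨⟨genericPoint X, hξX⟩⟩
      let ψ : Γ(X, g ⁻¹ᵁ V) →+* X.functionField := (X.presheaf.germ (g ⁻¹ᵁ V) (genericPoint X) hξX).hom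
      have hcomp : ∀ a, ψ (g.app V a) = ConstFib.ffMap g hgen (Y.presheaf.germ V (genericPoint Y) hξ a) :=
        fun a => (ConstFib.ffMap_germ g hgen V hξ hξX a).symm
      refine SteinGen.bijective_of_integral_embedding (g.app V).hom (SteinGen.isIntegral_app g hV) ψ
        (germ_injective_of_isIntegral X _ hξX) (fun k => ?_)
        (fun a b h => ?_)
      · obtain ⟨w, rfl⟩ := (ffMap_bijective g hgen).2 k
        haveI := functionField_isFractionRing_of_isAffineOpen Y V hV
        obtain ⟨⟨a, b⟩, hab⟩ := IsLocalization.surj (nonZeroDivisors Γ(Y, V)) (S := Y.functionField) w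
        refine ⟨a, b, ?_, ?_⟩
        · rw [hcomp, map_ne_zero_iff _ (ffMap_bijective g hgen).1]
          exact (map_ne_zero_iff _ (IsFractionRing.injective Γ(Y, V) Y.functionField)).2 (nonZeroDivisors.ne_zero b.2)
        · rw [hcomp, hcomp, ← map_mul]
          exact congrArg _ hab
      · have h' : ψ (g.app V a) = ψ (g.app V b) := h
        rw [hcomp, hcomp] at h'
        exact germ_injective_of_isIntegral Y _ hξ ((ffMap_bijective g hgen).1 h')
    · have h1 : Subsingleton Γ(Y, V) := by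
        rw [show V = ⊥ from SetLike.coe_injective (Set.not_nonempty_iff_eq_empty.1 hne)]
        exact inferInstance
      have h2 : Subsingleton Γ(X, g ⁻¹ᵁ V) := by
        rw [show g ⁻¹ᵁ V = ⊥ from SetLike.coe_injective (by
          simp [Set.not_nonempty_iff_eq_empty.1 hne])]
        exact inferInstance
      exact ⟨fun a b _ => Subsingleton.elim a b, fun b => ⟨0, Subsingleton.elim _ _⟩⟩
  haveI := SteinGen.isIso_app_of_affine_cover g (fun V : Y.affineOpens => V.1) (fun V => V.2) (fun y => by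
    obtain ⟨V, hV, hy, -⟩ := exists_isAffineOpen_mem_and_subset (x := y) (U := (⊤ : Y.Opens)) trivial
    exact ⟨⟨V, hV⟩, hy⟩) (fun V => key V.1 V.2) U
  exact ConcreteCategory.bijective_of_isIso (g.app U)

variable {R : Type u} [CommRing R] [IsDomain R] [IsDiscreteValuationRing R]

/-- A contraction of vertical curves is a proper surjection with `O = f_*O` whose fibres are mapped to points
by any other contraction of the same curves. -/
theorem contraction_facts {X : Over (Spec (CommRingCat.of R))} [IsIntegral X.left] [Flat X.hom]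
    (hproj : Neron.IsProjectiveOver R X) {r : ℕ} (Γ : Fin r → ArSurf.VertComp R X)
    {Y : Over (Spec (CommRingCat.of R))} (f : X ⟶ Y) [IsIntegral Y.left]
    (hY : ∀ q : Y.left, IsIntegrallyClosed (Y.left.presheaf.stalk q)) (hYproj : Neron.IsProjectiveOver R Y)
    (hpt : ∀ i, ∃ y : Y.left, Set.range (((Γ i).ι ≫ f.left).base : (Γ i).curve.left → Y.left) = {y})
    (hpre : f.left.base ⁻¹' (f.left.base '' ⋃ i, Set.range (Γ i).ι.base) = ⋃ i, Set.range (Γ i).ι.base)
    (hiso : ∀ V : Y.left.Opens, (V : Set Y.left) ∩ f.left.base '' (⋃ i, Set.range (Γ i).ι.base) = ∅ →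
      IsIso (f.left ∣_ V)) :
    Function.Surjective f.left.base ∧ IsClosedMap f.left.base ∧
      (∀ U : Y.left.Opens, Function.Bijective (f.left.app U).hom) ∧
      ∀ {W : Type u} [TopologicalSpace W] [T0Space W] (h : X.left → W), Continuous h →
        (∀ i, ∀ a b, h ((Γ i).ι a) = h ((Γ i).ι b)) → (∀ i a, IsClosed ({h ((Γ i).ι a)} : Set W)) → ∀ a b, f.left a = f.left b → h a = h b := by
  obtain ⟨n, i, hi, hiw⟩ := hproj
  obtain ⟨m, j, hj, hjw⟩ := hYproj
  haveI : IsProper X.hom := by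
    rw [← hiw]
    haveI := HQProj.isProper_toBase n (Spec (CommRingCat.of R))
    infer_instance
  haveI : IsProper Y.hom := by
    rw [← hjw]
    haveI := HQProj.isProper_toBase m (Spec (CommRingCat.of R))
    infer_instance
  haveI : IsLocallyNoetherian X.left := LocallyOfFiniteType.isLocallyNoetherian X.hom
  haveI : IsLocallyNoetherian Y.left := LocallyOfFiniteType.isLocallyNoetherian Y.hom
  haveI : IsProper f.left := by
    haveI : IsProper (f.left ≫ Y.hom) := by rw [Over.w f]; infer_instance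
    exact IsProper.of_comp f.left Y.hom
  choose y hy using hpt
  have hyi : ∀ k a, f.left ((Γ k).ι a) = y k := fun k a => by
    have := (hy k).subset ⟨a, rfl⟩
    exact this
  have hyc : ∀ k, IsClosed ({y k} : Set Y.left) := fun k => by
    rw [← hy k, Scheme.Hom.comp_base, TopCat.coe_comp, Set.range_comp]
    exact f.left.isClosedMap _ (Γ k).ι.isClosedEmbedding.isClosed_range
  have himg : f.left.base '' (⋃ k, Set.range (Γ k).ι.base) = Set.range y := by
    ext v
    constructor
    · rintro ⟨x, hx, rfl⟩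
      obtain ⟨k, a, rfl⟩ := Set.mem_iUnion.1 hx
      exact ⟨k, (hyi k a).symm⟩
    · rintro ⟨k, rfl⟩
      exact ⟨_, Set.mem_iUnion.2 ⟨k, genericPoint (Γ k).curve.left, rfl⟩, hyi k _⟩
  have hcl : IsClosed (Set.range y) := by
    rw [← Set.iUnion_singleton_eq_range]
    exact isClosed_iUnion_of_finite hyc
  let V : Y.left.Opens := ⟨(Set.range y)ᶜ, hcl.isOpen_compl⟩
  haveI := hiso V (by rw [himg]; exact Set.compl_inter_self _)
  -- the generic point is not contracted
  have hgV : f.left (genericPoint X.left) ∈ V := by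
    rintro ⟨k, hk⟩
    have h1 : genericPoint X.left ∈ ⋃ k, Set.range (Γ k).ι.base := by
      rw [← hpre, himg]
      exact ⟨k, hk⟩
    obtain ⟨l, hl⟩ := Set.mem_iUnion.1 h1
    have h2 : X.hom (genericPoint X.left) = IsLocalRing.closedPoint R := range_subset_specialFibre (Γ l) hl
    let η : Spec (CommRingCat.of R) := (⟨⊥, Ideal.isPrime_bot⟩ : PrimeSpectrum R)
    obtain ⟨w, hw, hw'⟩ := Flat.generalizingMap X.hom (a := genericPoint X.left)
      (show η ⤳ X.hom (genericPoint X.left) from (PrimeSpectrum.le_iff_specializes η _).mp bot_le)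
    rw [(hw.antisymm ((genericPoint_spec X.left).specializes trivial)).eq, h2] at hw'
    exact IsDiscreteValuationRing.not_a_field R (congrArg PrimeSpectrum.asIdeal hw')
  have hsurj : Function.Surjective f.left.base := fun v => by
    by_cases hv : v ∈ V
    · obtain ⟨x, hx⟩ := (f.left ∣_ V).surjective ⟨v, hv⟩
      exact ⟨x.1, (morphismRestrict_base_coe f.left V x).symm.trans (congrArg Subtype.val hx)⟩
    · obtain ⟨k, rfl⟩ := not_not.1 hv
      exact ⟨_, hyi k (genericPoint (Γ k).curve.left)⟩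
  have hgen := ConstFib.genericPoint_map_of_surjective f.left hsurj
  haveI : IsIso (f.left.stalkMap (genericPoint X.left)) := by
    have e := morphismRestrictStalkMap f.left V ⟨genericPoint X.left, hgV⟩
    exact (MorphismProperty.arrow_mk_iso_iff (MorphismProperty.isomorphisms CommRingCat) e).1
      (inferInstanceAs (IsIso ((f.left ∣_ V).stalkMap ⟨genericPoint X.left, hgV⟩)))
  refine ⟨hsurj, f.left.isClosedMap, bijective_app_of_birational f.left hgen hY, fun {W} _ _ h hc hconst hclh a b hab => ?_⟩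
  by_cases hv : f.left a ∈ V
  · have hb : f.left b ∈ V := hab ▸ hv
    refine congrArg h ?_
    have : (⟨a, hv⟩ : ↥(f.left ⁻¹ᵁ V)) = ⟨b, hb⟩ := (f.left ∣_ V).isOpenEmbedding.injective
      (Subtype.ext (by rw [morphismRestrict_base_coe, morphismRestrict_base_coe]; exact hab))
    exact congrArg Subtype.val this
  · obtain ⟨k, hk⟩ := not_not.1 hv
    have hfib : ∀ x, f.left x = y k → ∃ l, y l = y k ∧ ∃ c, (Γ l).ι c = x := fun x hx => by
      have h1 : x ∈ ⋃ k, Set.range (Γ k).ι.base := by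
        rw [← hpre, himg]
        exact ⟨k, hx.symm⟩
      obtain ⟨l, c, rfl⟩ := Set.mem_iUnion.1 h1
      exact ⟨l, (hyi l c).symm.trans hx, c, rfl⟩
    have hpc := (isPreconnected_preimage f.left hgen hY (y k)).image h hc.continuousOn
    have hfin : (h '' (f.left.base ⁻¹' {y k})).Finite := by
      refine (Set.finite_range fun l => h ((Γ l).ι (genericPoint (Γ l).curve.left))).subset ?_
      rintro _ ⟨x, hx, rfl⟩
      obtain ⟨l, -, c, rfl⟩ := hfib x hx
      exact ⟨l, hconst l _ _⟩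
    haveI : Finite ↥(h '' (f.left.base ⁻¹' {y k})) := hfin.to_subtype
    haveI : PreconnectedSpace ↥(h '' (f.left.base ⁻¹' {y k})) := isPreconnected_iff_preconnectedSpace.1 hpc
    haveI : T1Space ↥(h '' (f.left.base ⁻¹' {y k})) := ⟨fun ⟨w, x, hx, hw⟩ => by
      obtain ⟨l, -, c, rfl⟩ := hfib x hx
      have h1 : IsClosed ({w} : Set W) := hw ▸ hclh l c
      convert h1.preimage continuous_subtype_val
      ext v
      simp [Subtype.ext_iff]⟩
    haveI := PreconnectedSpace.trivial_of_discrete (X := ↥(h '' (f.left.base ⁻¹' {y k})))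
    exact congrArg Subtype.val (Subsingleton.elim
      (⟨h a, a, hk.symm, rfl⟩ : ↥(h '' (f.left.base ⁻¹' {y k}))) ⟨h b, b, hab.symm.trans hk.symm, rfl⟩)

/-- Uniqueness of contractions. -/
theorem contraction_unique {X : Over (Spec (CommRingCat.of R))} [IsIntegral X.left] [Flat X.hom]
    (hproj : Neron.IsProjectiveOver R X) {r : ℕ} (Γ : Fin r → ArSurf.VertComp R X)
    (Y₁ Y₂ : Over (Spec (CommRingCat.of R))) (f₁ : X ⟶ Y₁) (f₂ : X ⟶ Y₂) [IsIntegral Y₁.left] [IsIntegral Y₂.left]
    (hY₁ : ∀ q : Y₁.left, IsIntegrallyClosed (Y₁.left.presheaf.stalk q))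
    (hY₂ : ∀ q : Y₂.left, IsIntegrallyClosed (Y₂.left.presheaf.stalk q))
    (hp₁ : Neron.IsProjectiveOver R Y₁) (hp₂ : Neron.IsProjectiveOver R Y₂)
    (hpt₁ : ∀ i, ∃ y : Y₁.left, Set.range (((Γ i).ι ≫ f₁.left).base : (Γ i).curve.left → Y₁.left) = {y})
    (hpt₂ : ∀ i, ∃ y : Y₂.left, Set.range (((Γ i).ι ≫ f₂.left).base : (Γ i).curve.left → Y₂.left) = {y})
    (hpre₁ : f₁.left.base ⁻¹' (f₁.left.base '' ⋃ i, Set.range (Γ i).ι.base) = ⋃ i, Set.range (Γ i).ι.base)
    (hpre₂ : f₂.left.base ⁻¹' (f₂.left.base '' ⋃ i, Set.range (Γ i).ι.base) = ⋃ i, Set.range (Γ i).ι.base)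
    (hiso₁ : ∀ V : Y₁.left.Opens, (V : Set Y₁.left) ∩ f₁.left.base '' (⋃ i, Set.range (Γ i).ι.base) = ∅ →
      IsIso (f₁.left ∣_ V))
    (hiso₂ : ∀ V : Y₂.left.Opens, (V : Set Y₂.left) ∩ f₂.left.base '' (⋃ i, Set.range (Γ i).ι.base) = ∅ →
      IsIso (f₂.left ∣_ V)) :
    (∃! g : Y₁ ⟶ Y₂, f₁ ≫ g = f₂) ∧ ∀ g : Y₁ ⟶ Y₂, f₁ ≫ g = f₂ → IsIso g := by
  obtain ⟨s₁, c₁, a₁, k₁⟩ := contraction_facts hproj Γ f₁ hY₁ hp₁ hpt₁ hpre₁ hiso₁
  obtain ⟨s₂, c₂, a₂, k₂⟩ := contraction_facts hproj Γ f₂ hY₂ hp₂ hpt₂ hpre₂ hiso₂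
  have pt : ∀ {Y : Over (Spec (CommRingCat.of R))} (f : X ⟶ Y), IsClosedMap f.left.base →
      (∀ i, ∃ y : Y.left, Set.range (((Γ i).ι ≫ f.left).base : (Γ i).curve.left → Y.left) = {y}) →
      (∀ i a b, f.left ((Γ i).ι a) = f.left ((Γ i).ι b)) ∧ ∀ i a, IsClosed ({f.left ((Γ i).ι a)} : Set Y.left) :=
    fun {Y} f hf hpt => by
      constructor
      · intro i a b
        obtain ⟨y, hy⟩ := hpt i
        exact ((hy.subset ⟨a, rfl⟩).trans (hy.subset ⟨b, rfl⟩ : _ = _).symm : ((Γ i).ι ≫ f.left) a = ((Γ i).ι ≫ f.left) b)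
      · intro i a
        obtain ⟨y, hy⟩ := hpt i
        rw [show f.left ((Γ i).ι a) = y from hy.subset ⟨a, rfl⟩, ← hy, Scheme.Hom.comp_base, TopCat.coe_comp,
          Set.range_comp]
        exact hf _ (Γ i).ι.isClosedEmbedding.isClosed_range
  obtain ⟨p1, q1⟩ := pt f₁ c₁ hpt₁
  obtain ⟨p2, q2⟩ := pt f₂ c₂ hpt₂
  obtain ⟨g, hg, hgu⟩ := existsUnique_factor_of_fibres f₁.left s₁ c₁ a₁ f₂.left
    (k₁ _ f₂.left.continuous p2 q2)
  obtain ⟨g', hg', -⟩ := existsUnique_factor_of_fibres f₂.left s₂ c₂ a₂ f₁.left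
    (k₂ _ f₁.left.continuous p1 q1)
  haveI : Epi f₁.left := QuotScheme.epi_of_surjective_of_injective _ s₁ fun U => (a₁ U).1
  haveI : Epi f₂.left := QuotScheme.epi_of_surjective_of_injective _ s₂ fun U => (a₂ U).1
  haveI : IsIso g := ⟨g', by rw [← cancel_epi f₁.left, reassoc_of% hg, hg', Category.comp_id],
    by rw [← cancel_epi f₂.left, reassoc_of% hg', hg, Category.comp_id]⟩
  have hw : g ≫ Y₂.hom = Y₁.hom := by
    rw [← cancel_epi f₁.left, reassoc_of% hg, Over.w f₂, Over.w f₁]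
  have huniq : ∀ g₀ : Y₁ ⟶ Y₂, f₁ ≫ g₀ = f₂ → g₀ = Over.homMk g hw := fun g₀ h0 => by
    ext
    exact hgu g₀.left (by show f₁.left ≫ g₀.left = f₂.left; rw [← h0]; rfl)
  refine ⟨⟨Over.homMk g hw, by ext; exact hg, huniq⟩, fun g₀ h0 => ?_⟩
  rw [huniq g₀ h0]
  haveI : IsIso ((Over.forget _).map (Over.homMk g hw : Y₁ ⟶ Y₂)) := ‹IsIso g›
  exact isIso_of_reflects_iso (Over.homMk g hw : Y₁ ⟶ Y₂) (Over.forget _)

end Groth.Agent.Castel
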