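import Groth.Agent.Castel.PicModel
import Groth.Agent.Castel.PicDescent
import Groth.Agent.Castel.ContractUniq
import Groth.Agent.Castel.ArtinApps
import Groth.Agent.ExtFund.CanonMain
import Groth.Agent.ExtFund.CanonOpen
import Groth.Agent.AbelMap.Section
import Groth.Agent.NegTwist.Connected
import Groth.Agent.NegTwist.Sections
import Groth.Agent.TMul.CounitGen
import Groth.Agent.AbsApprox.AmpleLim

/-!
Canonical sheaves and contractions of curves with vanishing canonical degree.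
-/

set_option autoImplicit false
set_option backward.isDefEq.respectTransparency false
set_option backward.isDefEq.respectTransparency.types false
set_option linter.style.haveILetI false

universe u

open CategoryTheory CategoryTheory.Limits AlgebraicGeometry TopologicalSpace Opposite
open Groth.Agent.QC (res resO res_self res_res)
open TMul (IsGen val homOf val_homOf)

noncomputable section

namespace Groth.Agent.Castel

attribute [local instance] W7Cube.law

section Canon

variable {X S : Scheme.{u}}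

/-- A canonical sheaf restricts to a canonical sheaf of an open subscheme, in terms of determinant data. -/
theorem exists_canon_data {f : X ⟶ S} {ω : X.Modules} (hω : Canon.IsCanonical f ω) {U : Scheme.{u}} (j : U ⟶ X)
    [IsOpenImmersion j] :
    ∃ (Z : Scheme.{u}) (i : U ⟶ Z) (g : Z ⟶ S) (c n : ℕ) (C : U.Modules) (Ω : Z.Modules),
      i ≫ g = j ≫ f ∧ IsImmersion i ∧ QuasiCompact i ∧ QuasiSeparated g ∧ SmoothOfRelativeDimension n g ∧
      DetDeg.HasDet c (Omega.conormal i) C ∧ DetDeg.HasDet n (Omega.sheaf g) Ω ∧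
      Nonempty (CohB1.tensorMod ((Scheme.Modules.pullback j).obj ω) C ≅ (Scheme.Modules.pullback i).obj Ω) := by
  obtain ⟨Z, i, g, c, n, hf, hi, hg, hqc, hqs, C, Ω, hC, hΩ, ⟨e⟩⟩ := hω
  haveI := hi.1
  haveI := hg
  haveI := hqc
  haveI := hqs
  obtain ⟨t, ht, hts⟩ := i.isEmbedding.isInducing.isOpen_iff.1 j.opensRange.2
  let W : Z.Opens := ⟨t, ht⟩
  have hW : i ⁻¹ᵁ W = j.opensRange := TopologicalSpace.Opens.ext hts
  have hsub : Set.range (j ≫ i) ⊆ Set.range W.ι := by
    rintro _ ⟨z, rfl⟩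
    rw [Scheme.Opens.range_ι, Scheme.Hom.comp_apply]
    exact (SetLike.ext_iff.1 hW (j z)).2 ⟨z, rfl⟩
  let i' : U ⟶ W := IsOpenImmersion.lift W.ι (j ≫ i) hsub
  have hi'W : i' ≫ W.ι = j ≫ i := IsOpenImmersion.lift_fac _ _ _
  have hsq : IsPullback i' j W.ι i := IsOpenImmersion.isPullback i' j W.ι i hi'W.symm (by
    rw [Scheme.Opens.opensRange_ι]; exact hW)
  haveI : IsImmersion i' := MorphismProperty.of_isPullback (P := @IsImmersion) hsq.flip inferInstance
  haveI : QuasiCompact i' := MorphismProperty.of_isPullback (P := @QuasiCompact) hsq.flip inferInstance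
  haveI : SmoothOfRelativeDimension n (W.ι ≫ g) := by
    simpa using (inferInstance : SmoothOfRelativeDimension (0 + n) (W.ι ≫ g))
  obtain ⟨a⟩ := ExtFund.nonempty_conormal_pullback hsq
  obtain ⟨b⟩ := ExtFund.nonempty_omega_etale W.ι g (W.ι ≫ g) rfl
  obtain ⟨p⟩ := TMul.nonempty_pullTensorIso j ω C
  exact ⟨_, i', W.ι ≫ g, c, n, _, _, by rw [← Category.assoc, hi'W, Category.assoc, hf], inferInstance,
    inferInstance, inferInstance, inferInstance,
    ExtFund.hasDet_congr a ((DetDeg.hasDet_of_isExtPow (ExtFund.isFinLocFreeOfRank_conormal_reg i hi) hC).pullback j),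
    ExtFund.hasDet_congr b ((ExtFund.hasDet_omega g n hΩ).pullback W.ι),
    ⟨p ≪≫ (Scheme.Modules.pullback j).mapIso e ≪≫ (Scheme.Modules.pullbackComp j i).app Ω ≪≫
      (Scheme.Modules.pullbackCongr hi'W.symm).app Ω ≪≫ ((Scheme.Modules.pullbackComp i' W.ι).app Ω).symm⟩⟩

/-- Canonical sheaves agree on common open subschemes. -/
theorem nonempty_canon_pullback_iso {X' : Scheme.{u}} {f : X ⟶ S} {f' : X' ⟶ S} {ω : X.Modules} {ω' : X'.Modules}
    (hω : Canon.IsCanonical f ω) (hω' : Canon.IsCanonical f' ω') {U : Scheme.{u}} (j : U ⟶ X) (j' : U ⟶ X')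
    [IsOpenImmersion j] [IsOpenImmersion j'] (h : j ≫ f = j' ≫ f') :
    Nonempty ((Scheme.Modules.pullback j).obj ω ≅ (Scheme.Modules.pullback j').obj ω') := by
  obtain ⟨Z₁, i₁, g₁, c₁, n₁, C₁, Ω₁, h₁, hI₁, hq₁, hs₁, hn₁, dC₁, dΩ₁, e₁⟩ := exists_canon_data hω j
  obtain ⟨Z₂, i₂, g₂, c₂, n₂, C₂, Ω₂, h₂, hI₂, hq₂, hs₂, hn₂, dC₂, dΩ₂, e₂⟩ := exists_canon_data hω' j'
  haveI := hI₁; haveI := hI₂; haveI := hq₁; haveI := hq₂; haveI := hs₁; haveI := hs₂; haveI := hn₁; haveI := hn₂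
  exact ExtFund.nonempty_canon_iso_det i₁ g₁ i₂ g₂ (h₁.trans (h.trans h₂.symm)) dC₁ dC₂ dΩ₁ dΩ₂ e₁ e₂

/-- A canonical sheaf is invertible. -/
theorem isInvertible_of_isCanonical {f : X ⟶ S} {ω : X.Modules} (hω : Canon.IsCanonical f ω) :
    PicF.IsInvertible ω := by
  obtain ⟨Z, i, g, c, n, C, Ω, -, -, -, -, -, dC, dΩ, ⟨e⟩⟩ := exists_canon_data hω (𝟙 X)
  have hC := ExtFund.isInvertible_of_hasDet dC
  have hB := PicLoc.isInvertible_pullback i (ExtFund.isInvertible_of_hasDet dΩ)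
  obtain ⟨D, hD, ⟨d⟩⟩ := W7Hull.exists_tensor_inverse hC
  refine ParaFLib.isInvertible_of_iso ?_ (TMul.isInvertible_tensorMod hB hD)
  exact PicGrp.tensorModIso e.symm (Iso.refl D) ≪≫ TMul.assocIso _ C D ≪≫
    PicGrp.tensorModIso (Iso.refl _) d ≪≫ SecTwist.unitorR _ ≪≫ (Scheme.Modules.pullbackId X).app ω

end Canon

variable {R : Type u} [CommRing R] [IsDomain R] [IsDiscreteValuationRing R] {X : Over (Spec (CommRingCat.of R))}
  (hX : ArSurf.IsArithSurface R X) {r : ℕ} (Γ : Fin r → ArSurf.VertComp R X)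
include hX

/-- A class trivial off the configuration is a combination of the configuration. -/
theorem exists_picO_of_trivial_off {G : X.left.Modules} (hG : PicF.IsInvertible G) (U : X.left.Opens)
    (hU : (U : Set X.left) = (⋃ i, Set.range (Γ i).ι)ᶜ)
    (e : (Scheme.Modules.pullback U.ι).obj G ≅ Coh.structureModule (U : Scheme.{u})) :
    ∃ v : Fin r → ℤ, PicGrp.cls G hG = picO Γ v := by
  classical
  obtain ⟨-, hXi, hXd, hfl, -⟩ := id hX
  haveI := hXi
  haveI := hfl
  haveI := isProper_hom_of_isArithSurface hX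
  haveI : IsLocallyNoetherian X.left := LocallyOfFiniteType.isLocallyNoetherian X.hom
  haveI : CompactSpace X.left := QuasiCompact.compactSpace_of_compactSpace X.hom
  haveI : AlgebraicGeometry.IsNoetherian X.left := {}
  let e' : G.restrict U.ι ≅ Coh.structureModule (U : Scheme.{u}) :=
    (Scheme.Modules.restrictFunctorIsoPullback U.ι).app G ≪≫ e
  have hg0 : IsGen (N := G.restrict U.ι) (U := (⊤ : (U : Scheme.{u}).Opens))
      (e'.inv.app ⊤ (1 : Γ((U : Scheme.{u}), ⊤))) :=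
    AbelMap.isGen_app e'.symm (TMul.isGen_one ⊤)
  let a : Fin r → ℕ := fun _ => 1
  have hI := cartier_divI hX Γ a
  obtain ⟨D, hDi, hD⟩ := exists_inverse_module ((Groth.Agent.S8914.result _).2 hI)
  obtain ⟨χ, hχ⟩ := AbelMap.exists_section hI hDi hD
  have hloc : CohB1.genLocus D χ = U := by
    refine TopologicalSpace.Opens.ext ?_
    have h1 := NegTwist.coe_support_zeroScheme hDi χ
    rw [hχ] at h1
    have hsupp : ((divI Γ a).support : Set X.left) = ⋃ i, Set.range (Γ i).ι :=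
      subset_antisymm (support_divI Γ a).1 (Set.iUnion_subset fun i => (support_divI Γ a).2 i le_rfl)
    rw [hsupp] at h1
    rw [hU, h1, compl_compl]
  have himg : U.ι ''ᵁ (⊤ : (U : Scheme.{u}).Opens) = U := U.ι_image_top
  have hg : IsGen (X := X.left) (N := G) (U := U.ι ''ᵁ (⊤ : (U : Scheme.{u}).Opens))
      (e'.inv.app ⊤ (1 : Γ((U : Scheme.{u}), ⊤))) := by
    intro W hW
    obtain ⟨W', rfl⟩ : ∃ W' : (U : Scheme.{u}).Opens, U.ι ''ᵁ W' = W :=
      ⟨U.ι ⁻¹ᵁ W, by rw [Scheme.Hom.image_preimage_eq_opensRange_inf, Scheme.Opens.opensRange_ι, inf_eq_right]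
                     exact hW.trans himg.le⟩
    have h2 := hg0 W' le_top
    exact (Function.Bijective.of_comp_iff _ (ConcreteCategory.bijective_of_isIso (U.ι.appIso W').inv)).1 h2
  have hle : CohB1.genLocus D χ ≤ U.ι ''ᵁ (⊤ : (U : Scheme.{u}).Opens) := by rw [hloc, himg]
  have hgU := hg.res hle
  haveI : G.IsQuasicoherent := TMul.isQCoh_of_isInvertible hG
  obtain ⟨n, -, t', ht'⟩ := TMul.exists_twist_extends hDi χ
    (res G hle (e'.inv.app ⊤ (1 : Γ((U : Scheme.{u}), ⊤))))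
  let G' := CohB1.tensorMod G (CohB1.tensorPow D n)
  have hG' : PicF.IsInvertible G' := TMul.isInvertible_tensorMod hG (TMul.isInvertible_tensorPow hDi n)
  have hsec : U ≤ CohB1.genLocus G' (homOf t') := by
    rw [← hloc]
    refine TMul.le_genLocus _ ?_
    rw [val_homOf, ht', TMul.twist_eq_tm χ (e := val χ (CohB1.genLocus D χ)) (c := 1) (one_smul _ _).symm,
      one_pow, one_smul]
    exact TMul.isGen_tm hgU (TMul.isGen_pw (TMul.isGen_genLocus χ) n)
  have hη : genericPoint X.left ∈ U := by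
    rw [← SetLike.mem_coe, hU]
    rintro hη
    obtain ⟨i, hi⟩ := Set.mem_iUnion.1 hη
    exact genericPoint_notMem_special (R := R) (X := X) (range_subset_specialFibre (Γ i) hi)
  obtain ⟨E, hE, hEs, ⟨eE⟩⟩ := NegTwist.exists_cartier_of_section_support hG' (homOf t')
    fun y hy => SurfAdj.eq_genericPoint_of_isAssPoint hy ▸ hsec hη
  obtain ⟨b, hb⟩ := exists_eq_divI_config hX Γ hE (by
    rw [hEs, Set.compl_subset_comm, ← hU]
    exact hsec)
  have hEi := (Groth.Agent.S8914.result E).2 hE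
  have h1 : PicGrp.cls G' hG' = (clsD E)⁻¹ := by
    rw [clsD_eq hEi]
    exact cls_eq_inv hG' hEi ⟨TMul.commIso G' (ClSub.idealMod E) ≪≫ eE⟩
  obtain ⟨hDi', hDc⟩ := cls_inverse hI hD
  have h2 : PicGrp.cls G' hG' = PicGrp.cls G hG * PicGrp.cls D hDi ^ n := by
    rw [← cls_tensorPow hDi n]
    rfl
  rw [h2, hDc, hb, clsD_divI hX, clsD_divI hX, ← picO_neg, ← picO_neg, ← zpow_natCast, ← picO_smul,
    ← eq_div_iff_mul_eq', ← picO_sub] at h1
  exact ⟨_, h1⟩

/-- A module trivial off the configuration with vanishing degrees on it is trivial. -/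
theorem nonempty_iso_of_trivial_off {G : X.left.Modules} (hG : PicF.IsInvertible G) (U : X.left.Opens)
    (hU : (U : Set X.left) = (⋃ i, Set.range (Γ i).ι)ᶜ)
    (e : (Scheme.Modules.pullback U.ι).obj G ≅ Coh.structureModule (U : Scheme.{u}))
    (hneg : ∀ a : Fin r → ℤ, a ≠ 0 → ∑ i, ∑ j, a i * a j * interMat Γ i j < 0)
    (h0 : ∀ i, ArSurf.inter R X G (Γ i) = 0) :
    Nonempty (G ≅ Coh.structureModule X.left) := by
  haveI := isProper_hom_of_isArithSurface hX
  obtain ⟨v, hv⟩ := exists_picO_of_trivial_off hX Γ hG U hU e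
  rw [nonempty_iso_structure_iff hG, hv]
  suffices v = 0 by rw [this, picO_zero]
  by_contra hne
  refine (hneg v hne).ne (Finset.sum_eq_zero fun i _ => ?_)
  have h1 : degP (Γ i) (picO Γ v) = 0 := by
    rw [← hv, degP_cls, h0 i]
  rw [degP_picO hX] at h1
  calc ∑ j, v i * v j * interMat Γ i j = v i * ∑ j, interMat Γ i j * v j := by
        rw [Finset.mul_sum]; exact Finset.sum_congr rfl fun j _ => by ring
    _ = 0 := by rw [h1, mul_zero]

/-- The canonical sheaves along a crepant contraction. -/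
theorem canonical_contraction
    (hneg : ∀ a : Fin r → ℤ, a ≠ 0 → ∑ i, ∑ j, a i * a j * interMat Γ i j < 0)
    {ωX : X.left.Modules} (hωX : Canon.IsCanonical X.hom ωX) (hK : ∀ i, ArSurf.inter R X ωX (Γ i) = 0)
    {Y : Over (Spec (CommRingCat.of R))} (f : X ⟶ Y) [IsIntegral Y.left]
    (hYnor : ∀ q : Y.left, IsIntegrallyClosed (Y.left.presheaf.stalk q)) (hYpr : Neron.IsProjectiveOver R Y)
    (hfpt : ∀ i, ∃ y : Y.left, Set.range (((Γ i).ι ≫ f.left).base : (Γ i).curve.left → Y.left) = {y})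
    (hfpre : f.left.base ⁻¹' (f.left.base '' ⋃ i, Set.range (Γ i).ι.base) = ⋃ i, Set.range (Γ i).ι.base)
    (hfiso : ∀ V : Y.left.Opens, (V : Set Y.left) ∩ f.left.base '' (⋃ i, Set.range (Γ i).ι.base) = ∅ →
      IsIso (f.left ∣_ V))
    {ωY : Y.left.Modules} (hωY : Canon.IsCanonical Y.hom ωY) :
    PicF.IsInvertible ωY ∧ PicF.IsInvertible ωX ∧
      Nonempty ((Scheme.Modules.pullback f.left).obj ωY ≅ ωX) ∧
      ∀ V : Y.left.Opens, Function.Bijective (f.left.app V) := by
  obtain ⟨hreg, hXi, hXd, hfl, hproj⟩ := id hX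
  haveI := hXi
  haveI := hfl
  haveI := isProper_hom_of_isArithSurface hX
  obtain ⟨-, hclosed, happ, -⟩ := contraction_facts hproj Γ f hYnor hYpr hfpt hfpre hfiso
  have hcl : IsClosed (f.left.base '' ⋃ i, Set.range (Γ i).ι.base) :=
    hclosed _ (isClosed_iUnion_of_finite fun i => (Γ i).ι.isClosedEmbedding.isClosed_range)
  let V : Y.left.Opens := ⟨(f.left.base '' ⋃ i, Set.range (Γ i).ι.base)ᶜ, hcl.isOpen_compl⟩
  haveI := hfiso V (Set.compl_inter_self _)
  let U : X.left.Opens := f.left ⁻¹ᵁ V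
  have hU : (U : Set X.left) = (⋃ i, Set.range (Γ i).ι)ᶜ := by
    show (f.left.base ⁻¹' (f.left.base '' ⋃ i, Set.range (Γ i).ι.base)ᶜ) = _
    rw [Set.preimage_compl, hfpre]
  haveI : IsOpenImmersion (U.ι ≫ f.left) := by
    rw [← morphismRestrict_ι]; infer_instance
  have hYi := isInvertible_of_isCanonical hωY
  have hXi' := isInvertible_of_isCanonical hωX
  obtain ⟨eU⟩ := nonempty_canon_pullback_iso hωX hωY U.ι (U.ι ≫ f.left)
    (by rw [Category.assoc, Over.w f])
  obtain ⟨M, hM, hMinv⟩ := exists_inverse_module hXi'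
  let P := (Scheme.Modules.pullback f.left).obj ωY
  have hP : PicF.IsInvertible P := PicLoc.isInvertible_pullback _ hYi
  obtain ⟨q⟩ := id hMinv
  obtain ⟨p⟩ := TMul.nonempty_pullTensorIso U.ι P M
  obtain ⟨p'⟩ := TMul.nonempty_pullTensorIso U.ι M ωX
  let e : (Scheme.Modules.pullback U.ι).obj (CohB1.tensorMod P M) ≅ Coh.structureModule (U : Scheme.{u}) :=
    p.symm ≪≫ PicGrp.tensorModIso ((Scheme.Modules.pullbackComp U.ι f.left).app ωY ≪≫ eU.symm) (Iso.refl _) ≪≫
      TMul.commIso _ _ ≪≫ p' ≪≫ (Scheme.Modules.pullback U.ι).mapIso q ≪≫ PicLoc.pullbackStructureIso U.ι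
  obtain ⟨t⟩ := nonempty_iso_of_trivial_off hX Γ (TMul.isInvertible_tensorMod hP hM) U hU e hneg fun i => by
    obtain ⟨y, hy⟩ := hfpt i
    obtain ⟨z⟩ := nonempty_pullback_point ((Γ i).ι ≫ f.left) y (fun w => hy.subset ⟨w, rfl⟩) hYi
    rw [inter_tensor (Γ i) hP hM,
      inter_eq_zero_of_trivial (Γ i) ((Scheme.Modules.pullbackComp (Γ i).ι f.left).app ωY ≪≫ z), zero_add]
    have h1 := inter_tensor (Γ i) hM hXi'
    rw [hK i, add_zero, inter_eq_zero_of_trivial (Γ i)
      ((Scheme.Modules.pullback (Γ i).ι).mapIso q ≪≫ PicLoc.pullbackStructureIso (Γ i).ι)] at h1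
    exact h1.symm
  refine ⟨hYi, hXi', (nonempty_iso_iff hP hXi').2 ?_, fun W => happ W⟩
  have h1 := (nonempty_iso_structure_iff (TMul.isInvertible_tensorMod hP hM)).1 ⟨t⟩
  rw [cls_tensor hP hM, cls_eq_inv hM hXi' hMinv] at h1
  exact mul_inv_eq_one.1 h1

end Groth.Agent.Castel

namespace Groth.Agent.Castel

attribute [local instance] W7Cube.law

/-- Powers along a morphism with `O = f_*O`. -/
theorem pullback_push_pow {X Y : Scheme.{u}} (b : X ⟶ Y) (hb : ∀ V : Y.Opens, Function.Bijective (b.app V))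
    {A : Y.Modules} (hA : PicF.IsInvertible A) {B : X.Modules}
    (e : (Scheme.Modules.pullback b).obj A ≅ B) :
    (∀ q : ℕ, Nonempty ((Scheme.Modules.pullback b).obj (CohB1.tensorPow A q) ≅ CohB1.tensorPow B q)) ∧
    (∀ q : ℕ, Nonempty ((Scheme.Modules.pushforward b).obj (CohB1.tensorPow B q) ≅ CohB1.tensorPow A q)) := by
  have h1 : ∀ q : ℕ, Nonempty ((Scheme.Modules.pullback b).obj (CohB1.tensorPow A q) ≅ CohB1.tensorPow B q) :=
    fun q => by
      obtain ⟨a⟩ := TMul.nonempty_pullPowIso b A q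
      exact ⟨a.symm ≪≫ Classical.choice (AbsApprox.nonempty_powIso e q)⟩
  refine ⟨h1, fun q => ?_⟩
  obtain ⟨a⟩ := nonempty_push_pullback b hb (TMul.isInvertible_tensorPow hA q)
  obtain ⟨c⟩ := h1 q
  exact ⟨(Scheme.Modules.pushforward b).mapIso c.symm ≪≫ a.symm⟩

/-- Inverses pull back to inverses. -/
theorem nonempty_pullback_inverse_iso {X Y : Scheme.{u}} (b : X ⟶ Y) {A A' : Y.Modules} {B B' : X.Modules}
    (hA : PicF.IsInvertible A) (hB : PicF.IsInvertible B) (hA' : ClSub.IsInverseOf A' A)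
    (hB' : ClSub.IsInverseOf B' B) (e : (Scheme.Modules.pullback b).obj A ≅ B) :
    PicF.IsInvertible A' ∧ Nonempty ((Scheme.Modules.pullback b).obj A' ≅ B') := by
  have hA'i := isInvertible_of_isInverseOf hA hA'
  have hB'i := isInvertible_of_isInverseOf hB hB'
  refine ⟨hA'i, (nonempty_iso_iff (PicLoc.isInvertible_pullback b hA'i) hB'i).2 ?_⟩
  rw [← pull_cls b hA'i, cls_eq_inv hA'i hA hA', map_inv, (pull_eq_iff b hA hB).1 ⟨e⟩, cls_eq_inv hB'i hB hB']

end Groth.Agent.Castel
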