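import Groth.Agent.Castel.GenusZeroModels
import Groth.Agent.Castel.CanonContract
import Groth.Agent.Castel.BlowLine
import Groth.Agent.Castel.ProperArith
import Groth.Agent.S7922

/-!
The canonical sheaf of a blown up arithmetic surface.
-/

set_option autoImplicit false
set_option backward.isDefEq.respectTransparency false
set_option backward.isDefEq.respectTransparency.types false
set_option linter.style.haveILetI false

universe u

open CategoryTheory CategoryTheory.Limits AlgebraicGeometry TopologicalSpace Opposite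

noncomputable section

namespace Groth.Agent.Castel

attribute [local instance] W7Cube.law

variable {R : Type u} [CommRing R] [IsDomain R] [IsDiscreteValuationRing R] {Y : Over (Spec (CommRingCat.of R))}
  (hY : ArSurf.IsArithSurface R Y) (y : Y.left) (hy : IsClosed ({y} : Set Y.left))
  {X : Scheme.{u}} (f : X ⟶ Y.left) (hf : BlowUp.IsBlowUp f (Scheme.IdealSheafData.vanishingIdeal ⟨{y}, hy⟩))
  (E : ArSurf.VertComp R (Over.mk (f ≫ Y.hom)))
  (hE : Set.range (E.ι.base : E.curve.left → X) = f.base ⁻¹' {y})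
include hY hy hf E hE

/-- The centre of the blow-up is a regular point of dimension two. -/
theorem isRegPt_of_exceptional : PtBlow.IsRegPt Y.left y := by
  obtain ⟨hYr, hYi, hYd, -, -⟩ := id hY
  haveI := hYi
  haveI := isProper_hom_of_isArithSurface hY
  haveI : IsLocallyNoetherian Y.left := LocallyOfFiniteType.isLocallyNoetherian Y.hom
  haveI : CompactSpace Y.left := QuasiCompact.compactSpace_of_compactSpace Y.hom
  haveI : AlgebraicGeometry.IsNoetherian Y.left := {}
  haveI := E.isIntegral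
  refine ⟨hy, hYr y, ringKrullDim_of_blowUp hYd hYr hy hf ?_⟩
  by_contra hne
  push Not at hne
  haveI : Subsingleton E.curve.left := ⟨fun p p' => by
    refine E.ι.isClosedEmbedding.injective ?_
    by_contra h
    exact hne _ _ h (hE.le ⟨p, rfl⟩) (hE.le ⟨p', rfl⟩)⟩
  have h0 : topologicalKrullDim E.curve.left ≤ ((0 : ℕ) : WithBot ℕ∞) :=
    Unibranch.topologicalKrullDim_le_natCast fun l c hc => by
      rcases l with _ | l
      · exact le_rfl
      · exact absurd (Subsingleton.elim _ _) (hc 0).2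
  rw [E.dim_eq] at h0
  exact absurd h0 (by decide)

/-- A blown up arithmetic surface is an arithmetic surface. -/
theorem isArithSurface_blowUp : ArSurf.IsArithSurface R (Over.mk (f ≫ Y.hom)) := by
  obtain ⟨hYr, hYi, hYd, hYf, -⟩ := id hY
  haveI := hYi
  haveI := hYf
  haveI := isProper_hom_of_isArithSurface hY
  haveI : IsLocallyNoetherian Y.left := LocallyOfFiniteType.isLocallyNoetherian Y.hom
  haveI : CompactSpace Y.left := QuasiCompact.compactSpace_of_compactSpace Y.hom
  haveI : AlgebraicGeometry.IsNoetherian Y.left := {}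
  have hp := isRegPt_of_exceptional hY y hy f hf E hE
  haveI := PtBlow.isProper_blowUp hp hf
  haveI := W7Fib.isIntegral_blowUp (PtBlow.pt_ne_bot hp) hf
  let U : Y.left.Opens := (PtBlow.pt hp).support.compl
  have hUmem : ∀ w, w ∈ U ↔ w ≠ y := fun w => by
    show w ∉ ((PtBlow.pt hp).support : Set Y.left) ↔ _
    rw [PtBlow.coe_support_pt hp]
    rfl
  haveI hiso : IsIso (f ∣_ U) := BlowUpLib.isIso_restrict hf
  have hηU : genericPoint Y.left ∈ U := (hUmem _).2 (PtBlow.genericPoint_ne hp)
  have hbη : f (genericPoint X) = genericPoint Y.left := by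
    obtain ⟨z, hz⟩ := (f ∣_ U).surjective ⟨_, hηU⟩
    have hz' : f z.1 = genericPoint Y.left := (morphismRestrict_base_coe f U z).symm.trans (congrArg Subtype.val hz)
    exact ((genericPoint_specializes _).antisymm (hz' ▸ (genericPoint_specializes z.1).map f.continuous)).eq.symm
  have hπη : (Y.hom (genericPoint Y.left)).asIdeal = ⊥ := by
    obtain ⟨w, hw, hw'⟩ := Flat.generalizingMap Y.hom (a := genericPoint Y.left)
      ((PrimeSpectrum.le_iff_specializes (⟨⊥, Ideal.isPrime_bot⟩ : PrimeSpectrum R)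
        (Y.hom (genericPoint Y.left))).mp bot_le)
    rw [(hw.antisymm ((genericPoint_spec Y.left).specializes trivial)).eq] at hw'
    exact congrArg PrimeSpectrum.asIdeal hw'
  have hreg : ∀ x : X, IsRegularLocalRing (X.presheaf.stalk x) := PtBlow.isRegular_blowUp hp hf hYr
  haveI hfl : Flat (f ≫ Y.hom) := flat_of_dominant (f ≫ Y.hom) (by rw [Scheme.Hom.comp_apply, hbη, hπη])
  have hdim : topologicalKrullDim X ≤ 2 := PtBlow.dim_le_of_birational f ⟨U, ⟨_, hηU⟩, hiso⟩ hYd.le
  obtain ⟨L, hL⟩ := exists_ample_model (f ≫ Y.hom) hreg hdim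
  refine ⟨hreg, ‹IsIntegral X›, le_antisymm hdim ?_, hfl, isProjectiveOver_of_ample (f ≫ Y.hom) hL⟩
  haveI := E.isIntegral
  obtain ⟨e, he⟩ := exists_ne_genericPoint E.dim_eq
  refine Unibranch.natCast_le_topologicalKrullDim (α := X) (k := 2)
    ![genericPoint X, E.ι (genericPoint E.curve.left), E.ι e] fun i => ?_
  fin_cases i
  · refine ⟨genericPoint_specializes _, fun h => (hUmem _).1 hηU ?_⟩
    rw [← hbη, show genericPoint X = E.ι (genericPoint E.curve.left) from h]
    exact hE.le ⟨_, rfl⟩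
  · exact ⟨(genericPoint_specializes e).map E.ι.continuous, fun h => he (E.ι.isClosedEmbedding.injective h).symm⟩

/-- `K_X = f^*K_Y + E`. -/
theorem canonical_blowUp (hys : Y.hom.base y = IsLocalRing.closedPoint R) {L : X.Modules}
    (hL : ClSub.IsInverseOf L (ClSub.idealMod E.ι.ker))
    {ωY : Y.left.Modules} (hωY : Canon.IsCanonical Y.hom ωY)
    {ωX : X.Modules} (hωX : Canon.IsCanonical (f ≫ Y.hom) ωX) :
    Nonempty (ωX ≅ CohB1.tensorMod ((Scheme.Modules.pullback f).obj ωY) L) := by
  have hA := isArithSurface_blowUp hY y hy f hf E hE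
  haveI := isProper_hom_of_isArithSurface hA
  obtain ⟨hexc, -, -, hself⟩ := Groth.Agent.S7922.result R Y hY y hy hys f hf E hE L hL
  have hp := isRegPt_of_exceptional hY y hy f hf E hE
  haveI := isProper_hom_of_isArithSurface hY
  haveI : IsLocallyNoetherian Y.left := LocallyOfFiniteType.isLocallyNoetherian Y.hom
  haveI : CompactSpace Y.left := QuasiCompact.compactSpace_of_compactSpace Y.hom
  haveI : AlgebraicGeometry.IsNoetherian Y.left := {}
  obtain ⟨k, _, ι, hι, hE', -, -, hrange⟩ := PtBlow.exists_contraction' hp hf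
  haveI := hι
  haveI : IsIntegral (CohB1.ProjSpace 1 k) := Horrocks.isIntegral_projSpace
  haveI := E.isIntegral
  obtain ⟨-, e, -⟩ := exists_iso_of_range ι E.ι (hrange.trans hE.symm)
  obtain ⟨hI, k', _, e', ⟨c'⟩⟩ := id hexc
  obtain ⟨h1, -⟩ := vert_line_numbers (X := Over.mk (f ≫ Y.hom)) E e'
    (isInvertible_of_isInverseOf ((Groth.Agent.S8914.result _).2 hI) hL) hL c'
  let Γ : Fin 1 → ArSurf.VertComp R (Over.mk (f ≫ Y.hom)) := fun _ => E
  have hYi' := isInvertible_of_isCanonical hωY
  have hXi := isInvertible_of_isCanonical hωX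
  have hP : PicF.IsInvertible ((Scheme.Modules.pullback f).obj ωY) := PicLoc.isInvertible_pullback f hYi'
  obtain ⟨M, hM, hMinv⟩ := exists_inverse_module hP
  let V : Y.left.Opens := ⟨({y} : Set Y.left)ᶜ, hy.isOpen_compl⟩
  haveI : IsIso (f ∣_ V) := PtBlow.isIso_restrict_le f (V := (PtBlow.pt hp).support.compl) (fun v hv => by
    show v ∉ ((PtBlow.pt hp).support : Set Y.left)
    rw [PtBlow.coe_support_pt hp]
    exact hv) (BlowUpLib.isIso_restrict hf)
  let U : X.Opens := f ⁻¹ᵁ V
  have hU : (U : Set X) = (⋃ i, Set.range (Γ i).ι)ᶜ := by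
    show f.base ⁻¹' ({y} : Set Y.left)ᶜ = _
    rw [Set.preimage_compl, ← hE]
    exact congrArg _ (Set.iUnion_const _).symm
  haveI : IsOpenImmersion (U.ι ≫ f) := by
    rw [← morphismRestrict_ι]; infer_instance
  obtain ⟨eU⟩ := nonempty_canon_pullback_iso hωX hωY U.ι (U.ι ≫ f) (Category.assoc _ _ _).symm
  obtain ⟨q⟩ := id hMinv
  obtain ⟨p⟩ := TMul.nonempty_pullTensorIso U.ι ωX M
  obtain ⟨p'⟩ := TMul.nonempty_pullTensorIso U.ι M ((Scheme.Modules.pullback f).obj ωY)
  let t : (Scheme.Modules.pullback U.ι).obj (CohB1.tensorMod ωX M) ≅ Coh.structureModule (U : Scheme.{u}) :=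
    p.symm ≪≫ PicGrp.tensorModIso (eU ≪≫ ((Scheme.Modules.pullbackComp U.ι f).app ωY).symm) (Iso.refl _) ≪≫
      TMul.commIso _ _ ≪≫ p' ≪≫ (Scheme.Modules.pullback U.ι).mapIso q ≪≫ PicLoc.pullbackStructureIso U.ι
  have hG := TMul.isInvertible_tensorMod hXi hM
  obtain ⟨v, hv⟩ := exists_picO_of_trivial_off hA Γ hG U hU t
  -- degrees on the exceptional curve
  have hsum := selfInter_add_canonical hA E hL hωX
  rw [hself, h1, Nat.cast_zero, sub_zero] at hsum
  obtain ⟨z⟩ := nonempty_pullback_point (E.ι ≫ f) y (fun w => hE.le ⟨w, rfl⟩) hYi'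
  have hP0 : ArSurf.inter R (Over.mk (f ≫ Y.hom)) ((Scheme.Modules.pullback f).obj ωY) E = 0 :=
    inter_eq_zero_of_trivial E ((Scheme.Modules.pullbackComp E.ι f).app ωY ≪≫ z)
  have hM0 : ArSurf.inter R (Over.mk (f ≫ Y.hom)) M E = 0 := by
    have h2 := inter_tensor E hM hP
    rw [hP0, add_zero, inter_eq_zero_of_trivial E
      ((Scheme.Modules.pullback E.ι).mapIso q ≪≫ PicLoc.pullbackStructureIso E.ι)] at h2
    exact h2.symm
  have hdeg : degP (Γ 0) (picO Γ v) = ArSurf.inter R (Over.mk (f ≫ Y.hom)) ωX E := by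
    rw [← hv, degP_cls]
    show ArSurf.inter R (Over.mk (f ≫ Y.hom)) (CohB1.tensorMod ωX M) E = _
    rw [inter_tensor E hXi hM, hM0, add_zero]
  rw [degP_picO hA, Fin.sum_univ_one, ← inter_eq_interMat hA Γ (j := 0) hL, hself] at hdeg
  have hw : (0 : ℤ) < Models.wdeg R (Over.mk (f ≫ Y.hom)) E := by exact_mod_cast (wdeg_facts E).1
  have hv1 : v 0 = 1 := by
    by_contra hne
    rcases lt_or_gt_of_ne hne with h | h <;> nlinarith
  obtain ⟨hLi, hLc⟩ := cls_inverse (isEffCartierIdeal_ker hA E) hL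
  refine (nonempty_iso_iff hXi (TMul.isInvertible_tensorMod hP hLi)).2 ?_
  have hO : picO Γ v = PicGrp.cls L hLi := by
    rw [hLc, picO, Fin.prod_univ_one, hv1, zpow_neg, zpow_one]
  rw [hO, cls_tensor hXi hM, cls_eq_inv hM hP hMinv, mul_inv_eq_iff_eq_mul] at hv
  rw [cls_tensor hP hLi, mul_comm]
  exact hv

end Groth.Agent.Castel
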