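import Groth.Agent.GLinFree.Dim
import Groth.Agent.TorCI.RegularStalk
import Mathlib.RingTheory.Nakayama

/-!
Equations of a subscheme inside the closed fibre of a smooth scheme over a discrete valuation ring.
-/

set_option autoImplicit false
set_option linter.style.haveILetI false

universe u

open IsLocalRing

noncomputable section

namespace Groth.Agent.Castel

variable {S : Type u} [CommRing S]

/-- An element cutting out a regular ring of smaller dimension is outside the square of the maximal ideal. -/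
theorem notMem_sq_of_regular_quot [IsRegularLocalRing S] (ϖ : S) (hm : ϖ ∈ maximalIdeal S)
    [IsRegularLocalRing (S ⧸ Ideal.span {ϖ})] (hdim : ringKrullDim (S ⧸ Ideal.span {ϖ}) + 1 = ringKrullDim S) :
    ϖ ∉ maximalIdeal S ^ 2 := by
  intro h2
  let π := Ideal.Quotient.mk (Ideal.span {ϖ})
  obtain ⟨s, hs, hspan⟩ := Submodule.FG.exists_span_set_encard_eq_spanFinrank
    (IsNoetherian.noetherian (maximalIdeal (S ⧸ Ideal.span {ϖ})))
  have hfin : s.Finite := Set.finite_of_encard_eq_coe hs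
  choose σ hσ using fun b : S ⧸ Ideal.span {ϖ} => Ideal.Quotient.mk_surjective b
  haveI : IsLocalHom π := IsLocalHom.of_surjective π Ideal.Quotient.mk_surjective
  have h1 : (Ideal.span (σ '' s)).map π = maximalIdeal (S ⧸ Ideal.span {ϖ}) := by
    rw [Ideal.map_span, ← Set.image_comp, show π ∘ σ = id from funext hσ, Set.image_id]
    exact hspan
  have hle : maximalIdeal S ≤ Ideal.span (σ '' s) ⊔ maximalIdeal S • maximalIdeal S := by
    intro a ha
    have hπa : π a ∈ maximalIdeal (S ⧸ Ideal.span {ϖ}) := fun hu => ha (isUnit_of_map_unit π a hu)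
    rw [← h1] at hπa
    obtain ⟨b, hb, hab⟩ := (Ideal.mem_map_iff_of_surjective π Ideal.Quotient.mk_surjective).1 hπa
    obtain ⟨t, ht⟩ := Ideal.mem_span_singleton'.1 (Ideal.Quotient.eq.1 hab.symm)
    rw [show a = b + t * ϖ by rw [ht]; ring]
    refine add_mem (Ideal.mem_sup_left hb) (Ideal.mem_sup_right ?_)
    rw [smul_eq_mul, ← pow_two]
    exact Ideal.mul_mem_left _ _ h2
  have hm' : maximalIdeal S ≤ Ideal.span (σ '' s) :=
    Submodule.le_of_le_smul_of_le_jacobson_bot (IsNoetherian.noetherian _)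
      (IsLocalRing.maximalIdeal_le_jacobson _) hle
  have heq : maximalIdeal S = Ideal.span (σ '' s) := le_antisymm hm' (Ideal.span_le.2 (by
    rintro _ ⟨b, hb, rfl⟩
    intro hu
    have : b ∈ maximalIdeal (S ⧸ Ideal.span {ϖ}) := hspan ▸ Submodule.subset_span hb
    exact this (hσ b ▸ hu.map π)))
  have hcard : (maximalIdeal S).spanFinrank ≤ (maximalIdeal (S ⧸ Ideal.span {ϖ})).spanFinrank := by
    rw [heq]
    refine (Submodule.spanFinrank_span_le_ncard_of_finite (hfin.image σ)).trans ?_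
    refine (Set.ncard_image_le hfin).trans (le_of_eq ?_)
    rw [Set.ncard, hs, ENat.toNat_coe]
  rw [← IsRegularLocalRing.spanFinrank_maximalIdeal (R := S),
    ← IsRegularLocalRing.spanFinrank_maximalIdeal (R := S ⧸ Ideal.span {ϖ}), ← Nat.cast_one, ← Nat.cast_add,
    Nat.cast_inj] at hdim
  omega

/-- An element outside `m²` replaces one of the generators. -/
theorem exists_replace [IsLocalRing S] {c : ℕ} (g : Fin (c + 1) → S) (hg : ∀ i, g i ∈ maximalIdeal S) (ϖ : S)
    (hϖ : ϖ ∈ Ideal.span (Set.range g)) (h2 : ϖ ∉ maximalIdeal S ^ 2) :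
    ∃ g' : Fin c → S, Ideal.span (Set.range g') ⊔ Ideal.span {ϖ} = Ideal.span (Set.range g) := by
  classical
  obtain ⟨a, ha⟩ := (Ideal.mem_span_range_iff_exists_fun).1 hϖ
  obtain ⟨i, hi⟩ : ∃ i, IsUnit (a i) := by
    by_contra! h
    refine h2 (ha ▸ Ideal.sum_mem _ fun j _ => ?_)
    rw [pow_two]
    exact Ideal.mul_mem_mul (h j) (hg j)
  refine ⟨fun j => g (i.succAbove j), le_antisymm (sup_le (Ideal.span_le.2 ?_) ?_) (Ideal.span_le.2 ?_)⟩
  · rintro _ ⟨j, rfl⟩
    exact Ideal.subset_span ⟨_, rfl⟩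
  · rw [Ideal.span_le, Set.singleton_subset_iff]
    exact hϖ
  · rintro _ ⟨j, rfl⟩
    obtain rfl | ⟨l, rfl⟩ := i.eq_self_or_eq_succAbove j
    · refine (Ideal.unit_mul_mem_iff_mem _ hi).1 ?_
      rw [Fin.sum_univ_succAbove _ j] at ha
      rw [show a j * g j = ϖ - ∑ l, a (j.succAbove l) * g (j.succAbove l) by rw [← ha]; ring]
      exact sub_mem (Ideal.mem_sup_right (Ideal.mem_span_singleton_self _))
        (Ideal.mem_sup_left (Ideal.sum_mem _ fun l _ => Ideal.mul_mem_left _ _ (Ideal.subset_span ⟨l, rfl⟩)))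
    · exact Ideal.mem_sup_left (Ideal.subset_span ⟨l, rfl⟩)

/-- Equations modulo an element of the ideal. -/
theorem exists_gens_quot {T : Type u} [CommRing T] (π : S →+* T) (hπ : Function.Surjective π) {c : ℕ}
    (g' : Fin c → S) (J : Ideal S) (ϖ : S) (hker : RingHom.ker π = Ideal.span {ϖ})
    (hJ : Ideal.span (Set.range g') ⊔ Ideal.span {ϖ} = J) :
    ∃ t : Fin c → T, J.map π = Ideal.span (Set.range t) := by
  refine ⟨π ∘ g', ?_⟩
  rw [← hJ, Ideal.map_sup, Ideal.map_span, Ideal.map_span, ← Set.range_comp, sup_eq_left, Ideal.span_le]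
  rintro _ ⟨x, hx, rfl⟩
  rw [Set.mem_singleton_iff] at hx
  subst hx
  rw [SetLike.mem_coe, show π x = 0 from hker.ge (Ideal.mem_span_singleton_self _)]
  exact zero_mem _

/-- A ring with a regular quotient by a non zero divisor. -/
theorem regular_of_quot_nzd [IsNoetherianRing S] [IsLocalRing S] {T : Type u} [CommRing T] [IsRegularLocalRing T]
    (π : S →+* T) (hπ : Function.Surjective π) (ϖ : S) (hϖ : ϖ ∈ nonZeroDivisors S)
    (hker : RingHom.ker π = Ideal.span {ϖ}) :
    IsRegularLocalRing S ∧ ringKrullDim T + 1 = ringKrullDim S ∧ ϖ ∈ maximalIdeal S ∧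
      ϖ ∉ maximalIdeal S ^ 2 := by
  have hm : ϖ ∈ maximalIdeal S := fun hu => RingHom.ker_ne_top π
    (Ideal.eq_top_of_isUnit_mem _ (hker ▸ Ideal.mem_span_singleton_self ϖ) hu)
  have hof : Ideal.ofList [ϖ] = Ideal.span {ϖ} := Ideal.ofList_singleton ϖ
  have hreg : RingTheory.Sequence.IsRegular S [ϖ] := by
    refine (IsLocalRing.isRegular_iff_isWeaklyRegular_of_subset_maximalIdeal (by simpa using hm)).2
      ((RingTheory.Sequence.isWeaklyRegular_singleton_iff S ϖ).2 fun a b h => ?_)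
    exact (mul_cancel_left_mem_nonZeroDivisors hϖ).1 h
  haveI := TorCI.isRegularLocalRing_of_regular_quot π hπ [ϖ] hreg (hker.trans hof.symm)
  let e : (S ⧸ Ideal.span {ϖ}) ≃+* T :=
    (Ideal.quotEquivOfEq hker.symm).trans (RingHom.quotientKerEquivOfSurjective hπ)
  haveI : IsRegularLocalRing (S ⧸ Ideal.span {ϖ}) := IsRegularLocalRing.of_ringEquiv e.symm
  have hd := ringKrullDim_add_length_eq_ringKrullDim_of_isRegular _ hreg
  rw [ringKrullDim_eq_of_ringEquiv ((Ideal.quotEquivOfEq hof).trans e)] at hd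
  refine ⟨inferInstance, by simpa using hd, hm, notMem_sq_of_regular_quot ϖ hm ?_⟩
  rw [ringKrullDim_eq_of_ringEquiv e]
  simpa using hd

end Groth.Agent.Castel
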