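import Groth.Agent.Castel.CompFin
import Groth.Agent.Castel.ArithY
import Groth.Agent.Castel.InterNeg

/-!
Exceptional curves of an arithmetic surface lie over finitely many points.
-/

set_option autoImplicit false
set_option backward.isDefEq.respectTransparency false
set_option backward.isDefEq.respectTransparency.types false

universe u

open CategoryTheory CategoryTheory.Limits AlgebraicGeometry TopologicalSpace Topology

namespace Groth.Agent.Castel

variable {R : Type u} [CommRing R] [IsDedekindDomain R]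

/-- A map which is an isomorphism over an open containing the generic fibre is one on generic fibres. -/
theorem isIso_genericFibre_map {X Y : Over (Spec (CommRingCat.of R))} (g : X ⟶ Y) (V : Y.left.Opens)
    [IsIso (g.left ∣_ V)] (hV : ∀ y, (Y.hom y).asIdeal = ⊥ → y ∈ V) :
    IsIso ((Neron.genericFibre R).map g) := by
  let fY := pullback.fst Y.hom (Neron.genPt R)
  let gK := ((Neron.genericFibre R).map g).left
  have htop : fY ⁻¹ᵁ V = ⊤ := by
    refine SetLike.coe_injective (Set.eq_univ_of_forall fun v => hV _ ?_)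
    have : fY v ∈ Set.range fY := ⟨v, rfl⟩
    rw [Scheme.Pullback.range_fst, RelMinSmooth.range_genPt] at this
    exact congrArg PrimeSpectrum.asIdeal (show Y.hom (fY v) = _ from this)
  haveI h1 := isIso_restrict_fst fY g.left V
  rw [htop] at h1
  haveI : IsIso (pullback.fst fY g.left) :=
    IsZariskiLocalAtTarget.of_iSup_eq_top (P := MorphismProperty.isomorphisms Scheme)
      (fun _ : Unit => (⊤ : (pullback Y.hom (Neron.genPt R)).Opens)) (by simp) fun _ => h1
  have P1 : IsPullback gK (pullback.fst X.hom (Neron.genPt R)) fY g.left := by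
    refine IsPullback.of_right (h₁₂ := pullback.snd Y.hom (Neron.genPt R)) (v₁₃ := Neron.genPt R) (h₂₂ := Y.hom) ?_ ?_
      (IsPullback.of_hasPullback Y.hom (Neron.genPt R)).flip
    · have h2 : gK ≫ pullback.snd Y.hom (Neron.genPt R) = pullback.snd X.hom (Neron.genPt R) :=
        Over.w ((Neron.genericFibre R).map g)
      rw [h2, Over.w g]
      exact (IsPullback.of_hasPullback X.hom (Neron.genPt R)).flip
    · exact pullback.lift_fst _ _ _
  haveI : IsIso gK := by
    rw [← P1.isoPullback_hom_fst]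
    infer_instance
  haveI : IsIso ((Over.forget _).map ((Neron.genericFibre R).map g)) := ‹IsIso gK›
  exact isIso_of_reflects_iso ((Neron.genericFibre R).map g) (Over.forget _)

theorem finite_exc_fibres {X : Over (Spec (CommRingCat.of R))} (hX : ArSurf.IsArithSurface R X) :
    Set.Finite {s : (Spec (CommRingCat.of R) : Scheme.{u}) | ∃ (E : Scheme.{u}) (ι : E ⟶ X.left),
      IsClosedImmersion ι ∧ Models.IsExcCurve ι ∧
        Set.range ((ι ≫ X.hom).base : E → Spec (CommRingCat.of R)) = {s}} := by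
  obtain ⟨B, hBf, hB⟩ := exists_finite_bad hX
  let η : Spec (CommRingCat.of R) := (⟨⊥, Ideal.isPrime_bot⟩ : PrimeSpectrum R)
  refine ((hBf.image X.hom.base).insert η).subset fun s ⟨E, ι, hι, hE, hs⟩ => ?_
  by_cases hsη : s = η
  · exact Or.inl hsη
  refine Or.inr ?_
  haveI := hι
  have hX' := hX
  obtain ⟨hXr, hXi, hXd, -, hXp⟩ := hX'
  haveI := hXi
  haveI := Groth.Agent.PtBlow.isProper_of_isProjectiveOver (Z := X) hXp
  obtain ⟨L₀, hL₀⟩ := exists_ample_of_proj hXp
  obtain ⟨hI, k, _, eP, -⟩ := id hE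
  obtain ⟨L, hLi, ⟨eL⟩⟩ := Groth.Agent.SymAlg.exists_inverse ((Groth.Agent.S8914.result _).2 hI)
  have hL : ClSub.IsInverseOf L (ClSub.idealMod ι.ker) := ⟨TMul.commIso L _ ≪≫ eL⟩
  obtain ⟨Y, b, g, y₀, hb, hbg, hg, hbp, hfib, happ, hoff, -, L', hL', -⟩ :=
    exists_ample_contraction X.hom L₀ hL₀ ι hE L hL hLi
  haveI := hg
  haveI := hbp
  obtain ⟨-, -, y, hy, hyr, hyreg, hydim, -⟩ := hb
  haveI : IsIntegral (CohB1.ProjSpace 1 k) := Horrocks.isIntegral_projSpace
  let e₀ := eP.hom (genericPoint (CohB1.ProjSpace 1 k))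
  have hyy : y = y₀ := by
    have h1 : b (ι e₀) = y := hyr.subset ⟨e₀, rfl⟩
    have h2 : b (ι e₀) = y₀ := hfib.ge ⟨e₀, rfl⟩
    exact h1.symm.trans h2
  subst hyy
  obtain ⟨hYi, hYd, hYf, hYp, hYr⟩ := surface_facts hX b g hbg y hy (hfib ▸ ⟨ι e₀, e₀, rfl⟩) happ hoff hL'
  haveI := hYf
  let V : Y.Opens := ⟨({y} : Set Y)ᶜ, hy.isOpen_compl⟩
  let G : X ⟶ Over.mk g := Over.homMk b hbg
  haveI : IsIso (G.left ∣_ V) := hoff V fun h => h rfl
  have hsE : ∀ v, X.hom (ι v) = s := fun v => hs.subset ⟨v, Scheme.Hom.comp_apply ι X.hom v⟩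
  have hgen : IsIso ((Neron.genericFibre R).map G) := isIso_genericFibre_map G V fun v hv hvy => hsη (by
    have h : g v = s := by
      rw [(hvy : v = y), ← hsE e₀, ← hbg, Scheme.Hom.comp_apply]
      exact congrArg g (hfib.ge ⟨e₀, rfl⟩ : b (ι e₀) = y).symm
    exact h.symm.trans (PrimeSpectrum.ext hv))
  haveI : Flat (Over.mk g).hom := hYf
  obtain ⟨-, -, -, hcon, -⟩ := contracted_facts hX (Y := Over.mk g) (fun v => by
    by_cases hv : v = y
    · subst hv; exact hyreg
    · exact hYr v hv) hYp G hgen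
  obtain ⟨p, hp⟩ : ∃ p : CohB1.ProjSpace 1 k, p ≠ genericPoint (CohB1.ProjSpace 1 k) := by
    by_contra! hall
    haveI : Subsingleton (CohB1.ProjSpace 1 k) := ⟨fun p q => (hall p).trans (hall q).symm⟩
    have h0 : topologicalKrullDim (CohB1.ProjSpace 1 k) ≤ ((0 : ℕ) : WithBot ℕ∞) :=
      Unibranch.topologicalKrullDim_le_natCast fun l c hc => by
        rcases l with _ | l
        · exact le_rfl
        · exact absurd (Subsingleton.elim _ _) (hc 0).2
    rw [Groth.Agent.S10829.result k 1] at h0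
    exact absurd h0 (by decide)
  have hzq : ι e₀ ⤳ ι (eP.hom p) :=
    (((genericPoint_spec (CohB1.ProjSpace 1 k)).specializes trivial).map eP.hom.continuous).map ι.continuous
  have hne : ι e₀ ≠ ι (eP.hom p) := fun e => hp
    ((eP.hom.homeomorph.injective (ι.isClosedEmbedding.injective e)).symm)
  obtain ⟨h1, h2, h3⟩ := hcon _ _ hzq ((hfib.ge ⟨e₀, rfl⟩ : b (ι e₀) = y).trans
    (hfib.ge ⟨eP.hom p, rfl⟩ : b (ι (eP.hom p)) = y).symm) hne
  exact ⟨ι e₀, hB _ h1 h2 h3, hsE e₀⟩

end Groth.Agent.Castel
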