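import Groth.Agent.W7Cech.BCLin
import Groth.Agent.W7Rees.FF
import Groth.Agent.AltN1.Basic
import Groth.Prelude.Def_FGA
import Groth.Prelude.Def_Neron

/-!
Torsion cohomology vanishes on the generic fibre.
-/

set_option autoImplicit false
set_option backward.isDefEq.respectTransparency false
set_option backward.isDefEq.respectTransparency.types false
set_option linter.style.haveILetI false

universe u

open CategoryTheory CategoryTheory.Limits AlgebraicGeometry TopologicalSpace
open scoped TensorProduct

noncomputable section

namespace Groth.Agent.Castel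

variable {R : Type u} [CommRing R] [IsDomain R]

/-- Cohomology killed by a nonzero scalar vanishes on the generic fibre. -/
theorem subsingleton_h1_genericFibre (X : Over (Spec (CommRingCat.of R))) [X.left.Over (Spec (CommRingCat.of R))]
    (hover : X.left ↘ Spec (CommRingCat.of R) = X.hom) [IsProper X.hom] {r : R} (hr : r ≠ 0)
    (h : ∀ x : Coh.HH X.left (Coh.structureModule X.left) 1, r • x = 0) :
    Subsingleton (Coh.HH ((Neron.genericFibre R).obj X).left (Coh.structureModule _) 1) := by
  haveI : IsProper (X.left ↘ Spec (CommRingCat.of R)) := hover.symm ▸ inferInstance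
  let K := FractionRing R
  let XK := ((Neron.genericFibre R).obj X).left
  letI : XK.Over (Spec (CommRingCat.of K)) := ⟨((Neron.genericFibre R).obj X).hom⟩
  haveI : Module.Flat R K := IsLocalization.flat K (nonZeroDivisors R)
  obtain ⟨ι, hι, U, hU, hcov⟩ := W7Rees.exists_goodCover R X.left
  let g : XK ⟶ X.left := pullback.fst X.hom (Neron.genPt R)
  have sq : IsPullback g (XK ↘ Spec (CommRingCat.of K)) (X.left ↘ Spec (CommRingCat.of R))
      (Spec.map (CommRingCat.ofHom (algebraMap R K))) := by
    rw [hover]
    exact IsPullback.of_hasPullback X.hom (Neron.genPt R)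
  obtain ⟨φ⟩ := W7Cech.nonempty_hh_flat_bc R K U hU hcov g sq (Coh.structureModule X.left)
    (TMul.isQCoh_of_isInvertible TMul.isInvertible_structureModule) 1
  haveI : Subsingleton (K ⊗[R] Coh.HH X.left (Coh.structureModule X.left) 1) := by
    refine ⟨fun a b => ?_⟩
    suffices ∀ z : K ⊗[R] Coh.HH X.left (Coh.structureModule X.left) 1, z = 0 from (this a).trans (this b).symm
    intro z
    induction z using TensorProduct.induction_on with
    | zero => rfl
    | tmul c x =>
      have hc : c = r • ((algebraMap R K r)⁻¹ * c) := by
        rw [Algebra.smul_def, ← mul_assoc, mul_inv_cancel₀ ((map_ne_zero_iff _ (IsFractionRing.injective R K)).2 hr), one_mul]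
      rw [hc, TensorProduct.smul_tmul, h, TensorProduct.tmul_zero]
    | add x y hx hy => rw [hx, hy, add_zero]
  exact CohQC.hh_subsingleton_of_iso (PicLoc.pullbackStructureIso g) 1 φ.toEquiv.subsingleton

/-- Nonpositive Euler characteristic of an integral proper curve over a field forces nonzero `H¹`. -/
theorem nontrivial_h1_of_euler_nonpos {k : Type u} [Field k] (C : Scheme.{u}) [C.Over (Spec (CommRingCat.of k))]
    [IsProper (C ↘ Spec (CommRingCat.of k))] [IsIntegral C]
    (hχ : FGA.eulerCharLE k C (Coh.structureModule C) 1 ≤ 0) :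
    Nontrivial (Coh.HH C (Coh.structureModule C) 1) := by
  by_contra h
  haveI := not_nontrivial_iff_subsingleton.1 h
  haveI : IsLocallyNoetherian C := LocallyOfFiniteType.isLocallyNoetherian (C ↘ Spec (CommRingCat.of k))
  haveI := CohFinite.finite_proper k C (Coh.structureModule C) RefStalk.isCoh_structureModule 0
  obtain ⟨e, -⟩ := CohFinite.exists_zero_equiv k (Coh.structureModule C)
  haveI : Nonempty ↥(⊤ : C.Opens) := ⟨⟨Classical.arbitrary C, trivial⟩⟩
  haveI : Nontrivial Γ(C, ⊤) := inferInstance
  haveI : Nontrivial (Coh.HH C (Coh.structureModule C) 0) := (e.toEquiv.nontrivial_congr).2 ‹_›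
  have h0 : 0 < Module.finrank k (Coh.HH C (Coh.structureModule C) 0) := Module.finrank_pos
  simp only [FGA.eulerCharLE, Finset.sum_range_succ, Finset.sum_range_zero, zero_add, pow_zero, one_mul, pow_one,
    Module.finrank_zero_of_subsingleton (M := Coh.HH C (Coh.structureModule C) 1)] at hχ
  omega

end Groth.Agent.Castel
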