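import Groth.Agent.Castel.ExcPair
import Groth.Agent.Castel.GenVan
import Groth.Agent.Castel.ExcFin
import Groth.Agent.PtBlow.Minimal
import Groth.Agent.LineIsog.Basic

/-!
Exceptional curves on models over a model without exceptional curves are contracted.
-/

set_option autoImplicit false
set_option backward.isDefEq.respectTransparency false
set_option backward.isDefEq.respectTransparency.types false
set_option linter.style.haveILetI false

universe u

open CategoryTheory CategoryTheory.Limits AlgebraicGeometry TopologicalSpace Topology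

noncomputable section

namespace Groth.Agent.Castel

variable {R : Type u} [CommRing R] [IsDedekindDomain R]

/-- A dominant map from an integral scheme to a Dedekind base is flat. -/
theorem flat_of_dominant {Y : Scheme.{u}} [IsIntegral Y] (q : Y ⟶ Spec (CommRingCat.of R))
    (hq : (q (genericPoint Y)).asIdeal = ⊥) : Flat q := by
  refine (IsZariskiLocalAtSource.iff_of_openCover (P := @Flat) Y.affineCover).2 fun i => ?_
  let W := Y.affineCover.X i
  haveI : IsAffine W := inferInstanceAs (IsAffine (Spec _))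
  let m := Y.affineCover.f i
  by_cases hne : Nonempty W
  · haveI := hne
    haveI : IsIntegral W := isIntegral_of_isOpenImmersion m
    let f := m ≫ q
    show Flat f
    have hgen : (f (genericPoint W)).asIdeal = ⊥ := by
      show (q (m (genericPoint W))).asIdeal = ⊥
      rw [genericPoint_eq_of_isOpenImmersion m]
      exact hq
    rw [HasRingHomProperty.iff_of_isAffine (P := @Flat)]
    have hinj : Function.Injective ((Scheme.ΓSpecIso (CommRingCat.of R)).inv ≫ f.appTop).hom := by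
      refine (injective_iff_map_eq_zero _).2 fun r hr => ?_
      by_contra hr0
      have hmem : genericPoint W ∈ f ⁻¹ᵁ (Spec (CommRingCat.of R)).basicOpen ((Scheme.ΓSpecIso (CommRingCat.of R)).inv r) := by
        show f (genericPoint W) ∈ (Spec (CommRingCat.of R)).basicOpen _
        rw [basicOpen_eq_of_affine]
        show _ ∉ (f (genericPoint W)).asIdeal
        rw [hgen]
        intro h
        refine hr0 ?_
        rwa [Submodule.mem_bot] at h
      rw [Scheme.preimage_basicOpen] at hmem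
      rw [show f.app ⊤ ((Scheme.ΓSpecIso (CommRingCat.of R)).inv r) = 0 from hr, Scheme.basicOpen_zero] at hmem
      exact hmem
    haveI : Nonempty ↥(⊤ : W.Opens) := ⟨⟨genericPoint W, trivial⟩⟩
    have hflat := LineIsog.flat_of_injective ((Scheme.ΓSpecIso (CommRingCat.of R)).inv ≫ f.appTop).hom hinj
    have h2 := RingHom.Flat.comp (RingHom.Flat.of_bijective
      (Scheme.ΓSpecIso (CommRingCat.of R)).commRingCatIsoToRingEquiv.bijective) hflat
    convert h2 using 1
    ext a
    exact congrArg f.appTop (Iso.hom_inv_id_apply (Scheme.ΓSpecIso (CommRingCat.of R)) a).symm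
  · haveI := not_nonempty_iff.1 hne
    infer_instance

/-- A model of a curve over a Dedekind base. -/
structure IsModel {Z : Scheme.{u}} (π : Z ⟶ Spec (CommRingCat.of R)) : Prop where
  int : IsIntegral Z
  proper : IsProper π
  flat : Flat π
  reg : ∀ z : Z, IsRegularLocalRing (Z.presheaf.stalk z)
  dim : topologicalKrullDim Z ≤ 2
  h1 : Nontrivial (Coh.HH ((Neron.genericFibre R).obj (Over.mk π)).left (Coh.structureModule _) 1)

theorem IsModel.noeth {Z : Scheme.{u}} {π : Z ⟶ Spec (CommRingCat.of R)} (h : IsModel π) :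
    AlgebraicGeometry.IsNoetherian Z := by
  haveI := h.proper
  haveI : IsLocallyNoetherian Z := LocallyOfFiniteType.isLocallyNoetherian π
  haveI : CompactSpace Z := QuasiCompact.compactSpace_of_compactSpace π
  exact {}

/-- A closed point of a proper scheme over a base which is not a field lies over a nonzero prime. -/
theorem base_ne_bot_of_closed (hR : ¬ IsField R) {Z : Scheme.{u}} (π : Z ⟶ Spec (CommRingCat.of R)) [IsProper π]
    {z : Z} (hz : IsClosed ({z} : Set Z)) : (π z).asIdeal ≠ ⊥ := fun h => by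
  have h1 := π.isClosedMap _ hz
  rw [Set.image_singleton] at h1
  have h2 := (PrimeSpectrum.isClosed_singleton_iff_isMaximal (R := R) (π z)).1 h1
  rw [h] at h2
  exact hR (Ring.isField_iff_maximal_bot.2 h2)

/-- Isomorphic generic fibres have the same vanishing of `H¹`. -/
theorem nontrivial_h1_of_iso {A B : Scheme.{u}} (e : A ⟶ B) [IsIso e]
    (h : Nontrivial (Coh.HH B (Coh.structureModule B) 1)) : Nontrivial (Coh.HH A (Coh.structureModule A) 1) := by
  by_contra hA
  haveI := not_nontrivial_iff_subsingleton.1 hA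
  have h1 := TwistOverVan.subsingleton_hh_pullback_iso (inv e) (Coh.structureModule A)
    (TMul.isQCoh_of_isInvertible TMul.isInvertible_structureModule) 1 ‹_›
  have h2 := CohQC.hh_subsingleton_of_iso (PicLoc.pullbackStructureIso (inv e)) 1 h1
  exact not_subsingleton _ h2

theorem IsModel.blowUp (hR : ¬ IsField R) {W Z : Scheme.{u}} {π : W ⟶ Spec (CommRingCat.of R)} (h : IsModel π)
    {b : Z ⟶ W} {p : W} (hp : PtBlow.IsRegPt W p) (hb : BlowUp.IsBlowUp b (PtBlow.pt hp)) : IsModel (b ≫ π) := by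
  haveI := h.noeth
  haveI := h.int
  haveI := h.proper
  haveI := PtBlow.isProper_blowUp hp hb
  haveI := W7Fib.isIntegral_blowUp (PtBlow.pt_ne_bot hp) hb
  haveI := PtBlow.isNoetherian_blowUp hp hb
  let U : W.Opens := (PtBlow.pt hp).support.compl
  have hUmem : ∀ w, w ∈ U ↔ w ≠ p := fun w => by
    show w ∉ ((PtBlow.pt hp).support : Set W) ↔ _
    rw [PtBlow.coe_support_pt hp]
    rfl
  haveI hiso : IsIso (b ∣_ U) := BlowUpLib.isIso_restrict hb
  have hηU : genericPoint W ∈ U := (hUmem _).2 (PtBlow.genericPoint_ne hp)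
  have hbη : b (genericPoint Z) = genericPoint W := by
    obtain ⟨z, hz⟩ := (b ∣_ U).surjective ⟨_, hηU⟩
    have hz' : b z.1 = genericPoint W := (morphismRestrict_base_coe b U z).symm.trans (congrArg Subtype.val hz)
    exact ((genericPoint_specializes _).antisymm (hz' ▸ (genericPoint_specializes z.1).map b.continuous)).eq.symm
  have hπη : (π (genericPoint W)).asIdeal = ⊥ := by
    haveI := h.flat
    obtain ⟨w, hw, hw'⟩ := Flat.generalizingMap π (a := genericPoint W)
      ((PrimeSpectrum.le_iff_specializes (⟨⊥, Ideal.isPrime_bot⟩ : PrimeSpectrum R) (π (genericPoint W))).mp bot_le)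
    rw [(hw.antisymm ((genericPoint_spec W).specializes trivial)).eq] at hw'
    exact congrArg PrimeSpectrum.asIdeal hw'
  refine ⟨inferInstance, inferInstance, flat_of_dominant (b ≫ π) (by rw [Scheme.Hom.comp_apply, hbη, hπη]),
    PtBlow.isRegular_blowUp hp hb h.reg, PtBlow.dim_le_of_birational b ⟨U, ⟨_, hηU⟩, hiso⟩ h.dim, ?_⟩
  let G : Over.mk (b ≫ π) ⟶ Over.mk π := Over.homMk b rfl
  haveI : IsIso (G.left ∣_ U) := hiso
  haveI := isIso_genericFibre_map G U fun w hw => (hUmem w).2 fun e => by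
    subst e
    exact base_ne_bot_of_closed hR π hp.closed hw
  haveI : IsIso ((Neron.genericFibre R).map G).left :=
    inferInstanceAs (IsIso ((Over.forget _).map ((Neron.genericFibre R).map G)))
  exact nontrivial_h1_of_iso ((Neron.genericFibre R).map G).left h.h1

theorem isModel_of_seq (hR : ¬ IsField R) {W X : Scheme.{u}} {q : W ⟶ X} (hq : Models.IsContractionSeq q) :
    ∀ (π : X ⟶ Spec (CommRingCat.of R)), IsModel π → IsModel (q ≫ π) := by
  induction hq with
  | @iso W X e =>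
    intro π h
    haveI := h.int
    haveI := h.proper
    haveI := h.flat
    haveI : Nonempty W := ⟨e.inv (genericPoint X)⟩
    haveI : IsIntegral W := isIntegral_of_isOpenImmersion e.hom
    refine ⟨inferInstance, inferInstance, inferInstance, fun w => ?_, ?_, ?_⟩
    · haveI := h.reg (e.hom w)
      exact IsRegularLocalRing.of_ringEquiv (asIso (e.hom.stalkMap w)).commRingCatIsoToRingEquiv
    · exact e.hom.homeomorph.isHomeomorph.topologicalKrullDim_eq.trans_le h.dim
    · let G : Over.mk (e.hom ≫ π) ≅ Over.mk π := Over.isoMk e rfl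
      haveI : IsIso ((Neron.genericFibre R).map G.hom).left :=
        inferInstanceAs (IsIso ((Over.forget _).map ((Neron.genericFibre R).map G.hom)))
      exact nontrivial_h1_of_iso ((Neron.genericFibre R).map G.hom).left h.h1
  | @step W Z X E ι b r hι hE hb hr ih =>
    intro π h
    obtain ⟨-, -, p, hp, -, hreg, hdim, hbl⟩ := hb
    rw [Category.assoc]
    exact (ih π h).blowUp hR (⟨hp, hreg, hdim⟩ : PtBlow.IsRegPt Z p) hbl

/-- The image of an exceptional curve in the base is a single nonzero prime. -/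
theorem exc_base_const (hR : ¬ IsField R) {Z : Scheme.{u}} (π : Z ⟶ Spec (CommRingCat.of R)) [IsProper π]
    {k : Type u} [Field k] (ι₀ : CohB1.ProjSpace 1 k ⟶ Z) [IsClosedImmersion ι₀] :
    ∃ s : Spec (CommRingCat.of R), s.asIdeal ≠ ⊥ ∧ ∀ p, π (ι₀ p) = s := by
  haveI : IsIntegral (CohB1.ProjSpace 1 k) := Horrocks.isIntegral_projSpace
  let g := genericPoint (CohB1.ProjSpace 1 k)
  have hφπ : Z.toSpecΓ ≫ Spec.map ((Scheme.ΓSpecIso (CommRingCat.of R)).inv ≫ π.appTop) = π := by
    rw [Spec.map_comp, ← Scheme.toSpecΓ_naturality_assoc, ← SpecMap_ΓSpecIso_hom, ← Spec.map_comp,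
      Iso.inv_hom_id, Spec.map_id, Category.comp_id]
  have hc : ∀ p, π (ι₀ p) = π (ι₀ g) := fun p => by
    rw [← hφπ, Scheme.Hom.comp_apply, Scheme.Hom.comp_apply, toSpecΓ_line_eq ι₀ p g]
  refine ⟨π (ι₀ g), fun h => ?_, hc⟩
  have h1 : IsClosed ({π (ι₀ g)} : Set (Spec (CommRingCat.of R))) := by
    have h2 := π.isClosedMap _ ι₀.isClosedEmbedding.isClosed_range
    rwa [show π '' Set.range ι₀ = {π (ι₀ g)} from Set.eq_singleton_iff_unique_mem.2
      ⟨⟨ι₀ g, ⟨g, rfl⟩, rfl⟩, by rintro _ ⟨_, ⟨p, rfl⟩, rfl⟩; exact hc p⟩] at h2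
  have h2 := (PrimeSpectrum.isClosed_singleton_iff_isMaximal (R := R) (π (ι₀ g))).1 h1
  rw [h] at h2
  exact hR (Ring.isField_iff_maximal_bot.2 h2)

/-- Distinct exceptional curves of a model are disjoint. -/
theorem exc_disjoint (hR : ¬ IsField R) {Z : Scheme.{u}} {π : Z ⟶ Spec (CommRingCat.of R)} (h : IsModel π)
    {E₁ E₂ : Scheme.{u}} (ι₁ : E₁ ⟶ Z) [IsClosedImmersion ι₁] (ι₂ : E₂ ⟶ Z) [IsClosedImmersion ι₂]
    (h₁ : Models.IsExcCurve ι₁) (h₂ : Models.IsExcCurve ι₂) (hne : Set.range ι₁ ≠ Set.range ι₂) (a : E₁) (b : E₂) :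
    ι₁ a ≠ ι₂ b := by
  intro hab
  haveI := h.int
  haveI := h.proper
  haveI := h.flat
  obtain ⟨hI₁, k₁, _, e₁, ⟨c₁⟩⟩ := h₁
  obtain ⟨hI₂, k₂, _, e₂, ⟨c₂⟩⟩ := h₂
  have hr : ∀ {E : Scheme.{u}} (ι : E ⟶ Z) {k : Type u} [Field k] (e : CohB1.ProjSpace 1 k ≅ E),
      Set.range (e.hom ≫ ι) = Set.range ι := fun ι _ _ e => by
    rw [Scheme.Hom.comp_base, TopCat.coe_comp, Set.range_comp, e.hom.surjective.range_eq, Set.image_univ]
  have hk₁ : (e₁.hom ≫ ι₁).ker = ι₁.ker := Scheme.Hom.ker_comp_of_isIso e₁.hom ι₁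
  have hk₂ : (e₂.hom ≫ ι₂).ker = ι₂.ker := Scheme.Hom.ker_comp_of_isIso e₂.hom ι₂
  obtain ⟨p₁, rfl⟩ := e₁.hom.surjective a
  obtain ⟨p₂, rfl⟩ := e₂.hom.surjective b
  obtain ⟨s, hs0, hs₁⟩ := exc_base_const hR π (e₁.hom ≫ ι₁)
  obtain ⟨t, -, hs₂⟩ := exc_base_const hR π (e₂.hom ≫ ι₂)
  have hst : t = s := by
    rw [← hs₁ p₁, ← hs₂ p₂, Scheme.Hom.comp_apply, Scheme.Hom.comp_apply, hab]
  subst hst
  let X : Over (Spec (CommRingCat.of R)) := Over.mk π
  letI : X.left.Over (Spec (CommRingCat.of R)) := ⟨π⟩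
  haveI : IsIntegral X.left := h.int
  haveI : Flat X.hom := h.flat
  haveI : IsProper X.hom := h.proper
  obtain ⟨r, hr0, hr1⟩ := exists_smul_h1_of_meeting (X := X) rfl h.dim (e₁.hom ≫ ι₁) (e₂.hom ≫ ι₂)
    (hk₁ ▸ hI₁) (hk₂ ▸ hI₂)
    ((Scheme.Modules.pullback _).mapIso (eqToIso (congrArg ClSub.idealMod hk₁)) ≪≫ c₁)
    ((Scheme.Modules.pullback _).mapIso (eqToIso (congrArg ClSub.idealMod hk₂)) ≪≫ c₂)
    t hs0 hs₁ hs₂ (fun e => hne ((hr ι₁ e₁).symm.trans (e.trans (hr ι₂ e₂)))) (p₁ := p₁) (p₂ := p₂)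
    (by rw [Scheme.Hom.comp_apply, Scheme.Hom.comp_apply]; exact hab)
  haveI := subsingleton_h1_genericFibre X rfl hr0 hr1
  exact not_nontrivial _ h.h1

/-- An exceptional curve is sent to a point by a sequence of point blow-ups of a model without exceptional
curves. -/
theorem exc_const (hR : ¬ IsField R) {W X : Scheme.{u}} {q : W ⟶ X} (hq : Models.IsContractionSeq q) :
    ∀ (π : X ⟶ Spec (CommRingCat.of R)), IsModel π →
      (∀ (E : Scheme.{u}) (ι : E ⟶ X) [IsClosedImmersion ι], ¬ Models.IsExcCurve ι) →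
      ∀ {E : Scheme.{u}} (ι : E ⟶ W) [IsClosedImmersion ι], Models.IsExcCurve ι →
        ∃ x : X, Set.range ((ι ≫ q).base : E → X) = {x} := by
  induction hq with
  | @iso W X e =>
    intro π _ hexc E ι _ hE
    exfalso
    obtain ⟨hC, k, _, e', ⟨hcon⟩⟩ := hE
    haveI : IsClosedImmersion (ι ≫ e.hom) := inferInstance
    have hk : (ι ≫ e.hom).ker = ι.ker.comap e.inv := AlmostBlow.ker_of_isPullback
      (IsPullback.of_horiz_isIso ⟨by simp⟩ : IsPullback (𝟙 E) (ι ≫ e.hom) ι e.inv)
    obtain ⟨θ⟩ := Nakai.nonempty_pullback_idealMod e.inv hC (BlowUpLib.cartier_comap_flat hC _)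
    refine hexc E (ι ≫ e.hom) ⟨hk ▸ BlowUpLib.cartier_comap_flat hC _, k, inferInstance, e', ⟨?_⟩⟩
    exact (Scheme.Modules.pullback _).mapIso (eqToIso (congrArg ClSub.idealMod hk) ≪≫ θ.symm) ≪≫
      (Scheme.Modules.pullbackComp _ _).app _ ≪≫ (Scheme.Modules.pullbackCongr (by simp)).app _ ≪≫ hcon
  | @step W Z X E₀ ι₀ b r hι₀ hE₀ hb hr ih =>
    intro π hπ hexc E ι _ hE
    have hZ := isModel_of_seq hR hr π hπ
    haveI := hZ.int
    haveI := hZ.noeth
    obtain ⟨-, hbp, p, hp, hp₀, hreg, hdim, hbl⟩ := hb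
    haveI := hbp
    have hp' : PtBlow.IsRegPt Z p := ⟨hp, hreg, hdim⟩
    haveI := PtBlow.isNoetherian_blowUp hp' hbl
    haveI := W7Fib.isIntegral_blowUp (PtBlow.pt_ne_bot hp') hbl
    obtain ⟨hC, k, _, e, hcon⟩ := id hE
    haveI : IsIntegral (CohB1.ProjSpace 1 k) := Horrocks.isIntegral_projSpace
    by_cases hfib : Set.range ι = b ⁻¹' {p}
    · refine ⟨r p, Set.eq_singleton_iff_unique_mem.2 ⟨?_, ?_⟩⟩
      · refine ⟨e.hom (genericPoint _), ?_⟩
        show r (b (ι (e.hom (genericPoint _)))) = r p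
        rw [show b (ι (e.hom (genericPoint _))) = p from hfib.subset ⟨_, rfl⟩]
      · rintro _ ⟨z, rfl⟩
        show r (b (ι z)) = r p
        rw [show b (ι z) = p from hfib.subset ⟨_, rfl⟩]
    haveI := hι₀
    have hbι₀ : ∀ z, b (ι₀ z) = p := fun z => hp₀.subset ⟨z, rfl⟩
    have hr₀ : Set.range ι₀ = b ⁻¹' {p} := by
      obtain ⟨_, k₀, _, e₀, -⟩ := id hE₀
      exact PtBlow.range_eq_preimage hp' hbl ι₀ e₀ hbι₀
    have hoff : ∀ z, b (ι z) ≠ p := fun z hz => by
      obtain ⟨z₀, hz₀⟩ : ι z ∈ Set.range ι₀ := hr₀.symm.subset hz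
      exact exc_disjoint hR (hZ.blowUp hR hp' hbl) ι ι₀ hE hE₀ (fun e => hfib (e.trans hr₀)) z z₀ hz₀.symm
    obtain ⟨hci, hexc'⟩ := PtBlow.isExcCurve_comp (hp := hp') ι e hbl hZ.reg hbp hC hcon hoff
    haveI := hci
    obtain ⟨x, hx⟩ := ih π hπ hexc (ι ≫ b) hexc'
    exact ⟨x, by simpa only [Category.assoc] using hx⟩

end Groth.Agent.Castel
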