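import Groth.Agent.Castel.FibreEuler
import Groth.Agent.Castel.MinDesc
import Groth.Agent.Intersect.Num

/-!
The Euler characteristic of the closed fibre of an arithmetic surface is that of the generic fibre.
-/

set_option autoImplicit false
set_option backward.isDefEq.respectTransparency false
set_option backward.isDefEq.respectTransparency.types false
set_option linter.style.haveILetI false

universe u

open CategoryTheory CategoryTheory.Limits AlgebraicGeometry TopologicalSpace Opposite

noncomputable section

namespace Groth.Agent.Castel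

variable {R : Type u} [CommRing R] [IsDomain R] [IsDiscreteValuationRing R]

/-- `χ(X_k) = χ(C)`, by lengths. -/
theorem chiL_fibre_arith {X₀ : Over (Spec (CommRingCat.of R))} (hA : ArSurf.IsArithSurface R X₀) :
    chiL R X₀ (ClSub.quotMod (fibreIdeal X₀)) =
      FGA.eulerCharLE (FractionRing R) ((Neron.genericFibre R).obj X₀).left
        (Coh.structureModule ((Neron.genericFibre R).obj X₀).left) 1 := by
  obtain ⟨hXr, hXi, hXd, hfl, -⟩ := id hA
  haveI := isProper_hom_of_isArithSurface hA
  let X := X₀.left
  let p : X ⟶ Spec (CommRingCat.of R) := X₀.hom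
  haveI : IsIntegral X := hXi
  haveI : IsProper p := isProper_hom_of_isArithSurface hA
  haveI : Flat p := hfl
  haveI : Coh.IsQCoh (Coh.structureModule X) := Groth.Agent.QC.isQCoh_unit _
  haveI : IsLocallyNoetherian X := LocallyOfFiniteType.isLocallyNoetherian p
  have hdimX : topologicalKrullDim X ≤ 2 := le_of_eq hXd
  let C := ((Neron.genericFibre R).obj X₀).left
  let f : C ⟶ Spec (CommRingCat.of (FractionRing R)) := pullback.snd X₀.hom (Neron.genPt R)
  let g : C ⟶ X := pullback.fst X₀.hom (Neron.genPt R)
  have hg : IsPullback g f p (Spec.map (CommRingCat.ofHom (algebraMap R (FractionRing R)))) :=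
    IsPullback.of_hasPullback X₀.hom (Neron.genPt R)
  haveI hfC : IsProper f := MorphismProperty.of_isPullback (P := @IsProper) hg inferInstance
  let K := FractionRing R
  let k := IsLocalRing.ResidueField R
  let S := Spec (CommRingCat.of R)
  let η : S := (⟨⊥, Ideal.isPrime_bot⟩ : PrimeSpectrum R)
  let s : S := IsLocalRing.closedPoint R
  -- the generic fibre
  letI : C.Over (Spec (CommRingCat.of K)) := inferInstanceAs (((Neron.genericFibre R).obj X₀).left.Over (Spec (CommRingCat.of (FractionRing R))))
  haveI : IsProper (C ↘ Spec (CommRingCat.of K)) := hfC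
  let ψη := Spec.preimage (S.fromSpecResidueField η)
  have hinj : Function.Injective ψη.hom := by
    rw [RingHom.injective_iff_ker_eq_bot]
    exact ker_preimage_fromSpec η
  let α : CommRingCat.of K ⟶ S.residueField η := CommRingCat.ofHom (IsFractionRing.lift hinj)
  have hα : Spec.map α ≫ Spec.map (CommRingCat.ofHom (algebraMap R K)) = S.fromSpecResidueField η := by
    rw [← Spec.map_comp, ← Spec.map_preimage (S.fromSpecResidueField η)]
    congr 1
    refine CommRingCat.hom_ext (RingHom.ext fun r => ?_)
    show (IsFractionRing.lift (K := FractionRing R) hinj) (algebraMap R (FractionRing R) r) = ψη.hom r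
    exact IsFractionRing.lift_algebraMap (K := FractionRing R) hinj r
  have hbigη : IsPullback (p.fiberι η) (p.fiberToSpecResidueField η) p
      (Spec.map α ≫ Spec.map (CommRingCat.ofHom (algebraMap R K))) := by
    rw [hα]; exact IsPullback.of_hasPullback _ _
  let γη : p.fiber η ⟶ C := hg.lift (p.fiberι η) (p.fiberToSpecResidueField η ≫ Spec.map α)
    (by rw [Category.assoc]; exact hbigη.w)
  have sqη : IsPullback γη (p.fiberToSpecResidueField η) f (Spec.map α) :=
    IsPullback.of_right (by rw [hg.lift_fst]; exact hbigη) (hg.lift_snd _ _ _) hg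
  have eη := eulerChar_of_sq (Y := C) p η α γη sqη
  -- the closed fibre
  let res := Spec.map (CommRingCat.ofHom (IsLocalRing.residue R))
  haveI : IsClosedImmersion res := IsClosedImmersion.spec_of_surjective _ IsLocalRing.residue_surjective
  let Y := pullback p res
  letI : Y.Over (Spec (CommRingCat.of k)) := ⟨pullback.snd p res⟩
  haveI : IsProper (Y ↘ Spec (CommRingCat.of k)) := inferInstanceAs (IsProper (pullback.snd p res))
  let ψs := Spec.preimage (S.fromSpecResidueField s)
  let β : CommRingCat.of k ⟶ S.residueField s := CommRingCat.ofHom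
    (Ideal.Quotient.lift (IsLocalRing.maximalIdeal R) ψs.hom fun r hr => by
      have h := ker_preimage_fromSpec s
      exact RingHom.mem_ker.1 (h.symm ▸ hr))
  have hβ : Spec.map β ≫ res = S.fromSpecResidueField s := by
    rw [← Spec.map_comp, ← Spec.map_preimage (S.fromSpecResidueField s)]
    rfl
  have hbigs : IsPullback (p.fiberι s) (p.fiberToSpecResidueField s) p (Spec.map β ≫ res) := by
    rw [hβ]; exact IsPullback.of_hasPullback _ _
  have hgs := IsPullback.of_hasPullback p res
  let γs : p.fiber s ⟶ Y := hgs.lift (p.fiberι s) (p.fiberToSpecResidueField s ≫ Spec.map β)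
    (by rw [Category.assoc]; exact hbigs.w)
  have sqs : IsPullback γs (p.fiberToSpecResidueField s) (pullback.snd p res) (Spec.map β) :=
    IsPullback.of_right (by rw [hgs.lift_fst]; exact hbigs) (hgs.lift_snd _ _ _) hgs
  have es := eulerChar_of_sq (Y := Y) p s β γs sqs
  -- constancy
  haveI : LocallyOfFinitePresentation p := inferInstance
  have hlc := Groth.Agent.BettiNN.isLocallyConstant_eulerChar p (F := Coh.structureModule X)
    (Groth.Agent.QC.isFP_of_isQCoh_of_isFT RefStalk.isCoh_structureModule.2)
    (SchDense.isFlatOver_unit p)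
  haveI : PreconnectedSpace S := inferInstanceAs (PreconnectedSpace (PrimeSpectrum R))
  have heq := hlc.apply_eq_of_preconnectedSpace η s
  simp only [eη, es] at heq
  -- the closed fibre inside `X`
  have hgen : p (genericPoint X) = η := by
    haveI : Flat X₀.hom := hfl
    refine PrimeSpectrum.ext ?_
    show (p (genericPoint X)).asIdeal = ⊥
    by_contra hne
    haveI : Ideal.IsMaximal (p (genericPoint X)).asIdeal := Ideal.IsPrime.isMaximal (p (genericPoint X)).isPrime hne
    have hmem : genericPoint X ∈ ((fibreIdeal X₀).support : Set X) :=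
      (mem_support_fibreIdeal (genericPoint X)).2 (PrimeSpectrum.ext (IsLocalRing.eq_maximalIdeal inferInstance))
    obtain ⟨W, hW, hxW, -⟩ := exists_isAffineOpen_mem_and_subset (show genericPoint X ∈ (⊤ : X.Opens) from trivial)
    obtain ⟨t, ht, ht', -⟩ := DivPart.exists_generator (fibreIdeal X₀) cartier_fibreIdeal ⟨W, hW⟩ hxW
    have hle := (DivPart.mem_support_iff_le (fibreIdeal X₀) ⟨W, hW⟩ hxW).1 hmem
    have hfield := (Field.toIsField X.functionField : IsField (X.presheaf.stalk (genericPoint X)))
    have ht0 : t ∈ IsLocalRing.maximalIdeal (X.presheaf.stalk (genericPoint X)) :=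
      (Ideal.map_le_iff_le_comap.2 fun a ha => by
        have h1 := hle ha
        intro hu
        letI := TopCat.Presheaf.algebra_section_stalk X.presheaf (⟨genericPoint X, hxW⟩ : W)
        haveI : IsLocalization.AtPrime (X.presheaf.stalk (genericPoint X)) (DivPart.pr (⟨W, hW⟩ : X.affineOpens) hxW) :=
          hW.isLocalization_stalk ⟨genericPoint X, hxW⟩
        exact (IsLocalization.AtPrime.isUnit_to_map_iff (X.presheaf.stalk (genericPoint X))
          (DivPart.pr (⟨W, hW⟩ : X.affineOpens) hxW) a).1 hu h1) (ht'.ge (Ideal.mem_span_singleton_self t))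
    rw [(IsLocalRing.isField_iff_maximalIdeal_eq.1 hfield), Ideal.mem_bot] at ht0
    exact nonZeroDivisors.ne_zero ht ht0
  have hYdim : topologicalKrullDim Y ≤ ((1 : ℕ) : WithBot ℕ∞) :=
    Unibranch.topologicalKrullDim_le_natCast fun l c hc => by
      have hemb := (pullback.fst p res).isEmbedding
      have hne : ∀ y, genericPoint X ≠ pullback.fst p res y := fun y e => by
        have h3 : p (pullback.fst p res y) = res (pullback.snd p res y) := by
          rw [← Scheme.Hom.comp_apply, pullback.condition, Scheme.Hom.comp_apply]
        rw [← e, hgen] at h3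
        have h4 : res (pullback.snd p res y) = IsLocalRing.closedPoint R := PrimeSpectrum.ext (by
          show Ideal.comap _ _ = IsLocalRing.maximalIdeal R
          rw [(Ideal.eq_bot_of_prime (pullback.snd p res y).asIdeal :)]
          exact (RingHom.ker_eq_comap_bot _).symm.trans Ideal.mk_ker)
        rw [h4] at h3
        exact IsDiscreteValuationRing.not_a_field R (congrArg PrimeSpectrum.asIdeal h3).symm
      have h := (Unibranch.natCast_le_topologicalKrullDim (α := X) (k := l + 1)
        (Fin.cons (genericPoint X) fun i => pullback.fst p res (c i)) fun i => by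
          refine Fin.cases ?_ (fun j => ?_) i
          · simp only [Fin.castSucc_zero, Fin.cons_zero, Fin.cons_succ]
            exact ⟨genericPoint_specializes _, hne _⟩
          · simp only [← Fin.succ_castSucc, Fin.cons_succ]
            exact ⟨(hc j).1.map hemb.continuous, fun e => (hc j).2 (hemb.injective e)⟩).trans hdimX
      have h' : ((l + 1 : ℕ) : WithBot ℕ∞) ≤ ((2 : ℕ) : WithBot ℕ∞) := h
      have := CartierDim.natCast_le_withBot.mp h'
      omega
  rw [CurveRR.euler_eq (k := k) hYdim] at heq
  let ι : Y ⟶ X := pullback.fst p res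
  haveI : IsClosedImmersion ι := inferInstanceAs (IsClosedImmersion (pullback.fst p res))
  haveI : IsLocallyNoetherian Y := LocallyOfFiniteType.isLocallyNoetherian (Y ↘ Spec (CommRingCat.of k))
  have hker : ι.ker = fibreIdeal X₀ := ker_fst_residue X₀
  obtain ⟨qi⟩ := ExtShX.nonempty_quotMod_iso ι
  have hlen : ∀ i, Models.lengthH R X₀ (ClSub.quotMod (fibreIdeal X₀)) i =
      CurveRR.h k (Coh.structureModule Y) i := fun i => by
    rw [← hker]
    refine (lengthH_eq_of_iso (X := X₀) qi i).trans ?_
    exact lengthH_push (X := X₀) ι (pullback.snd p res) pullback.condition _ RefStalk.isCoh_structureModule i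
  have hCdim : topologicalKrullDim C ≤ ((1 : ℕ) : WithBot ℕ∞) :=
    Unibranch.topologicalKrullDim_le_natCast fun l c hc => by
      haveI : IsPreimmersion (Neron.genPt R) := IsPreimmersion.of_isLocalization (nonZeroDivisors R)
      haveI : IsPreimmersion g := MorphismProperty.of_isPullback (P := @IsPreimmersion) hg.flip inferInstance
      haveI : CompactSpace X := QuasiCompact.compactSpace_of_compactSpace p
      have hemb := g.isEmbedding
      obtain ⟨w, hw, hwc⟩ := (isClosed_closure (s := ({g (c (Fin.last l))} : Set X))).exists_closed_singleton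
        ⟨_, subset_closure rfl⟩
      have hne : g (c (Fin.last l)) ≠ w := fun e => by
        have h3 : p (g (c (Fin.last l))) = Spec.map (CommRingCat.ofHom (algebraMap R K)) (f (c (Fin.last l))) := by
          rw [← Scheme.Hom.comp_apply, hg.w, Scheme.Hom.comp_apply]
        rw [e] at h3
        refine base_ne_bot_of_closed (IsDiscreteValuationRing.not_isField R) p hwc ?_
        rw [h3]
        show Ideal.comap _ _ = ⊥
        rw [(Ideal.eq_bot_of_prime (f (c (Fin.last l))).asIdeal :)]
        exact Ideal.comap_bot_of_injective _ (IsFractionRing.injective R K)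
      have h := (Unibranch.natCast_le_topologicalKrullDim (α := X) (k := l + 1)
        (Fin.snoc (fun i => g (c i)) w) fun i => by
          refine Fin.lastCases ?_ (fun j => ?_) i
          · simp only [Fin.succ_last, Fin.snoc_last, Fin.snoc_castSucc]
            exact ⟨specializes_iff_mem_closure.2 hw, hne⟩
          · simp only [← Fin.castSucc_succ, Fin.snoc_castSucc]
            exact ⟨(hc j).1.map hemb.continuous, fun e => (hc j).2 (hemb.injective e)⟩).trans hdimX
      have h' : ((l + 1 : ℕ) : WithBot ℕ∞) ≤ ((2 : ℕ) : WithBot ℕ∞) := h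
      have := CartierDim.natCast_le_withBot.mp h'
      omega
  refine Eq.trans ?_ (Intersect.eulerCharLE_eq (k := K) (X := C) 1 hCdim (Coh.structureModule C)).symm
  rw [chiL, hlen, hlen]
  simp only [Models.hRank, CurveRR.h] at heq ⊢
  exact heq.symm

end Groth.Agent.Castel
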