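import Groth.Agent.Castel.DivField

/-!
The chain of vertical divisors with fields of constants, for an arithmetic surface with connected closed fibre.
-/

set_option autoImplicit false
set_option backward.isDefEq.respectTransparency false
set_option backward.isDefEq.respectTransparency.types false
set_option linter.style.haveILetI false
set_option linter.unusedSectionVars false

universe u

open CategoryTheory CategoryTheory.Limits AlgebraicGeometry TopologicalSpace Opposite

noncomputable section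

namespace Groth.Agent.Castel.Arith

variable {R : Type u} [CommRing R] [IsDomain R] [IsDiscreteValuationRing R] {X : Over (Spec (CommRingCat.of R))}
  (hA : ArSurf.IsArithSurface R X) (hconn : _root_.IsConnected (Models.specialFibreSet R X))
  {n : ℕ} (Γ : Fin n → ArSurf.VertComp R X) (hΓ : Models.IsComponentList R X Γ)
include hA hconn hΓ

/-- The numerical type of an arithmetic surface with connected closed fibre. -/
theorem exists_numType : ∃ T : Models.NumericalType n, (∀ i, T.m i = (Models.mult R X (Γ i) : ℤ)) ∧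
    (∀ i j, T.a i j = interMat Γ i j) := by
  haveI := isProper_hom_of_isArithSurface hA
  haveI : Flat X.hom := hA.2.2.2.1
  obtain ⟨hsym, hoff, J, -, hrow⟩ := interMat_facts hA Γ hΓ.1
  have hfib : fibreIdeal X = divI Γ fun j => Models.mult R X (Γ j) :=
    fibreIdeal_eq_prod hA Γ hΓ.1 (componentList_cover hΓ)
  have hz : ∀ i, ∑ j, (Models.mult R X (Γ j) : ℤ) * interMat Γ i j = 0 := fun i => by
    have h := degI_divI hA Γ (fun j => Models.mult R X (Γ j)) i
    rw [← hfib, degI_fibreIdeal] at h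
    exact neg_eq_zero.1 h.symm
  have hpos : 0 < n := by
    obtain ⟨x, hx⟩ := hconn.nonempty
    obtain ⟨i, -⟩ := Set.mem_iUnion.1 (componentList_cover hΓ hx)
    exact Fin.pos i
  exact ⟨{
      m := fun i => Models.mult R X (Γ i)
      a := fun i j => interMat Γ i j
      w := fun i => Models.wdeg R X (Γ i)
      g := fun i => ((Models.h1 R X (Γ i) / Models.wdeg R X (Γ i) : ℕ) : ℤ)
      pos := hpos
      m_pos := fun i => Int.natCast_pos.2 (hrow i).1
      w_pos := fun i => Int.natCast_pos.2 (wdeg_facts (Γ i)).1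
      g_nonneg := fun i => Int.natCast_nonneg _
      symm := Matrix.IsSymm.ext fun i j => hsym j i
      offDiag_nonneg := fun i j h => (hoff i j h).1
      connected := fun I h1 h2 => interMat_connected hA hconn hΓ I h1 h2
      mulVec_m := funext fun i => by
        rw [Matrix.mulVec, dotProduct, Pi.zero_apply, ← hz i]
        exact Finset.sum_congr rfl fun j _ => mul_comm _ _
      w_dvd := fun i j => by
        rw [interMat, Int.dvd_neg]
        exact (wdeg_facts (Γ i)).2.2 _ }, fun _ => rfl, fun _ _ => rfl⟩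

/-- There is a component, all multiplicities are positive, and the gcd is a combination of them. -/
theorem mult_facts : 0 < n ∧ (∀ i, 0 < Models.mult R X (Γ i)) ∧
    (∀ i, Models.multGcd R X Γ ∣ Models.mult R X (Γ i)) ∧
    0 < Models.multGcd R X Γ ∧
    ∃ u : Fin n → ℤ, ∑ i, u i * (Models.mult R X (Γ i) : ℤ) = (Models.multGcd R X Γ : ℤ) := by
  obtain ⟨T, hm, -⟩ := exists_numType hA hconn Γ hΓ
  have hpos : ∀ i, 0 < Models.mult R X (Γ i) := fun i => by
    have h := T.m_pos i
    rw [hm] at h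
    exact_mod_cast h
  have hdvd : ∀ i, Models.multGcd R X Γ ∣ Models.mult R X (Γ i) :=
    fun i => Finset.gcd_dvd (Finset.mem_univ i)
  refine ⟨T.pos, hpos, hdvd, Nat.pos_of_dvd_of_pos (hdvd ⟨0, T.pos⟩) (hpos _), ?_⟩
  classical
  have key : ∀ s : Finset (Fin n), ∃ u : Fin n → ℤ,
      ∑ i ∈ s, u i * (Models.mult R X (Γ i) : ℤ) =
        ((s.gcd fun i => Models.mult R X (Γ i) : ℕ) : ℤ) := by
    intro s
    induction s using Finset.induction with
    | empty => exact ⟨0, by simp⟩
    | insert j t hj ih =>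
      obtain ⟨w, hw⟩ := ih
      let a := Nat.gcdA (Models.mult R X (Γ j)) (t.gcd fun i => Models.mult R X (Γ i))
      let b := Nat.gcdB (Models.mult R X (Γ j)) (t.gcd fun i => Models.mult R X (Γ i))
      refine ⟨fun i => if i = j then a else b * w i, ?_⟩
      rw [Finset.sum_insert hj]
      dsimp only
      rw [if_pos rfl, Finset.sum_congr rfl (fun i hi => by
        rw [if_neg (ne_of_mem_of_not_mem hi hj), mul_assoc]), ← Finset.mul_sum, hw, Finset.gcd_insert, gcd_eq_nat_gcd,
        Nat.gcd_eq_gcd_ab]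
      ring
  exact key Finset.univ

/-- `m/d`. -/
abbrev redMult (_ : Unit) : Fin n → ℕ :=
  fun i => Models.mult R X (Γ i) / Models.multGcd R X Γ

omit hA hconn hΓ in
/-- The step data: `b ≺ b + e_i` with `b · Γ_i > 0`. -/
def IsStep (b b' : Fin n → ℕ) : Prop :=
  ∃ i, b' = b + Pi.single i 1 ∧ 0 < ∑ j, (b j : ℤ) * interMat Γ i j

/-- Steps preserve the field of constants, and the inequalities. -/
theorem isStep_facts {b b' : Fin n → ℕ} (h : IsStep Γ b b') (hg : GoodH0 X (divI Γ b)) :
    GoodH0 X (divI Γ b') ∧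
    Models.lengthH R X (ClSub.quotMod (divI Γ b')) 0 ≤ Models.lengthH R X (ClSub.quotMod (divI Γ b)) 0 ∧
    Models.lengthH R X (ClSub.quotMod (divI Γ b)) 1 ≤ Models.lengthH R X (ClSub.quotMod (divI Γ b')) 1 ∧
    ∃ i, b' = b + Pi.single i 1 ∧
      (Models.lengthH R X (ClSub.quotMod (divI Γ b')) 1 : ℤ) - Models.lengthH R X (ClSub.quotMod (divI Γ b)) 1 =
        (Models.lengthH R X (ClSub.quotMod (divI Γ b')) 0 : ℤ) - Models.lengthH R X (ClSub.quotMod (divI Γ b)) 0 +
          ∑ j, (b j : ℤ) * interMat Γ i j + ((Models.h1 R X (Γ i) : ℤ) - Models.wdeg R X (Γ i)) := by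
  classical
  obtain ⟨i, rfl, hi⟩ := h
  haveI : IsProper X.hom := isProper_hom_of_isArithSurface hA
  obtain ⟨h1, h2, h3, h4⟩ := step_facts (Γ i) (cartier_divI hA Γ b) (isEffCartierIdeal_ker hA (Γ i))
    (chiL_divI hA Γ hΓ.1 b).1 (by rw [degI_divI hA]; omega)
  have he : divI Γ (b + Pi.single i 1) = (Γ i).ι.ker * divI Γ b := by
    rw [← divI_add_single]
    congr 1
    funext j
    by_cases hj : j = i <;> simp [hj]
  rw [he]
  refine ⟨good_of_injective _ h1 hg, h2, h4, i, rfl, ?_⟩
  rw [h3, degI_divI hA]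
  ring

/-- A step exists below the reduced fibre. -/
theorem exists_step_one (b : Fin n → ℕ) (hb : ∀ i, b i ≤ 1) (h0 : b ≠ 0) (h1 : ∃ i, b i = 0) :
    ∃ i, b i = 0 ∧ 0 < ∑ j, (b j : ℤ) * interMat Γ i j := by
  classical
  obtain ⟨T, -, ha⟩ := exists_numType hA hconn Γ hΓ
  obtain ⟨i₁, hi₁⟩ := h1
  obtain ⟨i₀, hi₀⟩ := Function.ne_iff.1 h0
  let S : Finset (Fin n) := Finset.univ.filter fun i => b i = 0
  obtain ⟨i, hi, j, hj, hij⟩ := T.connected S ⟨i₁, by simp [S, hi₁]⟩ fun h => hi₀ (by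
    have h' : i₀ ∈ S := h ▸ Finset.mem_univ i₀
    simpa [S] using h')
  simp only [S, Finset.mem_filter, Finset.mem_univ, true_and] at hi hj
  have hnn : ∀ l, 0 ≤ (b l : ℤ) * interMat Γ i l := fun l => by
    by_cases hl : l = i
    · simp [hl, hi]
    · exact mul_nonneg (Int.natCast_nonneg _) (ha i l ▸ T.offDiag_nonneg i l (Ne.symm hl))
  refine ⟨i, hi, lt_of_lt_of_le ?_ (Finset.single_le_sum (fun l _ => hnn l) (Finset.mem_univ j))⟩
  refine lt_of_le_of_ne (hnn j) (Ne.symm (mul_ne_zero (by exact_mod_cast hj) (ha i j ▸ hij)))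

/-- A step exists below `m/d`. -/
theorem exists_step_red (b : Fin n → ℕ) (hb : ∀ i, b i ≤ redMult Γ () i) (h0 : b ≠ 0) (h1 : b ≠ redMult Γ ()) :
    ∃ i, b i < redMult Γ () i ∧ 0 < ∑ j, (b j : ℤ) * interMat Γ i j := by
  classical
  obtain ⟨T, hm, ha⟩ := exists_numType hA hconn Γ hΓ
  let d := Models.multGcd R X Γ
  let a : Fin n → ℕ := redMult Γ ()
  have hd : ∀ i, d * a i = Models.mult R X (Γ i) :=
    fun i => Nat.mul_div_cancel' (Finset.gcd_dvd (Finset.mem_univ i))
  have hd0 : 0 < d := Nat.pos_of_dvd_of_pos (Finset.gcd_dvd (Finset.mem_univ (⟨0, T.pos⟩ : Fin n))) (by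
    have h := T.m_pos ⟨0, T.pos⟩
    rw [hm] at h; exact_mod_cast h)
  have hz : ∀ i, ∑ j, (a j : ℤ) * interMat Γ i j = 0 := fun i => by
    refine (mul_eq_zero.1 ?_).resolve_left (show (d : ℤ) ≠ 0 by exact_mod_cast hd0.ne')
    rw [Finset.mul_sum, ← (show ∑ j, T.a i j * T.m j = 0 from congrFun T.mulVec_m i)]
    refine Finset.sum_congr rfl fun j _ => ?_
    rw [hm, ha, ← mul_assoc, ← Nat.cast_mul, hd, mul_comm]
  let c : Fin n → ℤ := fun i => (a i : ℤ) - b i
  by_contra hcon
  push Not at hcon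
  have hnn : 0 ≤ ∑ i, ∑ j, T.a i j * c i * c j := Finset.sum_nonneg fun i _ => by
    rw [Finset.sum_congr rfl fun j _ => show T.a i j * c i * c j = c i * (T.a i j * c j) by ring, ← Finset.mul_sum]
    rcases Nat.lt_or_eq_of_le (hb i) with h | h
    · refine mul_nonneg (sub_nonneg.2 (Int.ofNat_le.2 (hb i))) ?_
      have e : ∑ j, T.a i j * c j = - ∑ j, (b j : ℤ) * interMat Γ i j := by
        rw [← zero_sub, ← hz i, ← Finset.sum_sub_distrib]
        exact Finset.sum_congr rfl fun j _ => by rw [ha]; ring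
      rw [e]
      linarith [hcon i h]
    · simp [c, a, h]
  let i₀ : Fin n := ⟨0, T.pos⟩
  let x : Fin n → ℤ := fun i => c i * T.m i₀ - T.m i * c i₀
  have hAm : ∀ i, ∑ j, T.a i j * T.m j = 0 := congrFun T.mulVec_m
  have hform : ∑ i, ∑ j, T.a i j * x i * x j = T.m i₀ * T.m i₀ * ∑ i, ∑ j, T.a i j * c i * c j := by
    have hAm' : ∀ j, ∑ i, T.a i j * T.m i = 0 := fun j => by
      rw [← hAm j]; exact Finset.sum_congr rfl fun i _ => by rw [T.symm.apply j i]
    have s1 : ∑ i, ∑ j, T.a i j * c i * T.m j = 0 := Finset.sum_eq_zero fun i _ => by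
      rw [Finset.sum_congr rfl fun j _ => show T.a i j * c i * T.m j = c i * (T.a i j * T.m j) by ring,
        ← Finset.mul_sum, hAm, mul_zero]
    have s2 : ∑ i, ∑ j, T.a i j * T.m i * c j = 0 := by
      rw [Finset.sum_comm]
      exact Finset.sum_eq_zero fun j _ => by rw [← Finset.sum_mul, hAm', zero_mul]
    have s3 : ∑ i, ∑ j, T.a i j * T.m i * T.m j = 0 := by
      rw [Finset.sum_comm]
      exact Finset.sum_eq_zero fun j _ => by rw [← Finset.sum_mul, hAm', zero_mul]
    calc ∑ i, ∑ j, T.a i j * x i * x j = T.m i₀ * T.m i₀ * (∑ i, ∑ j, T.a i j * c i * c j) -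
          T.m i₀ * c i₀ * (∑ i, ∑ j, T.a i j * c i * T.m j) - T.m i₀ * c i₀ * (∑ i, ∑ j, T.a i j * T.m i * c j) +
          c i₀ * c i₀ * (∑ i, ∑ j, T.a i j * T.m i * T.m j) := by
            simp only [Finset.mul_sum, ← Finset.sum_sub_distrib, ← Finset.sum_add_distrib]
            exact Finset.sum_congr rfl fun i _ => Finset.sum_congr rfl fun j _ => by ring
      _ = _ := by rw [s1, s2, s3]; ring
  have hx : ∀ i, x i = 0 := fun i => by
    by_contra hi
    have hlt := NumType.form_neg T (fun i => (x i : ℝ)) ⟨i₀, by simp [x, mul_comm]⟩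
      fun h => hi (by simpa using congrFun h i)
    have hge : 0 ≤ ∑ i, ∑ j, T.a i j * x i * x j := hform ▸ mul_nonneg (mul_self_nonneg _) hnn
    refine hlt.not_ge ?_
    exact_mod_cast hge
  have hprop : ∀ i, (a i : ℤ) * c i₀ = c i * a i₀ := fun i => by
    refine mul_left_cancel₀ (show (d : ℤ) ≠ 0 by exact_mod_cast hd0.ne') ?_
    rw [← mul_assoc, ← Nat.cast_mul, hd, mul_left_comm, ← Nat.cast_mul, hd, ← hm, ← hm]
    have := hx i
    simp only [x] at this
    linarith
  obtain ⟨u, hu⟩ : ∃ u : Fin n → ℤ, ∑ i, u i * (a i : ℤ) = 1 := by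
    obtain ⟨-, -, -, -, u, hu⟩ := mult_facts hA hconn Γ hΓ
    refine ⟨u, mul_left_cancel₀ (show (d : ℤ) ≠ 0 by exact_mod_cast hd0.ne') ?_⟩
    rw [Finset.mul_sum, mul_one]
    exact (Finset.sum_congr rfl fun i _ => by rw [← hd i]; push_cast; ring).trans hu
  let q := ∑ i, u i * c i
  have ha0 : (0 : ℤ) < a i₀ := by
    have h := T.m_pos i₀
    rw [hm, ← hd i₀, Nat.cast_mul] at h
    exact pos_of_mul_pos_right h (Int.natCast_nonneg _)
  have hq0 : q * a i₀ = c i₀ := by
    rw [Finset.sum_mul, ← one_mul (c i₀), ← hu, Finset.sum_mul]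
    exact Finset.sum_congr rfl fun j _ => by rw [mul_assoc, ← hprop j, mul_assoc]
  have hq : ∀ i, c i = q * a i := fun i =>
    mul_right_cancel₀ ha0.ne' (by rw [← hprop i, ← hq0]; ring)
  have hq1 : 0 ≤ q := nonneg_of_mul_nonneg_left (hq0 ▸ sub_nonneg.2 (Int.ofNat_le.2 (hb i₀))) ha0
  have hq2 : q ≤ 1 := le_of_mul_le_mul_right (by rw [hq0, one_mul]; simp [c]) ha0
  rcases (show q = 0 ∨ q = 1 by omega) with h | h
  · refine h1 (funext fun i => ?_)
    have := hq i
    rw [h, zero_mul] at this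
    simp only [c, a] at this
    omega
  · refine h0 (funext fun i => ?_)
    have := hq i
    rw [h, one_mul] at this
    simp only [c, a, Pi.zero_apply] at this ⊢
    omega

/-- The reduced fibre has a field of constants. -/
theorem good_red : GoodH0 X (divI Γ fun _ => 1) := by
  classical
  obtain ⟨T, -, -⟩ := exists_numType hA hconn Γ hΓ
  haveI : IsProper X.hom := isProper_hom_of_isArithSurface hA
  suffices key : ∀ N : ℕ, ∀ b : Fin n → ℕ, (∀ i, b i ≤ 1) → b ≠ 0 → GoodH0 X (divI Γ b) →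
      ∑ i, (1 - b i) = N → GoodH0 X (divI Γ fun _ => 1) by
    let i₀ : Fin n := ⟨0, T.pos⟩
    refine key _ (Pi.single i₀ 1) (fun i => ?_) (by simp) ?_ rfl
    · by_cases h : i = i₀ <;> simp [h]
    · rw [show divI Γ (Pi.single i₀ 1) = (Γ i₀).ι.ker from ?_]
      · exact good_component (Γ i₀)
      · rw [divI, Finset.prod_eq_single i₀ (fun j _ hj => by simp [hj]) (fun h => absurd (Finset.mem_univ i₀) h)]
        simp
  intro N
  induction N with
  | zero =>
    intro b hb _ hg hs
    have : b = fun _ => 1 := funext fun i => by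
      have := (Finset.sum_eq_zero_iff.1 hs) i (Finset.mem_univ i)
      have := hb i
      omega
    exact this ▸ hg
  | succ N ih =>
    intro b hb h0 hg hs
    obtain ⟨i₁, -, hi₁⟩ := Finset.exists_ne_zero_of_sum_ne_zero (show ∑ i, (1 - b i) ≠ 0 by omega)
    obtain ⟨i, hi, hpos⟩ := exists_step_one hA hconn Γ hΓ b hb h0 ⟨i₁, by omega⟩
    refine ih (b + Pi.single i 1) (fun j => ?_) (fun h => by simpa [hi] using congrFun h i)
      (isStep_facts hA hconn Γ hΓ ⟨i, rfl, hpos⟩ hg).1 ?_
    · by_cases h : j = i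
      · subst h; simp [hi]
      · simp [h, hb j]
    · have hsplit : ∀ g : Fin n → ℕ, ∑ j, g j = g i + ∑ j ∈ Finset.univ.erase i, g j :=
        fun g => (Finset.add_sum_erase _ g (Finset.mem_univ i)).symm
      rw [hsplit] at hs ⊢
      rw [Finset.sum_congr rfl fun j hj => by rw [Pi.add_apply, Pi.single_eq_of_ne (Finset.ne_of_mem_erase hj), add_zero]]
      simp only [Pi.add_apply, Pi.single_eq_same, hi] at hs ⊢
      omega

/-- A chain of steps from the reduced fibre to `m/d`. -/
theorem exists_chain : ∃ (s : ℕ) (a : Fin (s + 1) → Fin n → ℕ), (a 0 = fun _ => 1) ∧ a (Fin.last s) = redMult Γ () ∧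
    (∀ j : Fin s, IsStep Γ (a j.castSucc) (a j.succ)) ∧ ∀ j, GoodH0 X (divI Γ (a j)) := by
  classical
  obtain ⟨T, hm, -⟩ := exists_numType hA hconn Γ hΓ
  suffices key : ∀ N : ℕ, ∀ b : Fin n → ℕ, (∀ i, b i ≤ redMult Γ () i) → b ≠ 0 → GoodH0 X (divI Γ b) →
      ∑ i, (redMult Γ () i - b i) = N → ∃ (s : ℕ) (a : Fin (s + 1) → Fin n → ℕ), a 0 = b ∧
        a (Fin.last s) = redMult Γ () ∧ (∀ j : Fin s, IsStep Γ (a j.castSucc) (a j.succ)) ∧
        ∀ j, GoodH0 X (divI Γ (a j)) by
    refine key _ (fun _ => 1) (fun i => ?_) (fun h => Nat.one_ne_zero (congrFun h ⟨0, T.pos⟩))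
      (good_red hA hconn Γ hΓ) rfl
    have h := T.m_pos i
    rw [hm] at h
    refine Nat.div_pos (Nat.le_of_dvd (by exact_mod_cast h) (Finset.gcd_dvd (Finset.mem_univ i))) ?_
    exact Nat.pos_of_dvd_of_pos (Finset.gcd_dvd (Finset.mem_univ i)) (by exact_mod_cast h)
  intro N
  induction N with
  | zero =>
    intro b hb _ hg hs
    have : b = redMult Γ () := funext fun i => by
      have := (Finset.sum_eq_zero_iff.1 hs) i (Finset.mem_univ i)
      have := hb i
      omega
    exact ⟨0, fun _ => b, rfl, this, fun j => j.elim0, fun _ => hg⟩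
  | succ N ih =>
    intro b hb h0 hg hs
    have h1 : b ≠ redMult Γ () := fun h => by
      rw [h] at hs
      simp at hs
    obtain ⟨i, hi, hpos⟩ := exists_step_red hA hconn Γ hΓ b hb h0 h1
    have hstep : IsStep Γ b (b + Pi.single i 1) := ⟨i, rfl, hpos⟩
    have hb' : ∀ j, (b + Pi.single i 1 : Fin n → ℕ) j ≤ redMult Γ () j := fun j => by
      by_cases h : j = i
      · subst h
        simp only [Pi.add_apply, Pi.single_eq_same]
        omega
      · simp [h, hb j]
    have hs' : ∑ j, (redMult Γ () j - (b + Pi.single i 1 : Fin n → ℕ) j) = N := by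
      have hsplit : ∀ g : Fin n → ℕ, ∑ j, g j = g i + ∑ j ∈ Finset.univ.erase i, g j :=
        fun g => (Finset.add_sum_erase _ g (Finset.mem_univ i)).symm
      rw [hsplit] at hs ⊢
      rw [Finset.sum_congr rfl fun j hj => by rw [Pi.add_apply, Pi.single_eq_of_ne (Finset.ne_of_mem_erase hj), add_zero]]
      simp only [Pi.add_apply, Pi.single_eq_same] at hs ⊢
      omega
    obtain ⟨s, a, ha0, hal, has, hag⟩ := ih (b + Pi.single i 1) hb'
      (fun h => by simpa using congrFun h i) (isStep_facts hA hconn Γ hΓ hstep hg).1 hs'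
    refine ⟨s + 1, Fin.cons b a, rfl, ?_, fun j => ?_, fun j => ?_⟩
    · rw [← Fin.succ_last, Fin.cons_succ]; exact hal
    · refine Fin.cases ?_ (fun l => ?_) j
      · rw [Fin.cons_succ, ha0]; exact hstep
      · rw [← Fin.succ_castSucc, Fin.cons_succ, Fin.cons_succ]; exact has l
    · refine Fin.cases hg (fun l => ?_) j
      rw [Fin.cons_succ]; exact hag l

end Groth.Agent.Castel.Arith
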