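import Groth.Agent.Castel.CanonCurve
import Groth.Agent.Castel.CanonFibre
import Groth.Agent.Castel.DivFieldArith

/-!
Degrees of canonical sheaves on vertical curves.
-/

set_option autoImplicit false
set_option backward.isDefEq.respectTransparency false
set_option backward.isDefEq.respectTransparency.types false
set_option linter.style.haveILetI false

universe u

open CategoryTheory CategoryTheory.Limits AlgebraicGeometry TopologicalSpace Opposite

noncomputable section

namespace Groth.Agent.Castel

variable {R : Type u} [CommRing R] [IsDomain R] [IsDiscreteValuationRing R] {X : Over (Spec (CommRingCat.of R))}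

/-- `E · E + K · E = -2 χ(O_E)`. -/
theorem selfInter_add_canonical (hX : ArSurf.IsArithSurface R X) (E : ArSurf.VertComp R X) {L : X.left.Modules}
    (hL : ClSub.IsInverseOf L (ClSub.idealMod E.ι.ker)) {ω : X.left.Modules} (hω : Canon.IsCanonical X.hom ω) :
    ArSurf.inter R X L E + ArSurf.inter R X ω E =
      -2 * ((Models.wdeg R X E : ℤ) - (Models.h1 R X E : ℤ)) := by
  haveI := isProper_hom_of_isArithSurface hX
  let k := IsLocalRing.ResidueField R
  letI : E.curve.left.Over (Spec (CommRingCat.of k)) := ⟨E.curve.hom⟩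
  haveI : IsProper (E.curve.left ↘ Spec (CommRingCat.of k)) := isProper_curve E
  obtain ⟨hinv, -, t, ht⟩ := exists_trace_adjunction hX E L hL ω hω
  have hLi := isInvertible_of_isInverseOf ((Groth.Agent.S8914.result _).2 (isEffCartierIdeal_ker hX E)) hL
  have hd : topologicalKrullDim E.curve.left ≤ 1 := le_of_eq E.dim_eq
  have hd' : topologicalKrullDim E.curve.left ≤ ((1 : ℕ) : WithBot ℕ∞) := by exact_mod_cast hd
  have hχ := euler_of_trace k hd (PicLoc.isInvertible_pullback E.ι (TMul.isInvertible_tensorMod hLi hinv)) ht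
  obtain ⟨p⟩ := TMul.nonempty_pullTensorIso E.ι L ω
  have hdeg := CurveRR.deg_tensor_inv (k := k) hd' (PicLoc.isInvertible_pullback E.ι hLi)
    (PicLoc.isInvertible_pullback E.ι hinv)
  have hO : Curv2.euler k E.curve.left (Coh.structureModule E.curve.left) =
      (Models.wdeg R X E : ℤ) - (Models.h1 R X E : ℤ) := CurveRR.euler_eq hd _
  have hiso := CurveRR.euler_eq_of_iso (k := k) p
  rw [inter_eq_deg, inter_eq_deg, ← hdeg, Curv2.deg]
  rw [hiso, hχ, hO]
  push_cast
  ring

/-- `χ(O_E)` in the two notations. -/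
theorem eulerCharLE_curve (E : ArSurf.VertComp R X) :
    FGA.eulerCharLE (IsLocalRing.ResidueField R) E.curve.left (Coh.structureModule E.curve.left) 1 =
      (Models.wdeg R X E : ℤ) - (Models.h1 R X E : ℤ) := by
  simp only [FGA.eulerCharLE, Models.wdeg, Models.h1, Finset.sum_range_succ, Finset.sum_range_zero]
  ring

/-- `Σ d_i K · Γ_i = -2 χ(O_{X_K})`. -/
theorem sum_mult_canonical (hX : ArSurf.IsArithSurface R X) {n : ℕ} (Γ : Fin n → ArSurf.VertComp R X)
    (hΓ : Models.IsComponentList R X Γ) {ω : X.left.Modules} (hω : Canon.IsCanonical X.hom ω) :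
    ∑ i, (Models.mult R X (Γ i) : ℤ) * ArSurf.inter R X ω (Γ i) =
      -2 * FGA.eulerCharLE (FractionRing R) ((Neron.genericFibre R).obj X).left
        (Coh.structureModule ((Neron.genericFibre R).obj X).left) 1 := by
  haveI := isProper_hom_of_isArithSurface hX
  haveI : Flat X.hom := hX.2.2.2.1
  rw [← chiL_fibre_arith hX]
  have hfib : fibreIdeal X = divI Γ fun j => Models.mult R X (Γ j) :=
    fibreIdeal_eq_prod hX Γ hΓ.1 (componentList_cover hΓ)
  have h1 := (chiL_divI hX Γ hΓ.1 fun j => Models.mult R X (Γ j)).2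
  rw [← hfib] at h1
  have hz : ∀ i, ∑ j, (Models.mult R X (Γ j) : ℤ) * interMat Γ i j = 0 := fun i => by
    have hsum : ∑ j, (Models.mult R X (Γ j) : ℤ) * interMat Γ i j =
        - degI (Γ i) (divI Γ fun j => Models.mult R X (Γ j)) := by
      rw [degI_divI hX, neg_neg]
    rw [hsum, ← hfib, degI_fibreIdeal, neg_zero]
  have h0 : ∑ i, ∑ j, (Models.mult R X (Γ i) : ℤ) * (Models.mult R X (Γ j) : ℤ) * interMat Γ i j = 0 :=
    Finset.sum_eq_zero fun i _ => by
      simp only [mul_assoc, ← Finset.mul_sum]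
      rw [hz i, mul_zero]
  rw [h0, neg_zero, zero_add] at h1
  have hi : ∀ i, ArSurf.inter R X ω (Γ i) =
      -(2 * ((Models.wdeg R X (Γ i) : ℤ) - Models.h1 R X (Γ i)) + interMat Γ i i) := fun i => by
    obtain ⟨L, -, ⟨eL⟩⟩ := W7Hull.exists_tensor_inverse
      ((Groth.Agent.S8914.result _).2 (isEffCartierIdeal_ker hX (Γ i)))
    have hL : ClSub.IsInverseOf L (ClSub.idealMod (Γ i).ι.ker) := ⟨TMul.commIso _ _ ≪≫ eL⟩
    have h := selfInter_add_canonical hX (Γ i) (L := L) hL hω
    rw [inter_eq_interMat hX Γ (j := i) hL] at h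
    linarith
  simp only [hi, mul_neg, Finset.sum_neg_distrib, ← h1]
  ring

end Groth.Agent.Castel
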