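import Groth.Agent.Castel.MinUnique

/-!
Uniqueness of relatively minimal models, final forms.
-/

set_option autoImplicit false
set_option backward.isDefEq.respectTransparency false
set_option backward.isDefEq.respectTransparency.types false
set_option linter.style.haveILetI false

universe u

open CategoryTheory CategoryTheory.Limits AlgebraicGeometry TopologicalSpace Topology

noncomputable section

namespace Groth.Agent.Castel

variable {R : Type u} [CommRing R] [IsDedekindDomain R]

/-- The generic fibre of an arithmetic surface is integral. -/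
theorem isIntegral_genericFibre {X : Over (Spec (CommRingCat.of R))} (h : ArSurf.IsArithSurface R X) :
    IsIntegral ((Neron.genericFibre R).obj X).left := by
  obtain ⟨-, hint, -, hflat, -⟩ := h
  haveI := hint
  haveI := hflat
  let XK := pullback X.hom (Neron.genPt R)
  let fX : XK ⟶ X.left := pullback.fst X.hom (Neron.genPt R)
  haveI : IsPreimmersion (Neron.genPt R) := IsPreimmersion.of_isLocalization (nonZeroDivisors R)
  haveI : IsPreimmersion fX := inferInstance
  let η : Spec (CommRingCat.of R) := (⟨⊥, Ideal.isPrime_bot⟩ : PrimeSpectrum R)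
  obtain ⟨w, hw⟩ : genericPoint X.left ∈ Set.range fX := by
    rw [Scheme.Pullback.range_fst, RelMinSmooth.range_genPt]
    obtain ⟨w, hw, hw'⟩ := Flat.generalizingMap X.hom (a := genericPoint X.left)
      (show η ⤳ _ from (PrimeSpectrum.le_iff_specializes η _).mp bot_le)
    rw [(hw.antisymm ((genericPoint_spec X.left).specializes trivial)).eq] at hw'
    exact hw'
  have hwall : ∀ v, w ⤳ v := fun v => by
    rw [← fX.isEmbedding.toIsInducing.specializes_iff, hw]
    exact genericPoint_specializes _
  haveI : PreirreducibleSpace XK := ⟨fun U U' hU hU' hUn hUn' => by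
    simp only [Set.univ_inter] at hUn hUn' ⊢
    exact ⟨w, (hwall hUn.choose).mem_open hU hUn.choose_spec, (hwall hUn'.choose).mem_open hU' hUn'.choose_spec⟩⟩
  haveI : IrreducibleSpace XK := { toNonempty := ⟨w⟩ }
  haveI : ∀ v, _root_.IsReduced (XK.presheaf.stalk v) := fun v => by
    haveI := RelMinSmooth.isIso_stalkMap_fst X.hom v
    exact isReduced_of_injective (inv (fX.stalkMap v)).hom
      (ConcreteCategory.bijective_of_isIso (inv (fX.stalkMap v))).1
  haveI : IsReduced XK := isReduced_of_isReduced_stalk _
  exact isIntegral_of_irreducibleSpace_of_isReduced XK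

/-- Nonpositive Euler characteristic of the generic fibre gives nonzero `H¹`. -/
theorem nontrivial_h1_genericFibre {X : Over (Spec (CommRingCat.of R))} (h : ArSurf.IsArithSurface R X)
    (hg : FGA.eulerCharLE (FractionRing R) ((Neron.genericFibre R).obj X).left (Coh.structureModule _) 1 ≤ 0) :
    Nontrivial (Coh.HH ((Neron.genericFibre R).obj X).left (Coh.structureModule _) 1) := by
  haveI := isIntegral_genericFibre h
  haveI : IsProper X.hom := PtBlow.isProper_of_isProjectiveOver h.2.2.2.2
  haveI : IsProper (((Neron.genericFibre R).obj X).left ↘ Spec (CommRingCat.of (FractionRing R))) :=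
    MorphismProperty.pullback_snd (P := @IsProper) X.hom (Neron.genPt R) inferInstance
  exact nontrivial_h1_of_euler_nonpos _ hg

/-- Isomorphisms of generic fibres of relatively minimal models extend uniquely. -/
theorem existsUnique_iso_of_generic {X₁ X₂ : Over (Spec (CommRingCat.of R))} (h₁ : ArSurf.IsArithSurface R X₁)
    (h₂ : ArSurf.IsArithSurface R X₂) (m₁ : Neron.IsRelMinimalRegularModel R X₁)
    (m₂ : Neron.IsRelMinimalRegularModel R X₂)
    (hh : Nontrivial (Coh.HH ((Neron.genericFibre R).obj X₁).left (Coh.structureModule _) 1))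
    (φ : (Neron.genericFibre R).obj X₁ ≅ (Neron.genericFibre R).obj X₂) :
    ∃! f : X₁ ⟶ X₂, IsIso f ∧ (Neron.genericFibre R).map f = φ.hom := by
  obtain ⟨f, hf, hmap⟩ := exists_iso_of_generic h₁ h₂ m₁ m₂ hh φ
  haveI := h₁.2.2.2.1
  haveI : IsProper X₂.hom := PtBlow.isProper_of_isProjectiveOver h₂.2.2.2.2
  exact ⟨f, ⟨hf, hmap⟩, fun g hg => Groth.Agent.S18498.result R X₁ X₂ g f (hg.2.trans hmap.symm)⟩

end Groth.Agent.Castel
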