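import Groth.Agent.Castel.CanonContract
import Groth.Agent.Castel.ContractUniq
import Groth.Agent.Castel.MinUniqueApps
import Groth.Agent.Castel.NefMinimal

/-!
Automorphisms of the generic fibre extend to the canonical model.
-/

set_option autoImplicit false
set_option backward.isDefEq.respectTransparency false
set_option backward.isDefEq.respectTransparency.types false
set_option linter.style.haveILetI false

universe u

open CategoryTheory CategoryTheory.Limits AlgebraicGeometry TopologicalSpace Opposite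

noncomputable section

namespace Groth.Agent.Castel

variable {R : Type u} [CommRing R] [IsDomain R] [IsDiscreteValuationRing R] {X : Over (Spec (CommRingCat.of R))}

/-- A contraction of vertical curves is an isomorphism on generic fibres. -/
theorem isIso_genericFibre_contraction {r : ℕ} (Γ : Fin r → ArSurf.VertComp R X) {Y : Over (Spec (CommRingCat.of R))}
    (f : X ⟶ Y)
    (hiso : ∀ V : Y.left.Opens, (V : Set Y.left) ∩ f.left.base '' (⋃ i, Set.range (Γ i).ι.base) = ∅ →
      IsIso (f.left ∣_ V)) : IsIso ((Neron.genericFibre R).map f) := by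
  haveI := isOpenImmersion_genPt (R := R)
  let fX := pullback.fst X.hom (Neron.genPt R)
  let fY := pullback.fst Y.hom (Neron.genPt R)
  let gK := ((Neron.genericFibre R).map f).left
  have h1 : gK ≫ fY = fX ≫ f.left := pullback.lift_fst _ _ _
  have h2 : gK ≫ pullback.snd Y.hom (Neron.genPt R) = pullback.snd X.hom (Neron.genPt R) := by
    refine (pullback.lift_snd _ _ _).trans ?_
    simp
  have sq : IsPullback fX gK f.left fY := by
    refine IsPullback.of_bot ?_ h1.symm (IsPullback.of_hasPullback Y.hom (Neron.genPt R))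
    rw [h2, Over.w f]
    exact IsPullback.of_hasPullback X.hom (Neron.genPt R)
  haveI := hiso fY.opensRange (by
    refine Set.eq_empty_iff_forall_notMem.2 ?_
    rintro z ⟨⟨w, hw⟩, hz⟩
    obtain ⟨x, hx, rfl⟩ := hz
    obtain ⟨i, c, rfl⟩ := Set.mem_iUnion.1 hx
    have h3 : Y.hom (fY w) ∈ Set.range (Neron.genPt R) := by
      refine ⟨pullback.snd Y.hom (Neron.genPt R) w, ?_⟩
      rw [← Scheme.Hom.comp_apply, ← pullback.condition, Scheme.Hom.comp_apply]
    rw [RelMinSmooth.range_genPt, hw] at h3
    have h4 : Y.hom (f.left ((Γ i).ι c)) = IsLocalRing.closedPoint R := by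
      rw [← Scheme.Hom.comp_apply, ← Scheme.Hom.comp_apply, Over.w f, (Γ i).w, Scheme.Hom.comp_apply]
      rw [Subsingleton.elim ((Γ i).curve.hom c) (IsLocalRing.closedPoint (IsLocalRing.ResidueField R))]
      exact IsLocalRing.comap_closedPoint (IsLocalRing.residue R)
    rw [h4] at h3
    exact IsDiscreteValuationRing.not_a_field R (Set.mem_singleton_iff.1 h3 |> congrArg PrimeSpectrum.asIdeal))
  haveI : IsIso (pullback.snd f.left fY) :=
    (MorphismProperty.arrow_mk_iso_iff (MorphismProperty.isomorphisms Scheme)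
      (morphismRestrictOpensRange f.left fY)).1 (inferInstanceAs (IsIso (f.left ∣_ fY.opensRange)))
  haveI : IsIso gK := by rw [← sq.isoPullback_hom_snd]; infer_instance
  haveI : IsIso ((Over.forget _).map ((Neron.genericFibre R).map f)) := inferInstanceAs (IsIso gK)
  exact isIso_of_reflects_iso _ (Over.forget _)

/-- Automorphisms of the generic fibre extend to the canonical model. -/
theorem existsUnique_auto_canonical (hX : ArSurf.IsArithSurface R X) (hmin : Neron.IsRelMinimalRegularModel R X)
    (hg : FGA.eulerCharLE (FractionRing R) ((Neron.genericFibre R).obj X).left (Coh.structureModule _) 1 ≤ -1)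
    {ωX : X.left.Modules} (hωX : Canon.IsCanonical X.hom ωX) {r : ℕ} (Γ : Fin r → ArSurf.VertComp R X)
    (hK : ∀ i, ArSurf.inter R X ωX (Γ i) = 0)
    (hall : ∀ C : ArSurf.VertComp R X, ArSurf.inter R X ωX C = 0 →
      ∃ i, Set.range (C.ι.base : C.curve.left → X.left) = Set.range ((Γ i).ι.base : (Γ i).curve.left → X.left))
    (hinj : Function.Injective fun i => Set.range ((Γ i).ι.base : (Γ i).curve.left → X.left))
    {Y : Over (Spec (CommRingCat.of R))} (f : X ⟶ Y) [IsIntegral Y.left] [Flat Y.hom]
    (hYnor : ∀ q : Y.left, IsIntegrallyClosed (Y.left.presheaf.stalk q)) (hYpr : Neron.IsProjectiveOver R Y)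
    (hfpt : ∀ i, ∃ y : Y.left, Set.range (((Γ i).ι ≫ f.left).base : (Γ i).curve.left → Y.left) = {y})
    (hfpre : f.left.base ⁻¹' (f.left.base '' ⋃ i, Set.range (Γ i).ι.base) = ⋃ i, Set.range (Γ i).ι.base)
    (hfiso : ∀ V : Y.left.Opens, (V : Set Y.left) ∩ f.left.base '' (⋃ i, Set.range (Γ i).ι.base) = ∅ →
      IsIso (f.left ∣_ V))
    (σ : (Neron.genericFibre R).obj Y ≅ (Neron.genericFibre R).obj Y) :
    ∃! τ : Y ⟶ Y, IsIso τ ∧ (Neron.genericFibre R).map τ = σ.hom := by
  classical
  haveI := hX.2.1
  haveI : Flat X.hom := hX.2.2.2.1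
  haveI : IsProper Y.hom := PtBlow.isProper_of_isProjectiveOver (Z := Y) hYpr
  haveI hfK := isIso_genericFibre_contraction Γ f hfiso
  let e := asIso ((Neron.genericFibre R).map f)
  obtain ⟨t, ⟨ht, htK⟩, -⟩ := existsUnique_iso_of_generic hX hX hmin hmin
    (nontrivial_h1_genericFibre hX (by omega)) (e ≪≫ σ ≪≫ e.symm)
  haveI := ht
  haveI : IsIso t.left := inferInstanceAs (IsIso ((Over.forget _).map t))
  obtain ⟨q⟩ := nonempty_canon_pullback_iso hωX hωX t.left (𝟙 X.left) (by rw [Category.id_comp]; exact Over.w t)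
  let q' : (Scheme.Modules.pullback t.left).obj ωX ≅ ωX := q ≪≫ (Scheme.Modules.pullbackId X.left).app ωX
  let C : Fin r → ArSurf.VertComp R X := fun i =>
    { curve := (Γ i).curve
      ι := (Γ i).ι ≫ t.left
      isClosedImmersion := inferInstance
      isIntegral := (Γ i).isIntegral
      dim_eq := (Γ i).dim_eq
      w := by rw [Category.assoc, Over.w t]; exact (Γ i).w }
  have hC : ∀ i, ArSurf.inter R X ωX (C i) = 0 := fun i => by
    rw [← hK i]
    have k : (Scheme.Modules.pullback ((Γ i).ι ≫ t.left)).obj ωX ≅ (Scheme.Modules.pullback (Γ i).ι).obj ωX :=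
      ((Scheme.Modules.pullbackComp (Γ i).ι t.left).app ωX).symm ≪≫ (Scheme.Modules.pullback (Γ i).ι).mapIso q'
    haveI := isProper_hom_of_isArithSurface hX
    have h1 : ArSurf.inter R X ωX (C i) = degAlong (Γ i) ((Γ i).ι ≫ t.left) ωX :=
      (curveDeg_eq_degAlong (Γ i) ((Γ i).ι ≫ t.left) ωX)
    refine h1.trans ((?_ : _ = degAlong (Γ i) (Γ i).ι ωX).trans (curveDeg_eq_degAlong (Γ i) (Γ i).ι ωX).symm)
    rw [degAlong, degAlong, Curv2.deg, Curv2.deg, CurveRR.euler_eq_of_iso k]
  choose π hπ using fun i => hall (C i) (hC i)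
  have himg : ∀ i, (t.left : X.left → X.left) '' Set.range (Γ i).ι.base = Set.range (Γ (π i)).ι.base := fun i => by
    rw [← hπ i, ← Set.range_comp]
    rfl
  have hπi : Function.Injective π := fun i j hij => hinj (by
    have h : (t.left : X.left → X.left) '' Set.range (Γ i).ι.base = (t.left : X.left → X.left) '' Set.range (Γ j).ι.base := by
      rw [himg, himg, hij]
    exact t.left.isOpenEmbedding.injective.image_injective h)
  have hπb : Function.Bijective π := Finite.injective_iff_bijective.1 hπi
  have hU : (t.left : X.left → X.left) '' (⋃ i, Set.range (Γ i).ι.base) = ⋃ i, Set.range (Γ i).ι.base := by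
    rw [Set.image_iUnion]
    simp only [himg]
    exact hπb.2.iUnion_comp fun i => Set.range (Γ i).ι.base
  let g : X ⟶ Y := t ≫ f
  have hgi : g.left.base '' (⋃ i, Set.range (Γ i).ι.base) = f.left.base '' ⋃ i, Set.range (Γ i).ι.base := by
    conv_rhs => rw [← hU]
    rw [Set.image_image]
    rfl
  obtain ⟨⟨θ, hθ, -⟩, hθi⟩ := contraction_unique hX.2.2.2.2 Γ Y Y f g hYnor hYnor hYpr hYpr hfpt
    (fun i => by
      obtain ⟨y, hy⟩ := hfpt (π i)
      refine ⟨y, ?_⟩
      rw [← hy]
      show Set.range (((Γ i).ι ≫ t.left ≫ f.left).base) = _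
      rw [← Category.assoc, Scheme.Hom.comp_base, TopCat.coe_comp, Set.range_comp, Scheme.Hom.comp_base _ f.left,
        TopCat.coe_comp, Set.range_comp]
      exact congrArg _ (hπ i))
    hfpre
    (by
      rw [hgi, show g.left.base ⁻¹' (f.left.base '' ⋃ i, Set.range (Γ i).ι.base) =
        t.left.base ⁻¹' (f.left.base ⁻¹' (f.left.base '' ⋃ i, Set.range (Γ i).ι.base)) from rfl, hfpre]
      conv_lhs => rw [← hU]
      exact t.left.isOpenEmbedding.injective.preimage_image _)
    hfiso
    (fun V hV => by
      haveI := hfiso V (hgi ▸ hV)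
      show IsIso ((t.left ≫ f.left) ∣_ V)
      rw [morphismRestrict_comp]
      infer_instance)
  have hθK : (Neron.genericFibre R).map θ = σ.hom := by
    have h := congrArg (Neron.genericFibre R).map hθ
    simp only [g, Functor.map_comp] at h
    rw [htK] at h
    simp only [e, Iso.trans_hom, Iso.symm_hom, Category.assoc, asIso_hom, asIso_inv, IsIso.inv_hom_id,
      Category.comp_id] at h
    exact (cancel_epi _).1 h
  exact ⟨θ, ⟨hθi θ hθ, hθK⟩, fun τ hτ => Groth.Agent.S18498.result R Y Y τ θ (hτ.2.trans hθK.symm)⟩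

end Groth.Agent.Castel
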