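import Groth.Agent.ExtFund.CanonMain
import Groth.Agent.ExtFund.CanonOpen
import Groth.Agent.KoszulLib.RelKinds
import Groth.Agent.KoszulLib.SchKer
import Groth.Agent.S15826

/-!
Base change of canonical sheaves of local complete intersection morphisms.
-/

set_option autoImplicit false
set_option backward.isDefEq.respectTransparency false
set_option backward.isDefEq.respectTransparency.types false
set_option linter.style.haveILetI false
set_option maxHeartbeats 800000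

universe u

open CategoryTheory CategoryTheory.Limits AlgebraicGeometry TopologicalSpace Opposite TensorProduct

noncomputable section

namespace Groth.Agent.Castel

/-- A regular immersion, flat over the base, becomes a quasi-regular one of the same codimension. -/
theorem isRegularImmersionOfCodim_quasi_baseChange {Z X S S' X' Z' : Scheme.{u}} (f : X ⟶ S) (i : Z ⟶ X) {c : ℕ}
    (hi : RegImm.IsRegularImmersionOfCodim .regular c i) (hflat : Flat (i ≫ f)) {g : S' ⟶ S} {p : X' ⟶ X}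
    {f' : X' ⟶ S'} (hX : IsPullback p f' f g) {i' : Z' ⟶ X'} {q : Z' ⟶ Z} (hZ : IsPullback q i' i p) :
    RegImm.IsRegularImmersionOfCodim .quasi c i' := by
  obtain ⟨himm, hreg⟩ := hi
  let k : RegImm.Kind := .quasi
  have hk : k = .h1 ∨ k = .quasi := Or.inr rfl
  refine ⟨MorphismProperty.of_isPullback hZ himm, fun z' => ?_⟩
  obtain ⟨U, hz, hc, rs, hlen, hrs0, hker⟩ := hreg (q z')
  have hrs : k.Seq Γ(X, U.1) rs := KoszulLib.quasi_seq_of RegImm.Kind.regular _ rs hrs0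
  have hpz : i (q z') = p (i' z') := by rw [← Scheme.Hom.comp_apply, hZ.w, Scheme.Hom.comp_apply]
  have hgf : g (f' (i' z')) = f (i (q z')) := by
    rw [hpz, ← Scheme.Hom.comp_apply, ← hX.w, Scheme.Hom.comp_apply]
  obtain ⟨_, ⟨V, hV, rfl⟩, hzV, -⟩ :=
    S.isBasis_affineOpens.exists_subset_of_mem_open (Set.mem_univ (f (i (q z')))) isOpen_univ
  obtain ⟨_, ⟨V', hV', rfl⟩, hzV', hV'V⟩ := S'.isBasis_affineOpens.exists_subset_of_mem_open
    (show f' (i' z') ∈ g ⁻¹ᵁ V from show g (f' (i' z')) ∈ V from hgf ▸ hzV) (g ⁻¹ᵁ V).isOpen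
  obtain ⟨a, ha, hza⟩ := U.2.exists_basicOpen_le (V := f ⁻¹ᵁ V) ⟨i (q z'), hzV⟩ hz
  obtain ⟨U₁, hU₁⟩ : ∃ U₁ : X.affineOpens, U₁.1 = X.basicOpen a := ⟨X.affineBasicOpen a, rfl⟩
  have hle : U₁.1 ≤ U.1 := hU₁.le.trans (X.basicOpen_le a)
  have hUV : U₁.1 ≤ f ⁻¹ᵁ V := hU₁.le.trans ha
  have hzU₁ : i (q z') ∈ U₁.1 := hU₁ ▸ hza
  obtain ⟨hc₁, hker₁⟩ := KoszulLib.ker_app_of_le i U hc U₁ hle
  letI : Algebra Γ(X, U.1) Γ(X, U₁.1) := (X.presheaf.map (homOfLE hle).op).hom.toAlgebra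
  haveI : IsLocalization.Away a Γ(X, U₁.1) := U.2.isLocalization_of_eq_basicOpen a (homOfLE hle) hU₁
  haveI : Module.Flat Γ(X, U.1) Γ(X, U₁.1) := IsLocalization.flat _ (Submonoid.powers a)
  let rs₁ := rs.map (algebraMap Γ(X, U.1) Γ(X, U₁.1))
  have hrs₁ : k.Seq Γ(X, U₁.1) rs₁ := KoszulLib.seq_flat k (fun (h : k = .regular) => RegImm.Kind.noConfusion h) hrs
  have hk₁ : RingHom.ker (i.app U₁.1).hom = Ideal.ofList rs₁ := by
    rw [hker₁, hker]; exact Ideal.map_ofList _ _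
  obtain ⟨W, hW⟩ : ∃ W : X'.Opens, W = p ⁻¹ᵁ U₁.1 ⊓ f' ⁻¹ᵁ V' := ⟨_, rfl⟩
  have hWp : W ≤ p ⁻¹ᵁ U₁.1 := hW.le.trans inf_le_left
  have hWf : W ≤ f' ⁻¹ᵁ V' := hW.le.trans inf_le_right
  haveI : IsAffine U₁.1.toScheme := U₁.2
  haveI : IsAffine (Scheme.Opens.toScheme V') := hV'
  haveI : IsAffine (Scheme.Opens.toScheme V) := hV
  have hWaff : IsAffineOpen W :=
    .of_isIso (Scheme.Hom.isPullback_resLE hX hV'V hUV hW).isoPullback.hom
  obtain ⟨hcW, hkerW⟩ := KoszulLib.ker_app_of_isPullback hZ U₁ hc₁ ⟨W, hWaff⟩ hWp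
  refine ⟨⟨W, hWaff⟩, ?_, hcW, ?_⟩
  · show i' z' ∈ W
    rw [hW]
    exact ⟨show p (i' z') ∈ U₁.1 from hpz ▸ hzU₁, hzV'⟩
  letI := (f.appLE V U₁.1 hUV).hom.toAlgebra
  letI := (g.appLE V V' hV'V).hom.toAlgebra
  letI := (p.appLE U₁.1 W hWp).hom.toAlgebra
  letI := (f'.appLE V' W hWf).hom.toAlgebra
  letI : Algebra Γ(S, V) Γ(X', W) := ((p.appLE U₁.1 W hWp).hom.comp (f.appLE V U₁.1 hUV).hom).toAlgebra
  haveI : IsScalarTower Γ(S, V) Γ(X, U₁.1) Γ(X', W) := IsScalarTower.of_algebraMap_eq' rfl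
  haveI : IsScalarTower Γ(S, V) Γ(S', V') Γ(X', W) := IsScalarTower.of_algebraMap_eq' (by
    show (p.appLE U₁.1 W hWp).hom.comp (f.appLE V U₁.1 hUV).hom = (f'.appLE V' W hWf).hom.comp (g.appLE V V' hV'V).hom
    rw [← CommRingCat.hom_comp, ← CommRingCat.hom_comp]
    simp only [Scheme.Hom.appLE_comp_appLE, hX.w])
  haveI : Algebra.IsPushout Γ(S, V) Γ(S', V') Γ(X, U₁.1) Γ(X', W) :=
    ((CommRingCat.isPushout_iff_isPushout).mp
      ((isIso_pushoutSection_iff hX hV'V hUV hW).mp (isIso_pushoutSection_of_isAffineOpen hX hV'V hUV hW hV hV' U₁.2))).symm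
  haveI : Module.Flat Γ(S, V) (Γ(X, U₁.1) ⧸ Ideal.ofList rs₁) := by
    have e : i ⁻¹ᵁ U₁.1 ≤ (i ≫ f) ⁻¹ᵁ V := fun z hz => hUV hz
    letI := ((i ≫ f).appLE V (i ⁻¹ᵁ U₁.1) e).hom.toAlgebra
    haveI : Module.Flat Γ(S, V) Γ(Z, i ⁻¹ᵁ U₁.1) :=
      HasRingHomProperty.appLE @Flat (i ≫ f) hflat ⟨V, hV⟩ ⟨_, KoszulLib.isAffineOpen_preimage i hc₁⟩ e
    let φ : Γ(X, U₁.1) →ₐ[Γ(S, V)] Γ(Z, i ⁻¹ᵁ U₁.1) :=
      { (i.app U₁.1).hom with
        commutes' := fun r => by
          show (i.app U₁.1).hom ((f.appLE V U₁.1 hUV).hom r) = ((i ≫ f).appLE V (i ⁻¹ᵁ U₁.1) e).hom r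
          rw [Scheme.Hom.app_eq_appLE, ← CommRingCat.comp_apply, Scheme.Hom.appLE_comp_appLE] }
    rw [← hk₁]
    exact Module.Flat.of_linearEquiv
      (Ideal.quotientKerAlgEquivOfSurjective (f := φ) (KoszulLib.app_surjective i hc₁)).toLinearEquiv
  refine ⟨_, by simp [rs₁, hlen], KoszulLib.seq_pushout (A := Γ(S, V)) (A' := Γ(S', V')) (B := Γ(X', W)) k hk rs₁ hrs₁, ?_⟩
  show RingHom.ker (i'.app W).hom = _
  rw [hkerW, hk₁]
  exact Ideal.map_ofList _ _

/-- The conormal sheaf of a quasi-regular immersion of codimension `c` has rank `c`. -/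
theorem isFinLocFreeOfRank_conormal_quasi {X P : Scheme.{u}} (i : X ⟶ P) [IsImmersion i] [QuasiCompact i] {c : ℕ}
    (hi : RegImm.IsRegularImmersionOfCodim RegImm.Kind.quasi c i) :
    FlatMod.IsFinLocFreeOfRank c (Omega.conormal i) := by
  refine ExtFund.isFinLocFreeOfRank_of_frames fun x => ?_
  obtain ⟨U, hxU, hc, rs, rfl, hseq, hker⟩ := hi.2 x
  have hch : Conormal.IsChart i U.1 := ⟨U.2, hc⟩
  have hq : CAlgX.IsQuasiRegular rs.get := hseq
  have hker' : RingHom.ker (i.app U.1).hom = Ideal.span (Set.range rs.get) := by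
    rw [hker, Set.range_list_get]
  have hz : ∀ j, i.app U.1 (rs.get j) = 0 := fun j =>
    RingHom.mem_ker.1 (hker'.symm ▸ Ideal.subset_span (Set.mem_range_self j))
  choose s hs using fun j => Conormal.exists_idealSect i U.1 (rs.get j) (hz j)
  let b : Fin rs.length → Γ(Omega.conormal i, i ⁻¹ᵁ U.1) := fun j => OmegaSh.conormalSect i U.1 (s j)
  have key : ∀ a : Fin rs.length → Γ(P, U.1), ∑ j, (i.app U.1).hom (a j) • b j =
      OmegaSh.conormalSect i U.1 (∑ j, a j • s j) := fun a => by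
    rw [map_sum]
    exact Finset.sum_congr rfl fun j _ => (Conormal.conormalSect_smul i U.1 (a j) (s j)).symm
  have key2 : ∀ a : Fin rs.length → Γ(P, U.1), OmegaSh.idealSect i.ker U.1 (∑ j, a j • s j) =
      ∑ j, a j * rs.get j := fun a => by
    rw [map_sum]
    exact Finset.sum_congr rfl fun j _ => by rw [Conormal.idealSect_smul, hs]
  refine ⟨i ⁻¹ᵁ U.1, b, hxU, PBundle.isFrame_of_bijective (Conormal.isQCoh_conormal i) hch.preimage ⟨?_, ?_⟩⟩
  · intro r r' h
    choose a ha using fun j => hch.surjective (r j - r' j)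
    have h0 : ∑ j, (r j - r' j) • b j = 0 := by
      simp only [sub_smul, Finset.sum_sub_distrib]
      exact sub_eq_zero.2 h
    simp only [← ha] at h0
    rw [key, Conormal.conormalSect_eq_zero_iff i hch, key2] at h0
    funext j
    refine sub_eq_zero.1 ?_
    rw [← ha j]
    refine RingHom.mem_ker.1 ?_
    rw [hker']
    exact SectRank.indep_of_quasi rs.get hq a (by rwa [hker'] at h0) j
  · intro m
    obtain ⟨t, rfl⟩ := Conormal.conormalSect_surjective i hch m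
    have hmem : OmegaSh.idealSect i.ker U.1 t ∈ Ideal.span (Set.range rs.get) :=
      hker' ▸ RingHom.mem_ker.2 (Conormal.app_idealSect i U.1 t)
    obtain ⟨a, ha⟩ := Ideal.mem_span_range_iff_exists_fun.1 hmem
    refine ⟨fun j => (i.app U.1).hom (a j), ?_⟩
    change ∑ j, _ • b j = _
    rw [key]
    congr 1
    exact Conormal.idealSect_injective i.ker U.1 ((key2 a).trans ha)

/-- The pullback of a canonical sheaf along a base change, `f` or the base change flat, is canonical. -/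
theorem nonempty_canon_baseChange {X Y Y' X' : Scheme.{u}} {f : X ⟶ Y} {u : Y' ⟶ Y} {p : X' ⟶ X} {f' : X' ⟶ Y'}
    (hsq : IsPullback p f' f u) (hfl : Flat f ∨ Flat u) {ω : X.Modules} (hω : Canon.IsCanonical f ω)
    {ω' : X'.Modules} (hω' : Canon.IsCanonical f' ω') : Nonempty (ω' ≅ (Scheme.Modules.pullback p).obj ω) := by
  obtain ⟨Z, i, g, c, n, hig, hi, hg, hqc, hqs, C, Ω, hC, hΩ, ⟨e⟩⟩ := hω
  obtain ⟨Z', i', g', c', n', hig', hi', hg', hqc', hqs', C', Ω', hC', hΩ', he'⟩ := hω'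
  haveI := hg; haveI := hqc; haveI := hqs; haveI := hi.1
  haveI := hg'; haveI := hqc'; haveI := hqs'; haveI := hi'.1
  let q : pullback g u ⟶ Z := pullback.fst g u
  let g₁ : pullback g u ⟶ Y' := pullback.snd g u
  have sq : IsPullback q g₁ g u := IsPullback.of_hasPullback g u
  let i₁ : X' ⟶ pullback g u := pullback.lift (p ≫ i) f' (by rw [Category.assoc, hig, hsq.w])
  have hi₁q : i₁ ≫ q = p ≫ i := pullback.lift_fst _ _ _
  have hi₁g : i₁ ≫ g₁ = f' := pullback.lift_snd _ _ _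
  have sqi : IsPullback p i₁ i q := by
    refine IsPullback.of_bot ?_ hi₁q.symm sq
    rw [hi₁g, hig]
    exact hsq
  haveI : IsImmersion i₁ := MorphismProperty.of_isPullback (P := @IsImmersion) sqi inferInstance
  haveI : QuasiCompact i₁ := MorphismProperty.of_isPullback (P := @QuasiCompact) sqi inferInstance
  haveI : SmoothOfRelativeDimension n g₁ :=
    (smoothOfRelativeDimension_isStableUnderBaseChange n).of_isPullback sq inferInstance
  haveI : QuasiSeparated g₁ := MorphismProperty.of_isPullback (P := @QuasiSeparated) sq inferInstance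
  obtain ⟨φ, hφ, -⟩ := S9371.result i₁ i q p sqi.w
  haveI : IsIso φ := by
    rcases hfl with hf | hu
    · haveI := (S9372.result i₁ i q p sqi.flip φ hφ).1
      have hflat : Flat (i ≫ g) := by rw [hig]; exact hf
      exact S15826.isIso_of_epi_rank φ (n := c)
        (ExtFund.isFinLocFreeOfRank_of_hasDet
          ((DetDeg.hasDet_of_isExtPow (ExtFund.isFinLocFreeOfRank_conormal_reg i hi) hC).pullback p))
        (isFinLocFreeOfRank_conormal_quasi i₁ (isRegularImmersionOfCodim_quasi_baseChange g i hi hflat sq sqi))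
    · haveI : Flat q := MorphismProperty.of_isPullback (P := @Flat) sq.flip hu
      exact (S9372.result i₁ i q p sqi.flip φ hφ).2 inferInstance
  obtain ⟨b⟩ := ExtFund.nonempty_omega_pullback sq
  obtain ⟨t⟩ := TMul.nonempty_pullTensorIso p ω C
  exact ExtFund.nonempty_canon_iso_det i' g' i₁ g₁ (hig'.trans hi₁g.symm)
    (DetDeg.hasDet_of_isExtPow (ExtFund.isFinLocFreeOfRank_conormal_reg i' hi') hC')
    (ExtFund.hasDet_congr (asIso φ)
      ((DetDeg.hasDet_of_isExtPow (ExtFund.isFinLocFreeOfRank_conormal_reg i hi) hC).pullback p))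
    (ExtFund.hasDet_omega g' n' hΩ') (ExtFund.hasDet_congr b ((ExtFund.hasDet_omega g n hΩ).pullback q))
    he' ⟨t ≪≫ (Scheme.Modules.pullback p).mapIso e ≪≫ (Scheme.Modules.pullbackComp p i).app Ω ≪≫
      (Scheme.Modules.pullbackCongr sqi.w).app Ω ≪≫ ((Scheme.Modules.pullbackComp i₁ q).app Ω).symm⟩

end Groth.Agent.Castel
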