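import Groth.Agent.ExtFund.CanonMain
import Groth.Agent.ExtFund.CanonOpen
import Groth.Agent.S8656
import Groth.Agent.S8905
import Groth.Agent.S8919
import Groth.Agent.S9773

/-!
Canonical sheaves of composites.
-/

set_option autoImplicit false
set_option backward.isDefEq.respectTransparency false
set_option backward.isDefEq.respectTransparency.types false
set_option linter.style.haveILetI false
set_option maxHeartbeats 800000

universe u

open CategoryTheory CategoryTheory.Limits AlgebraicGeometry TopologicalSpace Opposite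
open Groth.Agent.QC (res)

noncomputable section

namespace Groth.Agent.Castel

open Groth.Agent.ExtFund

attribute [local instance] Nakai.clMonoid

/-- In a short exact sequence of locally free modules the rank of the quotient is the difference of the ranks. -/
theorem rank_quot_of_ses {X : Scheme.{u}} (S : ShortComplex X.Modules) (hS : S.ShortExact) {a b : ℕ}
    (hA : FlatMod.IsFinLocFreeOfRank a S.X₁) (hB : FlatMod.IsFinLocFreeOfRank b S.X₂)
    (hC : FlatMod.IsFinLocFree S.X₃) : FlatMod.IsFinLocFreeOfRank (b - a) S.X₃ := by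
  refine isFinLocFreeOfRank_of_frames fun x => ?_
  obtain ⟨U, m, γ, hxU, hγ⟩ := TMul.exists_isFrame hC x
  obtain ⟨V, α, hxV, hα⟩ := CurveRR.exists_frame hA x
  obtain ⟨W', hW', γl, hxW', hlift⟩ := exists_lifts S hS (fun t => res S.X₃ (inf_le_right : V ⊓ U ≤ U) (γ t))
    (x := x) ⟨hxV, hxU⟩
  have hfr := isFrame_append S hS (W7Strat.isFrame_res hα (hW'.trans inf_le_left))
    (W7Strat.isFrame_res (W7Strat.isFrame_res hγ inf_le_right) hW') hlift
  obtain ⟨V', eB, hxV', heB⟩ := CurveRR.exists_frame hB x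
  have := card_eq_of_frames hfr heB hxW' hxV'
  obtain rfl : m = b - a := by omega
  exact ⟨U, γ, hxU, hγ⟩

/-- The canonical sheaf of a composite is the tensor product of the canonical sheaves. -/
theorem nonempty_canon_comp {X Y Z : Scheme.{u}} (f : X ⟶ Y) (g : Y ⟶ Z) {ω₁ : X.Modules} {ω₂ : Y.Modules}
    {ω₃ : X.Modules} (h₁ : Canon.IsCanonical f ω₁) (h₂ : Canon.IsCanonical g ω₂) (h₃ : Canon.IsCanonical (f ≫ g) ω₃) :
    Nonempty (ω₃ ≅ CohB1.tensorMod ω₁ ((Scheme.Modules.pullback f).obj ω₂)) := by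
  by_cases hX : IsEmpty X
  · exact nonempty_iso_of_isEmpty _ _
  obtain ⟨Z₁, j, p, c₁, n₁, hjp, hj, hp, hjq, hpq, C₁, Ω₁, hC₁, hΩ₁, ⟨e₁⟩⟩ := h₁
  obtain ⟨Z₂, k, q, c₂, n₂, hkq, hk, hq, hkc, hqs, C₂, Ω₂, hC₂, hΩ₂, ⟨e₂⟩⟩ := h₂
  obtain ⟨Z₃, l, r, c₃, n₃, hlr, hl, hr, hlc, hrs, C₃, Ω₃, hC₃, hΩ₃, ⟨e₃⟩⟩ := h₃
  haveI := hj.1; haveI := hk.1; haveI := hl.1
  haveI := hp; haveI := hq; haveI := hr
  haveI := hjq; haveI := hpq; haveI := hkc; haveI := hqs; haveI := hlc; haveI := hrs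
  haveI : Smooth p := SmoothOfRelativeDimension.smooth n₁ p
  haveI : Smooth q := SmoothOfRelativeDimension.smooth n₂ q
  let a : pullback r q ⟶ Z₃ := pullback.fst r q
  let b : pullback r q ⟶ Z₂ := pullback.snd r q
  have sqa : IsPullback b a q r := (IsPullback.of_hasPullback r q).flip
  have sqb : IsPullback a b r q := IsPullback.of_hasPullback r q
  haveI : SmoothOfRelativeDimension n₂ a :=
    (smoothOfRelativeDimension_isStableUnderBaseChange n₂).of_isPullback sqa inferInstance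
  haveI : SmoothOfRelativeDimension n₃ b :=
    (smoothOfRelativeDimension_isStableUnderBaseChange n₃).of_isPullback sqb inferInstance
  haveI : QuasiSeparated a := MorphismProperty.of_isPullback (P := @QuasiSeparated) sqa inferInstance
  haveI : QuasiSeparated b := MorphismProperty.of_isPullback (P := @QuasiSeparated) sqb inferInstance
  haveI : Smooth b := SmoothOfRelativeDimension.smooth n₃ b
  let WY := pullback b k
  let k' : WY ⟶ pullback r q := pullback.fst b k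
  let bY : WY ⟶ Y := pullback.snd b k
  have sqY : IsPullback k' bY b k := IsPullback.of_hasPullback b k
  haveI : SmoothOfRelativeDimension n₃ bY :=
    (smoothOfRelativeDimension_isStableUnderBaseChange n₃).of_isPullback sqY inferInstance
  haveI : Smooth bY := SmoothOfRelativeDimension.smooth n₃ bY
  haveI : QuasiSeparated bY := MorphismProperty.of_isPullback (P := @QuasiSeparated) sqY inferInstance
  haveI : IsImmersion k' := MorphismProperty.of_isPullback (P := @IsImmersion) sqY.flip inferInstance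
  haveI : QuasiCompact k' := MorphismProperty.of_isPullback (P := @QuasiCompact) sqY.flip inferInstance
  let iW : X ⟶ pullback r q := pullback.lift l (f ≫ k) (by rw [hlr, Category.assoc, hkq])
  let iY : X ⟶ WY := pullback.lift iW f (pullback.lift_snd _ _ _)
  have hYb : iY ≫ bY = f := pullback.lift_snd _ _ _
  have hYk : iY ≫ k' = iW := pullback.lift_fst _ _ _
  have hWa : (iY ≫ k') ≫ a = l := by rw [hYk]; exact pullback.lift_fst _ _ _
  have hWb : (iY ≫ k') ≫ b = f ≫ k := by rw [hYk]; exact pullback.lift_snd _ _ _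
  haveI : IsImmersion (iY ≫ k') := by
    haveI : IsImmersion ((iY ≫ k') ≫ a) := by rw [hWa]; infer_instance
    exact IsImmersion.of_comp (iY ≫ k') a
  haveI : QuasiCompact (iY ≫ k') := by
    haveI : QuasiCompact ((iY ≫ k') ≫ a) := by rw [hWa]; infer_instance
    exact QuasiCompact.of_comp (iY ≫ k') a
  haveI : IsImmersion iY := IsImmersion.of_comp iY k'
  haveI : QuasiCompact iY := QuasiCompact.of_comp iY k'
  have hf : ∀ x : X, Synt.IsKoszulAt f x := fun x => by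
    obtain ⟨U, P, i, π, hxU, hft, hi, hπ, hiπ⟩ := S9773.result j .regular (Or.inl rfl) ⟨hj.1, fun z => by
      obtain ⟨U, hzU, hc, rs, -, hs, hker⟩ := hj.2 z
      exact ⟨U, hzU, hc, rs, hs, hker⟩⟩ x
    haveI := hft; haveI := hπ
    refine ⟨U, P, i, π ≫ p, hxU, ?_, hi, inferInstance, by rw [← Category.assoc, hiπ, Category.assoc, hjp]⟩
    rw [← hjp, ← Category.assoc]
    infer_instance
  have hY1 : RegImm.IsRegularImmersion RegImm.Kind.h1 iY :=
    (S8905.result iY).2.1 (S8656.result f hf bY iY hYb)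
  obtain ⟨φ₁, hφ₁, -⟩ := S9371.result (iY ≫ k') k' (𝟙 (pullback r q)) iY (Category.comp_id _).symm
  obtain ⟨φ₂, hφ₂, -⟩ := S9371.result iY (iY ≫ k') k' (𝟙 X) (Category.id_comp _)
  obtain ⟨w, hex, hfree⟩ := S8919.result iY k' φ₁ hφ₁ φ₂ hφ₂ hY1
  -- the determinants
  obtain ⟨uk⟩ := nonempty_conormal_pullback sqY
  obtain ⟨uW⟩ := nonempty_omega_pullback sqa
  obtain ⟨uB⟩ := nonempty_omega_pullback sqb
  obtain ⟨uY⟩ := nonempty_omega_pullback sqY
  have dk : DetDeg.HasDet c₂ ((Scheme.Modules.pullback iY).obj (Omega.conormal k'))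
      ((Scheme.Modules.pullback iY).obj ((Scheme.Modules.pullback bY).obj C₂)) :=
    (hasDet_congr uk ((DetDeg.hasDet_of_isExtPow (isFinLocFreeOfRank_conormal_reg k hk) hC₂).pullback bY)).pullback iY
  have da : DetDeg.HasDet n₂ (Omega.sheaf a) ((Scheme.Modules.pullback b).obj Ω₂) :=
    hasDet_congr uW ((hasDet_omega q n₂ hΩ₂).pullback b)
  obtain ⟨D, hD, ⟨eD⟩⟩ := exists_det_conormal_smooth a (iY ≫ k') l hWa n₂
    (DetDeg.hasDet_of_isExtPow (isFinLocFreeOfRank_conormal_reg l hl) hC₃) da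
  have hrk := rank_quot_of_ses _ (hex w) (isFinLocFreeOfRank_of_hasDet dk) (isFinLocFreeOfRank_of_hasDet hD) hfree
  have hge : c₂ + (c₃ + n₂ - c₂) = c₃ + n₂ := by
    obtain ⟨x⟩ := not_isEmpty_iff.1 hX
    obtain ⟨U, γ, hxU, hγ⟩ := CurveRR.exists_frame hrk x
    obtain ⟨V, α, hxV, hα⟩ := CurveRR.exists_frame (isFinLocFreeOfRank_of_hasDet dk) x
    obtain ⟨W', hW', γl, hxW', hlift⟩ := exists_lifts _ (hex w) (fun t => res _ (inf_le_right : V ⊓ U ≤ U) (γ t))
      (x := x) ⟨hxV, hxU⟩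
    have hfr := isFrame_append _ (hex w) (W7Strat.isFrame_res hα (hW'.trans inf_le_left))
      (W7Strat.isFrame_res (W7Strat.isFrame_res hγ inf_le_right) hW') hlift
    obtain ⟨V', eB, hxV', heB⟩ := CurveRR.exists_frame (isFinLocFreeOfRank_of_hasDet hD) x
    exact card_eq_of_frames hfr heB hxW' hxV'
  obtain ⟨LY, -, hLY⟩ := SGA6Ext.exists_extPow (c₃ + n₂ - c₂) (Omega.conormal iY)
    (fun x => let ⟨U, h1, h2⟩ := hrk x; ⟨U, _, h1, h2⟩)
  have dY : DetDeg.HasDet (c₃ + n₂ - c₂) (Omega.conormal iY) LY := DetDeg.hasDet_of_isExtPow hrk hLY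
  rw [← hge] at hD
  obtain ⟨eS⟩ := nonempty_det_iso _ (hex w) dk hD dY
  -- the canonical sheaf of `f` through the new factorisation
  have dΩY : DetDeg.HasDet n₃ (Omega.sheaf bY) ((Scheme.Modules.pullback k').obj ((Scheme.Modules.pullback a).obj Ω₃)) :=
    hasDet_congr uY ((hasDet_congr uB ((hasDet_omega r n₃ hΩ₃).pullback a)).pullback k')
  have hLYi := isInvertible_of_hasDet dY
  let A₃ := (Scheme.Modules.pullback l).obj Ω₃
  let A₂ := (Scheme.Modules.pullback (f ≫ k)).obj Ω₂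
  let qY : (Scheme.Modules.pullback iY).obj ((Scheme.Modules.pullback k').obj ((Scheme.Modules.pullback a).obj Ω₃)) ≅ A₃ :=
    (Scheme.Modules.pullbackComp iY k').app _ ≪≫ (Scheme.Modules.pullbackComp (iY ≫ k') a).app _ ≪≫
      (Scheme.Modules.pullbackCongr hWa).app _
  obtain ⟨I, hIi, ⟨θ⟩⟩ := W7Hull.exists_tensor_inverse hLYi
  obtain ⟨e'⟩ := nonempty_canon_iso_det j p iY bY (hjp.trans hYb.symm)
    (ω₁ := ω₁) (ω₂ := CohB1.tensorMod A₃ I)
    (DetDeg.hasDet_of_isExtPow (isFinLocFreeOfRank_conormal_reg j hj) hC₁) dY (hasDet_omega p n₁ hΩ₁) dΩY ⟨e₁⟩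
    ⟨TMul.assocIso _ I LY ≪≫ PicGrp.tensorModIso (Iso.refl _) (TMul.commIso I LY ≪≫ θ) ≪≫ SecTwist.unitorR _ ≪≫
      qY.symm⟩
  have hω₁ : PicF.cl ω₁ * PicF.cl LY = PicF.cl A₃ := (PicGrp.cl_eq_cl_iff _ _).2
    ⟨PicGrp.tensorModIso e' (Iso.refl LY) ≪≫ TMul.assocIso _ I LY ≪≫
      PicGrp.tensorModIso (Iso.refl _) (TMul.commIso I LY ≪≫ θ) ≪≫ SecTwist.unitorR _⟩
  obtain ⟨t⟩ := TMul.nonempty_pullTensorIso f ω₂ C₂
  have hω₂ : PicF.cl ((Scheme.Modules.pullback f).obj ω₂) * PicF.cl ((Scheme.Modules.pullback f).obj C₂) = PicF.cl A₂ :=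
    (PicGrp.cl_eq_cl_iff _ _).2 ⟨t ≪≫ (Scheme.Modules.pullback f).mapIso e₂ ≪≫
      (Scheme.Modules.pullbackComp f k).app Ω₂⟩
  have hω₃ : PicF.cl ω₃ * PicF.cl C₃ = PicF.cl A₃ := (PicGrp.cl_eq_cl_iff _ _).2 ⟨e₃⟩
  have hD₁ : PicF.cl D = PicF.cl C₃ * PicF.cl A₂ := (PicGrp.cl_eq_cl_iff _ _).2
    ⟨eD ≪≫ PicGrp.tensorModIso (Iso.refl C₃)
      ((Scheme.Modules.pullbackComp (iY ≫ k') b).app Ω₂ ≪≫ (Scheme.Modules.pullbackCongr hWb).app Ω₂)⟩
  have hD₂ : PicF.cl D = PicF.cl ((Scheme.Modules.pullback f).obj C₂) * PicF.cl LY := (PicGrp.cl_eq_cl_iff _ _).2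
    ⟨eS ≪≫ PicGrp.tensorModIso ((Scheme.Modules.pullbackComp iY bY).app C₂ ≪≫
      (Scheme.Modules.pullbackCongr hYb).app C₂) (Iso.refl LY)⟩
  have hDi := isInvertible_of_hasDet hD
  refine nonempty_iso_cancel hDi hDi (B₁ := CohB1.tensorMod A₃ A₂) (B₂ := CohB1.tensorMod A₃ A₂)
    ((PicGrp.cl_eq_cl_iff _ _).1 ?_) ((PicGrp.cl_eq_cl_iff _ _).1 ?_) ⟨Iso.refl _⟩
  · show PicF.cl ω₃ * PicF.cl D = PicF.cl A₃ * PicF.cl A₂
    rw [hD₁, ← hω₃]
    ac_rfl
  · show PicF.cl ω₁ * PicF.cl ((Scheme.Modules.pullback f).obj ω₂) * PicF.cl D = PicF.cl A₃ * PicF.cl A₂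
    rw [hD₂, ← hω₂, ← hω₁]
    ac_rfl

end Groth.Agent.Castel
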