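import Groth.Agent.ExtFund.Codim
import Groth.Agent.KoszulLib.SchNoeth
import Groth.Agent.CMFlat.RegImm

/-!
Regular immersions of constant codimension, checked at closed points.
-/

set_option autoImplicit false
set_option backward.isDefEq.respectTransparency false
set_option backward.isDefEq.respectTransparency.types false
set_option linter.style.haveILetI false

universe u

open CategoryTheory CategoryTheory.Limits AlgebraicGeometry TopologicalSpace Opposite
open RingTheory.Sequence
open Groth.Agent.QC (resO)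

noncomputable section

namespace Groth.Agent.Castel

variable {P X : Scheme.{u}} (ι : X ⟶ P) [IsClosedImmersion ι] [IsLocallyNoetherian P]

/-- Generators at a point spread to a neighbourhood. -/
theorem exists_gens_nhd (x : X) {c : ℕ} (ts : Fin c → P.presheaf.stalk (ι x))
    (hts : RingHom.ker (ι.stalkMap x).hom = Ideal.span (Set.range ts)) :
    ∃ (U : P.Opens) (l : List Γ(P, U)), ι x ∈ U ∧ IsAffineOpen U ∧ l.length = c ∧
      RingHom.ker (ι.app U).hom = Ideal.ofList l := by
  classical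
  obtain ⟨_, ⟨U, hU, rfl⟩, hx, -⟩ := P.isBasis_affineOpens.exists_subset_of_mem_open (Set.mem_univ (ι x)) isOpen_univ
  let p := (hU.primeIdealOf ⟨ι x, hx⟩).asIdeal
  letI := (P.presheaf.germ U (ι x) hx).hom.toAlgebra
  haveI := hU.isLocalization_stalk ⟨ι x, hx⟩
  haveI : IsNoetherianRing Γ(P, U) := IsLocallyNoetherian.component_noetherian ⟨U, hU⟩
  let I := RingHom.ker (ι.app U).hom
  have hmap : I.map (algebraMap Γ(P, U) (P.presheaf.stalk (ι x))) = Ideal.span (Set.range ts) :=
    (CMFlat.ker_stalkMap_eq ι x ⟨U, hU⟩ hx).symm.trans hts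
  have hmem : ∀ i, ∃ a ∈ I, ∃ u : P.presheaf.stalk (ι x), IsUnit u ∧
      algebraMap Γ(P, U) (P.presheaf.stalk (ι x)) a = ts i * u := fun i => by
    obtain ⟨⟨⟨a, ha⟩, s⟩, he⟩ := (IsLocalization.mem_map_algebraMap_iff p.primeCompl (P.presheaf.stalk (ι x))).mp
      (hmap.ge (Ideal.subset_span ⟨i, rfl⟩))
    exact ⟨a, ha, _, IsLocalization.map_units _ s, he.symm⟩
  choose h hh v hv hhv using hmem
  obtain ⟨b, hb, hbm⟩ := KoszulLib.exists_mul_mem_of_map_le (J := Ideal.span (Set.range h))
    (IsNoetherian.noetherian I) p (P.presheaf.stalk (ι x)) (by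
      rw [hmap, Ideal.map_span, ← Set.range_comp, Ideal.span_le]
      rintro _ ⟨i, rfl⟩
      refine (Ideal.mul_unit_mem_iff_mem _ (hv i)).1 ?_
      exact hhv i ▸ Ideal.subset_span ⟨i, rfl⟩)
  have hle : P.basicOpen b ≤ U := P.basicOpen_le b
  have hxb : ι x ∈ P.basicOpen b :=
    (P.mem_basicOpen b (ι x) hx).2 ((IsLocalization.AtPrime.isUnit_to_map_iff (P.presheaf.stalk (ι x)) p b).2 hb)
  refine ⟨P.basicOpen b, List.ofFn (resO P hle ∘ h), hxb, hU.basicOpen b, List.length_ofFn, ?_⟩
  have hker := (KoszulLib.ker_app_of_le ι ⟨U, hU⟩ (IsZariskiLocalAtTarget.restrict ‹IsClosedImmersion ι› U)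
    ⟨_, hU.basicOpen b⟩ hle).2
  rw [show Ideal.ofList (List.ofFn (resO P hle ∘ h)) = Ideal.span (Set.range (resO P hle ∘ h)) from by
    unfold Ideal.ofList
    congr 1
    ext y
    simp [List.mem_ofFn]]
  refine hker.trans (le_antisymm (Ideal.map_le_iff_le_comap.2 fun a ha => ?_) (Ideal.span_le.2 ?_))
  · have h2 := Ideal.mem_map_of_mem (resO P hle) (hbm a ha)
    rw [map_mul, Ideal.unit_mul_mem_iff_mem _ (by
      exact AlgebraicGeometry.RingedSpace.isUnit_res_basicOpen _ b), Ideal.map_span, ← Set.range_comp] at h2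
    exact h2
  · rintro _ ⟨i, rfl⟩
    exact Ideal.mem_map_of_mem _ (hh i)

/-- Regular immersions, checked at closed points by counting generators and dimensions. -/
theorem isRegularImmersion_of_closedPoints [CompactSpace X] (c : ℕ)
    (hP : ∀ x : X, IsClosed ({x} : Set X) → IsRegularLocalRing (P.presheaf.stalk (ι x)))
    (hdim : ∀ x : X, IsClosed ({x} : Set X) →
      (c : WithBot ℕ∞) + ringKrullDim (X.presheaf.stalk x) = ringKrullDim (P.presheaf.stalk (ι x)))
    (hgen : ∀ x : X, IsClosed ({x} : Set X) → ∃ ts : Fin c → P.presheaf.stalk (ι x),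
      RingHom.ker (ι.stalkMap x).hom = Ideal.span (Set.range ts)) :
    RegImm.IsRegularImmersionOfCodim RegImm.Kind.regular c ι := by
  refine ExtFund.isRegularImmersion_of_stalk ι c fun z => ?_
  obtain ⟨x, hxz, hx⟩ := (isClosed_closure (s := ({z} : Set X))).exists_closed_singleton ⟨z, subset_closure rfl⟩
  obtain ⟨ts, hts⟩ := hgen x hx
  obtain ⟨U, l, hxU, hU, hlen, hker⟩ := exists_gens_nhd ι x ts hts
  haveI := hP x hx
  let rs := (l.map (P.presheaf.germ U (ι x) hxU).hom).reverse
  have hrs : Ideal.ofList rs = RingHom.ker (ι.stalkMap x).hom := by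
    ext r
    rw [RingHom.mem_ker, (ExtFund.cuts_of_ker hU hker (ι.base x) hxU).2 x rfl r]
    simp [rs, Ideal.ofList]
  have e : (P.presheaf.stalk (ι x) ⧸ Ideal.ofList rs) ≃+* X.presheaf.stalk x :=
    (Ideal.quotEquivOfEq hrs).trans (RingHom.quotientKerEquivOfSurjective (ι.stalkMap_surjective x))
  have hreg : IsWeaklyRegular (P.presheaf.stalk (ι x)) rs := by
    refine CotT.isWeaklyRegular_of_dim rs ?_ ?_
    · rw [hrs]
      exact RingHom.ker_ne_top _
    · rw [ringKrullDim_eq_of_ringEquiv e, show rs.length = c by simp [rs, hlen]]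
      exact hdim x hx
  obtain ⟨W, hW, hp⟩ := ExtFund.near_reg hU hxU l hreg
  obtain ⟨U', hU', hx', hle⟩ := exists_isAffineOpen_mem_and_subset (show ι x ∈ W ⊓ U from ⟨hW, hxU⟩)
  have h' : U' ≤ U := le_trans hle inf_le_right
  have hzU : ι z ∈ U' := ((specializes_iff_mem_closure.2 hxz).map ι.continuous).mem_open U'.2 hx'
  have hR := hp U' h' hU' hx' (le_trans hle inf_le_left) (ι z) hzU
  refine ⟨U', l.map (resO P h'), hzU, hU', by simp [hlen], ?_, ?_⟩
  · rw [(KoszulLib.ker_app_of_le ι ⟨U, hU⟩ (IsZariskiLocalAtTarget.restrict ‹IsClosedImmersion ι› U)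
      ⟨U', hU'⟩ h').2, hker, Ideal.map_ofList]
  · rwa [List.map_reverse] at hR

end Groth.Agent.Castel
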