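import Groth.Agent.Castel.CanonDim
import Groth.Agent.Castel.CanonImm
import Groth.Agent.Castel.CanonAlg
import Groth.Agent.Castel.CanonPn
import Groth.Agent.Castel.Inter
import Groth.Agent.ExtFund.SmoothPn
import Groth.Agent.ExtFund.CanonMain
import Groth.Agent.ExtFund.CanonOpen
import Groth.Agent.Castel.PicDescent
import Groth.Agent.DualGeneric.DegOmega
import Groth.Agent.K0Hom.CurvePic
import Groth.Agent.GLinFree.Dim
import Groth.Agent.S8679

/-!
Adjunction for vertical curves on arithmetic surfaces: the dualizing sheaf of the curve.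
-/

set_option autoImplicit false
set_option backward.isDefEq.respectTransparency false
set_option backward.isDefEq.respectTransparency.types false
set_option linter.style.haveILetI false
set_option maxHeartbeats 1000000

universe u

open CategoryTheory CategoryTheory.Limits AlgebraicGeometry TopologicalSpace Opposite

noncomputable section

namespace Groth.Agent.Castel

attribute [local instance] Nakai.clMonoid

/-- Euler characteristic of an invertible dualizing module, duality on coherent modules only. -/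
theorem euler_of_trace (k : Type u) [Field k] {X : Scheme.{u}} [X.Over (Spec (CommRingCat.of k))]
    [IsProper (X ↘ Spec (CommRingCat.of k))] (hdim : topologicalKrullDim X ≤ 1) {ω : X.Modules}
    (hω : PicF.IsInvertible ω) {t : Coh.HH X ω 1 →ₗ[k] k}
    (ht : ∀ F : X.Modules, Coh.IsCoh F → ∀ ψ : Coh.HH X F 1 →ₗ[k] k, ∃! φ : F ⟶ ω,
      ∀ x : Coh.HH X F 1, ψ x = t (Sheaf.H.map ((SheafOfModules.toSheaf X.ringCatSheaf).map φ) 1 x)) :
    Curv2.euler k X ω = - Curv2.euler k X (Coh.structureModule X) := by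
  haveI := CurveRR.isNoetherian_of_proper k X
  have key : ∀ F : X.Modules, PicF.IsInvertible F → Module.finrank k (F ⟶ ω) = Module.finrank k (Coh.HH X F 1) := by
    intro F hF
    let E : (F ⟶ ω) →ₗ[k] Module.Dual k (Coh.HH X F 1) := (LinearMap.llcomp k _ _ _ t).comp (SerrePn.hhHom k F ω 1)
    have hE : Function.Bijective E := by
      refine ⟨fun φ φ' h => ?_, fun ψ => ?_⟩
      · obtain ⟨φ₀, -, hu⟩ := ht F (Nakai.isCoh_inv k hF) (E φ)
        exact (hu φ fun x => rfl).trans (hu φ' fun x => LinearMap.congr_fun h x).symm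
      · obtain ⟨φ₀, h₀, -⟩ := ht F (Nakai.isCoh_inv k hF) ψ
        exact ⟨φ₀, LinearMap.ext fun x => (h₀ x).symm⟩
    rw [(LinearEquiv.ofBijective E hE).finrank_eq]
    exact Subspace.dual_finrank_eq
  have hO : PicF.IsInvertible (Coh.structureModule X) := TMul.isInvertible_structureModule
  obtain ⟨E0⟩ := SerrePn.nonempty_homEquiv k hO (TMul.leftUnitIso (Coh.structureModule X)) ω
  have h1 : CurveRR.h k ω 0 = CurveRR.h k (Coh.structureModule X) 1 := by
    rw [← CurveRR.h_eq_of_iso (k := k) (TMul.commIso ω _ ≪≫ TMul.leftUnitIso ω) 0]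
    exact E0.finrank_eq.symm.trans (key _ hO)
  obtain ⟨ω', hω', ⟨θ⟩⟩ := SymAlg.exists_inverse hω
  obtain ⟨E1⟩ := SerrePn.nonempty_homEquiv k hω' (TMul.commIso ω' ω ≪≫ θ) ω
  have h2 : CurveRR.h k (Coh.structureModule X) 0 = CurveRR.h k ω 1 := by
    rw [← CurveRR.h_eq_of_iso (k := k) θ 0]
    exact E1.finrank_eq.symm.trans (key _ hω)
  rw [CurveRR.euler_eq hdim, CurveRR.euler_eq hdim]
  omega

/-- The conormal determinant of a composite of regular closed immersions. -/
theorem exists_det_comp {X Y Z : Scheme.{u}} (i : Y ⟶ X) [IsClosedImmersion i] (j : Z ⟶ Y) [IsClosedImmersion j]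
    {a c : ℕ} (hi : RegImm.IsRegularImmersionOfCodim .regular a i) (hj : RegImm.IsRegularImmersionOfCodim .regular c j)
    {A : Y.Modules} {C : Z.Modules} (hA : DetDeg.HasDet a (Omega.conormal i) A)
    (hC : DetDeg.HasDet c (Omega.conormal j) C) :
    ∃ D : Z.Modules, DetDeg.HasDet (a + c) (Omega.conormal (j ≫ i)) D ∧
      Nonempty (D ≅ CohB1.tensorMod ((Scheme.Modules.pullback j).obj A) C) := by
  have cv : ∀ {U V : Scheme.{u}} {f : U ⟶ V} {d : ℕ}, RegImm.IsRegularImmersionOfCodim .regular d f →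
      RegImm.IsRegularImmersion .koszul f := fun {U V f d} h => ⟨h.1, fun z => by
    obtain ⟨W, hz, hc, rs, -, hs, hk⟩ := h.2 z
    exact ⟨W, hz, hc, rs, KoszulLib.seq_of_regular .koszul _ rs hs, hk⟩⟩
  obtain ⟨φ₁, hφ₁, -⟩ := S9371.result (j ≫ i) i (𝟙 X) j (Category.comp_id _).symm
  obtain ⟨φ₂, hφ₂, -⟩ := S9371.result j (j ≫ i) i (𝟙 Z) (Category.id_comp _)
  obtain ⟨w, hS⟩ := S8679.result i j (cv hi) (cv hj) φ₁ hφ₁ φ₂ hφ₂
  exact ExtFund.exists_det_of_ses _ hS (hA.pullback j) hC

variable {R : Type u} [CommRing R] [IsDomain R] [IsDiscreteValuationRing R]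

/-- The ideal of the closed point. -/
theorem ker_residue_eq : (Spec.map (CommRingCat.ofHom (IsLocalRing.residue R))).ker =
    Scheme.IdealSheafData.ofIdealTop ((IsLocalRing.maximalIdeal R).map (Scheme.ΓSpecIso (CommRingCat.of R)).inv.hom) := by
  change (Spec.map (CommRingCat.ofHom (Ideal.Quotient.mk (IsLocalRing.maximalIdeal R)))).ker = _
  rw [BlowExc.ker_specMap_mk]
  refine Scheme.IdealSheafData.ext_of_isAffine ?_
  rw [BlowExc.sheafOf_ideal, Scheme.IdealSheafData.ofIdealTop_ideal]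
  simp only [homOfLE_refl, op_id, CategoryTheory.Functor.map_id, CommRingCat.hom_id, Ideal.map_id]

/-- The stalk of a closed immersion cutting out the closed fibre. -/
theorem ker_stalkMap_fibre {X Y : Scheme.{u}} (f : X ⟶ Spec (CommRingCat.of R)) (ι : Y ⟶ X) [IsClosedImmersion ι]
    (hker : ι.ker = fibreIdeal (Over.mk f)) (z : Y) {ϖ : R} (hϖ : Irreducible ϖ) :
    RingHom.ker (ι.stalkMap z).hom = Ideal.span {Models.stalkHom R (Over.mk f) (ι z) ϖ} := by
  obtain ⟨W, hW, hzW, -⟩ := exists_isAffineOpen_mem_and_subset (show ι z ∈ (⊤ : X.Opens) from trivial)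
  let W' : X.affineOpens := ⟨W, hW⟩
  rw [CMFlat.ker_stalkMap_eq ι z W' hzW, ← Scheme.Hom.ker_apply, hker]
  refine (congrArg (Ideal.map _) (fibreIdeal_ideal (X := Over.mk f) W')).trans ?_
  rw [Ideal.map_map, hϖ.maximalIdeal_eq, Ideal.map_span, Set.image_singleton]
  refine congrArg (fun a => Ideal.span {a}) ?_
  exact X.presheaf.germ_res_apply (homOfLE (le_top : W'.1 ≤ ⊤)) (ι z) hzW _

/-- Local rings of `P^M_R` at closed points of the closed fibre. -/
theorem projSpace_stalk_facts {M : ℕ} {j : CohB1.ProjSpace M (IsLocalRing.ResidueField R) ⟶ CohB1.ProjSpace M R}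
    [IsClosedImmersion j] (hker : j.ker = fibreIdeal (Over.mk (CohB1.ProjSpace.toSpec M R)))
    (q : CohB1.ProjSpace M (IsLocalRing.ResidueField R)) (hq : IsClosed ({q} : Set (CohB1.ProjSpace M (IsLocalRing.ResidueField R))))
    {ϖ : R} (hϖ : Irreducible ϖ) :
    IsRegularLocalRing ((CohB1.ProjSpace M R).presheaf.stalk (j q)) ∧
      ringKrullDim ((CohB1.ProjSpace M R).presheaf.stalk (j q)) = ((M + 1 : ℕ) : WithBot ℕ∞) ∧
      Models.stalkHom R (Over.mk (CohB1.ProjSpace.toSpec M R)) (j q) ϖ ∉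
        IsLocalRing.maximalIdeal ((CohB1.ProjSpace M R).presheaf.stalk (j q)) ^ 2 := by
  haveI := smoothRelDim_toSpec M R
  haveI : Smooth (CohB1.ProjSpace.toSpec M R) := SmoothOfRelativeDimension.smooth M _
  haveI : IsLocallyNoetherian (CohB1.ProjSpace M R) := LocallyOfFiniteType.isLocallyNoetherian (CohB1.ProjSpace.toSpec M R)
  haveI : Flat (Over.mk (CohB1.ProjSpace.toSpec M R)).hom := inferInstanceAs (Flat (CohB1.ProjSpace.toSpec M R))
  haveI := smoothRelDim_toSpec M (IsLocalRing.ResidueField R)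
  obtain ⟨-, hd⟩ := ExtFund.cm_dim_of_smooth (CohB1.ProjSpace.toSpec M (IsLocalRing.ResidueField R)) M q hq
  haveI := ExtFund.isRegularLocalRing_of_smooth (CohB1.ProjSpace.toSpec M (IsLocalRing.ResidueField R)) M q
  have hk := ker_stalkMap_fibre (CohB1.ProjSpace.toSpec M R) j hker q hϖ
  obtain ⟨W, hW, hzW, -⟩ := exists_isAffineOpen_mem_and_subset (show j q ∈ (⊤ : (CohB1.ProjSpace M R).Opens) from trivial)
  let W' : (CohB1.ProjSpace M R).affineOpens := ⟨W, hW⟩
  obtain ⟨g, hg, hg', -⟩ := DivPart.exists_generator (fibreIdeal (Over.mk (CohB1.ProjSpace.toSpec M R)))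
    (cartier_fibreIdeal (X := Over.mk (CohB1.ProjSpace.toSpec M R))) W' hzW
  have hspan : Ideal.span {g} = Ideal.span {Models.stalkHom R (Over.mk (CohB1.ProjSpace.toSpec M R)) (j q) ϖ} := by
    rw [← hk, ← hg', DivPart.stI, CMFlat.ker_stalkMap_eq j q W' hzW, ← Scheme.Hom.ker_apply, hker]
    rfl
  have hnzd : Models.stalkHom R (Over.mk (CohB1.ProjSpace.toSpec M R)) (j q) ϖ ∈
      nonZeroDivisors ((CohB1.ProjSpace M R).presheaf.stalk (j q)) := by
    obtain ⟨a, ha⟩ := Ideal.mem_span_singleton'.1 (hspan.le (Ideal.mem_span_singleton_self g))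
    rw [← ha] at hg
    exact (mul_mem_nonZeroDivisors.1 hg).2
  obtain ⟨h1, h2, -, h4⟩ := regular_of_quot_nzd (j.stalkMap q).hom (j.stalkMap_surjective q) _ hnzd hk
  refine ⟨h1, ?_, h4⟩
  rw [← h2, hd]
  push_cast
  rfl

/-- **Adjunction**: the dualizing sheaf of a vertical prime divisor. -/
theorem exists_trace_adjunction {X : Over (Spec (CommRingCat.of R))} (hX : ArSurf.IsArithSurface R X)
    (E : ArSurf.VertComp R X) (L : X.left.Modules) (hL : ClSub.IsInverseOf L (ClSub.idealMod E.ι.ker))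
    (ω : X.left.Modules) (hω : Canon.IsCanonical X.hom ω) :
    letI : E.curve.left.Over (Spec (CommRingCat.of (IsLocalRing.ResidueField R))) := ⟨E.curve.hom⟩
    PicF.IsInvertible ω ∧ Canon.IsCanonical E.curve.hom ((Scheme.Modules.pullback E.ι).obj (CohB1.tensorMod L ω)) ∧
      ∃ t : Coh.HH E.curve.left ((Scheme.Modules.pullback E.ι).obj (CohB1.tensorMod L ω)) 1
        →ₗ[IsLocalRing.ResidueField R] (IsLocalRing.ResidueField R),
      ∀ F : E.curve.left.Modules, Coh.IsCoh F → ∀ ψ : Coh.HH E.curve.left F 1 →ₗ[IsLocalRing.ResidueField R]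
          (IsLocalRing.ResidueField R),
        ∃! φ : F ⟶ (Scheme.Modules.pullback E.ι).obj (CohB1.tensorMod L ω), ∀ x : Coh.HH E.curve.left F 1,
          ψ x = t (Sheaf.H.map ((SheafOfModules.toSheaf E.curve.left.ringCatSheaf).map φ) 1 x) := by
  classical
  letI : E.curve.left.Over (Spec (CommRingCat.of (IsLocalRing.ResidueField R))) := ⟨E.curve.hom⟩
  let k := IsLocalRing.ResidueField R
  obtain ⟨ϖ, hϖ⟩ := IsDiscreteValuationRing.exists_irreducible R
  have hA := hX
  obtain ⟨hXr, hXi, hXd, hXf, M, i₀, hi₀, hi₀w⟩ := id hX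
  haveI := hXi; haveI := hXf; haveI := hi₀
  haveI : IsProper X.hom := isProper_hom_of_isArithSurface hA
  haveI : IsLocallyNoetherian X.left := LocallyOfFiniteType.isLocallyNoetherian X.hom
  haveI : CompactSpace X.left := QuasiCompact.compactSpace_of_compactSpace X.hom
  haveI : IsProper E.curve.hom := isProper_curve E
  haveI := E.isIntegral
  haveI : IsProper (E.curve.left ↘ Spec (CommRingCat.of k)) := ‹IsProper E.curve.hom›
  haveI : IsNoetherian E.curve.left := CurveRR.isNoetherian_of_proper k E.curve.left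
  haveI : CompactSpace E.curve.left := QuasiCompact.compactSpace_of_compactSpace E.curve.hom
  obtain ⟨a, ha, -⟩ := PnSpec.exists_iso_twist M R
  let g := CohB1.ProjSpace.toSpec M R
  let i : X.left ⟶ CohB1.ProjSpace M R := i₀ ≫ a.inv
  have hig : i ≫ g = X.hom := by
    show (i₀ ≫ a.inv) ≫ CohB1.ProjSpace.toSpec M R = X.hom
    rw [← ha, Category.assoc, Iso.inv_hom_id_assoc, hi₀w]
  haveI := smoothRelDim_toSpec M R
  haveI : Smooth g := SmoothOfRelativeDimension.smooth M _
  haveI : IsProper g := ProjMor.isProper_toSpec M R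
  haveI : IsLocallyNoetherian (CohB1.ProjSpace M R) := LocallyOfFiniteType.isLocallyNoetherian g
  haveI := smoothRelDim_toSpec M k
  haveI : IsProper (CohB1.ProjSpace.toSpec M k) := ProjMor.isProper_toSpec M k
  haveI : IsLocallyNoetherian (CohB1.ProjSpace M k) :=
    LocallyOfFiniteType.isLocallyNoetherian (CohB1.ProjSpace.toSpec M k)
  haveI : CompactSpace (CohB1.ProjSpace M k) :=
    QuasiCompact.compactSpace_of_compactSpace (CohB1.ProjSpace.toSpec M k)
  haveI : IsNoetherian (CohB1.ProjSpace M k) := {}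
  haveI : IsIntegral (CohB1.ProjSpace M k) := Horrocks.isIntegral_projSpace (k := k) (n := M)
  -- the closed fibre of projective space
  obtain ⟨j, hj⟩ := exists_isPullback_projSpace (IsLocalRing.residue R) M
  let s := Spec.map (CommRingCat.ofHom (IsLocalRing.residue R))
  haveI : IsClosedImmersion s := IsClosedImmersion.spec_of_surjective _ IsLocalRing.residue_surjective
  haveI : IsClosedImmersion j := MorphismProperty.of_isPullback (P := @IsClosedImmersion) hj.flip inferInstance
  have hjker : j.ker = fibreIdeal (Over.mk g) := by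
    rw [← hj.isoPullback_hom_fst, Scheme.Hom.ker_comp_of_isIso]
    exact ker_fst_residue (Over.mk g)
  -- the curve in the closed fibre
  let jE : E.curve.left ⟶ CohB1.ProjSpace M k := hj.lift (E.ι ≫ i) E.curve.hom
    (by rw [Category.assoc, hig, E.w])
  have hjE : jE ≫ j = E.ι ≫ i := hj.lift_fst _ _ _
  have hjEw : jE ≫ CohB1.ProjSpace.toSpec M k = E.curve.hom := hj.lift_snd _ _ _
  haveI := E.isClosedImmersion
  haveI : IsClosedImmersion jE := by
    haveI : IsClosedImmersion (jE ≫ j) := by rw [hjE]; infer_instance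
    exact IsClosedImmersion.of_comp jE j
  -- local data at closed points
  have hdX : ∀ x : X.left, IsClosed ({x} : Set X.left) → ringKrullDim (X.left.presheaf.stalk x) = 2 :=
    fun x hx => ringKrullDim_closed_eq_two X.hom hXd hx
  have hdE : ∀ e : E.curve.left, IsClosed ({e} : Set E.curve.left) →
      ringKrullDim (E.curve.left.presheaf.stalk e) = 1 := fun e he => by
    obtain ⟨a', e', hd', he', hn⟩ := ExtShX.exists_dims_field (E.curve.left ↘ Spec (CommRingCat.of k)) 1 (fun Z hZ => by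
      rw [irreducibleComponents_eq_singleton, Set.mem_singleton_iff] at hZ
      subst hZ
      rw [← (Homeomorph.Set.univ E.curve.left).isHomeomorph.topologicalKrullDim_eq.symm]
      exact E.dim_eq) e
    haveI : Subsingleton (closure ({e} : Set E.curve.left)) := by
      rw [he.closure_eq]; infer_instance
    have h0 : topologicalKrullDim (closure ({e} : Set E.curve.left)) ≤ ((0 : ℕ) : WithBot ℕ∞) :=
      Unibranch.topologicalKrullDim_le_natCast fun l d hd => by
        rcases l with _ | l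
        · exact le_rfl
        · exact absurd (Subsingleton.elim _ _) (hd 0).2
    rw [hd', Nat.cast_le] at h0
    rw [he', show e' = 1 by omega, Nat.cast_one]
  have hcl : ∀ {U V : Scheme.{u}} (f : U ⟶ V) [IsClosedImmersion f] (z : U), IsClosed ({z} : Set U) →
      IsClosed ({f z} : Set V) := fun f _ z hz => by
    have h := f.isClosedMap _ hz
    rwa [Set.image_singleton] at h
  have hfac : ∀ x : X.left, IsClosed ({x} : Set X.left) → ∃ q, IsClosed ({q} : Set (CohB1.ProjSpace M k)) ∧ j q = i x := by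
    intro x hx
    have hxs : x ∈ Models.specialFibreSet R X := by
      have hne := base_ne_bot_of_closed (IsDiscreteValuationRing.not_isField R) X.hom hx
      haveI : Ideal.IsMaximal (X.hom x).asIdeal := Ideal.IsPrime.isMaximal (X.hom x).isPrime hne
      exact PrimeSpectrum.ext (IsLocalRing.eq_maximalIdeal inferInstance)
    have hgx : i x ∈ Models.specialFibreSet R (Over.mk g) := by
      show g (i x) = IsLocalRing.closedPoint R
      rw [← Scheme.Hom.comp_apply, hig]
      exact hxs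
    have h := (mem_support_fibreIdeal (X := Over.mk g) (i x)).2 hgx
    rw [← hjker, Scheme.Hom.support_ker] at h
    obtain ⟨q, hq⟩ := (Set.ext_iff.1 j.isClosedEmbedding.isClosed_range.closure_eq _).1 h
    refine ⟨q, ?_, hq⟩
    rw [j.isClosedEmbedding.isEmbedding.isClosed_iff]
    exact ⟨{i x}, hcl i x hx, by rw [← hq]; ext y; simp [j.isClosedEmbedding.injective.eq_iff]⟩
  obtain ⟨c, hc⟩ : ∃ c, M = c + 1 := by
    obtain ⟨x, -, hx⟩ := (isClosed_univ (X := X.left)).exists_closed_singleton Set.univ_nonempty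
    obtain ⟨q, hq, hqx⟩ := hfac x hx
    obtain ⟨hr, hd, -⟩ := projSpace_stalk_facts hjker q hq hϖ
    rw [hqx] at hr hd
    have hle := ringKrullDim_le_of_surjective _ (i.stalkMap_surjective x)
    rw [hd, hdX x hx] at hle
    have h' : ((2 : ℕ) : WithBot ℕ∞) ≤ ((M + 1 : ℕ) : WithBot ℕ∞) := hle
    exact ⟨M - 1, by have := Nat.cast_le.1 h'; omega⟩
  have hPX : ∀ x : X.left, IsClosed ({x} : Set X.left) →
      IsRegularLocalRing ((CohB1.ProjSpace M R).presheaf.stalk (i x)) ∧
      ringKrullDim ((CohB1.ProjSpace M R).presheaf.stalk (i x)) = ((c + 2 : ℕ) : WithBot ℕ∞) := fun x hx => by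
    obtain ⟨q, hq, hqx⟩ := hfac x hx
    obtain ⟨hr, hd, -⟩ := projSpace_stalk_facts hjker q hq hϖ
    rw [hqx] at hr hd
    exact ⟨hr, hd.trans (by rw [hc])⟩
  -- equations of the surface
  have hgenX : ∀ x : X.left, IsClosed ({x} : Set X.left) → ∃ ts : Fin c → (CohB1.ProjSpace M R).presheaf.stalk (i x),
      RingHom.ker (i.stalkMap x).hom = Ideal.span (Set.range ts) := fun x hx => by
    obtain ⟨hr, hd⟩ := hPX x hx
    haveI := hr
    haveI := hXr x
    let e := RingHom.quotientKerEquivOfSurjective (i.stalkMap_surjective x)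
    haveI : IsRegularLocalRing ((CohB1.ProjSpace M R).presheaf.stalk (i x) ⧸ RingHom.ker (i.stalkMap x).hom) :=
      IsRegularLocalRing.of_ringEquiv e.symm
    haveI : IsRegularRing ((CohB1.ProjSpace M R).presheaf.stalk (i x) ⧸ RingHom.ker (i.stalkMap x).hom) :=
      CotT.isRegularRing_of_local _
    obtain ⟨r, b, hb, hbd⟩ := GLinFree.exists_generators_of_regular_quotient _ (RingHom.ker_ne_top (i.stalkMap x).hom)
    rw [ringKrullDim_eq_of_ringEquiv e, hdX x hx, hd] at hbd
    have : r = c := by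
      have h' : ((2 + r : ℕ) : WithBot ℕ∞) = ((c + 2 : ℕ) : WithBot ℕ∞) := by
        refine Eq.trans ?_ hbd; push_cast; rfl
      have := Nat.cast_inj.1 h'
      omega
    subst this
    exact ⟨b, hb.symm⟩
  have hiX : RegImm.IsRegularImmersionOfCodim .regular c i :=
    isRegularImmersion_of_closedPoints i c (fun x hx => (hPX x hx).1)
      (fun x hx => by rw [hdX x hx, (hPX x hx).2]; push_cast; rfl) hgenX
  -- the curve in the surface
  have hgenE : ∀ e : E.curve.left, ∃ f : X.left.presheaf.stalk (E.ι e),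
      RingHom.ker (E.ι.stalkMap e).hom = Ideal.span {f} := fun e => by
    obtain ⟨W, hW, hzW, -⟩ := exists_isAffineOpen_mem_and_subset (show E.ι e ∈ (⊤ : X.left.Opens) from trivial)
    let W' : X.left.affineOpens := ⟨W, hW⟩
    obtain ⟨f, -, hf, -⟩ := DivPart.exists_generator E.ι.ker (isEffCartierIdeal_ker hA E) W' hzW
    refine ⟨f, ?_⟩
    rw [CMFlat.ker_stalkMap_eq E.ι e W' hzW, ← Scheme.Hom.ker_apply, ← hf]
  have hiE : RegImm.IsRegularImmersionOfCodim .regular 1 E.ι :=
    isRegularImmersion_of_closedPoints E.ι 1 (fun e _ => hXr _)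
      (fun e he => by rw [hdE e he, hdX _ (hcl E.ι e he)]; norm_num)
      fun e _ => by
        obtain ⟨f, hf⟩ := hgenE e
        exact ⟨fun _ => f, by rw [hf, Set.range_const]⟩
  have hij : RegImm.IsRegularImmersionOfCodim .regular 1 j :=
    isRegularImmersion_of_closedPoints j 1 (fun q hq => (projSpace_stalk_facts hjker q hq hϖ).1)
      (fun q hq => by
        obtain ⟨-, hdq⟩ := ExtFund.cm_dim_of_smooth (CohB1.ProjSpace.toSpec M k) M q hq
        rw [hdq, (projSpace_stalk_facts hjker q hq hϖ).2.1]; push_cast; exact add_comm _ _)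
      fun q hq => ⟨fun _ => _, (ker_stalkMap_fibre g j hjker q hϖ).trans (by rw [Set.range_const])⟩
  -- equations of the curve in the closed fibre
  have hgenjE : ∀ e : E.curve.left, IsClosed ({e} : Set E.curve.left) →
      ∃ ts : Fin c → (CohB1.ProjSpace M k).presheaf.stalk (jE e),
        RingHom.ker (jE.stalkMap e).hom = Ideal.span (Set.range ts) := fun e he => by
    obtain ⟨b, hb⟩ := hgenX (E.ι e) (hcl E.ι e he)
    obtain ⟨f, hf⟩ := hgenE e
    obtain ⟨f', hf'⟩ := i.stalkMap_surjective (E.ι e) f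
    let G : Fin (c + 1) → (CohB1.ProjSpace M R).presheaf.stalk (i (E.ι e)) := Fin.cons f' b
    have hcomp : RingHom.ker ((E.ι ≫ i).stalkMap e).hom = Ideal.span (Set.range G) := by
      rw [Scheme.Hom.stalkMap_comp, CommRingCat.hom_comp, ← RingHom.comap_ker, hf,
        Fin.range_cons, Ideal.span_insert, ← hb]
      have hms : Ideal.span ({f} : Set _) = (Ideal.span {f'}).map (i.stalkMap (E.ι e)).hom := by
        rw [Ideal.map_span, Set.image_singleton, hf']
      rw [hms, Ideal.comap_map_of_surjective _ (i.stalkMap_surjective (E.ι e))]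
      rfl
    have hqc := hcl jE e he
    obtain ⟨hreg, -, h2⟩ := projSpace_stalk_facts hjker (jE e) hqc hϖ
    have hker : RingHom.ker (j.stalkMap (jE e)).hom = Ideal.span {Models.stalkHom R (Over.mk g) (j (jE e)) ϖ} :=
      ker_stalkMap_fibre g j hjker (jE e) hϖ
    have hJ : ∃ G' : Fin (c + 1) → (CohB1.ProjSpace M R).presheaf.stalk (j (jE e)),
        RingHom.ker ((jE ≫ j).stalkMap e).hom = Ideal.span (Set.range G') := by
      have key : ∀ (u v : E.curve.left ⟶ CohB1.ProjSpace M R), u = v →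
          (∃ G' : Fin (c + 1) → (CohB1.ProjSpace M R).presheaf.stalk (u e),
            RingHom.ker (u.stalkMap e).hom = Ideal.span (Set.range G')) →
          ∃ G' : Fin (c + 1) → (CohB1.ProjSpace M R).presheaf.stalk (v e),
            RingHom.ker (v.stalkMap e).hom = Ideal.span (Set.range G') := by rintro u v rfl h; exact h
      exact key _ _ hjE.symm ⟨G, hcomp⟩
    obtain ⟨G', hG'⟩ := hJ
    have hJ' : (RingHom.ker (jE.stalkMap e).hom).comap (j.stalkMap (jE e)).hom = Ideal.span (Set.range G') := by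
      rw [← hG', Scheme.Hom.stalkMap_comp, CommRingCat.hom_comp, RingHom.comap_ker]
    have hϖmem : Models.stalkHom R (Over.mk g) (j (jE e)) ϖ ∈ Ideal.span (Set.range G') := by
      refine hJ'.le ?_
      have h0 := RingHom.mem_ker.1 (hker.ge (Ideal.mem_span_singleton_self
        (Models.stalkHom R (Over.mk g) (j (jE e)) ϖ)))
      exact (congrArg (jE.stalkMap e).hom h0).trans (map_zero _)
    have hG'm : ∀ l, G' l ∈ IsLocalRing.maximalIdeal _ := fun l => by
      refine IsLocalRing.le_maximalIdeal (J := Ideal.span (Set.range G')) ?_ (Ideal.subset_span ⟨l, rfl⟩)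
      rw [← hG']
      exact RingHom.ker_ne_top _
    obtain ⟨g', hg'⟩ := exists_replace G' hG'm _ hϖmem h2
    obtain ⟨ts, hts⟩ := exists_gens_quot (j.stalkMap (jE e)).hom (j.stalkMap_surjective (jE e)) g' _ _ hker hg'
    refine ⟨ts, ?_⟩
    rw [← hts, ← hJ', Ideal.map_comap_of_surjective _ (j.stalkMap_surjective (jE e))]
  have hijE : RegImm.IsRegularImmersionOfCodim .regular c jE :=
    isRegularImmersion_of_closedPoints jE c
      (fun e _ => ExtFund.isRegularLocalRing_of_smooth (CohB1.ProjSpace.toSpec M k) M _)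
      (fun e he => by
        rw [hdE e he, (ExtFund.cm_dim_of_smooth (CohB1.ProjSpace.toSpec M k) M _ (hcl jE e he)).2, hc]
        push_cast; rfl) hgenjE
  -- determinants
  have hdetC : ∀ {U V : Scheme.{u}} (f : U ⟶ V) [QuasiCompact f] {d : ℕ},
      RegImm.IsRegularImmersionOfCodim .regular d f → ∃ D : U.Modules,
        ExtPow.IsExtPow d (Omega.conormal f) D ∧ DetDeg.HasDet d (Omega.conormal f) D := fun f _ d hf => by
    have hr := ExtFund.isFinLocFreeOfRank_conormal_reg f hf
    obtain ⟨D, -, hD⟩ := SGA6Ext.exists_extPow d (Omega.conormal f)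
      (fun y => ⟨_, _, (hr y).choose_spec.1, (hr y).choose_spec.2⟩)
    exact ⟨D, hD, DetDeg.hasDet_of_isExtPow hr hD⟩
  obtain ⟨CX, hCXp, hCX⟩ := hdetC i hiX
  obtain ⟨CE, hCEp, hCE⟩ := hdetC jE hijE
  have hr1 : FlatMod.IsFinLocFreeOfRank 1 (Omega.conormal j) := ExtFund.isFinLocFreeOfRank_conormal_reg j hij
  have hinvI : PicF.IsInvertible (ClSub.idealMod E.ι.ker) := (Groth.Agent.S8914.result _).2 (isEffCartierIdeal_ker hA E)
  have hinvL := isInvertible_of_isInverseOf hinvI hL
  have hNE : PicF.IsInvertible (Omega.conormal E.ι) :=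
    show PicF.IsInvertible ((Scheme.Modules.pullback E.ι).obj (ClSub.idealMod E.ι.ker)) from
      PicLoc.isInvertible_pullback E.ι hinvI
  obtain ⟨D₁, hD₁, ⟨d₁⟩⟩ := exists_det_comp i E.ι hiX hiE hCX (K0Hom.hasDet_self hNE)
  -- the conormal sheaf of the closed fibre is trivial on the curve
  obtain ⟨nj⟩ := ExtFund.nonempty_conormal_pullback (i' := j) (i := s) (q := g)
    (p := CohB1.ProjSpace.toSpec M k) hj
  have hsI : PicF.IsInvertible (Omega.conormal s) := by
    have hI : PicF.IsInvertible (ClSub.idealMod s.ker) := by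
      refine (Groth.Agent.S8914.result _).2 ?_
      rw [ker_residue_eq]
      exact cartier_base
    exact PicLoc.isInvertible_pullback s hI
  haveI : Subsingleton (Spec (CommRingCat.of k)) := inferInstanceAs (Subsingleton (PrimeSpectrum k))
  obtain ⟨tj⟩ := nonempty_pullback_point (CohB1.ProjSpace.toSpec M k) (IsLocalRing.closedPoint k)
    (fun _ => Subsingleton.elim _ _) hsI
  have hCj : DetDeg.HasDet 1 (Omega.conormal j) (Coh.structureModule (CohB1.ProjSpace M k)) :=
    ExtFund.hasDet_congr (tj.symm ≪≫ nj) (K0Hom.hasDet_self (TMul.isInvertible_structureModule))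
  obtain ⟨D₂, hD₂, ⟨d₂⟩⟩ := exists_det_comp j jE hij hijE hCj hCE
  rw [Nat.add_comm 1 c, hjE] at hD₂
  obtain ⟨q⟩ := ExtFund.hasDet_unique hD₁ hD₂
  -- top differentials
  have hrΩ := ExtFund.isFinLocFreeOfRank_omega g M
  obtain ⟨ΩP, -, hΩP⟩ := SGA6Ext.exists_extPow M (Omega.sheaf g)
    (fun y => ⟨_, _, (hrΩ y).choose_spec.1, (hrΩ y).choose_spec.2⟩)
  obtain ⟨b⟩ := ExtFund.nonempty_omega_pullback hj
  have hΩk := ExtFund.hasDet_congr b ((ExtFund.hasDet_omega g M hΩP).pullback j)
  obtain ⟨om⟩ := ExtFund.nonempty_top_projSpace M (ExtFund.isExtPow_of_hasDet hΩk)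
  -- the canonical sheaf of the surface through projective space
  obtain ⟨Z', i', g', c', n', hf', hri', hgn', hqc', hqs', hvia⟩ := hω
  haveI := hgn'; haveI := hqc'; haveI := hqs'
  haveI := hri'.1
  have hCXinv : PicF.IsInvertible CX := ExtFund.isInvertible_pow hiX hCXp
  obtain ⟨DX, hDX, ⟨θX⟩⟩ := W7Hull.exists_tensor_inverse hCXinv
  let ωX := CohB1.tensorMod ((Scheme.Modules.pullback i).obj ΩP) DX
  obtain ⟨vω⟩ : Nonempty (ω ≅ ωX) := by
    refine ExtFund.nonempty_canon_iso i' g' i g (hf'.trans hig.symm) hri' hiX hvia ⟨CX, ΩP, hCXp, hΩP, ⟨?_⟩⟩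
    exact TMul.assocIso _ DX CX ≪≫ PicGrp.tensorModIso (Iso.refl _) (TMul.commIso DX CX ≪≫ θX) ≪≫
      SecTwist.unitorR _
  have hinvω : PicF.IsInvertible ω :=
    Nagata.isInvertible_of_iso' vω.symm (TMul.isInvertible_tensorMod
      (PicLoc.isInvertible_pullback i (ExtFund.isInvertible_of_hasDet (ExtFund.hasDet_omega g M hΩP))) hDX)
  refine ⟨hinvω, ?_⟩
  haveI : QuasiSeparated (CohB1.ProjSpace.toSpec M k) := inferInstance
  -- identification
  let ωE := (Scheme.Modules.pullback E.ι).obj (CohB1.tensorMod L ω)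
  have hiso : Nonempty (CohB1.tensorMod ωE CE ≅ (Scheme.Modules.pullback jE).obj (SerrePn.om k M)) := by
    let P := fun F => (Scheme.Modules.pullback E.ι).obj F
    obtain ⟨p₁⟩ := TMul.nonempty_pullTensorIso E.ι L ω
    obtain ⟨p₂⟩ := TMul.nonempty_pullTensorIso E.ι ((Scheme.Modules.pullback i).obj ΩP) DX
    obtain ⟨p₃⟩ := TMul.nonempty_pullTensorIso E.ι DX CX
    obtain ⟨p₄⟩ := TMul.nonempty_pullTensorIso E.ι L (ClSub.idealMod E.ι.ker)
    obtain ⟨l⟩ := hL
    have hCE' : CE ≅ CohB1.tensorMod (P CX) (P (ClSub.idealMod E.ι.ker)) :=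
      (TMul.leftUnitIso CE).symm ≪≫ PicGrp.tensorModIso (DerPerf.pullUnitIso jE).symm (Iso.refl CE) ≪≫
        d₂.symm ≪≫ q.symm ≪≫ d₁
    refine Nakai.iso_of_cl ?_
    have e1 := (PicGrp.cl_eq_cl_iff _ _).2 (Nonempty.intro (p₁.symm : ωE ≅ _))
    have e2 := (PicGrp.cl_eq_cl_iff _ _).2 (Nonempty.intro (((Scheme.Modules.pullback E.ι).mapIso vω) ≪≫ p₂.symm))
    have e3 := (PicGrp.cl_eq_cl_iff _ _).2 (Nonempty.intro (p₃ ≪≫ (Scheme.Modules.pullback E.ι).mapIso (TMul.commIso DX CX ≪≫ θX) ≪≫
      DerPerf.pullUnitIso E.ι))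
    have e4 := (PicGrp.cl_eq_cl_iff _ _).2 (Nonempty.intro (p₄ ≪≫ (Scheme.Modules.pullback E.ι).mapIso l ≪≫ DerPerf.pullUnitIso E.ι))
    have e5 := (PicGrp.cl_eq_cl_iff _ _).2 (Nonempty.intro hCE')
    have e6 := (PicGrp.cl_eq_cl_iff _ _).2 (Nonempty.intro ((Scheme.Modules.pullbackComp E.ι i).app ΩP ≪≫
      (Scheme.Modules.pullbackCongr hjE.symm).app ΩP ≪≫ ((Scheme.Modules.pullbackComp jE j).app ΩP).symm ≪≫
      (Scheme.Modules.pullback jE).mapIso om))
    simp only [Nakai.cl_tensor] at e1 e2 e3 e4 e5 ⊢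
    rw [Nakai.cl_one] at e3 e4
    rw [e1, e2, e5, ← e6]
    calc _ = PicF.cl ((Scheme.Modules.pullback E.ι).obj ((Scheme.Modules.pullback i).obj ΩP)) *
          (PicF.cl (P DX) * PicF.cl (P CX)) * (PicF.cl (P L) * PicF.cl (P (ClSub.idealMod E.ι.ker))) := by
            simp only [P, mul_assoc, mul_comm, mul_left_comm]
      _ = _ := by rw [e3, e4, mul_one, mul_one]; rfl
  obtain ⟨ψ⟩ := hiso
  refine ⟨⟨CohB1.ProjSpace M k, jE, CohB1.ProjSpace.toSpec M k, c, M, hjEw, hijE, inferInstance, inferInstance,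
    inferInstance, CE, (Scheme.Modules.pullback j).obj ΩP, hCEp, ExtFund.isExtPow_of_hasDet hΩk,
    ⟨ψ ≪≫ (Scheme.Modules.pullback jE).mapIso om.symm⟩⟩, ?_⟩
  obtain ⟨θ⟩ := ExtFund.nonempty_sheafHom_cancel (L := CE) (E := ωE) (M := (Scheme.Modules.pullback jE).obj (SerrePn.om k M))
    (ExtFund.isInvertible_pow hijE hCEp) (ExtFund.isFinLocFree_pow hijE hCEp) ψ.symm
  have h := ExtFund.exists_trace_lci (k := k) jE hjEw (show c ≤ M by omega) hijE
    (by rw [show M - c = 1 by omega, Nat.cast_one]; exact le_of_eq E.dim_eq) CE hCEp ωE θ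
  rwa [show M - c = 1 by omega] at h

end Groth.Agent.Castel
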