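import Groth.Agent.Castel.MinDesc
import Groth.Agent.Castel.ArithY
import Groth.Agent.Catenary.Formula
import Groth.Agent.Catenary.CM
import Groth.Agent.FlatDim.DimUC
import Groth.Agent.CMFlat.Quotient

/-!
Closed points of surfaces proper over a discrete valuation ring have two-dimensional local rings.
-/

set_option autoImplicit false
set_option backward.isDefEq.respectTransparency false
set_option backward.isDefEq.respectTransparency.types false
set_option linter.style.haveILetI false

universe u

open CategoryTheory CategoryTheory.Limits AlgebraicGeometry TopologicalSpace Opposite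
open Groth.Agent.Unibranch Groth.Agent.DimFormula

noncomputable section

namespace Groth.Agent.Castel

variable {R : Type u} [CommRing R] [IsDomain R] [IsDiscreteValuationRing R]

/-- A discrete valuation ring is universally catenary. -/
theorem isUniversallyCatenary_dvr (R : Type u) [CommRing R] [IsDomain R] [IsDiscreteValuationRing R] :
    CAlg.IsUniversallyCatenary R := by
  haveI : IsRegularLocalRing R := inferInstance
  haveI : LocCoh.IsCohenMacaulayRing R :=
    { isCohenMacaulayLocalRing_localization := fun p hp => by
        haveI : IsRegularRing R := inferInstance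
        haveI : IsRegularLocalRing (Localization.AtPrime p) := IsRegularRing.isRegularLocalRing_localization p
        exact CMFlat.isCohenMacaulayLocalRing_of_isRegularLocalRing _ }
  exact Catenary.isUniversallyCatenary_of_cm R

/-- Closed points have two-dimensional local rings. -/
theorem ringKrullDim_closed_eq_two {X : Scheme.{u}} (f : X ⟶ Spec (CommRingCat.of R)) [IsProper f] [IsIntegral X]
    (hdim : topologicalKrullDim X = 2) {x : X} (hx : IsClosed ({x} : Set X)) :
    ringKrullDim (X.presheaf.stalk x) = 2 := by
  refine le_antisymm ((ringKrullDim_stalk_le_dim x).trans hdim.le) ?_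
  haveI : IsLocallyNoetherian X := LocallyOfFiniteType.isLocallyNoetherian f
  have himg : ∀ w : X, IsClosed ({w} : Set X) → f w = IsLocalRing.closedPoint R := fun w hw => by
    have hne := base_ne_bot_of_closed (IsDiscreteValuationRing.not_isField R) f hw
    haveI : Ideal.IsMaximal (f w).asIdeal := Ideal.IsPrime.isMaximal (f w).isPrime hne
    exact PrimeSpectrum.ext (IsLocalRing.eq_maximalIdeal inferInstance)
  obtain ⟨c, hc⟩ := exists_chain_of_le_topologicalKrullDim (α := X) (k := 2) hdim.ge
  have hcl : IsClosed ({c (Fin.last 2)} : Set X) := by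
    rw [← closure_subset_iff_isClosed]
    intro w hw
    by_contra hne
    have h3 := natCast_le_topologicalKrullDim (α := X) (k := 3) (Fin.snoc c w) fun i => by
      refine Fin.lastCases ?_ (fun j => ?_) i
      · simp only [Fin.succ_last, Fin.snoc_last, Fin.snoc_castSucc]
        exact ⟨specializes_iff_mem_closure.2 hw, fun e => hne e.symm⟩
      · simp only [← Fin.castSucc_succ, Fin.snoc_castSucc]
        exact hc j
    rw [hdim] at h3
    exact absurd h3 (by decide)
  let ζ := genericPoint X
  obtain ⟨e, he1, he2, -⟩ := exists_dim_closure_eq f ζ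
  obtain ⟨C, hC1, hC2⟩ := exists_genLE_hasGen ((genericPoint_specializes x).map f.continuous)
  obtain ⟨a', ha1', ha2'⟩ := exists_genLE_hasGen (genericPoint_specializes (c (Fin.last 2)))
  have h2 : 2 ≤ a' := ha1' 2 c hc (genericPoint_specializes _) rfl
  have hfw : f (c (Fin.last 2)) = f x := (himg _ hcl).trans (himg x hx).symm
  have hle : a' + 0 ≤ C + e := DimFormula.dimension_inequality f (genericPoint_specializes _) ha2'
    (show GenLE (f ζ) (f (c (Fin.last 2))) C from hfw ▸ hC1)
    ⟨fun _ => c (Fin.last 2), fun _ => ⟨subset_closure rfl, rfl⟩, fun i => i.elim0⟩ he1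
  obtain ⟨a, ha1, g, hg, -, hgl⟩ := exists_genLE_hasGen (genericPoint_specializes x)
  have hcat : CAlg.IsUniversallyCatenary ((Spec (CommRingCat.of R)).presheaf.stalk (f x)) := by
    letI : Algebra R ((Spec (CommRingCat.of R)).presheaf.stalk (f x)) := StructureSheaf.stalkAlgebra R (f x)
    haveI : IsLocalization.AtPrime ((Spec (CommRingCat.of R)).presheaf.stalk (f x)) (f x).asIdeal :=
      StructureSheaf.IsLocalization.to_stalk R (f x)
    exact Catenary.isUniversallyCatenary_of_isLocalization (f x).asIdeal.primeCompl _ (isUniversallyCatenary_dvr R)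
  have hge : C + e ≤ a + 0 := Catenary.dimension_formula f (genericPoint_specializes x) hcat ha1 hC2
    (fun k d hd hdd => by
      by_contra hk
      have hk' : 0 < k := by omega
      have h0 : ∀ i, d i = x := fun i => (hd i).1 |> fun h => by
        rw [hx.closure_eq] at h; exact h
      exact (hdd ⟨0, hk'⟩).2 ((h0 _).trans (h0 _).symm)) he2
  rw [ringKrullDim_stalk_eq_coheight]
  have hge' : 2 ≤ a := by omega
  have hco : ((a : ℕ) : ℕ∞) ≤ Order.coheight x := by
    let p : LTSeries X := ⟨a, fun i => g i.rev, fun i => by
      show g i.castSucc.rev < g i.succ.rev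
      rw [Fin.rev_castSucc, Fin.rev_succ]
      exact lt_iff_le_not_ge.2 ⟨(hg i.rev).1, fun h => (hg i.rev).2
        (Specializes.antisymm (hg i.rev).1 h).eq⟩⟩
    have hp : p.head = x := by
      show g (Fin.rev 0) = x
      rw [Fin.rev_zero]
      exact hgl
    exact hp ▸ Order.length_le_coheight_head (p := p)
  exact le_trans (le_trans (le_of_eq (by norm_num)) (WithBot.coe_le_coe.2 (Nat.cast_le.2 hge' : ((2 : ℕ) : ℕ∞) ≤ (a : ℕ∞)))) (WithBot.coe_le_coe.2 hco)

end Groth.Agent.Castel
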