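import Groth.Agent.Castel.ExcMeeting
import Groth.Agent.RegQuotPoint.Basic

/-!
A section of a regular model meets the closed fibre at a smooth rational point of multiplicity one.
-/

set_option autoImplicit false
set_option backward.isDefEq.respectTransparency false
set_option backward.isDefEq.respectTransparency.types false
set_option linter.style.haveILetI false

universe u

open CategoryTheory CategoryTheory.Limits AlgebraicGeometry TopologicalSpace Opposite
open Groth.Agent.DivPart (stI pr)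

noncomputable section

namespace Groth.Agent.Castel

/-- A regular local ring modulo an element outside the square of its maximal ideal. -/
theorem regular_quot_of_not_mem_sq {A : Type u} [CommRing A] [IsRegularLocalRing A] (t : A)
    (htm : t ∈ IsLocalRing.maximalIdeal A) (ht2 : t ∉ IsLocalRing.maximalIdeal A ^ 2) :
    IsRegularLocalRing (A ⧸ Ideal.span {t}) := by
  have h := (IsRegularLocalRing.iff_finrank_cotangentSpace A).mp inferInstance
  have hne : Module.finrank (IsLocalRing.ResidueField A) (IsLocalRing.CotangentSpace A) ≠ 0 := fun h0 => by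
    haveI : Subsingleton (IsLocalRing.CotangentSpace A) := Module.finrank_zero_iff.1 h0
    refine ht2 ((Ideal.toCotangent_eq_zero (IsLocalRing.maximalIdeal A) ⟨t, htm⟩).1 ?_)
    exact Subsingleton.elim _ _
  obtain ⟨D, hD⟩ := Nat.exists_eq_succ_of_ne_zero hne
  rw [hD] at h
  obtain ⟨hreg, -⟩ := RegQuotPoint.regular_quot (r := 1) (d := D) (fun _ => t) (fun _ => htm) h.symm fun a ha i => by
    rw [Fin.sum_univ_one] at ha
    rw [Subsingleton.elim i 0]
    by_contra hu
    rw [IsLocalRing.mem_maximalIdeal, mem_nonunits_iff, not_not] at hu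
    obtain ⟨u, hu⟩ := hu
    have := Ideal.mul_mem_left (IsLocalRing.maximalIdeal A ^ 2) (↑u⁻¹) ha
    rw [← hu, Units.inv_mul_cancel_left] at this
    exact ht2 this
  rwa [Set.range_const] at hreg

/-- A section has a retraction at the closed point: `ϖ` lies in the maximal ideal, not in its square. -/
theorem section_uniformizer {R : Type u} [CommRing R] [IsDomain R] [IsDiscreteValuationRing R]
    (X : Over (Spec (CommRingCat.of R))) (σ : Spec (CommRingCat.of R) ⟶ X.left) (hσ : σ ≫ X.hom = 𝟙 _)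
    {ϖ : R} (hϖ : Irreducible ϖ) :
    Models.stalkHom R X (σ (IsLocalRing.closedPoint R)) ϖ ∈
        IsLocalRing.maximalIdeal (X.left.presheaf.stalk (σ (IsLocalRing.closedPoint R))) ∧
      Models.stalkHom R X (σ (IsLocalRing.closedPoint R)) ϖ ∉
        IsLocalRing.maximalIdeal (X.left.presheaf.stalk (σ (IsLocalRing.closedPoint R))) ^ 2 := by
  obtain ⟨ψ, hψ, hloc⟩ : ∃ ψ : X.left.presheaf.stalk (σ (IsLocalRing.closedPoint R)) ⟶ CommRingCat.of R,
      (Scheme.ΓSpecIso (CommRingCat.of R)).inv ≫ X.hom.appTop ≫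
        X.left.presheaf.germ ⊤ (σ (IsLocalRing.closedPoint R)) trivial ≫ ψ = 𝟙 _ ∧ IsLocalHom ψ.hom := by
    refine ⟨Scheme.stalkClosedPointTo (R := CommRingCat.of R) σ, ?_, inferInstance⟩
    rw [Scheme.stalkClosedPointTo, Scheme.Hom.germ_stalkMap_assoc]
    show _ ≫ X.hom.appTop ≫ σ.appTop ≫ (Spec (CommRingCat.of R)).presheaf.germ ⊤ (IsLocalRing.closedPoint R) trivial ≫
      (stalkClosedPointIso (CommRingCat.of R)).hom = _
    rw [germ_stalkClosedPointIso_hom]
    have h1 : X.hom.appTop ≫ σ.appTop = 𝟙 _ := by rw [← Scheme.Hom.comp_appTop, hσ]; rfl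
    erw [reassoc_of% h1]
    exact Iso.inv_hom_id _
  have hε : ψ.hom (Models.stalkHom R X (σ (IsLocalRing.closedPoint R)) ϖ) = ϖ := ConcreteCategory.congr_hom hψ ϖ
  generalize Models.stalkHom R X (σ (IsLocalRing.closedPoint R)) ϖ = t at hε ⊢
  refine ⟨fun hu => hϖ.not_isUnit (hε ▸ hu.map ψ.hom), fun h => ?_⟩
  have h1 : ψ.hom t ∈ IsLocalRing.maximalIdeal R ^ 2 :=
    Ideal.pow_right_mono (IsLocalRing.map_maximalIdeal_le ψ.hom) 2
      (Ideal.map_pow ψ.hom _ 2 ▸ Ideal.mem_map_of_mem ψ.hom h)
  rw [hε, hϖ.maximalIdeal_eq, Ideal.span_singleton_pow, Ideal.mem_span_singleton] at h1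
  obtain ⟨c, hc⟩ := h1
  exact hϖ.not_isUnit (IsUnit.of_mul_eq_one c (mul_left_cancel₀ hϖ.ne_zero (by
    rw [mul_one, ← mul_assoc, ← pow_two]; exact hc.symm)))

/-- An element outside `𝔪²` lies in a product of powers of proper ideals only trivially. -/
theorem unique_of_mem_prod {A : Type u} [CommRing A] [IsLocalRing A] {n : ℕ} (P : Fin n → Prop)
    (I : Fin n → Ideal A) (m : Fin n → ℕ) (hpos : ∀ j, 0 < m j)
    (hI : ∀ j, P j → I j ≤ IsLocalRing.maximalIdeal A) (i : Fin n) (hi : P i) (t : A)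
    (ht : t ∈ ∏ j, I j ^ m j) (ht2 : t ∉ IsLocalRing.maximalIdeal A ^ 2) :
    (∃! i, P i) ∧ ∀ i, P i → m i = 1 := by
  classical
  have hle : ∀ j, P j → I j ^ m j ≤ IsLocalRing.maximalIdeal A := fun j hj =>
    le_trans (Ideal.pow_le_self (hpos j).ne') (hI j hj)
  have hdvd : ∀ j : Fin n, ∃ J : Ideal A, ∏ l, I l ^ m l = I j ^ m j * J := fun j =>
    ⟨_, (Finset.mul_prod_erase Finset.univ (fun l => I l ^ m l) (Finset.mem_univ j)).symm⟩
  have huniq : ∀ j, P j → j = i := fun j hj => by
    by_contra hne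
    obtain ⟨J, hJ⟩ : ∃ J : Ideal A, ∏ l ∈ Finset.univ.erase i, I l ^ m l = I j ^ m j * J :=
      ⟨_, (Finset.mul_prod_erase (Finset.univ.erase i) (fun l => I l ^ m l)
        (Finset.mem_erase.2 ⟨hne, Finset.mem_univ j⟩)).symm⟩
    rw [← Finset.mul_prod_erase Finset.univ (fun l => I l ^ m l) (Finset.mem_univ i), hJ] at ht
    have h2 : I i ^ m i * (I j ^ m j * J) ≤ IsLocalRing.maximalIdeal A ^ 2 := by
      rw [pow_two, ← mul_assoc]
      exact le_trans Ideal.mul_le_left (Ideal.mul_mono (hle i hi) (hle j hj))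
    exact ht2 (h2 ht)
  refine ⟨⟨i, hi, huniq⟩, fun j hj => ?_⟩
  rw [huniq j hj]
  by_contra hne
  obtain ⟨J, hJ⟩ := hdvd i
  rw [hJ] at ht
  have h2 : I i ^ m i * J ≤ IsLocalRing.maximalIdeal A ^ 2 :=
    le_trans Ideal.mul_le_left (le_trans (Ideal.pow_le_pow_right (show 2 ≤ m i by have := hpos i; omega))
      (Ideal.pow_right_mono (hI i hi) 2))
  exact ht2 (h2 ht)

/-- If `ϖ ∉ 𝔪ₓ²` then `x` lies on exactly one component, of multiplicity one. -/
theorem unique_component {R : Type u} [CommRing R] [IsDomain R] [IsDiscreteValuationRing R]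
    {X : Over (Spec (CommRingCat.of R))} (hA : ArSurf.IsArithSurface R X) {n : ℕ}
    (Γ : Fin n → ArSurf.VertComp R X) (hΓ : Models.IsComponentList R X Γ) (x : X.left)
    (hxs : x ∈ Models.specialFibreSet R X) {ϖ : R} (hϖ : Irreducible ϖ)
    (ht2 : Models.stalkHom R X x ϖ ∉ IsLocalRing.maximalIdeal (X.left.presheaf.stalk x) ^ 2) :
    (∃! i : Fin n, x ∈ Set.range ((Γ i).ι.base : (Γ i).curve.left → X.left)) ∧
    ∀ i : Fin n, x ∈ Set.range ((Γ i).ι.base : (Γ i).curve.left → X.left) → Models.mult R X (Γ i) = 1 := by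
  classical
  have hA' := hA
  obtain ⟨-, hXi, -, hXf, -⟩ := hA'
  haveI := hXi
  haveI := hXf
  haveI := isProper_hom_of_isArithSurface hA
  haveI : IsLocallyNoetherian X.left := LocallyOfFiniteType.isLocallyNoetherian X.hom
  haveI : CompactSpace X.left := QuasiCompact.compactSpace_of_compactSpace X.hom
  haveI : IsNoetherian X.left := {}
  let t := Models.stalkHom R X x ϖ
  have hmap : Ideal.map (Models.stalkHom R X x) (IsLocalRing.maximalIdeal R) = Ideal.span {t} := by
    rw [hϖ.maximalIdeal_eq, Ideal.map_span, Set.image_singleton]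
  -- exactly one component, once
  obtain ⟨W, hW, hxW, -⟩ := exists_isAffineOpen_mem_and_subset (show x ∈ (⊤ : X.left.Opens) from trivial)
  let W' : X.left.affineOpens := ⟨W, hW⟩
  let m := IsLocalRing.maximalIdeal (X.left.presheaf.stalk x)
  have hI : ∀ j, x ∈ Set.range (Γ j).ι → stI (Γ j).ι.ker W' hxW ≤ m := fun j hj => by
    haveI : IsIso (Γ j).ι.toImage := inferInstance
    haveI : Nonempty (Γ j).ι.ker.subscheme := ⟨(Γ j).ι.toImage (genericPoint (Γ j).curve.left)⟩
    refine IsLocalRing.le_maximalIdeal ((DivPart.stI_isPrime (Γ j).ι.ker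
      (isIntegral_of_isOpenImmersion (inv (Γ j).ι.toImage)) W' hxW ?_).1.ne_top)
    rw [← SetLike.mem_coe, Scheme.Hom.support_ker]
    exact subset_closure hj
  have hprod : Ideal.span {t} = ∏ j, stI (Γ j).ι.ker W' hxW ^ Models.mult R X (Γ j) := by
    have h := congrArg (fun I : X.left.IdealSheafData => stI I W' hxW)
      (fibreIdeal_eq_prod hA Γ hΓ.1 (componentList_cover hΓ))
    have key : ∀ s : Finset (Fin n), stI (∏ j ∈ s, (Γ j).ι.ker ^ Models.mult R X (Γ j)) W' hxW =
        ∏ j ∈ s, stI (Γ j).ι.ker W' hxW ^ Models.mult R X (Γ j) := by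
      intro s
      induction s using Finset.induction with
      | empty =>
        rw [Finset.prod_empty, Finset.prod_empty, Scheme.IdealSheafData.one_eq_top, Ideal.one_eq_top]
        simp [stI, Ideal.map_top]
      | insert j s hj ih =>
        rw [Finset.prod_insert hj, Finset.prod_insert hj, ← ih]
        simp only [stI, Scheme.IdealSheafData.ideal_mul, PtBlow.ideal_pow', Pi.mul_apply, Ideal.map_mul, Ideal.map_pow]
    simp only [key] at h
    rw [← h, ← hmap, stI, fibreIdeal_ideal, Ideal.map_map]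
    refine congrArg (fun φ => Ideal.map φ (IsLocalRing.maximalIdeal R)) (RingHom.ext fun r => ?_)
    exact (X.left.presheaf.germ_res_apply (homOfLE (le_top : W'.1 ≤ ⊤)) x hxW _).symm
  obtain ⟨i, hi⟩ := Set.mem_iUnion.1 (componentList_cover hΓ hxs)
  have hpos : ∀ j, 0 < Models.mult R X (Γ j) := by
    obtain ⟨-, -, J, -, hrow⟩ := interMat_facts hA Γ hΓ.1
    exact fun j => (hrow j).1
  exact unique_of_mem_prod (fun j => x ∈ Set.range ((Γ j).ι.base : (Γ j).curve.left → X.left))
    (fun j => stI (Γ j).ι.ker W' hxW) (fun j => Models.mult R X (Γ j)) hpos hI i hi t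
    (hprod ▸ Ideal.mem_span_singleton_self t) ht2

/-- A section meets the closed fibre at a smooth rational point of multiplicity one. -/
theorem section_facts {R : Type u} [CommRing R] [IsDomain R] [IsDiscreteValuationRing R]
    {X : Over (Spec (CommRingCat.of R))} (hA : ArSurf.IsArithSurface R X) {n : ℕ}
    (Γ : Fin n → ArSurf.VertComp R X) (hΓ : Models.IsComponentList R X Γ)
    (σ : Spec (CommRingCat.of R) ⟶ X.left) (hσ : σ ≫ X.hom = 𝟙 _) :
    IsClosed ({σ (IsLocalRing.closedPoint R)} : Set X.left) ∧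
    σ (IsLocalRing.closedPoint R) ∈ Models.specialFibreSet R X ∧
    Function.Surjective ((X.left.residue (σ (IsLocalRing.closedPoint R))).hom.comp
      (Models.stalkHom R X (σ (IsLocalRing.closedPoint R)))) ∧
    IsRegularLocalRing (X.left.presheaf.stalk (σ (IsLocalRing.closedPoint R)) ⧸
      Ideal.map (Models.stalkHom R X (σ (IsLocalRing.closedPoint R))) (IsLocalRing.maximalIdeal R)) ∧
    (∃! i : Fin n, σ (IsLocalRing.closedPoint R) ∈ Set.range ((Γ i).ι.base : (Γ i).curve.left → X.left)) ∧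
    ∀ i : Fin n, σ (IsLocalRing.closedPoint R) ∈ Set.range ((Γ i).ι.base : (Γ i).curve.left → X.left) →
      Models.mult R X (Γ i) = 1 := by
  obtain ⟨ϖ, hϖ⟩ := IsDiscreteValuationRing.exists_irreducible R
  haveI := hA.1 (σ (IsLocalRing.closedPoint R))
  haveI := isProper_hom_of_isArithSurface hA
  obtain ⟨htm, ht2⟩ := section_uniformizer X σ hσ hϖ
  have hxs : σ (IsLocalRing.closedPoint R) ∈ Models.specialFibreSet R X := by
    show X.hom (σ (IsLocalRing.closedPoint R)) = IsLocalRing.closedPoint R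
    rw [show X.hom (σ (IsLocalRing.closedPoint R)) = (σ ≫ X.hom) (IsLocalRing.closedPoint R) from rfl, hσ]
    rfl
  have hcl : IsClosed ({σ (IsLocalRing.closedPoint R)} : Set X.left) := by
    haveI : IsClosedImmersion (σ ≫ X.hom) := by rw [hσ]; infer_instance
    haveI : IsClosedImmersion σ := IsClosedImmersion.of_comp σ X.hom
    rw [← Set.image_singleton]
    exact σ.isClosedEmbedding.isClosedMap _ (IsLocalRing.isClosed_singleton_closedPoint R)
  refine ⟨hcl, hxs, ?_, ?_, unique_component hA Γ hΓ _ hxs hϖ ht2⟩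
  · have hq : (Spec.map (CommRingCat.ofHom (IsLocalRing.residue R)) ≫ σ)
        (IsLocalRing.closedPoint (IsLocalRing.ResidueField R)) = σ (IsLocalRing.closedPoint R) :=
      congrArg σ (IsLocalRing.comap_closedPoint (R := R) (S := IsLocalRing.ResidueField R) (IsLocalRing.residue R))
    have h := surjective_residue_of_section X (Spec.map (CommRingCat.ofHom (IsLocalRing.residue R)) ≫ σ)
      (by rw [Category.assoc, hσ, Category.comp_id]) (IsLocalRing.closedPoint (IsLocalRing.ResidueField R))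
    rw [hq] at h
    exact h
  · rw [hϖ.maximalIdeal_eq, Ideal.map_span, Set.image_singleton]
    exact regular_quot_of_not_mem_sq _ htm ht2

end Groth.Agent.Castel
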