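import Groth.Agent.Castel.DivField
import Groth.Agent.Castel.SectionPoint

/-!
Constants of vertical divisors through a rational point, and consequences of a rational point on the generic fibre.
-/

set_option autoImplicit false
set_option backward.isDefEq.respectTransparency false
set_option backward.isDefEq.respectTransparency.types false
set_option linter.style.haveILetI false
set_option linter.unusedSectionVars false

universe u

open CategoryTheory CategoryTheory.Limits AlgebraicGeometry TopologicalSpace Opposite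

noncomputable section

namespace Groth.Agent.Castel

variable {R : Type u} [CommRing R] [IsDomain R] [IsDiscreteValuationRing R]

/-- If `R → Γ(D)` is surjective with nonzero target killed by the maximal ideal, `h⁰(O_D) = 1`. -/
theorem lengthH_one_of_surjective {X : Over (Spec (CommRingCat.of R))} (I : X.left.IdealSheafData)
    (hI : GoodH0 X I) (hs : Function.Surjective (toΓ X I)) : Models.lengthH R X (ClSub.quotMod I) 0 = 1 := by
  rw [lengthH_quot_zero]
  letI := (toΓ X I).toAlgebra
  haveI : Nontrivial Γ(I.subscheme, ⊤) := hI.1.nontrivial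
  let l : R →ₗ[R] Γ(I.subscheme, ⊤) := Algebra.linearMap R _
  have hl : Function.Surjective l := hs
  have hker : LinearMap.ker l = IsLocalRing.maximalIdeal R := by
    refine (IsLocalRing.maximalIdeal.isMaximal R).eq_of_le ?_ (fun r hr => hI.2.2 r hr) |>.symm
    rw [Ne, Ideal.eq_top_iff_one]
    intro h1
    refine one_ne_zero (α := Γ(I.subscheme, ⊤)) ?_
    rw [← map_one (algebraMap R Γ(I.subscheme, ⊤))]
    exact h1
  rw [← (l.quotKerEquivOfSurjective hl).length_eq]
  haveI : IsSimpleModule R (R ⧸ LinearMap.ker l) :=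
    isSimpleModule_iff_isCoatom.2 (hker ▸ (IsLocalRing.maximalIdeal.isMaximal R).out)
  rw [Module.length_eq_one]
  rfl

/-- A rational point on `D` makes the constants `R`-rational. -/
theorem surjective_of_point {X : Over (Spec (CommRingCat.of R))} (I : X.left.IdealSheafData) (hI : GoodH0 X I)
    (x : X.left) (hx : x ∈ (I.support : Set X.left))
    (hrat : Function.Surjective ((X.left.residue x).hom.comp (Models.stalkHom R X x))) :
    Function.Surjective (toΓ X I) := by
  rw [← I.range_subschemeι] at hx
  obtain ⟨z, rfl⟩ := hx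
  let ev : Γ(I.subscheme, ⊤) →+* I.subscheme.residueField z :=
    (I.subscheme.residue z).hom.comp (I.subscheme.presheaf.germ ⊤ z trivial).hom
  letI := hI.1.toField
  have hinj : Function.Injective ev := ev.injective
  let ρ : X.left.residueField (I.subschemeι z) →+* I.subscheme.residueField z := (I.subschemeι.residueFieldMap z).hom
  have hρ : Function.Surjective ρ := by
    intro a
    obtain ⟨b, rfl⟩ := I.subscheme.residue_surjective z a
    obtain ⟨c, rfl⟩ := I.subschemeι.stalkMap_surjective z b
    exact ⟨X.left.residue _ c, ConcreteCategory.congr_hom (Scheme.residue_residueFieldMap I.subschemeι z) c⟩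
  have hcomm : ∀ r, ρ (X.left.residue _ (Models.stalkHom R X (I.subschemeι z) r)) = ev (toΓ X I r) := fun r => by
    refine (ConcreteCategory.congr_hom (Scheme.residue_residueFieldMap I.subschemeι z) _).trans
      (congrArg (I.subscheme.residue z) ?_)
    show (I.subschemeι.stalkMap z) ((X.left.presheaf.germ ⊤ _ trivial) (X.hom.appTop _)) = _
    rw [Scheme.Hom.germ_stalkMap_apply]
    show _ = (I.subscheme.presheaf.germ ⊤ z trivial) ((I.subschemeι ≫ X.hom).appTop _)
    rw [Scheme.Hom.comp_appTop]
    rfl
  intro a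
  obtain ⟨b, hb⟩ := hρ (ev a)
  obtain ⟨r, rfl⟩ := hrat b
  exact ⟨r, hinj ((hcomm r).symm.trans hb)⟩

/-- `wdeg` as a length. -/
theorem wdeg_eq_lengthH {X : Over (Spec (CommRingCat.of R))} [IsProper X.hom] (Γ : ArSurf.VertComp R X) :
    Models.wdeg R X Γ = Models.lengthH R X (ClSub.quotMod Γ.ι.ker) 0 := by
  haveI : IsProper (Γ.curve.left ↘ Spec (CommRingCat.of (IsLocalRing.ResidueField R))) := isProper_curve Γ
  haveI : IsLocallyNoetherian Γ.curve.left :=
    LocallyOfFiniteType.isLocallyNoetherian (Γ.curve.left ↘ Spec (CommRingCat.of (IsLocalRing.ResidueField R)))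
  obtain ⟨qi⟩ := ExtShX.nonempty_quotMod_iso Γ.ι
  rw [lengthH_eq_of_iso qi]
  exact (lengthH_push Γ.ι Γ.curve.hom Γ.w (Coh.structureModule Γ.curve.left)
    (CurveRR.isCoh_of_inv (PicLoc.isInvertible_structureModule _)) 0).symm

/-- A rational point of the generic fibre extends to a section. -/
theorem exists_section {C X : Scheme.{u}} {f : C ⟶ Spec (CommRingCat.of (FractionRing R))}
    {p : X ⟶ Spec (CommRingCat.of R)} (hX : Models.IsRegularProperModel R X p C f)
    (s : Spec (CommRingCat.of (FractionRing R)) ⟶ C) (hs : s ≫ f = 𝟙 _) :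
    ∃ σ : Spec (CommRingCat.of R) ⟶ X, σ ≫ p = 𝟙 _ := by
  obtain ⟨⟨-, -, -, g, hg⟩, hp, -⟩ := hX
  haveI := hp
  have sq : CommSq (s ≫ g) (Spec.map (CommRingCat.ofHom (algebraMap R (FractionRing R)))) p (𝟙 _) :=
    ⟨by rw [Category.assoc, hg.w, reassoc_of% hs, Category.comp_id]⟩
  obtain ⟨⟨l⟩⟩ : sq.HasLift := by
    have h : ValuativeCriterion.Existence p := by
      have := IsProper.eq_valuativeCriterion ▸ (hp : IsProper p)
      exact ValuativeCriterion.existence this.1.1.1
    exact h { R := R, K := FractionRing R, i₁ := s ≫ g, i₂ := 𝟙 _, commSq := sq }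
  exact ⟨l.l, l.fac_right⟩

/-- Consequences of a rational point. -/
theorem rational_point_facts {C X : Scheme.{u}} {f : C ⟶ Spec (CommRingCat.of (FractionRing R))}
    {p : X ⟶ Spec (CommRingCat.of R)} (hC : Curve.IsSmoothProperCurve (FractionRing R) C f) (hH0 : IsIso f.appTop)
    (hX : Models.IsRegularProperModel R X p C f) {n : ℕ} (Γ : Fin n → ArSurf.VertComp R (Over.mk p))
    (hΓ : Models.IsComponentList R (Over.mk p) Γ) (s : Spec (CommRingCat.of (FractionRing R)) ⟶ C)
    (hs : s ≫ f = 𝟙 _) :
    (∃ (i : Fin n) (x : X), x ∈ Set.range ((Γ i).ι.base : (Γ i).curve.left → X) ∧ IsClosed ({x} : Set X) ∧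
      Function.Surjective ((X.residue x).hom.comp (Models.stalkHom R (Over.mk p) x)) ∧
      IsRegularLocalRing (X.presheaf.stalk x ⧸
        Ideal.map (Models.stalkHom R (Over.mk p) x) (IsLocalRing.maximalIdeal R)) ∧
      Models.wdeg R (Over.mk p) (Γ i) = 1 ∧ Models.mult R (Over.mk p) (Γ i) = 1) ∧
    Models.lengthH R (Over.mk p) (ClSub.quotMod (fibreIdeal (Over.mk p))) 0 = 1 ∧
    Models.lengthH R (Over.mk p) (ClSub.quotMod (fibreIdeal (Over.mk p))) 1 =
      Models.curveGenus (FractionRing R) C f := by
  have hA := isArithSurface_of_regularProper hC hX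
  haveI : IsProper (Over.mk p).hom := hX.2.1
  obtain ⟨σ, hσ⟩ := exists_section hX s hs
  obtain ⟨hcl, hxs, hrat, hreg, ⟨i, hi, -⟩, hm⟩ := section_facts hA Γ hΓ σ hσ
  refine ⟨⟨i, _, hi, hcl, hrat, hreg, ?_, hm i hi⟩, ?_⟩
  · rw [wdeg_eq_lengthH]
    refine lengthH_one_of_surjective _ (good_component (Γ i))
      (surjective_of_point _ (good_component (Γ i)) _ ?_ hrat)
    rw [Scheme.Hom.support_ker]
    exact subset_closure hi
  · have hd : Models.multGcd R (Over.mk p) Γ = 1 := by
      have h : Models.multGcd R (Over.mk p) Γ ∣ Models.mult R (Over.mk p) (Γ i) := Finset.gcd_dvd (Finset.mem_univ i)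
      rw [hm i hi] at h
      exact Nat.dvd_one.1 h
    obtain ⟨n', a, -, hl, -, hg⟩ := exists_chain hC hH0 hX Γ hΓ
    have hgood := hg (Fin.last n')
    rw [hl, show divI Γ (redMult Γ ()) = fibreIdeal (Over.mk p) from ?_] at hgood
    · have h0 := lengthH_one_of_surjective _ hgood (surjective_of_point _ hgood _
        ((mem_support_fibreIdeal _).2 hxs) hrat)
      refine ⟨h0, ?_⟩
      haveI : IsProper f := hC.1
      have hχ := chiL_fibre hC hX
      rw [chiL, h0, hRank_zero_eq_one hH0] at hχ
      exact_mod_cast (sub_right_inj.1 hχ)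
    · rw [fibreIdeal_eq_prod hA Γ hΓ.1 (componentList_cover hΓ), divI]
      refine Finset.prod_congr rfl fun j _ => ?_
      simp [redMult, hd]

end Groth.Agent.Castel
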