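import Groth.Agent.Castel.NefMinimal
import Groth.Agent.Castel.FibreConn
import Groth.Agent.Castel.RatPoint
import Groth.Agent.Castel.CompList
import Groth.Agent.Castel.PicApps
import Groth.Agent.AlgEquivCurve.RelDim
import Groth.Agent.W7See.Fibre
import Groth.Agent.S7831

/-!
The canonical sheaf of a minimal elliptic surface over a DVR is trivial.
-/

set_option autoImplicit false
set_option backward.isDefEq.respectTransparency false
set_option backward.isDefEq.respectTransparency.types false
set_option linter.style.haveILetI false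
set_option maxHeartbeats 1000000

universe u

open CategoryTheory CategoryTheory.Limits AlgebraicGeometry TopologicalSpace Opposite

noncomputable section

namespace Groth.Agent.Castel

attribute [local instance] W7Cube.law

variable {R : Type u} [CommRing R] [IsDomain R] [IsDiscreteValuationRing R]

/-- On an open where the morphism factors through an open point of the base and is smooth of relative dimension one,
an open part with trivial differentials has trivial canonical sheaf. -/
theorem pullback_canonical_trivial {X : Over (Spec (CommRingCat.of R))} [IsNoetherian X.left] [IsIntegral X.left]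
    {C : Scheme.{u}} [Nonempty C] (g : C ⟶ X.left)
    [IsOpenImmersion g] (f : C ⟶ Spec (CommRingCat.of (FractionRing R))) [SmoothOfRelativeDimension 1 f]
    [QuasiSeparated f] (hg : IsPullback g f X.hom (Neron.genPt R))
    (hΩ : Nonempty (Omega.sheaf f ≅ Coh.structureModule C)) {ω : X.left.Modules}
    (hω : Canon.IsCanonical X.hom ω) :
    Nonempty ((Scheme.Modules.pullback g).obj ω ≅ Coh.structureModule C) := by
  obtain ⟨Z, i, p, c, n, hf, hi, hp, hqc, hqs, hvia⟩ := hω
  haveI := hp; haveI := hqc; haveI := hqs
  haveI := isOpenImmersion_genPt (R := R)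
  haveI : Smooth f := SmoothOfRelativeDimension.smooth 1 f
  let U := g.opensRange
  let e := g.isoOpensRange
  have heU : e.hom ≫ U.ι = g := g.isoOpensRange_hom_ι
  haveI : IsLocallyNoetherian (U : Scheme.{u}) := LocallyOfFiniteType.isLocallyNoetherian U.ι
  haveI : CompactSpace (U : Scheme.{u}) := isCompact_iff_compactSpace.1 (TopologicalSpace.NoetherianSpace.isCompact (U : Set X.left))
  haveI : IsNoetherian (U : Scheme.{u}) := {}
  haveI : Nonempty (U : Scheme.{u}) := ⟨e.hom (Classical.arbitrary C)⟩
  haveI : IsIntegral (U : Scheme.{u}) := isIntegral_of_isOpenImmersion U.ι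
  let f' : (U : Scheme.{u}) ⟶ Spec (CommRingCat.of (FractionRing R)) := e.inv ≫ f
  haveI : SmoothOfRelativeDimension 1 f' := inferInstanceAs (SmoothOfRelativeDimension (0 + 1) (e.inv ≫ f))
  have hUf : U.ι ≫ i ≫ p = f' ≫ Neron.genPt R := by
    rw [hf]
    show U.ι ≫ X.hom = (e.inv ≫ f) ≫ Neron.genPt R
    exact (congrArg (· ≫ X.hom) (e.eq_inv_comp.2 heU)).trans ((Category.assoc _ _ _).trans
      ((congrArg (e.inv ≫ ·) hg.w).trans (Category.assoc _ _ _).symm))
  haveI : SmoothOfRelativeDimension 1 (U.ι ≫ i ≫ p) := by
    rw [hUf]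
    exact inferInstanceAs (SmoothOfRelativeDimension (1 + 0) (f' ≫ Neron.genPt R))
  haveI : QuasiSeparated (U.ι ≫ i ≫ p) := by
    rw [hUf]; infer_instance
  have htop := ExtFund.isTopDiff_restrict i p hi hvia U 1
  have sq : IsPullback (𝟙 (U : Scheme.{u})) f' (U.ι ≫ i ≫ p) (Neron.genPt R) := by
    rw [hUf]
    exact IsPullback.of_isLimit' ⟨Category.id_comp _⟩ (PullbackCone.IsLimit.mk _ (fun s => s.fst)
      (fun s => Category.comp_id _)
      (fun s => by
        exact (cancel_mono (Neron.genPt R)).1 ((Category.assoc _ _ _).trans s.condition))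
      (fun s m h1 _ => (Category.comp_id m).symm.trans h1))
  obtain ⟨a⟩ := ExtFund.nonempty_omega_pullback sq
  have hdet := ExtFund.hasDet_omega (U.ι ≫ i ≫ p) 1 htop
  have hdet' := (ExtFund.hasDet_congr a (hdet.pullback (𝟙 _)))
  obtain ⟨b⟩ := ExtFund.nonempty_omega_pullback (f := f) (f' := f') (g := 𝟙 (Spec (CommRingCat.of (FractionRing R))))
    (g' := e.inv) (IsPullback.of_horiz_isIso ⟨by simp [f']⟩)
  obtain ⟨o⟩ := hΩ
  have hO : DetDeg.HasDet 1 (Omega.sheaf f') (Coh.structureModule (U : Scheme.{u})) :=
    ExtFund.hasDet_congr ((PicLoc.pullbackStructureIso e.inv).symm ≪≫ (Scheme.Modules.pullback e.inv).mapIso o.symm ≪≫ b)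
      (K0Hom.hasDet_self TMul.isInvertible_structureModule)
  obtain ⟨t⟩ := ExtFund.hasDet_unique hdet' hO
  let t' : (Scheme.Modules.pullback U.ι).obj ω ≅ Coh.structureModule (U : Scheme.{u}) :=
    ((Scheme.Modules.pullbackId (U : Scheme.{u})).app _).symm ≪≫ t
  exact ⟨(Scheme.Modules.pullbackCongr heU.symm).app ω ≪≫ ((Scheme.Modules.pullbackComp e.hom U.ι).app ω).symm ≪≫
    (Scheme.Modules.pullback e.hom).mapIso t' ≪≫ PicLoc.pullbackStructureIso e.hom⟩

/-- The canonical sheaf of a relatively minimal elliptic surface is trivial. -/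
theorem canonical_trivial_elliptic {X : Over (Spec (CommRingCat.of R))} (hX : ArSurf.IsArithSurface R X)
    (hmin : Neron.IsRelMinimalRegularModel R X)
    [Smooth ((Neron.genericFibre R).obj X).hom] [GeometricallyIrreducible ((Neron.genericFibre R).obj X).hom]
    (hg : FGA.eulerCharLE (FractionRing R) ((Neron.genericFibre R).obj X).left
      (Coh.structureModule ((Neron.genericFibre R).obj X).left) 1 = 0)
    (σ : Spec (CommRingCat.of R) ⟶ X.left) (hσ : σ ≫ X.hom = 𝟙 _)
    {ω : X.left.Modules} (hω : Canon.IsCanonical X.hom ω) :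
    Nonempty (ω ≅ Coh.structureModule X.left) := by
  obtain ⟨hXr, hXi, hXd, hXf, -⟩ := id hX
  haveI := hXi
  haveI := hXf
  haveI hprop := isProper_hom_of_isArithSurface hX
  haveI := isOpenImmersion_genPt (R := R)
  let K := FractionRing R
  let C := ((Neron.genericFibre R).obj X).left
  let f : C ⟶ Spec (CommRingCat.of K) := ((Neron.genericFibre R).obj X).hom
  let g : C ⟶ X.left := pullback.fst X.hom (Neron.genPt R)
  have hgpb : IsPullback g f X.hom (Neron.genPt R) := IsPullback.of_hasPullback X.hom (Neron.genPt R)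
  haveI : IsOpenImmersion g := MorphismProperty.of_isPullback (P := @IsOpenImmersion) hgpb.flip inferInstance
  haveI hfp : IsProper f := MorphismProperty.of_isPullback (P := @IsProper) hgpb inferInstance
  haveI : Smooth f := ‹Smooth ((Neron.genericFibre R).obj X).hom›
  haveI : GeometricallyIrreducible f := ‹GeometricallyIrreducible ((Neron.genericFibre R).obj X).hom›
  haveI : GeometricallyConnected f := ⟨fun L _ y Z a b h => by
    haveI := GeometricallyIrreducible.geometrically_irreducibleSpace (f := f) y a b h
    infer_instance⟩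
  haveI : Nonempty C := Surjective.surj (f := f) (show Spec (CommRingCat.of K) from (⟨⊥, Ideal.isPrime_bot⟩ : PrimeSpectrum K)) |>.nonempty
  haveI : IsIntegral C := isIntegral_of_isOpenImmersion g
  letI : C.Over (Spec (CommRingCat.of K)) := ⟨f⟩
  haveI : IsProper (C ↘ Spec (CommRingCat.of K)) := hfp
  haveI : Smooth (C ↘ Spec (CommRingCat.of K)) := ‹Smooth f›
  haveI : GeometricallyConnected (C ↘ Spec (CommRingCat.of K)) := ‹GeometricallyConnected f›
  -- global functions
  haveI := ClosedRep.GeomIntegral.geometricallyIntegral_of_smooth f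
  haveI hH0 : IsIso f.appTop := by
    rw [ConcreteCategory.isIso_iff_bijective]
    have h := W7See.bijective_global_field f
    exact (Function.Bijective.of_comp_iff _
      (ConcreteCategory.bijective_of_isIso (Scheme.ΓSpecIso (CommRingCat.of K)).inv)).1 h
  -- the generic fibre is a curve
  let η : Spec (CommRingCat.of R) := (⟨⊥, Ideal.isPrime_bot⟩ : PrimeSpectrum R)
  have hCdim : topologicalKrullDim C = 1 := by
    refine le_antisymm (show topologicalKrullDim C ≤ ((1 : ℕ) : WithBot ℕ∞) from
      Unibranch.topologicalKrullDim_le_natCast fun l c hc => ?_) ?_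
    · haveI : CompactSpace X.left := QuasiCompact.compactSpace_of_compactSpace X.hom
      obtain ⟨w, hw, hwc⟩ := (isClosed_closure (s := ({g (c (Fin.last l))} : Set X.left))).exists_closed_singleton
        ⟨_, subset_closure rfl⟩
      have hne : g (c (Fin.last l)) ≠ w := fun e => by
        refine base_ne_bot_of_closed (IsDiscreteValuationRing.not_isField R) X.hom hwc ?_
        have h3 : X.hom (g (c (Fin.last l))) ∈ Set.range (Neron.genPt R) := ⟨f (c (Fin.last l)), by
          rw [← Scheme.Hom.comp_apply, ← hgpb.w]; rfl⟩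
        rw [RelMinSmooth.range_genPt, Set.mem_singleton_iff] at h3
        rw [← e, h3]
      have h := (Unibranch.natCast_le_topologicalKrullDim (α := X.left) (k := l + 1)
        (Fin.snoc (fun i => g (c i)) w) fun i => by
          refine Fin.lastCases ?_ (fun j => ?_) i
          · simp only [Fin.succ_last, Fin.snoc_last, Fin.snoc_castSucc]
            exact ⟨specializes_iff_mem_closure.2 hw, hne⟩
          · simp only [← Fin.castSucc_succ, Fin.snoc_castSucc]
            exact ⟨(hc j).1.map g.isEmbedding.continuous, fun e => (hc j).2 (g.isEmbedding.injective e)⟩).trans hXd.le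
      have h' : ((l + 1 : ℕ) : WithBot ℕ∞) ≤ ((2 : ℕ) : WithBot ℕ∞) := h
      have := CartierDim.natCast_le_withBot.mp h'
      omega
    · haveI : IsClosedImmersion σ := by
        haveI : IsClosedImmersion (σ ≫ X.hom) := by rw [hσ]; infer_instance
        exact IsClosedImmersion.of_comp σ X.hom
      obtain ⟨a, ha⟩ : σ η ∈ Set.range g := by
        show σ η ∈ Set.range (pullback.fst X.hom (Neron.genPt R))
        rw [Scheme.Pullback.range_fst, RelMinSmooth.range_genPt]
        show X.hom (σ η) = η
        rw [← Scheme.Hom.comp_apply, hσ]; rfl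
      have hne : genericPoint C ≠ a := fun e => by
        have hgen : g (genericPoint C) = genericPoint X.left := genericPoint_eq_of_isOpenImmersion g
        have hmem : genericPoint X.left ∈ Set.range σ := ⟨η, by rw [← ha, ← e, hgen]⟩
        have huniv : Set.range σ = Set.univ :=
          Set.eq_univ_of_univ_subset ((genericPoint_spec X.left).def.symm.trans_le
            (σ.isClosedEmbedding.isClosed_range.closure_subset_iff.2 (Set.singleton_subset_iff.2 hmem)))
        let H := σ.isClosedEmbedding.isEmbedding.toHomeomorph.trans ((Homeomorph.setCongr huniv).trans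
          (Homeomorph.Set.univ X.left))
        have h1 := H.isHomeomorph.topologicalKrullDim_eq
        rw [hXd, show topologicalKrullDim (Spec (CommRingCat.of R)) = 1 from
          (PrimeSpectrum.topologicalKrullDim_eq_ringKrullDim R).trans (IsPrincipalIdealRing.ringKrullDim_eq_one R
            (IsDiscreteValuationRing.not_isField R))] at h1
        exact absurd h1 (by decide)
      exact Unibranch.natCast_le_topologicalKrullDim (α := C) (k := 1) ![genericPoint C, a] fun i => by
        fin_cases i
        exact ⟨genericPoint_specializes _, hne⟩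
  haveI := AlgEquivCurve.smoothOfRelativeDimension_one f hCdim
  have hC : Curve.IsSmoothProperCurve K C f := ⟨hfp, inferInstance, inferInstance, hCdim⟩
  have hM : Models.IsRegularProperModel R (Over.mk X.hom).left X.hom C f :=
    ⟨⟨hXf, inferInstance, inferInstance, g, hgpb⟩, hprop, hXr⟩
  -- genus one
  have h0 : CurveRR.h K (Coh.structureModule C) 0 = 1 := W7Cover.h0_of_geometricallyConnected
  have hgenus : Curv2.genus K C = 1 := by
    have h : (CurveRR.h K (Coh.structureModule C) 0 : ℤ) - CurveRR.h K (Coh.structureModule C) 1 = 0 := by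
      rw [← hg]
      simp only [FGA.eulerCharLE, CurveRR.h, Finset.sum_range_succ, Finset.sum_range_zero]
      ring_nf
      rfl
    rw [h0] at h
    show CurveRR.h K (Coh.structureModule C) 1 = 1
    omega
  obtain ⟨o⟩ := Groth.Agent.S7831.result K C hCdim hgenus
  haveI : IsLocallyNoetherian X.left := LocallyOfFiniteType.isLocallyNoetherian X.hom
  haveI : CompactSpace X.left := QuasiCompact.compactSpace_of_compactSpace X.hom
  haveI : IsNoetherian X.left := {}
  obtain ⟨t⟩ := pullback_canonical_trivial g f hgpb ⟨o⟩ hω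
  -- components
  obtain ⟨n, Γ, hΓ⟩ := exists_componentList hC hH0 hM
  obtain ⟨-, hpos, -⟩ := mult_facts hC hH0 hM Γ hΓ
  have hzero : ∀ i, ArSurf.inter R X ω (Γ i) = 0 := by
    have hnn : ∀ i, 0 ≤ (Models.mult R X (Γ i) : ℤ) * ArSurf.inter R X ω (Γ i) := fun i =>
      mul_nonneg (Int.natCast_nonneg _) (nef_of_isRelMinimal hX hg.le hω hmin (Γ i))
    have hsum := sum_mult_canonical hX Γ hΓ hω
    rw [hg, mul_zero] at hsum
    intro i
    have h := (Finset.sum_eq_zero_iff_of_nonneg fun j _ => hnn j).1 hsum i (Finset.mem_univ i)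
    exact (mul_eq_zero.1 h).resolve_left (by exact_mod_cast (hpos i).ne')
  -- a component of multiplicity one
  let s : Spec (CommRingCat.of K) ⟶ C := hgpb.lift (Neron.genPt R ≫ σ) (𝟙 _)
    (by rw [Category.assoc, hσ, Category.comp_id, Category.id_comp])
  obtain ⟨⟨i₀, -, -, -, -, -, -, hm₀⟩, -⟩ := rational_point_facts hC hH0 hM Γ hΓ s (hgpb.lift_snd _ _ _)
  have hd : Models.multGcd R (Over.mk X.hom) Γ = 1 := by
    have h : Models.multGcd R (Over.mk X.hom) Γ ∣ Models.mult R (Over.mk X.hom) (Γ i₀) := Finset.gcd_dvd (Finset.mem_univ i₀)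
    rw [hm₀] at h
    exact Nat.dvd_one.1 h
  -- the class
  have hωi : PicF.IsInvertible ω := by
    obtain ⟨L, -, hL⟩ := exists_inverse_module ((Groth.Agent.S8914.result _).2 (isEffCartierIdeal_ker hX (Γ i₀)))
    exact (exists_trace_adjunction hX (Γ i₀) L hL ω hω).1
  have hc : (PicGrp.cls ω hωi : PicLoc.PicSet X.left) ^ Models.multGcd R (Over.mk X.hom) Γ = 1 :=
    pow_multGcd_eq_one (X := X.left) hC hH0 hM Γ hΓ hgpb (PicGrp.cls ω hωi)
    (by rw [pull_cls]; exact (nonempty_iso_structure_iff _).1 ⟨t⟩)
    (fun i => by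
      haveI : IsProper (Over.mk X.hom).hom := hprop
      exact (degP_cls (X := Over.mk X.hom) (Γ i) hωi).trans (hzero i))
  rw [hd, pow_one] at hc
  exact (nonempty_iso_structure_iff hωi).2 hc

end Groth.Agent.Castel
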