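import Groth.Agent.Castel.CanonApps
import Groth.Agent.Castel.ExcNumbers

/-!
Exceptional curves and the canonical degree.
-/

set_option autoImplicit false
set_option backward.isDefEq.respectTransparency false
set_option backward.isDefEq.respectTransparency.types false
set_option linter.style.haveILetI false

universe u

open CategoryTheory CategoryTheory.Limits AlgebraicGeometry TopologicalSpace Opposite

noncomputable section

namespace Groth.Agent.Castel

variable {R : Type u} [CommRing R] [IsDomain R] [IsDiscreteValuationRing R] {X : Over (Spec (CommRingCat.of R))}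

/-- A projective line over a finite extension of the residue field with self-intersection minus its degree, as a
structure on a vertical divisor. -/
def IsLineOfDegree (R : Type u) [CommRing R] [IsDomain R] [IsDiscreteValuationRing R]
    (X : Over (Spec (CommRingCat.of R))) (E : ArSurf.VertComp R X) (L : X.left.Modules) : Prop :=
  ∃ (k' : Type u) (_ : Field k') (_ : Algebra (IsLocalRing.ResidueField R) k'),
    FiniteDimensional (IsLocalRing.ResidueField R) k' ∧
    ∃ e : E.curve.left ≅ CohB1.ProjSpace 1 k',
      e.hom ≫ (CohB1.ProjSpace 1 k' ↘ Spec (CommRingCat.of k')) ≫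
          Spec.map (CommRingCat.ofHom (algebraMap (IsLocalRing.ResidueField R) k')) = E.curve.hom ∧
        ArSurf.inter R X L E = -(Module.finrank (IsLocalRing.ResidueField R) k' : ℤ)

/-- The degree of the constants of a vertical line. -/
theorem wdeg_line [IsProper X.hom] (E : ArSurf.VertComp R X) {k' : Type u} [Field k']
    [Algebra (IsLocalRing.ResidueField R) k'] (e : CohB1.ProjSpace 1 k' ≅ E.curve.left)
    (he : CohB1.ProjSpace.toSpec 1 k' ≫ Spec.map (CommRingCat.ofHom (algebraMap (IsLocalRing.ResidueField R) k')) =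
      e.hom ≫ E.curve.hom) :
    Models.wdeg R X E = Module.finrank (IsLocalRing.ResidueField R) k' := by
  have hd : topologicalKrullDim (CohB1.ProjSpace 1 k') ≤ 1 := (Groth.Agent.S10829.result k' 1).le
  haveI : IsProper (CohB1.ProjSpace 1 k' ↘ Spec (CommRingCat.of k')) := ProjMor.isProper_toSpec 1 k'
  obtain ⟨o⟩ := Horrocks.Om_zero (k := k') (d := 1)
  have hOi : PicF.IsInvertible (Coh.structureModule E.curve.left) := TMul.isInvertible_structureModule
  have h := (finrank_hh_iso E.curve.hom e hOi 0).trans ((finrank_hh_tower (CohB1.ProjSpace.toSpec 1 k') _ he _ 0).trans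
    (congrArg (_ * ·) (CurveRR.h_eq_of_iso (k := k') (DerPerf.pullUnitIso e.hom ≪≫ o.symm) 0)))
  have hO0 : CurveRR.h k' (Twist.twistProjSpace 1 k' 0) 1 = 0 :=
    CurveRR.h_eq_zero (subsingleton_h1_twist k' 0 (by omega))
  have e0 := euler_twist_line k' 0
  rw [CurveRR.euler_eq hd] at e0
  have h1 : CurveRR.h k' (Twist.twistProjSpace 1 k' 0) 0 = 1 := by omega
  rw [h1, mul_one] at h
  exact h

/-- Genus zero and self-intersection minus the degree of the constants: a line of degree `-[k':k]`. -/
theorem isLineOfDegree_of_numbers (hX : ArSurf.IsArithSurface R X) (E : ArSurf.VertComp R X) {L : X.left.Modules}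
    (hL : ClSub.IsInverseOf L (ClSub.idealMod E.ι.ker)) (h1 : Models.h1 R X E = 0)
    (hself : ArSurf.inter R X L E = -(Models.wdeg R X E : ℤ)) : IsLineOfDegree R X E L := by
  haveI := isProper_hom_of_isArithSurface hX
  haveI : IsProper E.curve.hom := isProper_curve E
  obtain ⟨-, k', _, e, -⟩ := isExcCurve_of_numbers hX E hL h1 hself
  obtain ⟨φ, hφ⟩ := exists_factor_projLine (e.hom ≫ E.curve.hom)
  letI := φ.toAlgebra
  have hw := wdeg_line E e hφ
  refine ⟨k', inferInstance, inferInstance, Module.finite_of_finrank_pos (hw ▸ (wdeg_facts E).1), e.symm, ?_, ?_⟩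
  · exact (congrArg (e.inv ≫ ·) hφ).trans (e.inv_hom_id_assoc _)
  · rw [hself, hw]

/-- The numbers of a vertical line of degree `-[k':k]`. -/
theorem numbers_of_isLineOfDegree (hX : ArSurf.IsArithSurface R X) (E : ArSurf.VertComp R X) {L : X.left.Modules}
    (hL : ClSub.IsInverseOf L (ClSub.idealMod E.ι.ker)) (hE : IsLineOfDegree R X E L) :
    Models.h1 R X E = 0 ∧ ArSurf.inter R X L E = -(Models.wdeg R X E : ℤ) := by
  obtain ⟨k', _, _, hfd, e, he, hself⟩ := hE
  haveI := hfd
  obtain ⟨-, hLi, ⟨c⟩⟩ := vert_conormal hX E e he L hL (d := 1) (by rw [one_mul]; exact hself)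
  simpa using vert_line_numbers E e.symm hLi hL c

/-- Degrees on a vertical prime divisor are multiples of the degree of its constants. -/
theorem wdeg_dvd_inter [IsProper X.hom] (E : ArSurf.VertComp R X) (M : X.left.Modules) :
    (Models.wdeg R X E : ℤ) ∣ ArSurf.inter R X M E := by
  let k := IsLocalRing.ResidueField R
  haveI : IsProper (E.curve.left ↘ Spec (CommRingCat.of k)) := isProper_curve E
  rw [inter_eq_deg, Curv2.deg]
  exact dvd_sub (DualGeneric.h0_dvd_euler k E.dim_eq.le _)
    (dvd_mul_of_dvd_right (DualGeneric.h0_dvd_euler k E.dim_eq.le _) _)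

/-- Both degrees negative: genus zero, both equal to minus the degree of the constants. -/
theorem numbers_of_neg (hX : ArSurf.IsArithSurface R X) (E : ArSurf.VertComp R X) {L : X.left.Modules}
    (hL : ClSub.IsInverseOf L (ClSub.idealMod E.ι.ker)) {ω : X.left.Modules} (hω : Canon.IsCanonical X.hom ω)
    (hK : ArSurf.inter R X ω E < 0) (hE : ArSurf.inter R X L E < 0) :
    Models.h1 R X E = 0 ∧ ArSurf.inter R X L E = -(Models.wdeg R X E : ℤ) ∧
      ArSurf.inter R X ω E = -(Models.wdeg R X E : ℤ) := by
  haveI := isProper_hom_of_isArithSurface hX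
  have hsum := selfInter_add_canonical hX E hL hω
  have h1 := Int.le_of_dvd (by omega) (Int.dvd_neg.2 (wdeg_dvd_inter E L))
  have h2 := Int.le_of_dvd (by omega) (Int.dvd_neg.2 (wdeg_dvd_inter E ω))
  refine ⟨by omega, by omega, by omega⟩

end Groth.Agent.Castel
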