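import Groth.Agent.Castel.CompListArith
import Groth.Agent.Castel.CanonDim
import Groth.Agent.DivPart.Sum
import Groth.Agent.Castel.DivEuler

/-!
Effective Cartier divisors in the closed fibre are sums of vertical prime divisors.
-/

set_option autoImplicit false
set_option backward.isDefEq.respectTransparency false
set_option backward.isDefEq.respectTransparency.types false
set_option linter.style.haveILetI false

universe u

open CategoryTheory CategoryTheory.Limits AlgebraicGeometry TopologicalSpace Topology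

noncomputable section

namespace Groth.Agent.Castel.VertAll

variable {R : Type u} [CommRing R] [IsDomain R] [IsDiscreteValuationRing R]

/-- Component lists exist. -/
theorem exists_componentList {X : Scheme.{u}} {p : X ⟶ Spec (CommRingCat.of R)}
    (hA : ArSurf.IsArithSurface R (Over.mk p)) :
    ∃ (n : ℕ) (Γ : Fin n → ArSurf.VertComp R (Over.mk p)), Models.IsComponentList R (Over.mk p) Γ := by
  classical
  obtain ⟨hXr, hXi, hXd, hXf, -⟩ := id hA
  haveI := hXi
  haveI : IsIntegral X := hXi
  haveI : Flat p := hXf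
  haveI : IsProper p := isProper_hom_of_isArithSurface hA
  haveI : IsLocallyNoetherian X := LocallyOfFiniteType.isLocallyNoetherian p
  haveI : CompactSpace X := QuasiCompact.compactSpace_of_compactSpace p
  haveI : AlgebraicGeometry.IsNoetherian X := {}
  haveI : IsLocallyNoetherian (Over.mk p).left := ‹IsLocallyNoetherian X›
  haveI : NoetherianSpace (Models.specialFibreSet R (Over.mk p)) :=
    TopologicalSpace.NoetherianSpace.set (α := X) _
  have hcl : IsClosed (Models.specialFibreSet R (Over.mk p)) := Models.isClosed_specialFibreSet R (Over.mk p)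
  have hfin : (Models.fibreComponents R (Over.mk p)).Finite := by
    refine (Set.Finite.image (fun s : Set (Models.specialFibreSet R (Over.mk p)) => Subtype.val '' s)
      (TopologicalSpace.NoetherianSpace.finite_irreducibleComponents
        (α := Models.specialFibreSet R (Over.mk p)))).subset ?_
    rintro Z ⟨⟨hZi, hZs⟩, hZmax⟩
    refine ⟨Subtype.val ⁻¹' Z, ⟨?_, ?_⟩, ?_⟩
    · refine ⟨?_, ?_⟩
      · obtain ⟨z, hz⟩ := hZi.1
        exact ⟨⟨z, hZs hz⟩, hz⟩
      · rintro a b ha hb ⟨za, hza, hza'⟩ ⟨zb, hzb, hzb'⟩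
        obtain ⟨A, hA', rfl⟩ := isOpen_induced_iff.mp ha
        obtain ⟨B, hB, rfl⟩ := isOpen_induced_iff.mp hb
        obtain ⟨z, hz, hzA, hzB⟩ := hZi.2 A B hA' hB ⟨za.1, hza, hza'⟩ ⟨zb.1, hzb, hzb'⟩
        exact ⟨⟨z, hZs hz⟩, hz, hzA, hzB⟩
    · intro T hT hle z hz
      have hsub : Z ⊆ Subtype.val '' T := fun w hwZ => ⟨⟨w, hZs hwZ⟩, hle hwZ, rfl⟩
      exact hZmax ⟨hT.image _ continuous_subtype_val.continuousOn, by
        rintro _ ⟨a, -, rfl⟩; exact a.2⟩ hsub ⟨z, hz, rfl⟩
    · exact Set.image_preimage_eq_of_subset (by rwa [Subtype.range_coe])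
  have hclosed : ∀ Z ∈ Models.fibreComponents R (Over.mk p), IsClosed Z := fun Z hZ =>
    closure_eq_iff_isClosed.mp ((hZ.2 ⟨hZ.1.1.closure, hcl.closure_subset_iff.mpr hZ.1.2⟩ subset_closure).antisymm
      subset_closure)
  -- the scheme on a component
  have hex : ∀ Z ∈ Models.fibreComponents R (Over.mk p),
      ∃ Γ : ArSurf.VertComp R (Over.mk p), Set.range Γ.ι = Z := by
    intro Z hZ
    let Zc : Closeds X := ⟨Z, hclosed Z hZ⟩
    let I := Scheme.IdealSheafData.vanishingIdeal Zc
    haveI : IsReduced I.subscheme := Groth.Agent.DvrDom.isReduced_vanishingIdeal_subscheme _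
    have hr : Set.range I.subschemeι = Z := by
      rw [I.range_subschemeι]; simp [I, Zc]
    have hirr : IsIrreducible (Set.univ : Set I.subscheme) := by
      refine ⟨⟨((hr.symm ▸ hZ.1.1.nonempty : (Set.range I.subschemeι).Nonempty).choose_spec).choose, trivial⟩, ?_⟩
      intro u v hu hv hun hvn
      obtain ⟨A, hA', rfl⟩ := I.subschemeι.isEmbedding.isInducing.isOpen_iff.1 hu
      obtain ⟨B, hB, rfl⟩ := I.subschemeι.isEmbedding.isInducing.isOpen_iff.1 hv
      obtain ⟨a, -, ha⟩ := hun
      obtain ⟨b, -, hb⟩ := hvn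
      obtain ⟨z, hz, hzA, hzB⟩ := hZ.1.1.2 A B hA' hB ⟨_, hr.le ⟨a, rfl⟩, ha⟩ ⟨_, hr.le ⟨b, rfl⟩, hb⟩
      obtain ⟨c, rfl⟩ := hr.ge hz
      exact ⟨c, trivial, hzA, hzB⟩
    haveI : IrreducibleSpace I.subscheme := (irreducibleSpace_def I.subscheme).2 hirr
    haveI : IsIntegral I.subscheme := isIntegral_of_irreducibleSpace_of_isReduced _
    haveI : IsClosedImmersion (Spec.map (CommRingCat.ofHom (IsLocalRing.residue R))) :=
      IsClosedImmersion.spec_of_surjective _ Ideal.Quotient.mk_surjective
    obtain ⟨l, hl⟩ := RedSepLib.exists_lift_of_isReduced (I.subschemeι ≫ p)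
      (Spec.map (CommRingCat.ofHom (IsLocalRing.residue R))) (by
        rintro _ ⟨x, rfl⟩
        refine ⟨(show PrimeSpectrum (IsLocalRing.ResidueField R) from default), ?_⟩
        have hx : p (I.subschemeι x) = IsLocalRing.closedPoint R := hZ.1.2 (hr.le ⟨x, rfl⟩)
        rw [show (I.subschemeι ≫ p) x = p (I.subschemeι x) from rfl, hx]
        exact IsLocalRing.comap_closedPoint (R := R) (S := IsLocalRing.ResidueField R)
          (IsLocalRing.residue R))
    have hgen : p (genericPoint X) ≠ IsLocalRing.closedPoint R := fun e => by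
      obtain ⟨w, hw, hw'⟩ := Flat.generalizingMap p (a := genericPoint X)
        ((PrimeSpectrum.le_iff_specializes (⟨⊥, Ideal.isPrime_bot⟩ : PrimeSpectrum R) (p (genericPoint X))).mp bot_le)
      rw [(hw.antisymm ((genericPoint_spec X).specializes trivial)).eq, e] at hw'
      exact IsDiscreteValuationRing.not_a_field R (congrArg PrimeSpectrum.asIdeal hw')
    have hle : topologicalKrullDim I.subscheme ≤ ((1 : ℕ) : WithBot ℕ∞) :=
      Unibranch.topologicalKrullDim_le_natCast fun l c hc => by
        have hemb := I.subschemeι.isEmbedding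
        have hne : ∀ y, genericPoint X ≠ I.subschemeι y := fun y e =>
          hgen (e ▸ hZ.1.2 (hr.le ⟨y, rfl⟩))
        have h := (Unibranch.natCast_le_topologicalKrullDim (α := X) (k := l + 1)
          (Fin.cons (genericPoint X) fun i => I.subschemeι (c i)) fun i => by
            refine Fin.cases ?_ (fun j => ?_) i
            · simp only [Fin.castSucc_zero, Fin.cons_zero, Fin.cons_succ]
              exact ⟨genericPoint_specializes _, hne _⟩
            · simp only [← Fin.succ_castSucc, Fin.cons_succ]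
              exact ⟨(hc j).1.map hemb.continuous, fun e => (hc j).2 (hemb.injective e)⟩).trans hXd.le
        have h' : ((l + 1 : ℕ) : WithBot ℕ∞) ≤ ((2 : ℕ) : WithBot ℕ∞) := h
        have := CartierDim.natCast_le_withBot.mp h'
        omega
    obtain ⟨a, ha⟩ : ∃ a : I.subscheme, a ≠ genericPoint I.subscheme := by
      by_contra! hall
      -- the component would be a closed point with a vertical generisation
      let z := I.subschemeι (genericPoint I.subscheme)
      have hZ1 : Z = {z} := by
        rw [← hr]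
        exact Set.range_eq_singleton_iff.2 fun a => by rw [hall a]
      have hzc : IsClosed ({z} : Set X) := hZ1 ▸ hclosed Z hZ
      have hdim2 : ringKrullDim (X.presheaf.stalk z) = 2 := ringKrullDim_closed_eq_two p hXd hzc
      obtain ⟨W, hzW, -, f, -, hfW⟩ := BlowUpLib.exists_small_generator (cartier_fibreIdeal (X := Over.mk p))
        (O := ⊤) (x := z) trivial
      haveI : IsNoetherianRing Γ((Over.mk p).left, W.1) := IsLocallyNoetherian.component_noetherian W
      let P : PrimeSpectrum Γ(X, W.1) := W.2.primeIdealOf ⟨z, hzW⟩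
      have hfP : f ∈ P.asIdeal := (DivPart.mem_support_iff_le (fibreIdeal (Over.mk p)) W hzW).1
        ((mem_support_fibreIdeal (X := Over.mk p) z).2 (hZ.1.2 (hr.le ⟨_, rfl⟩)))
        (hfW ▸ Ideal.mem_span_singleton_self f)
      haveI := P.isPrime
      obtain ⟨Q, hQ, hQP⟩ := Ideal.exists_minimalPrimes_le (I := Ideal.span {f}) (J := P.asIdeal)
        ((Ideal.span_singleton_le_iff_mem _).mpr hfP)
      haveI := hQ.1.1
      have hQ1 : Q.height ≤ 1 := Ideal.height_le_one_of_isPrincipal_of_mem_minimalPrimes _ _ hQ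
      letI := TopCat.Presheaf.algebra_section_stalk X.presheaf (⟨z, hzW⟩ : W.1)
      haveI : IsLocalization.AtPrime (X.presheaf.stalk z) P.asIdeal := W.2.isLocalization_stalk ⟨z, hzW⟩
      have hP2 : (P.asIdeal.height : WithBot ℕ∞) = 2 :=
        (IsLocalization.AtPrime.ringKrullDim_eq_height P.asIdeal (X.presheaf.stalk z)).symm.trans hdim2
      let y : X := W.2.fromSpec ⟨Q, hQ.1.1⟩
      have hyW : y ∈ W.1 := W.2.range_fromSpec.subset ⟨_, rfl⟩
      have hpr : W.2.primeIdealOf ⟨y, hyW⟩ = ⟨Q, hQ.1.1⟩ :=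
        W.2.fromSpec.isOpenEmbedding.injective (W.2.fromSpec_primeIdealOf ⟨y, hyW⟩)
      have hys : y ∈ Models.specialFibreSet R (Over.mk p) := (mem_support_fibreIdeal (X := Over.mk p) y).1
        ((DivPart.mem_support_iff_le (fibreIdeal (Over.mk p)) W hyW).2 (by
          change _ ≤ (W.2.primeIdealOf ⟨y, hyW⟩).asIdeal
          rw [hpr, hfW]
          exact hQ.1.2))
      have hyz : y ⤳ z := by
        have h := ((PrimeSpectrum.le_iff_specializes (⟨Q, hQ.1.1⟩ : PrimeSpectrum Γ(X, W.1)) P).1 hQP).map
          W.2.fromSpec.continuous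
        rw [W.2.fromSpec_primeIdealOf ⟨z, hzW⟩] at h
        exact h
      have hsub : Z ⊆ closure ({y} : Set X) := hZ1 ▸ Set.singleton_subset_iff.2 (specializes_iff_mem_closure.1 hyz)
      have hy : y ∈ Z := hZ.2 ⟨isIrreducible_singleton.closure, hcl.closure_subset_iff.2
        (Set.singleton_subset_iff.2 hys)⟩ hsub (subset_closure rfl)
      rw [hZ1, Set.mem_singleton_iff] at hy
      have hQP' : Q = P.asIdeal := by
        have h : W.2.primeIdealOf ⟨y, hyW⟩ = P := congrArg W.2.primeIdealOf (Subtype.ext hy)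
        rw [hpr] at h
        exact congrArg PrimeSpectrum.asIdeal h
      rw [hQP'] at hQ1
      have : (P.asIdeal.height : WithBot ℕ∞) ≤ 1 := by exact_mod_cast hQ1
      rw [hP2] at this
      exact absurd this (by decide)
    have hge : ((1 : ℕ) : WithBot ℕ∞) ≤ topologicalKrullDim I.subscheme :=
      Unibranch.natCast_le_topologicalKrullDim (α := I.subscheme) (k := 1)
        ![genericPoint I.subscheme, a] (fun i => by
          fin_cases i
          exact ⟨genericPoint_specializes _, ha.symm⟩)
    exact ⟨{ curve := Over.mk l, ι := I.subschemeι, isClosedImmersion := inferInstance,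
             isIntegral := ‹IsIntegral I.subscheme›
             dim_eq := (hle.antisymm hge).trans Nat.cast_one
             w := hl.symm }, hr⟩
  obtain ⟨n, e, hinj, he⟩ := hfin.fin_param
  choose Γ hΓ using fun i : Fin n => hex (e i) (he ▸ ⟨i, rfl⟩)
  refine ⟨n, Γ, fun i j h => hinj ((hΓ i).symm.trans (h.trans (hΓ j))), ?_⟩
  rw [← he]
  exact congrArg Set.range (funext hΓ)

/-- An effective Cartier divisor in the closed fibre is `divI Γ a`. -/
theorem exists_eq_divI {X : Over (Spec (CommRingCat.of R))} (hX : ArSurf.IsArithSurface R X)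
    {I : X.left.IdealSheafData} (hI : BlowUp.IsEffCartierIdeal I)
    (hsupp : (I.support : Set X.left) ⊆ Models.specialFibreSet R X) :
    ∃ (r : ℕ) (Γ : Fin r → ArSurf.VertComp R X) (a : Fin r → ℕ),
      Function.Injective (fun i => Set.range (Γ i).ι) ∧ I = divI Γ a := by
  haveI := isProper_hom_of_isArithSurface hX
  haveI : IsLocallyNoetherian X.left := LocallyOfFiniteType.isLocallyNoetherian X.hom
  haveI : CompactSpace X.left := QuasiCompact.compactSpace_of_compactSpace X.hom
  haveI : AlgebraicGeometry.IsNoetherian X.left := {}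
  obtain ⟨r, Γ, hinj, hΓ⟩ := exists_componentList (X := X.left) (p := X.hom) hX
  have hint : ∀ i, IsIntegral (Γ i).ι.ker.subscheme := fun i => by
    haveI := (Γ i).isIntegral
    haveI : IsIso (Γ i).ι.toImage := inferInstance
    haveI : Nonempty (Γ i).ι.ker.subscheme := ⟨(Γ i).ι.toImage (genericPoint (Γ i).curve.left)⟩
    exact isIntegral_of_isOpenImmersion (inv (Γ i).ι.toImage)
  have hsub : (I.support : Set X.left) ⊆ ⋃ i, ((Γ i).ι.ker.support : Set (Over.mk X.hom).left) := fun x hx => by
    obtain ⟨Z, hZ, hxZ⟩ := exists_component (X := X) x (hsupp hx)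
    obtain ⟨i, hi⟩ := (hΓ ▸ hZ : Z ∈ Set.range fun i => Set.range (Γ i).ι)
    refine Set.mem_iUnion.2 ⟨i, ?_⟩
    rw [Scheme.Hom.support_ker]
    exact subset_closure ((show Set.range (Γ i).ι = Z from hi).symm ▸ hxZ)
  obtain ⟨a, ha⟩ := DivPart.exists_eq_prod I hI r (fun i => (Γ i).ι.ker)
    (fun i => isEffCartierIdeal_ker hX (Γ i)) hint hsub
  exact ⟨r, Γ, a, hinj, ha⟩

end Groth.Agent.Castel.VertAll
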