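import Groth.Agent.Castel.CanonContract
import Groth.Agent.Castel.VertDecomp
import Groth.Agent.Castel.NefMinimal
import Groth.Agent.Castel.ModelsInter
import Groth.Agent.W7Hull.AmpleSurj
import Groth.Agent.CurveRR.Ample
import Groth.Agent.S0054

/-!
Ampleness of the canonical sheaf on the canonical model.
-/

set_option autoImplicit false
set_option backward.isDefEq.respectTransparency false
set_option backward.isDefEq.respectTransparency.types false
set_option linter.style.haveILetI false

universe u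

open CategoryTheory CategoryTheory.Limits AlgebraicGeometry TopologicalSpace Opposite

noncomputable section

namespace Groth.Agent.Castel

variable {R : Type u} [CommRing R] [IsDomain R] [IsDiscreteValuationRing R] {X : Over (Spec (CommRingCat.of R))}
  (hX : ArSurf.IsArithSurface R X) {r : ℕ} (Γ : Fin r → ArSurf.VertComp R X)
  (hinj : Function.Injective fun i => Set.range (Γ i).ι)
  (hneg : ∀ a : Fin r → ℤ, a ≠ 0 → ∑ i, ∑ j, a i * a j * interMat Γ i j < 0)
  {Y : Over (Spec (CommRingCat.of R))} (f : X ⟶ Y)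
  (hfpt : ∀ i, ∃ y : Y.left, Set.range (((Γ i).ι ≫ f.left).base : (Γ i).curve.left → Y.left) = {y})
  {n : ℕ} (Δ : Fin n → ArSurf.VertComp R X) (hΔ : Models.IsComponentList R X Δ)
include hX hinj hneg hfpt hΔ

/-- Over each image of a contracted curve passes the image of a component which is not contracted. -/
theorem exists_comp_over (i₀ : Fin r) {y : Y.left}
    (hy : Set.range (((Γ i₀).ι ≫ f.left).base : (Γ i₀).curve.left → Y.left) = {y}) :
    ∃ k, (∀ i, Set.range (Δ k).ι ≠ Set.range (Γ i).ι) ∧ ∃ e, f.left ((Δ k).ι e) = y := by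
  classical
  haveI := isProper_hom_of_isArithSurface hX
  obtain ⟨-, hXi, hXd, hfl, -⟩ := id hX
  haveI := hXi
  haveI := hfl
  obtain ⟨J, hJ, heq, hout, hpos⟩ := exists_residual hX Γ hinj
  choose w hw using hfpt
  let S : Finset (Fin r) := Finset.univ.filter fun i => w i = y
  have hi₀ : i₀ ∈ S := by
    refine Finset.mem_filter.2 ⟨Finset.mem_univ _, ?_⟩
    have h := (hw i₀).symm.trans hy
    exact Set.singleton_eq_singleton_iff.1 h
  let a : Fin r → ℤ := fun i => if i ∈ S then (Models.mult R X (Γ i) : ℤ) else 0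
  have ha : a ≠ 0 := fun h => by
    have h1 := congrFun h i₀
    simp only [a, if_pos hi₀, Pi.zero_apply] at h1
    have := hpos i₀
    omega
  have hmeet : ∀ i ∈ S, ∀ j ∉ S, interMat Γ i j = 0 := fun i hi j hj => by
    have hne : i ≠ j := fun e => hj (e ▸ hi)
    rw [((interMat_facts hX Γ hinj).2.1 i j hne).2, Set.disjoint_left]
    rintro _ ⟨p, rfl⟩ ⟨q, hq⟩
    refine hj (Finset.mem_filter.2 ⟨Finset.mem_univ _, ?_⟩)
    have h1 : f.left ((Γ i).ι p) = w i := (hw i).subset ⟨p, rfl⟩
    have h2 : f.left ((Γ j).ι q) = w j := (hw j).subset ⟨q, rfl⟩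
    rw [hq, h1, (Finset.mem_filter.1 hi).2] at h2
    exact h2.symm
  have hS : ∀ i, a i * (∑ j, (Models.mult R X (Γ j) : ℤ) * interMat Γ i j) = ∑ j, a i * a j * interMat Γ i j := fun i => by
    rw [Finset.mul_sum]
    refine Finset.sum_congr rfl fun j _ => ?_
    by_cases hi : i ∈ S
    · by_cases hj : j ∈ S
      · simp only [a, if_pos hi, if_pos hj]; ring
      · simp only [a, if_pos hi, if_neg hj, hmeet i hi j hj]; ring
    · simp only [a, if_neg hi]; ring
  obtain ⟨i, -, hi⟩ : ∃ i ∈ Finset.univ, a i * (∑ j, (Models.mult R X (Γ j) : ℤ) * interMat Γ i j) < 0 := by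
    by_contra! hall
    have h1 := Finset.sum_nonneg hall
    rw [Finset.sum_congr rfl fun i _ => hS i] at h1
    exact absurd h1 (not_le.2 (hneg a ha))
  have hiS : i ∈ S := by
    by_contra h
    simp only [a, if_neg h, zero_mul, lt_irrefl] at hi
  obtain ⟨hP, hsum⟩ := degI_prod (Γ i) Finset.univ (fun j => (Γ j).ι.ker ^ Models.mult R X (Γ j))
    fun j => DivPart.cartier_pow (isEffCartierIdeal_ker hX (Γ j)) _
  have h := degI_mul (Γ i) hJ hP
  rw [← heq, degI_fibreIdeal, hsum] at h
  have h' : ∑ j, (Models.mult R X (Γ j) : ℤ) * interMat Γ i j = degI (Γ i) J := by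
    rw [Finset.sum_congr rfl fun j _ => by rw [interMat, mul_neg, ← degI_pow (Γ i) (isEffCartierIdeal_ker hX (Γ j))],
      Finset.sum_neg_distrib]
    omega
  have hne : degI (Γ i) J ≠ 0 := fun h0 => by rw [h', h0, mul_zero] at hi; exact lt_irrefl _ hi
  obtain ⟨x, hxΓ, hxJ⟩ := Set.not_disjoint_iff.1 fun hd => hne ((degI_nonpos (Γ i) hJ (hout i)).2.2 hd)
  have hJs : (J.support : Set X.left) ⊆ ⋃ k, Set.range (Δ k).ι := fun v hv => componentList_cover hΔ (by
    rw [← mem_support_fibreIdeal, heq, Scheme.IdealSheafData.support_mul]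
    exact Or.inl hv)
  obtain ⟨b, hb⟩ := exists_eq_divI_config hX Δ hJ hJs
  rw [hb] at hxJ
  have hxJ' : ∃ k, 1 ≤ b k ∧ x ∈ Set.range (Δ k).ι := by
    by_contra! hall
    have key : ∀ s : Finset (Fin n), x ∉ ((∏ k ∈ s, (Δ k).ι.ker ^ b k).support : Set X.left) := fun s => by
      induction s using Finset.induction with
      | empty =>
        rw [Finset.prod_empty, Scheme.IdealSheafData.one_eq_top, Scheme.IdealSheafData.support_top]
        exact fun h => h
      | insert c s hc ih =>
        rw [Finset.prod_insert hc, Scheme.IdealSheafData.support_mul]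
        rintro (hx | hx)
        · rcases Nat.eq_zero_or_pos (b c) with h0 | h0
          · rw [h0, pow_zero, Scheme.IdealSheafData.one_eq_top, Scheme.IdealSheafData.support_top] at hx
            exact hx
          · rw [Scheme.IdealSheafData.support_pow _ _ h0.ne', Scheme.Hom.support_ker,
              (Δ c).ι.isClosedEmbedding.isClosed_range.closure_eq] at hx
            exact hall c h0 hx
        · exact ih hx
    exact key Finset.univ hxJ
  obtain ⟨k, hk, e, rfl⟩ := hxJ'
  refine ⟨k, fun l hl => hout l ?_, e, ?_⟩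
  · rw [hb]
    exact (support_divI Δ b).2 k hk (hl ▸ (⟨genericPoint _, rfl⟩ : Models.genPtOf R X (Γ l) ∈ Set.range (Γ l).ι))
  · obtain ⟨p, hp⟩ := hxΓ
    rw [← hp]
    exact ((hw i).subset ⟨p, rfl⟩ : f.left ((Γ i).ι p) = w i).trans (Finset.mem_filter.1 hiS).2

omit hX hinj hneg hΔ in
/-- A vertical curve outside the configuration maps finitely. -/
theorem finite_of_not_contracted [IsProper X.hom] [IsProper Y.hom]
    (hfpre : f.left.base ⁻¹' (f.left.base '' ⋃ i, Set.range (Γ i).ι.base) = ⋃ i, Set.range (Γ i).ι.base)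
    (hfiso : ∀ V : Y.left.Opens, (V : Set Y.left) ∩ f.left.base '' (⋃ i, Set.range (Γ i).ι.base) = ∅ →
      IsIso (f.left ∣_ V)) (E : ArSurf.VertComp R X) (hE : ∀ i, Set.range E.ι ≠ Set.range (Γ i).ι) :
    IsFinite (E.ι ≫ f.left) := by
  haveI : IsProper f.left := by
    haveI : IsProper (f.left ≫ Y.hom) := by rw [Over.w f]; infer_instance
    exact IsProper.of_comp f.left Y.hom
  haveI := E.isIntegral
  haveI : IsLocallyNoetherian X.left := LocallyOfFiniteType.isLocallyNoetherian X.hom
  haveI : CompactSpace X.left := QuasiCompact.compactSpace_of_compactSpace X.hom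
  haveI : AlgebraicGeometry.IsNoetherian X.left := {}
  haveI : IsLocallyNoetherian E.curve.left := LocallyOfFiniteType.isLocallyNoetherian E.ι
  haveI : CompactSpace E.curve.left := QuasiCompact.compactSpace_of_compactSpace E.ι
  haveI : AlgebraicGeometry.IsNoetherian E.curve.left := {}
  haveI : LocallyQuasiFinite (E.ι ≫ f.left) := by
    refine LocallyQuasiFinite.of_finite_preimage_singleton _ fun y => ?_
    refine BiratCodimTwo.finite_of_no_specializations (E.ι ≫ f.left) y fun a c ha hc hs => ?_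
    by_contra hac
    have hdE : topologicalKrullDim E.curve.left = 1 := E.dim_eq
    have hgen := eq_genericPoint_of_dim_le_one hdE.le hs hac
    have hcl : IsClosed ({a} : Set E.curve.left) :=
      isClosed_of_ne_genericPoint hdE.le fun e => hac (hgen.trans e.symm)
    have hyc : IsClosed ({y} : Set Y.left) := by
      have := (E.ι ≫ f.left).isClosedMap _ hcl
      rwa [Set.image_singleton, ha] at this
    have hconst : ∀ z, (E.ι ≫ f.left) z = y := fun z => by
      rw [← Set.mem_singleton_iff, ← hyc.closure_eq, ← specializes_iff_mem_closure, ← hc, hgen]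
      exact (genericPoint_specializes z).map (E.ι ≫ f.left).continuous
    by_cases hyΔ : y ∈ f.left.base '' ⋃ i, Set.range (Γ i).ι.base
    · have hsub : Set.range E.ι ⊆ ⋃ i, Set.range (Γ i).ι.base := by
        rintro _ ⟨z, rfl⟩
        rw [← hfpre]
        exact (show f.left (E.ι z) ∈ _ by rw [← Scheme.Hom.comp_apply, hconst z]; exact hyΔ)
      obtain ⟨i, hi⟩ := Set.mem_iUnion.1 (hsub ⟨genericPoint _, rfl⟩)
      refine genPt_notMem (hE i) ?_
      rw [Scheme.Hom.support_ker]
      exact subset_closure hi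
    · have hc' : IsClosed (f.left.base '' ⋃ i, Set.range (Γ i).ι.base) := f.left.isClosedMap _
        (isClosed_iUnion_of_finite fun i => (Γ i).ι.isClosedEmbedding.isClosed_range)
      let V : Y.left.Opens := ⟨(f.left.base '' ⋃ i, Set.range (Γ i).ι.base)ᶜ, hc'.isOpen_compl⟩
      haveI := hfiso V (Set.compl_inter_self _)
      have hm : ∀ z, f.left (E.ι z) ∈ V := fun z => by
        rw [← Scheme.Hom.comp_apply, hconst z]; exact hyΔ
      refine hac (E.ι.isClosedEmbedding.injective (congrArg Subtype.val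
        ((f.left ∣_ V).isOpenEmbedding.injective (a₁ := ⟨E.ι c, hm c⟩) (a₂ := ⟨E.ι a, hm a⟩) (Subtype.ext (by
          rw [morphismRestrict_base_coe, morphismRestrict_base_coe]
          exact (hconst c).trans (hconst a).symm)))))
  haveI : IsProper E.curve.hom := isProper_curve E
  haveI : IsProper ((E.ι ≫ f.left) ≫ Y.hom) := by
    rw [Category.assoc, Over.w f]; infer_instance
  haveI : IsProper (E.ι ≫ f.left) := IsProper.of_comp _ Y.hom
  exact IsFinite.of_isProper_of_locallyQuasiFinite _

/-- The canonical sheaf of the canonical model is ample. -/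
theorem isAmple_canonical_model [IsIntegral Y.left] (hYdim : topologicalKrullDim Y.left = 2) [Flat Y.hom]
    (hYpr : Neron.IsProjectiveOver R Y)
    (hfpre : f.left.base ⁻¹' (f.left.base '' ⋃ i, Set.range (Γ i).ι.base) = ⋃ i, Set.range (Γ i).ι.base)
    (hfiso : ∀ V : Y.left.Opens, (V : Set Y.left) ∩ f.left.base '' (⋃ i, Set.range (Γ i).ι.base) = ∅ →
      IsIso (f.left ∣_ V))
    (hsurj : Function.Surjective f.left)
    {ωX : X.left.Modules} {ωY : Y.left.Modules} (hYi : PicF.IsInvertible ωY)
    (e : (Scheme.Modules.pullback f.left).obj ωY ≅ ωX)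
    (hpos : ∀ E : ArSurf.VertComp R X, (∀ i, Set.range E.ι ≠ Set.range (Γ i).ι) → 0 < ArSurf.inter R X ωX E) :
    CohB1.IsAmple ωY := by
  classical
  haveI := isProper_hom_of_isArithSurface hX
  haveI := PtBlow.isProper_of_isProjectiveOver hYpr
  haveI : IsLocallyNoetherian Y.left := LocallyOfFiniteType.isLocallyNoetherian Y.hom
  haveI : CompactSpace Y.left := QuasiCompact.compactSpace_of_compactSpace Y.hom
  haveI : AlgebraicGeometry.IsNoetherian Y.left := {}
  let s := IsLocalRing.closedPoint R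
  let F := Y.hom.fiber s
  let j : F ⟶ Y.left := Y.hom.fiberι s
  haveI : IsClosedImmersion j := IsClosedImmersion.of_isPreimmersion j (by
    rw [Y.hom.range_fiberι]; exact (IsLocalRing.isClosed_singleton_closedPoint R).preimage Y.hom.continuous)
  haveI : IsLocallyNoetherian F := LocallyOfFiniteType.isLocallyNoetherian j
  haveI : CompactSpace F := QuasiCompact.compactSpace_of_compactSpace j
  haveI : AlgebraicGeometry.IsNoetherian F := {}
  let κ := {k : Fin n // ∀ i, Set.range (Δ k).ι ≠ Set.range (Γ i).ι}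
  have hspec : ∀ (k : Fin n) (z : (Δ k).curve.left), Y.hom (((Δ k).ι ≫ f.left) z) = s := fun k z => by
    rw [← Scheme.Hom.comp_apply, Category.assoc, Over.w f, Scheme.Hom.comp_apply]
    exact range_subset_specialFibre (Δ k) ⟨z, rfl⟩
  have hlift : ∀ k : κ, ∃ l : (Δ k.1).curve.left ⟶ F, l ≫ j = (Δ k.1).ι ≫ f.left := fun k => by
    haveI := (Δ k.1).isIntegral
    exact RedSepLib.exists_lift_of_isReduced ((Δ k.1).ι ≫ f.left) j (by
      rintro _ ⟨z, rfl⟩
      rw [Y.hom.range_fiberι]
      exact hspec k.1 z)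
  choose l hl using hlift
  haveI : ∀ k : κ, IsFinite (l k) := fun k => by
    haveI : IsFinite (l k ≫ j) := by
      rw [hl k]; exact finite_of_not_contracted Γ f hfpt hfpre hfiso (Δ k.1) k.2
    exact IsFinite.of_comp (l k) j
  haveI : ∀ k : κ, IsProper (Δ k.1).curve.hom := fun k => isProper_curve (Δ k.1)
  have hcov : ∀ x : F, ∃ (k : κ) (z : (Δ k.1).curve.left), l k z = x := fun x => by
    suffices ∃ (k : κ) (z : (Δ k.1).curve.left), ((Δ k.1).ι ≫ f.left) z = j x by
      obtain ⟨k, z, hz⟩ := this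
      refine ⟨k, z, j.isEmbedding.injective ?_⟩
      rw [← Scheme.Hom.comp_apply, hl k, hz]
    obtain ⟨v, hv⟩ := hsurj (j x)
    have hjx : Y.hom (j x) = s := (Y.hom.range_fiberι s).le ⟨x, rfl⟩
    have hvs : v ∈ Models.specialFibreSet R X := by
      show X.hom v = IsLocalRing.closedPoint R
      rw [← Over.w f, Scheme.Hom.comp_apply, hv]
      exact hjx
    obtain ⟨k, z, rfl⟩ := Set.mem_iUnion.1 (componentList_cover hΔ hvs)
    by_cases hk : ∀ i, Set.range (Δ k).ι ≠ Set.range (Γ i).ι
    · exact ⟨⟨k, hk⟩, z, hv⟩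
    push Not at hk
    obtain ⟨i, hi⟩ := hk
    obtain ⟨y, hy⟩ := hfpt i
    obtain ⟨p, hp⟩ : (Δ k).ι z ∈ Set.range (Γ i).ι := hi ▸ ⟨z, rfl⟩
    have hyx : y = j x := by
      rw [← hv, ← hp]
      exact ((hy.subset ⟨p, rfl⟩ : f.left ((Γ i).ι p) = y)).symm
    obtain ⟨k', hk', z', hz'⟩ := exists_comp_over hX Γ hinj hneg f hfpt Δ hΔ i hy
    exact ⟨⟨k', hk'⟩, z', hz'.trans hyx⟩
  have hFi := PicLoc.isInvertible_pullback j hYi
  haveI : ∀ k : κ, IsProper ((Δ k.1).ι ≫ X.hom) := fun k => inferInstance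
  have hample : CohB1.IsAmple ((Scheme.Modules.pullback j).obj ωY) := by
    refine W7Hull.isAmple_of_pullbacks (κ := κ) (fun k => (Δ k.1).curve.left) (fun k => (Δ k.1).ι ≫ X.hom) l hcov _
      hFi fun k => ?_
    haveI := (Δ k.1).isIntegral
    haveI : IsProper ((Δ k.1).curve.left ↘ Spec (CommRingCat.of (IsLocalRing.ResidueField R))) := isProper_curve (Δ k.1)
    have c : (Scheme.Modules.pullback (l k)).obj ((Scheme.Modules.pullback j).obj ωY) ≅
        (Scheme.Modules.pullback (Δ k.1).ι).obj ωX :=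
      (Scheme.Modules.pullbackComp (l k) j).app ωY ≪≫ (Scheme.Modules.pullbackCongr (hl k)).app ωY ≪≫
        ((Scheme.Modules.pullbackComp (Δ k.1).ι f.left).app ωY).symm ≪≫ (Scheme.Modules.pullback _).mapIso e
    refine CurveRR.isAmple_of_deg_pos (k := IsLocalRing.ResidueField R) (Δ k.1).dim_eq
      (PicLoc.isInvertible_pullback (l k) hFi) ?_
    rw [Curv2.deg, CurveRR.euler_eq_of_iso c]
    exact (hpos (Δ k.1) k.2).trans_eq (inter_eq_deg (Δ k.1) ωX)
  haveI : IsLocallyNoetherian (Spec (CommRingCat.of R)) := inferInstance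
  obtain ⟨V, hsV, hV⟩ := Groth.Agent.S0054.result Y.hom ωY hYi s hample
  have hV' : V = ⊤ := (IsLocalRing.closedPoint_mem_iff _).1 hsV
  have h := hV ⊤ hV'.ge (isAffineOpen_top _)
  haveI : IsIso (Y.hom ⁻¹ᵁ (⊤ : (Spec (CommRingCat.of R)).Opens)).ι := by
    show IsIso (⊤ : Y.left.Opens).ι
    rw [← Scheme.topIso_hom]; infer_instance
  let t := (Y.hom ⁻¹ᵁ (⊤ : (Spec (CommRingCat.of R)).Opens)).ι
  have h4 := TMul.isAmple_pullback (inv t) (inv t).homeomorph.isInducing h
  exact TMul.isAmple_congr ((Scheme.Modules.pullback _).mapIso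
    ((Scheme.Modules.restrictFunctorIsoPullback _).app ωY) ≪≫
    (Scheme.Modules.pullbackComp _ _).app ωY ≪≫ (Scheme.Modules.pullbackCongr (IsIso.inv_hom_id _)).app ωY ≪≫
    (Scheme.Modules.pullbackId Y.left).app ωY) h4

end Groth.Agent.Castel
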