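import Groth.Agent.Castel.Twist

/-!
Vanishing of the first cohomology near a configuration of lines with good graded pieces.
-/

set_option autoImplicit false
set_option backward.isDefEq.respectTransparency false
set_option backward.isDefEq.respectTransparency.types false
set_option linter.style.haveILetI false

universe u

open CategoryTheory CategoryTheory.Limits AlgebraicGeometry TopologicalSpace Opposite
open Groth.Agent.QC (res resO resO_resO resO_self app_res res_smul res_self res_res)
open Groth.Agent.CohFinite (tmap tmap_tm shortExact_tmap)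
open Groth.Agent.W7Rees (hm qπ)
open TMul (tm)

noncomputable section

namespace Groth.Agent.Castel

variable {X : Scheme.{u}}

/-- Products of a sequence of ideal sheaves, as modules. -/
def chainMod (K : ℕ → X.IdealSheafData) : ℕ → X.Modules
  | 0 => Coh.structureModule X
  | n + 1 => CohB1.tensorMod (ClSub.idealMod (K n)) (chainMod K n)

theorem isInvertible_chainMod {K : ℕ → X.IdealSheafData} (hK : ∀ n, BlowUp.IsEffCartierIdeal (K n)) :
    ∀ n, PicF.IsInvertible (chainMod K n)
  | 0 => TMul.isInvertible_structureModule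
  | n + 1 => TMul.isInvertible_tensorMod ((S8914.result _).2 (hK n)) (isInvertible_chainMod hK n)

/-- The map to the structure module. -/
def chainIncl (K : ℕ → X.IdealSheafData) : ∀ n, chainMod K n ⟶ Coh.structureModule X
  | 0 => 𝟙 _
  | n + 1 => CurveRR.idealIncl (K n) (chainMod K n) ≫ chainIncl K n

variable {A : Type u} [CommRing A] [X.Over (Spec (CommRingCat.of A))]

theorem chainIncl_comp_qπ {K : ℕ → X.IdealSheafData} (hK : ∀ n, BlowUp.IsEffCartierIdeal (K n)) (n : ℕ)
    (J : Ideal A) (hJ : ∀ W : X.affineOpens, (∏ i ∈ Finset.range n, (K i).ideal W) ≤ J.map (baseFun W.1)) :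
    chainIncl K n ≫ qπ (Coh.structureModule X) J = 0 := by
  have key : ∀ m (U : X.Opens) (s : Γ(chainMod K m, U)), ∀ x ∈ U, ∃ (W : X.affineOpens) (hW : W.1 ≤ U),
      x ∈ W.1 ∧ res (Coh.structureModule X) hW ((chainIncl K m).app U s) ∈
        (∏ i ∈ Finset.range m, (K i).ideal W) • (⊤ : Submodule Γ(X, W.1) Γ(Coh.structureModule X, W.1)) := by
    intro m
    induction m with
    | zero =>
      intro U s x hx
      obtain ⟨W, hW, hxW, hle⟩ := exists_isAffineOpen_mem_and_subset hx
      exact ⟨⟨W, hW⟩, hle, hxW, by rw [Finset.prod_range_zero, one_smul]; trivial⟩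
    | succ m ih =>
      intro U s x hx
      obtain ⟨V, hV, e, hxV, he⟩ := CohFinite.exists_gen_le (isInvertible_chainMod hK m) hx
      obtain ⟨a, ha⟩ := (TMul.tm_bijective (M := ClSub.idealMod (K m)) he V le_rfl).2
        (res (chainMod K (m + 1)) hV s)
      simp only [res_self] at ha
      obtain ⟨W, hWV, hxW, hmem⟩ := ih V e x hxV
      refine ⟨W, hWV.trans hV, hxW, ?_⟩
      have hval : res (Coh.structureModule X) (hWV.trans hV) ((chainIncl K (m + 1)).app U s) =
          HSMul.hSMul (α := Γ(X, W.1)) (resO X hWV ((ClSub.idealModι (K m)).app V a))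
            (res (Coh.structureModule X) hWV ((chainIncl K m).app V e)) := by
        have h4 : (chainIncl K (m + 1)).app V (res (chainMod K (m + 1)) hV s) =
            HSMul.hSMul (α := Γ(X, V)) ((ClSub.idealModι (K m)).app V a) ((chainIncl K m).app V e) := by
          rw [← ha]
          exact (congrArg ((chainIncl K m).app V) (CurveRR.idealIncl_tm (K m) a e)).trans
            (Scheme.Modules.Hom.app_smul _ _ _)
        rw [← res_smul, ← h4, ← res_res _ hWV hV]
        exact congrArg _ (app_res (chainIncl K (m + 1)) hV s)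
      rw [hval, Finset.prod_range_succ, mul_comm, Submodule.mul_smul]
      refine Submodule.smul_mem_smul ?_ hmem
      exact (Groth.Agent.QC.mem_range_idealModι_affine (K m) W _).1
        ⟨res (ClSub.idealMod (K m)) hWV a, (app_res _ _ _).symm⟩
  refine Scheme.Modules.hom_ext _ _ fun U => ?_
  ext s
  refine Groth.Agent.QC.section_eq_of_locally fun x hx => ?_
  obtain ⟨W, hW, hxW, hmem⟩ := key n U s x hx
  refine ⟨W.1, hW, hxW, Eq.trans ?_ (map_zero (res _ hW)).symm⟩
  refine (app_res (qπ (Coh.structureModule X) J) hW _).trans ?_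
  refine Submodule.smul_induction_on (p := fun t => (qπ (Coh.structureModule X) J).app W.1 t = 0) hmem
    (fun a ha t _ => smul_mem_ker _ J W.1 t (hJ W ha)) fun a b ha hb => ?_
  rw [map_add, ha, hb, add_zero]

omit A in
/-- Multiplying by the ideal of a line is surjective on first cohomology when the piece has degree `≥ -1`. -/
theorem surjective_h1_idealIncl' [IsLocallyNoetherian X] {k : Type u} [Field k] {I : X.IdealSheafData}
    (ι₀ : CohB1.ProjSpace 1 k ⟶ X) [IsClosedImmersion ι₀] (hker : ι₀.ker = I)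
    {G : X.Modules} (hG : PicF.IsInvertible G) {a : ℤ} (ha : -1 ≤ a)
    (e : (Scheme.Modules.pullback ι₀).obj G ≅ Twist.twistProjSpace 1 k a) :
    Function.Surjective (hm (CurveRR.idealIncl I G) 1) := by
  intro x
  have hS := shortExact_tmap hG (CurveRR.ideal_shortExact I)
  have hT := hS.map_of_exact (CohQC.toAbF X)
  have h3 := subsingleton_h1_quot_of_iso ι₀ hker hG ha e
  let u := TMul.leftUnitIso G
  obtain ⟨y, hy⟩ := (CohFinite.map_g_eq_zero_iff hT 1 (hm u.inv 1 x)).1 (@Subsingleton.elim _ h3 _ _)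
  refine ⟨y, (W7Rees.hm_comp (tmap (ClSub.idealModι I) G) u.hom 1 y).trans ?_⟩
  rw [show hm (tmap (ClSub.idealModι I) G) 1 y = hm u.inv 1 x from hy]
  refine (W7Rees.hm_comp u.inv u.hom 1 x).symm.trans ?_
  rw [u.inv_hom_id]
  exact (congrArg (fun φ => Sheaf.H.map φ 1 x) (CategoryTheory.Functor.map_id _ _)).trans (Sheaf.H.map_id_apply _)

/-- If the graded pieces along a sequence of ideals, eventually in `P·O`, have no `H¹`, then `H¹` vanishes
at `P`. -/
theorem exists_notMem_smul_h1 [IsNoetherianRing A] [IsProper (X ↘ Spec (CommRingCat.of A))]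
    {K : ℕ → X.IdealSheafData} (hK : ∀ n, BlowUp.IsEffCartierIdeal (K n))
    (hsurj : ∀ n, Function.Surjective (hm (CurveRR.idealIncl (K n) (chainMod K n)) 1))
    (P : Ideal A) [P.IsPrime]
    (hc : ∀ j : ℕ, ∃ n, ∀ W : X.affineOpens, (∏ i ∈ Finset.range n, (K i).ideal W) ≤ (P ^ j).map (baseFun W.1)) :
    ∃ a ∉ P, ∀ x : Coh.HH X (Coh.structureModule X) 1, a • x = 0 := by
  haveI : IsLocallyNoetherian X := LocallyOfFiniteType.isLocallyNoetherian (X ↘ Spec (CommRingCat.of A))
  have hF : Coh.IsCoh (Coh.structureModule X) := ⟨TMul.isQCoh_of_isInvertible TMul.isInvertible_structureModule,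
    TMul.isFT_of_isInvertible TMul.isInvertible_structureModule⟩
  haveI := CohFinite.finite_proper (A := A) X (Coh.structureModule X) hF 1
  have hsurj' : ∀ j, Function.Surjective (hm (chainIncl K j) 1) := by
    intro j
    induction j with
    | zero =>
      exact fun x => ⟨x, (congrArg (fun φ => Sheaf.H.map φ 1 x) (CategoryTheory.Functor.map_id _ _)).trans
        (Sheaf.H.map_id_apply _)⟩
    | succ j ih =>
      intro x
      obtain ⟨y, rfl⟩ := ih x
      obtain ⟨z, rfl⟩ := hsurj j y
      exact ⟨z, (W7Rees.hm_comp _ _ 1 z).symm.symm⟩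
  obtain ⟨d, hd⟩ := W7Rees.exists_ker_le_pow P hF 1
  obtain ⟨n, hn⟩ := hc (1 + d)
  have htop : (⊤ : Submodule A (Coh.HH X (Coh.structureModule X) 1)) ≤ P • ⊤ := by
    intro x _
    obtain ⟨y, rfl⟩ := hsurj' n x
    have h0 : hm (qπ (Coh.structureModule X) (P ^ (1 + d))) 1 (hm (chainIncl K n) 1 y) = 0 := by
      refine (W7Rees.hm_comp _ _ 1 y).symm.trans ?_
      rw [chainIncl_comp_qπ hK n (P ^ (1 + d)) hn]
      refine (congrArg (fun φ => Sheaf.H.map φ 1 y) (Functor.map_zero _ _ _)).trans ?_
      change Abelian.Ext.comp y (Abelian.Ext.mk₀ 0) (add_zero 1) = 0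
      rw [Abelian.Ext.mk₀_zero, Abelian.Ext.comp_zero]
    have h1 := hd _ _ h0
    rwa [show 1 + d - d = 1 by omega, pow_one] at h1
  obtain ⟨r, hr, hrx⟩ := Submodule.exists_sub_one_mem_and_smul_eq_zero_of_fg_of_le_smul P ⊤ Module.Finite.fg_top htop
  refine ⟨r, fun h => ‹P.IsPrime›.ne_top ((Ideal.eq_top_iff_one P).2 ?_), fun x => hrx x trivial⟩
  simpa using P.sub_mem h hr

end Groth.Agent.Castel
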