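import Groth.Agent.Castel.DivFieldArith
import Groth.Agent.SteinGen.Factor
import Groth.Agent.LefConn.Basic

/-!
Cohomological flatness in degree zero when the multiplicities are coprime and the residue field is perfect.
-/

set_option autoImplicit false
set_option backward.isDefEq.respectTransparency false
set_option backward.isDefEq.respectTransparency.types false
set_option linter.style.haveILetI false

universe u

open CategoryTheory CategoryTheory.Limits AlgebraicGeometry TopologicalSpace Opposite
open scoped TensorProduct

noncomputable section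

namespace Groth.Agent.Castel

/-- A finite separable extension whose self tensor product has no nontrivial idempotents is trivial. -/
theorem surjective_algebraMap_of_connected {K L : Type u} [Field K] [Field L] [Algebra K L] [FiniteDimensional K L]
    [Algebra.IsSeparable K L] (h : ∀ e : L ⊗[K] L, IsIdempotentElem e → e = 0 ∨ e = 1) :
    Function.Surjective (algebraMap K L) := by
  haveI : Algebra.FormallyUnramified K L := Algebra.FormallyUnramified.of_isSeparable K L
  haveI : Subsingleton (Ω[L⁄K]) := inferInstance
  have hidem : IsIdempotentElem (KaehlerDifferential.ideal K L) :=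
    (Ideal.cotangent_subsingleton_iff _).1 ‹Subsingleton (Ω[L⁄K])›
  haveI : IsNoetherianRing (L ⊗[K] L) := IsNoetherianRing.of_finite L _
  obtain ⟨e, he, hI⟩ := (Ideal.isIdempotentElem_iff_of_fg _ (IsNoetherian.noetherian _)).1 hidem
  have hne : e ≠ 1 := by
    rintro rfl
    have h1 : (1 : L ⊗[K] L) ∈ KaehlerDifferential.ideal K L := hI ▸ Submodule.mem_span_singleton_self _
    rw [RingHom.mem_ker, map_one] at h1
    exact one_ne_zero h1
  have h0 : e = 0 := (h e he).resolve_right hne
  have hinj : Function.Injective (Algebra.TensorProduct.lmul' K (S := L)) := by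
    rw [injective_iff_map_eq_zero]
    intro x hx
    have hm : x ∈ KaehlerDifferential.ideal K L := hx
    rw [hI, h0] at hm
    simpa using hm
  have hdim : Module.finrank K (L ⊗[K] L) ≤ Module.finrank K L :=
    LinearMap.finrank_le_finrank_of_injective (f := (Algebra.TensorProduct.lmul' K (S := L)).toLinearMap) hinj
  rw [Module.finrank_tensorProduct] at hdim
  have hpos : 0 < Module.finrank K L := Module.finrank_pos
  have h1 : Module.finrank K L = 1 := by nlinarith
  intro x
  obtain ⟨c, hc⟩ := (finrank_eq_one_iff_of_nonzero' (1 : L) one_ne_zero).1 h1 x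
  exact ⟨c, by rw [Algebra.algebraMap_eq_smul_one, hc]⟩

/-- A field of functions on a geometrically connected part of a fibre is generated by the base. -/
theorem surjective_of_geomConn {X Y : Scheme.{u}} {A L : Type u} [CommRing A] [Field L] (q : X ⟶ Spec (CommRingCat.of A))
    [GeometricallyConnected q] (ι : Y ⟶ X) [IsClosedImmersion ι] (τ : Y ⟶ Spec (CommRingCat.of L)) [Nonempty Y]
    (α : A →+* L) (hw : ι ≫ q = τ ≫ Spec.map (CommRingCat.ofHom α)) (hfin : α.Finite) (hperf : ∀ (a : Ideal A),
      a = RingHom.ker α → ∀ h : IsField (A ⧸ a), letI := h.toField; PerfectField (A ⧸ a))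
    (hrange : ∀ x : X, q x = (Spec.map (CommRingCat.ofHom α)) (default : PrimeSpectrum L) → x ∈ Set.range ι) :
    Function.Surjective α := by
  let a := RingHom.ker α
  haveI : a.IsPrime := RingHom.ker_isPrime α
  let K := A ⧸ a
  let αK : K →+* L := Ideal.Quotient.lift a α (fun x hx => hx)
  have hinjK : Function.Injective αK := RingHom.lift_injective_of_ker_le_ideal _ _ le_rfl
  letI algK : Algebra K L := αK.toAlgebra
  letI algA : Algebra A L := α.toAlgebra
  haveI : IsScalarTower A K L := IsScalarTower.of_algebraMap_eq fun _ => rfl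
  haveI : Module.Finite A L := hfin
  haveI : Module.Finite K L := Module.Finite.of_restrictScalars_finite A K L
  haveI : Algebra.IsIntegral K L := inferInstance
  have hKf : IsField K := isField_of_isIntegral_of_isField hinjK (Field.toIsField L)
  letI := hKf.toField
  haveI : PerfectField K := hperf a rfl hKf
  suffices h : Function.Surjective (algebraMap K L) by
    intro x
    obtain ⟨c, hc⟩ := h x
    obtain ⟨b, rfl⟩ := Ideal.Quotient.mk_surjective c
    exact ⟨b, hc⟩
  refine surjective_algebraMap_of_connected fun e he => ?_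
  let j := Spec.map (CommRingCat.ofHom α)
  let P := pullback q j
  haveI : ConnectedSpace P := GeometricallyConnected.geometrically_connectedSpace (f := q) j (pullback.fst q j)
    (pullback.snd q j) (IsPullback.of_hasPullback q j)
  let Z := pullback (ι ≫ q) j
  let u : Z ⟶ P := pullback.map (ι ≫ q) j q j ι (𝟙 _) (𝟙 _) (by simp) (by simp)
  have hu : Function.Surjective u := fun z => by
    have hz : z ∈ Set.range u := by
      rw [Scheme.Pullback.range_map]
      refine ⟨hrange _ ?_, Set.mem_range.2 ⟨pullback.snd q j z, by simp⟩⟩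
      have h := congr($(pullback.condition (f := q) (g := j)) z)
      exact h.trans (congrArg j (Subsingleton.elim (α := PrimeSpectrum L) _ _))
    exact hz
  haveI : IsClosedImmersion u := by
    have hsq : IsPullback (pullback.fst (ι ≫ q) j) u ι (pullback.fst q j) := by
      refine IsPullback.of_bot ?_ (by simp [u]) (IsPullback.of_hasPullback q j)
      have hsnd : u ≫ pullback.snd q j = pullback.snd (ι ≫ q) j := by simp [u]
      rw [hsnd]
      exact IsPullback.of_hasPullback (ι ≫ q) j
    exact MorphismProperty.of_isPullback (P := @IsClosedImmersion) hsq inferInstance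
  haveI : ConnectedSpace Z := by
    have hh : IsHomeomorph u :=
      isHomeomorph_iff_isEmbedding_surjective.2 ⟨u.isClosedEmbedding.isEmbedding, hu⟩
    exact hh.homeomorph.symm.surjective.connectedSpace hh.homeomorph.symm.continuous
  let w : Z ⟶ pullback j j := pullback.map (ι ≫ q) j j j τ (𝟙 _) (𝟙 _) (by rw [Category.comp_id, hw]) (by simp)
  have hwsurj : Function.Surjective w := fun z => by
    have hz : z ∈ Set.range w := by
      rw [Scheme.Pullback.range_map]
      exact ⟨⟨Classical.arbitrary Y, Subsingleton.elim (α := PrimeSpectrum L) _ _⟩,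
        Set.mem_range.2 ⟨pullback.snd j j z, by simp⟩⟩
    exact hz
  haveI : ConnectedSpace ↥(pullback j j) := hwsurj.connectedSpace w.continuous
  haveI : ConnectedSpace ↥(Spec (CommRingCat.of (L ⊗[A] L))) :=
    ((pullbackSpecIso A L L).hom.homeomorph.surjective).connectedSpace (pullbackSpecIso A L L).hom.continuous
  haveI : TensorProduct.CompatibleSMul A K L L := ⟨fun k x y => by
    obtain ⟨b, rfl⟩ := Ideal.Quotient.mk_surjective k
    have hb : ∀ z : L, (Ideal.Quotient.mk a b : K) • z = b • z := fun z => by
      rw [Algebra.smul_def, Algebra.smul_def]; rfl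
    rw [hb, hb, TensorProduct.smul_tmul]⟩
  let φ : (L ⊗[A] L) ≃+* (L ⊗[K] L) :=
    (Algebra.TensorProduct.equivOfCompatibleSMul K A A L L).toRingEquiv
  have hidem : ∀ x : L ⊗[A] L, IsIdempotentElem x → x = 0 ∨ x = 1 := fun x hx => by
    let i := Scheme.ΓSpecIso (CommRingCat.of (L ⊗[A] L))
    rcases LefConn.idem_trivial (X := Spec (CommRingCat.of (L ⊗[A] L))) (hx.map i.inv.hom) with h | h
    · exact Or.inl ((ConcreteCategory.bijective_of_isIso i.inv).1 (h.trans (map_zero _).symm))
    · exact Or.inr ((ConcreteCategory.bijective_of_isIso i.inv).1 (h.trans (map_one _).symm))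
  rcases hidem (φ.symm e) (he.map φ.symm) with h | h
  · exact Or.inl (φ.symm.injective (h.trans (map_zero _).symm))
  · exact Or.inr (φ.symm.injective (h.trans (map_one _).symm))

variable {R : Type u} [CommRing R] [IsDomain R] [IsDiscreteValuationRing R]

/-- Restriction to a closed fibre with coprime multiplicities is surjective on functions. -/
theorem surjective_appTop_fibre [PerfectField (IsLocalRing.ResidueField R)] {X : Over (Spec (CommRingCat.of R))}
    (hA : ArSurf.IsArithSurface R X) (hconn : _root_.IsConnected (Models.specialFibreSet R X)) {n : ℕ}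
    (Γ : Fin n → ArSurf.VertComp R X) (hΓ : Models.IsComponentList R X Γ) (hgcd : Models.multGcd R X Γ = 1) :
    Function.Surjective (Models.specialFibreIdeal R X).subschemeι.appTop := by
  haveI := isProper_hom_of_isArithSurface hA
  let I := Models.specialFibreIdeal R X
  obtain ⟨hF, hfin, hk⟩ : GoodH0 X I := by
    obtain ⟨s, a, -, hal, -, hag⟩ := Arith.exists_chain hA hconn Γ hΓ
    have h := hag (Fin.last s)
    rw [hal] at h
    have he : (Arith.redMult Γ () : Fin n → ℕ) = fun j => Models.mult R X (Γ j) := funext fun j => by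
      simp only [Arith.redMult, hgcd, Nat.div_one]
    rw [he, ← show fibreIdeal X = divI Γ fun j => Models.mult R X (Γ j) from fibreIdeal_eq_prod hA Γ hΓ.1 (componentList_cover hΓ)] at h
    exact h
  let Y := I.subscheme
  let ι : Y ⟶ X.left := I.subschemeι
  letI := hF.toField
  haveI : Nonempty Y := by
    by_contra h
    haveI : IsEmpty Y := not_nonempty_iff.1 h
    exact one_ne_zero (Subsingleton.elim (1 : Γ(Y, ⊤)) 0)
  let N := X.hom.normalization
  haveI : IsAffine N := isAffine_of_isAffineHom X.hom.fromNormalization
  let A := Γ(N, ⊤)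
  let ψ : R →+* A := Coh.toGlobal X.hom.fromNormalization
  let q : X.left ⟶ Spec (CommRingCat.of A) := X.hom.toNormalization ≫ N.isoSpec.hom
  haveI : GeometricallyConnected q :=
    (MorphismProperty.cancel_right_of_respectsIso @GeometricallyConnected X.hom.toNormalization N.isoSpec.hom).2
      inferInstance
  let α : A →+* Γ(Y, ⊤) := (ι ≫ X.hom.toNormalization).appTop.hom
  have hcomp : α.comp ψ = toΓ X I := by
    refine RingHom.ext fun r => ?_
    have h := ConcreteCategory.congr_hom (congrArg Scheme.Hom.appTop
      (show (ι ≫ X.hom.toNormalization) ≫ X.hom.fromNormalization = ι ≫ X.hom by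
        rw [Category.assoc, X.hom.toNormalization_fromNormalization]))
      ((Scheme.ΓSpecIso (CommRingCat.of R)).inv r)
    simp only [Scheme.Hom.comp_appTop] at h
    exact h
  have hαfin : α.Finite := RingHom.Finite.of_comp_finite (f := ψ) (hcomp ▸ hfin)
  have hw : ι ≫ q = Y.toSpecΓ ≫ Spec.map (CommRingCat.ofHom α) :=
    (Category.assoc _ _ _).symm.trans (Scheme.toSpecΓ_naturality (ι ≫ X.hom.toNormalization))
  have hperf : ∀ (a : Ideal A), a = RingHom.ker α → ∀ h : IsField (A ⧸ a),
      letI := h.toField; PerfectField (A ⧸ a) := by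
    rintro a rfl hKf
    letI := hKf.toField
    let ρ : R →+* A ⧸ RingHom.ker α := (Ideal.Quotient.mk _).comp ψ
    have hρ : ∀ r ∈ IsLocalRing.maximalIdeal R, ρ r = 0 := fun r hr =>
      Ideal.Quotient.eq_zero_iff_mem.2 ((RingHom.congr_fun hcomp r).trans (hk r hr))
    let ρ' : IsLocalRing.ResidueField R →+* A ⧸ RingHom.ker α := Ideal.Quotient.lift _ ρ hρ
    let β : A ⧸ RingHom.ker α →+* Γ(Y, ⊤) := RingHom.kerLift α
    letI : Algebra (IsLocalRing.ResidueField R) (A ⧸ RingHom.ker α) := ρ'.toAlgebra
    letI : Algebra (IsLocalRing.ResidueField R) Γ(Y, ⊤) := (β.comp ρ').toAlgebra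
    haveI : Module.Finite (IsLocalRing.ResidueField R) Γ(Y, ⊤) := by
      have h1 : ((β.comp ρ').comp (IsLocalRing.residue R)).Finite := by
        rw [show (β.comp ρ').comp (IsLocalRing.residue R) = toΓ X I from RingHom.ext fun r => RingHom.congr_fun hcomp r]
        exact hfin
      exact RingHom.Finite.of_comp_finite h1
    let l : (A ⧸ RingHom.ker α) →ₐ[IsLocalRing.ResidueField R] Γ(Y, ⊤) := { β with commutes' := fun _ => rfl }
    haveI : Module.Finite (IsLocalRing.ResidueField R) (A ⧸ RingHom.ker α) :=
      Module.Finite.of_injective l.toLinearMap (RingHom.kerLift_injective α)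
    exact Algebra.IsAlgebraic.perfectField (K := IsLocalRing.ResidueField R)
  have hsurj := surjective_of_geomConn (X := X.left) (Y := Y) q ι Y.toSpecΓ α hw hαfin hperf fun x hx => by
    let y : Y := Classical.arbitrary Y
    have hy : q x = q (ι y) := hx.trans (by
      have h := congr($hw y)
      exact (congrArg (Spec.map (CommRingCat.ofHom α))
        (Subsingleton.elim (α := PrimeSpectrum Γ(Y, ⊤)) _ _)).trans h.symm)
    have hq : X.hom = q ≫ N.isoSpec.inv ≫ X.hom.fromNormalization := by simp [q, N]
    have hmem : X.hom x = IsLocalRing.closedPoint R := by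
      have hys : ι y ∈ Models.specialFibreSet R X :=
        (mem_support_fibreIdeal (ι y)).1 (I.range_subschemeι.subset ⟨y, rfl⟩)
      refine Eq.trans ?_ (Set.mem_singleton_iff.1 hys)
      rw [hq]
      exact congrArg (N.isoSpec.inv ≫ X.hom.fromNormalization) hy
    exact I.range_subschemeι.symm.subset ((mem_support_fibreIdeal x).2 (Set.mem_singleton_iff.2 hmem))
  intro s
  obtain ⟨a, ha⟩ := hsurj s
  refine ⟨X.hom.toNormalization.appTop a, ?_⟩
  refine Eq.trans ?_ ha
  show _ = (ι ≫ X.hom.toNormalization).appTop a
  rw [Scheme.Hom.comp_appTop]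
  rfl

end Groth.Agent.Castel
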