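import Groth.Agent.Castel.Local
import Groth.Agent.PurePair.FlatBC
import Groth.Agent.GrpField.FlatPoint
import Groth.Agent.Nakai.PullIdeal
import Mathlib.AlgebraicGeometry.Morphisms.FlatMono

/-!
Castelnuovo's criterion: a contraction with the right sections is a blow-up of a regular point.
-/

set_option autoImplicit false
set_option backward.isDefEq.respectTransparency false
set_option backward.isDefEq.respectTransparency.types false
set_option linter.style.haveILetI false

universe u

open CategoryTheory CategoryTheory.Limits AlgebraicGeometry TopologicalSpace Opposite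

noncomputable section

namespace Groth.Agent.Castel

/-- A flat preimmersion induces isomorphisms of stalks. -/
theorem isIso_stalkMap_of_flat {X Y : Scheme.{u}} (f : X ⟶ Y) [Flat f] [IsPreimmersion f] (x : X) :
    IsIso (f.stalkMap x) := by
  rw [ConcreteCategory.isIso_iff_bijective]
  refine ⟨?_, f.stalkMap_surjective x⟩
  letI := (f.stalkMap x).hom.toAlgebra
  haveI : Module.Flat (Y.presheaf.stalk (f x)) (X.presheaf.stalk x) := Flat.stalkMap f x
  haveI : IsLocalHom (algebraMap (Y.presheaf.stalk (f x)) (X.presheaf.stalk x)) :=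
    inferInstanceAs (IsLocalHom (f.stalkMap x).hom)
  haveI : Module.FaithfullyFlat (Y.presheaf.stalk (f x)) (X.presheaf.stalk x) :=
    Module.FaithfullyFlat.of_flat_of_isLocalHom
  exact FaithfulSMul.algebraMap_injective (Y.presheaf.stalk (f x)) (X.presheaf.stalk x)

theorem map_comp_eq_id {Y : Scheme.{u}} {U V : Y.Opensᵒᵖ} (a : U ⟶ V) (c : V ⟶ U) (_ : True) :
    Y.presheaf.map a ≫ Y.presheaf.map c = 𝟙 _ := by
  rw [← Functor.map_comp, Subsingleton.elim (a ≫ c) (𝟙 _), CategoryTheory.Functor.map_id]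

/-- Iso over an open is inherited by base change. -/
theorem isIso_restrict_fst {X X' Y : Scheme.{u}} (j : Y ⟶ X') (b : X ⟶ X') (U : X'.Opens) [IsIso (b ∣_ U)] :
    IsIso (pullback.fst j b ∣_ j ⁻¹ᵁ U) := by
  have P3 := (isPullback_morphismRestrict (pullback.fst j b) (j ⁻¹ᵁ U)).flip.paste_horiz
    (IsPullback.of_hasPullback j b).flip
  have P4 := (isPullback_morphismRestrict b U).flip
  have w : ((pullback.fst j b ⁻¹ᵁ (j ⁻¹ᵁ U)).ι ≫ pullback.snd j b) ≫ b =
      ((pullback.fst j b ∣_ j ⁻¹ᵁ U) ≫ (j ∣_ U)) ≫ U.ι := by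
    simpa only [Category.assoc, morphismRestrict_ι] using P3.w
  let l := P4.lift _ _ w
  have P5 : IsPullback l (pullback.fst j b ∣_ j ⁻¹ᵁ U) (b ∣_ U) (j ∣_ U) := by
    refine IsPullback.of_right ?_ (P4.lift_snd _ _ w) P4
    rw [P4.lift_fst, morphismRestrict_ι j U]
    exact P3
  exact MorphismProperty.of_isPullback (P := MorphismProperty.isomorphisms Scheme) P5 ‹_›

/-- Inclusions of ideal sheaves are detected at stalks along a flat preimmersion. -/
theorem le_of_comap_le {Z X : Scheme.{u}} (v : Z ⟶ X) [Flat v] [IsPreimmersion v] (J K : X.IdealSheafData)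
    (hc : J.comap v ≤ K.comap v) (hoff : ∀ x, x ∉ Set.range v → x ∉ K.support) : J ≤ K := by
  intro W t ht
  refine mem_ideal_of_locally K W t fun x hx => ?_
  obtain ⟨s, hxs, hs⟩ : ∃ s : Γ(X, W.1), x ∈ X.basicOpen s ∧ s * t ∈ K.ideal W := by
    by_cases hxr : x ∈ Set.range v
    · obtain ⟨z, rfl⟩ := hxr
      obtain ⟨W', hW', hzW', hle⟩ := exists_isAffineOpen_mem_and_subset (x := z) (U := v ⁻¹ᵁ W.1) hx
      have h1 : (v.appLE W.1 W' hle).hom t ∈ (K.comap v).ideal ⟨W', hW'⟩ := by
        refine hc ⟨W', hW'⟩ ?_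
        rw [show (J.comap v).ideal ⟨W', hW'⟩ = _ from
          Groth.Agent.FpqcDescent.ideal_comap_appLE J v W ⟨W', hW'⟩ hle]
        exact Ideal.mem_map_of_mem _ ht
      rw [show (K.comap v).ideal ⟨W', hW'⟩ = _ from
        Groth.Agent.FpqcDescent.ideal_comap_appLE K v W ⟨W', hW'⟩ hle] at h1
      have h2 := Ideal.mem_map_of_mem (Z.presheaf.germ W' z hzW').hom h1
      rw [Ideal.map_map, ← CommRingCat.hom_comp] at h2
      have hg : v.appLE W.1 W' hle ≫ Z.presheaf.germ W' z hzW' = X.presheaf.germ W.1 (v z) hx ≫ v.stalkMap z := by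
        rw [Scheme.Hom.appLE, Category.assoc, Z.presheaf.germ_res, v.germ_stalkMap]
      haveI := isIso_stalkMap_of_flat v z
      rw [← CommRingCat.comp_apply, hg, CommRingCat.hom_comp, ← Ideal.map_map, CommRingCat.comp_apply] at h2
      obtain ⟨c, hc', hce⟩ := (Ideal.mem_map_iff_of_surjective _
        (ConcreteCategory.bijective_of_isIso (v.stalkMap z)).2).1 h2
      rw [(ConcreteCategory.bijective_of_isIso (v.stalkMap z)).1 hce] at hc'
      letI := TopCat.Presheaf.algebra_section_stalk X.presheaf (⟨v z, hx⟩ : W.1)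
      haveI := W.2.isLocalization_stalk ⟨v z, hx⟩
      obtain ⟨s, hs, hst⟩ := (IsLocalization.algebraMap_mem_map_algebraMap_iff
        (M := (W.2.primeIdealOf ⟨v z, hx⟩).asIdeal.primeCompl) (S := X.presheaf.stalk (v z)) _ t).1 hc'
      exact ⟨s, (X.mem_basicOpen s (v z) hx).2
        (IsLocalization.map_units (X.presheaf.stalk (v z)) ⟨s, hs⟩), hst⟩
    · have h := hoff x hxr
      rw [Scheme.IdealSheafData.mem_support_iff_of_mem hx, Scheme.mem_zeroLocus_iff] at h
      push_neg at h
      obtain ⟨s, hs, hxs⟩ := h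
      exact ⟨s, hxs, Ideal.mul_mem_right _ _ hs⟩
  refine ⟨X.affineBasicOpen s, X.basicOpen_le s, hxs, ?_⟩
  have h3 : QC.resO X (X.basicOpen_le s) (s * t) ∈ K.ideal (X.affineBasicOpen s) := by
    rw [← K.map_ideal (U := X.affineBasicOpen s) (V := W) (X.basicOpen_le s)]
    exact Ideal.mem_map_of_mem _ hs
  rw [map_mul] at h3
  exact (Ideal.unit_mul_mem_iff_mem _ (X.toRingedSpace.isUnit_res_basicOpen s)).1 h3

/-- A proper morphism with the right sections contracting exactly an exceptional curve is a contraction of it. -/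
theorem isContractionOf {E X X' : Scheme.{u}} [IsNoetherian X'] (ι : E ⟶ X) [IsClosedImmersion ι]
    (hE : Models.IsExcCurve ι) (b : X ⟶ X') [IsProper b] (hb : ∀ V : X'.Opens, Function.Bijective (b.app V))
    (y : X') (hy : IsClosed ({y} : Set X')) (hfib : b ⁻¹' {y} = Set.range ι)
    (hiso : IsIso (b ∣_ (Scheme.IdealSheafData.vanishingIdeal ⟨{y}, hy⟩).support.compl)) :
    Models.IsContractionOf ι b := by
  obtain ⟨hI, k, _, eP, ⟨e⟩⟩ := hE
  haveI : IsLocallyNoetherian X := LocallyOfFiniteType.isLocallyNoetherian b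
  haveI : CompactSpace X := QuasiCompact.compactSpace_of_compactSpace b
  haveI : IsNoetherian X := {}
  haveI : IsIntegral (CohB1.ProjSpace 1 k) := Horrocks.isIntegral_projSpace
  let ι₀ := eP.hom ≫ ι
  have hker₀ : ι₀.ker = ι.ker := Scheme.Hom.ker_comp_of_isIso eP.hom ι
  have hrange₀ : Set.range ι₀ = Set.range ι := by
    refine subset_antisymm (fun _ ⟨z, hz⟩ => ⟨eP.hom z, hz⟩) fun _ ⟨z, hz⟩ => ?_
    obtain ⟨w, rfl⟩ := eP.hom.surjective z
    exact ⟨w, hz⟩
  -- base change to the local ring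
  let A := X'.presheaf.stalk y
  let j : Spec (CommRingCat.of A) ⟶ X' := X'.fromSpecStalk y
  haveI : Flat j := GrpField.flat_fromSpecStalk y
  haveI : IsPreimmersion j := inferInstanceAs (IsPreimmersion (X'.fromSpecStalk y))
  haveI : IsNoetherianRing A := inferInstanceAs (IsNoetherianRing (X'.presheaf.stalk y))
  let X₁ := pullback j b
  letI : X₁.Over (Spec (CommRingCat.of A)) := ⟨pullback.fst j b⟩
  haveI : IsProper (X₁ ↘ Spec (CommRingCat.of A)) := inferInstanceAs (IsProper (pullback.fst j b))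
  let v : X₁ ⟶ X := pullback.snd j b
  haveI : Flat v := inferInstanceAs (Flat (pullback.snd j b))
  haveI : IsPreimmersion v := inferInstanceAs (IsPreimmersion (pullback.snd j b))
  have hjy : j (IsLocalRing.closedPoint A) = y := Scheme.fromSpecStalk_closedPoint
  have hinj : ∀ z, j z = y → z = IsLocalRing.closedPoint A := fun z hz =>
    j.isEmbedding.injective (hz.trans hjy.symm)
  -- the curve lifts
  haveI : QuasiCompact j := inferInstanceAs (QuasiCompact (X'.fromSpecStalk y))
  haveI : QuasiCompact v := inferInstanceAs (QuasiCompact (pullback.snd j b))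
  let r := pullback.fst ι₀ v
  haveI : Flat r := inferInstanceAs (Flat (pullback.fst ι₀ v))
  haveI : QuasiCompact r := inferInstanceAs (QuasiCompact (pullback.fst ι₀ v))
  haveI : Mono r := inferInstanceAs (Mono (pullback.fst ι₀ v))
  haveI : Surjective r := ⟨fun z => by
    have hz : b (ι₀ z) = y := hfib.ge (hrange₀.le ⟨z, rfl⟩)
    obtain ⟨x₁, -, hx₁⟩ := Scheme.Pullback.exists_preimage_pullback _ _ (hjy.trans hz.symm)
    obtain ⟨w, hw, -⟩ := Scheme.Pullback.exists_preimage_pullback z x₁ hx₁.symm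
    exact ⟨w, hw⟩⟩
  haveI : IsIso r := Flat.isIso_of_surjective_of_mono r
  let ι₁ : CohB1.ProjSpace 1 k ⟶ X₁ := inv r ≫ pullback.snd ι₀ v
  haveI : IsClosedImmersion ι₁ := inferInstanceAs (IsClosedImmersion (inv r ≫ pullback.snd ι₀ v))
  have hι₁ : ι₁ ≫ v = ι₀ := by
    rw [Category.assoc, ← pullback.condition, IsIso.inv_hom_id_assoc]
  let I₁ := ι.ker.comap v
  have hI₁ : BlowUp.IsEffCartierIdeal I₁ := BlowUpLib.cartier_comap_flat hI v
  have hker₁ : ι₁.ker = I₁ := by
    have h1 : ι₁.ker = (pullback.snd ι₀ v).ker := Scheme.Hom.ker_comp_of_isIso (inv r) _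
    have h2 : pullback.snd ι₀ v = (pullbackSymmetry ι₀ v).hom ≫ pullback.fst v ι₀ :=
      (pullbackSymmetry_hom_comp_fst _ _).symm
    let T := pullback.map v ι₀ v ι₀.ker.subschemeι (𝟙 _) ι₀.toImage (𝟙 _) (by simp)
      (by rw [Category.comp_id]; exact ι₀.toImage_imageι.symm)
    haveI : IsIso T := inferInstance
    have h3 : pullback.fst v ι₀ = T ≫ pullback.fst v ι₀.ker.subschemeι := by
      rw [pullback.lift_fst, Category.comp_id]
    rw [h1, h2, Scheme.Hom.ker_comp_of_isIso, h3, Scheme.Hom.ker_comp_of_isIso]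
    change ι₀.ker.comap v = ι.ker.comap v
    rw [hker₀]
  obtain ⟨q⟩ := Nakai.nonempty_pullback_idealMod v hI hI₁
  let e₁ : (Scheme.Modules.pullback ι₁).obj (ClSub.idealMod I₁) ≅ Twist.twistProjSpace 1 k 1 :=
    (Scheme.Modules.pullback ι₁).mapIso q.symm ≪≫ (Scheme.Modules.pullbackComp ι₁ v).app _ ≪≫
      (Scheme.Modules.pullbackCongr hι₁).app _ ≪≫ e
  have hfib₁ : ∀ x : X₁, (X₁ ↘ Spec (CommRingCat.of A)) x = IsLocalRing.closedPoint A ↔ x ∈ I₁.support := by
    intro x
    have hc : j (pullback.fst j b x) = b (v x) := by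
      rw [← Scheme.Hom.comp_apply, ← Scheme.Hom.comp_apply]
      exact congrArg (fun φ : X₁ ⟶ X' => φ x) pullback.condition
    have hs : x ∈ I₁.support ↔ b (v x) = y := by
      rw [← SetLike.mem_coe, Scheme.IdealSheafData.support_comap]
      change v x ∈ (ι.ker.support : Set X) ↔ _
      rw [Scheme.Hom.support_ker, ι.isClosedMap.isClosed_range.closure_eq, ← hfib]
      rfl
    rw [hs]
    exact ⟨fun h => hc.symm.trans ((congrArg j h).trans hjy), fun h => hinj _ (hc.trans h)⟩
  have hA : Function.Bijective (Coh.toGlobal (X₁ ↘ Spec (CommRingCat.of A))) := by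
    have h1 := PurePair.bijective_app_of_flat_baseChange j b (fun V _ => hb V)
      (IsPullback.of_hasPullback j b) ⊤
    have h2 := Function.Bijective.comp h1
      (ConcreteCategory.bijective_of_isIso (Scheme.ΓSpecIso (CommRingCat.of A)).inv)
    rw [show Coh.toGlobal (X₁ ↘ Spec (CommRingCat.of A)) =
      ((pullback.fst j b).app ⊤).hom.comp (Scheme.ΓSpecIso (CommRingCat.of A)).inv.hom from rfl]
    exact h2
  set V := Scheme.IdealSheafData.vanishingIdeal (X := X') ⟨{y}, hy⟩ with hV
  have hVsupp : ∀ z, z ∈ V.support.compl ↔ z ≠ y := fun z => by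
    show z ∉ (V.support : Set X') ↔ _
    rw [hV, Scheme.IdealSheafData.coe_support_vanishingIdeal]
    rfl
  have hpunct : punct A = j ⁻¹ᵁ V.support.compl := by
    ext z
    show z ∉ (ptIdeal A).support ↔ j z ∈ V.support.compl
    rw [hVsupp, mem_support_ptIdeal]
    exact ⟨fun h h' => h (hinj z h'), fun h h' => h (h'.symm ▸ hjy)⟩
  have hiso₁ : IsIso ((X₁ ↘ Spec (CommRingCat.of A)) ∣_ punct A) := by
    rw [hpunct]
    exact isIso_restrict_fst j b V.support.compl
  obtain ⟨hreg, hdim, hbl, hcomap⟩ := local_blowUp hA hI₁ ι₁ hker₁ e₁ hfib₁ hiso₁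
  have hreg' : IsRegularLocalRing (X'.presheaf.stalk y) := hreg
  have hyreg : PtBlow.IsRegPt X' y := ⟨hy, hreg', hdim⟩
  have hpt : V.comap j = ptIdeal A := by
    let T : (Spec (CommRingCat.of A)).affineOpens := ⟨⊤, isAffineOpen_top _⟩
    obtain ⟨W, hW, hyW, -⟩ := exists_isAffineOpen_mem_and_subset (x := y) (U := ⊤) trivial
    have hjW : (T.1 : (Spec (CommRingCat.of A)).Opens) ≤ j ⁻¹ᵁ W := fun z _ => by
      have hz : j z ⤳ y := by
        have := (Scheme.range_fromSpecStalk (X := X') (x := y)).le ⟨z, rfl⟩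
        exact this
      exact hz.mem_open W.2 hyW
    have hVW : V.ideal ⟨W, hW⟩ = (hW.primeIdealOf ⟨y, hyW⟩).asIdeal := by
      rw [hV, Scheme.IdealSheafData.vanishingIdeal_ideal]
      have : hW.fromSpec ⁻¹' ({y} : Set X') = {hW.primeIdealOf ⟨y, hyW⟩} := by
        ext q
        refine ⟨fun hq => hW.fromSpec.isOpenEmbedding.injective ?_, fun hq => ?_⟩
        · exact (hq : hW.fromSpec q = y).trans (hW.fromSpec_primeIdealOf ⟨y, hyW⟩).symm
        · rw [Set.mem_singleton_iff.1 hq]
          exact hW.fromSpec_primeIdealOf ⟨y, hyW⟩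
      rw [show hW.fromSpec ⁻¹' ((⟨{y}, hy⟩ : Closeds X') : Set X') = _ from this,
        PrimeSpectrum.vanishingIdeal_singleton]
    refine Scheme.IdealSheafData.ext_of_isAffine ?_
    rw [show (V.comap j).ideal T = _ from
      Groth.Agent.FpqcDescent.ideal_comap_appLE V j ⟨W, hW⟩ T hjW, hVW, ptIdeal,
      Scheme.IdealSheafData.ofIdealTop_ideal]
    have happ : j.appLE W ⊤ hjW = X'.presheaf.germ W y hyW ≫ (Scheme.ΓSpecIso (X'.presheaf.stalk y)).inv := by
      rw [Scheme.Hom.appLE, Scheme.fromSpecStalk_app hyW, Category.assoc, Category.assoc]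
      refine congrArg (_ ≫ ·) ((congrArg (_ ≫ ·) ?_).trans (Category.comp_id _))
      exact map_comp_eq_id _ _ trivial
    change Ideal.map (j.appLE W ⊤ hjW).hom _ = _
    rw [happ, CommRingCat.hom_comp, ← Ideal.map_map]
    letI := TopCat.Presheaf.algebra_section_stalk X'.presheaf (⟨y, hyW⟩ : W)
    haveI := hW.isLocalization_stalk ⟨y, hyW⟩
    rw [show (hW.primeIdealOf ⟨y, hyW⟩).asIdeal.map (X'.presheaf.germ W y hyW).hom = IsLocalRing.maximalIdeal A from
      IsLocalization.AtPrime.map_eq_maximalIdeal (hW.primeIdealOf ⟨y, hyW⟩).asIdeal (X'.presheaf.stalk y)]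
    simp only [T, homOfLE_refl, op_id, CategoryTheory.Functor.map_id, CommRingCat.hom_id, Ideal.map_id]
    rfl
  obtain ⟨P, g, hg⟩ := PtBlow.exists_blowUp hyreg
  have hg' := BlowUpLib.isBlowUp_flat j hg
  rw [show (PtBlow.pt hyreg).comap j = ptIdeal A from hpt] at hg'
  have hcart : BlowUp.IsEffCartierIdeal (V.comap b) := by
    have hv : (V.comap b).comap v = I₁ := by
      rw [← Scheme.IdealSheafData.comap_comp, ← pullback.condition, Scheme.IdealSheafData.comap_comp, hpt]
      exact hcomap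
    have hoff : ∀ x, x ∉ Set.range v → b x ≠ y := fun x hx hxy => by
      obtain ⟨x₁, -, h₁⟩ := Scheme.Pullback.exists_preimage_pullback _ _ (hjy.trans hxy.symm)
      exact hx ⟨x₁, h₁⟩
    have heq : V.comap b = ι.ker := le_antisymm
      (le_of_comap_le v _ _ hv.le fun x hx hm => hoff x hx (by
        rw [← SetLike.mem_coe, Scheme.Hom.support_ker, ι.isClosedMap.isClosed_range.closure_eq, ← hfib] at hm
        exact hm))
      (le_of_comap_le v _ _ hv.ge fun x hx hm => hoff x hx (by
        rw [← SetLike.mem_coe, Scheme.IdealSheafData.support_comap] at hm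
        exact not_not.1 fun hne => (hVsupp (b x)).2 hne hm))
    rw [heq]
    exact hI
  obtain ⟨h, hh, -⟩ := hg.2 X b hcart
  haveI : IsProper g := PtBlow.isProper_blowUp hyreg hg
  haveI : IsProper (h ≫ g) := by rw [hh]; infer_instance
  haveI : IsProper h := IsProper.of_comp h g
  let h₁ : X₁ ⟶ pullback j g :=
    pullback.map j b j g (𝟙 _) h (𝟙 _) (by simp) (by rw [hh, Category.comp_id])
  haveI : IsIso h₁ := by
    obtain ⟨i, hi, huniq⟩ := hbl.2 _ (pullback.fst j g) hg'.1
    have h1 : h₁ ≫ pullback.fst j g = pullback.fst j b := by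
      rw [pullback.lift_fst, Category.comp_id]
    obtain ⟨_, -, hu⟩ := hbl.2 X₁ (X₁ ↘ Spec (CommRingCat.of A)) hbl.1
    obtain ⟨_, -, hu'⟩ := hg'.2 _ (pullback.fst j g) hg'.1
    refine ⟨⟨i, ?_, ?_⟩⟩
    · refine (hu (h₁ ≫ i) ?_).trans (hu (𝟙 X₁) (Category.id_comp _)).symm
      show (h₁ ≫ i) ≫ (X₁ ↘ Spec (CommRingCat.of A)) = _
      rw [Category.assoc, hi]; exact h1
    · refine (hu' (i ≫ h₁) ?_).trans (hu' (𝟙 _) (Category.id_comp _)).symm
      show (i ≫ h₁) ≫ pullback.fst j g = _
      rw [Category.assoc, h1]; exact hi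
  let w : pullback j g ⟶ P := pullback.snd j g
  haveI : Flat w := inferInstanceAs (Flat (pullback.snd j g))
  haveI : IsPreimmersion w := inferInstanceAs (IsPreimmersion (pullback.snd j g))
  have hw : h₁ ≫ w = v ≫ h := pullback.lift_snd _ _ _
  set U := V.support.compl with hU
  haveI : IsIso (g ∣_ U) := BlowUpLib.isIso_restrict hg
  haveI := hiso
  have hhU : IsIso (h ∣_ g ⁻¹ᵁ U) := by
    haveI : IsIso ((h ≫ g) ∣_ U) := by rw [hh]; exact hiso
    rw [morphismRestrict_comp] at *
    exact IsIso.of_isIso_comp_right (h ∣_ g ⁻¹ᵁ U) (g ∣_ U)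
  have hgh : ∀ x, g (h x) = b x := fun x => by rw [← Scheme.Hom.comp_apply, hh]
  have hlift : ∀ x, b x = y → ∃ x₁ : X₁, v x₁ = x := fun x hx =>
    (Scheme.Pullback.exists_preimage_pullback _ _ (hjy.trans hx.symm)).imp fun _ h => h.2
  haveI : IsIso h := by
    rw [isIso_iff_isIso_stalkMap]
    refine ⟨?_, fun x => ?_⟩
    · have hbij : Function.Bijective h := by
        refine ⟨fun x x' hxx => ?_, fun p => ?_⟩
        · have hbx : b x = b x' := by rw [← hgh, ← hgh, hxx]
          by_cases hxy : b x = y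
          · obtain ⟨x₁, rfl⟩ := hlift x hxy
            obtain ⟨x₁', rfl⟩ := hlift x' (hbx.symm.trans hxy)
            refine congrArg v (h₁.homeomorph.injective (w.isEmbedding.injective ?_))
            show w (h₁ x₁) = w (h₁ x₁')
            rw [← Scheme.Hom.comp_apply, ← Scheme.Hom.comp_apply, hw]
            exact hxx
          · have hxU : h x ∈ g ⁻¹ᵁ U := show g (h x) ∈ U by rw [hgh]; exact (hVsupp _).2 hxy
            haveI := hhU
            exact congrArg Subtype.val ((h ∣_ g ⁻¹ᵁ U).isOpenEmbedding.injective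
              (a₁ := ⟨x, hxU⟩) (a₂ := ⟨x', show h x' ∈ g ⁻¹ᵁ U from hxx ▸ hxU⟩)
              (Subtype.ext (by rw [morphismRestrict_base_coe, morphismRestrict_base_coe]; exact hxx)))
        · by_cases hp : g p = y
          · obtain ⟨p₁, -, hp₁⟩ := Scheme.Pullback.exists_preimage_pullback _ _ (hjy.trans hp.symm)
            obtain ⟨x₁, rfl⟩ := h₁.surjective p₁
            refine ⟨v x₁, ?_⟩
            rw [← Scheme.Hom.comp_apply, ← hw]
            exact hp₁
          · haveI := hhU
            obtain ⟨z, hz⟩ := (h ∣_ g ⁻¹ᵁ U).surjective ⟨p, show g p ∈ U from (hVsupp _).2 hp⟩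
            exact ⟨z.1, (morphismRestrict_base_coe h _ z).symm.trans (congrArg Subtype.val hz)⟩
      exact TopCat.isIso_of_bijective_of_isClosedMap h.base hbij h.isClosedMap
    · by_cases hxy : b x = y
      · obtain ⟨x₁, rfl⟩ := hlift x hxy
        haveI := isIso_stalkMap_of_flat v x₁
        haveI := isIso_stalkMap_of_flat w (h₁ x₁)
        have h1 : IsIso ((v ≫ h).stalkMap x₁) := by
          rw [← hw, Scheme.Hom.stalkMap_comp]
          infer_instance
        rw [Scheme.Hom.stalkMap_comp] at h1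
        exact IsIso.of_isIso_comp_right (h.stalkMap (v x₁)) (v.stalkMap x₁)
      · have hxU : h x ∈ g ⁻¹ᵁ U := show g (h x) ∈ U by rw [hgh]; exact (hVsupp _).2 hxy
        haveI := hhU
        rw [← MorphismProperty.isomorphisms.iff, ← (MorphismProperty.isomorphisms CommRingCat).arrow_mk_iso_iff
          (morphismRestrictStalkMap h (g ⁻¹ᵁ U) ⟨x, hxU⟩)]
        exact inferInstanceAs (IsIso ((h ∣_ g ⁻¹ᵁ U).stalkMap _))
  have hEy : Set.range ((ι ≫ b).base : E → X') = {y} := by
    have hne : Nonempty E := (inferInstance : Nonempty (CohB1.ProjSpace 1 k)).map eP.hom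
    refine subset_antisymm ?_ ?_
    · rintro _ ⟨z, rfl⟩
      exact hfib.ge ⟨z, rfl⟩
    · rintro _ rfl
      obtain ⟨z⟩ := hne
      exact ⟨z, hfib.ge ⟨z, rfl⟩⟩
  refine ⟨inferInstance, inferInstance, y, hy, hEy, hreg', hdim, ?_⟩
  rw [← hh]
  exact RZExt.isBlowUp_iso_comp hg h

end Groth.Agent.Castel
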