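import Groth.Agent.Castel.FundLocal
import Groth.Agent.Castel.ThickGG
import Groth.Agent.Castel.Global
import Groth.Agent.ThickSys.Sheaf
import Groth.Agent.Nakai.PullIdeal

/-!
Divisors over a point seen in the base change to the local ring.
-/

set_option autoImplicit false
set_option backward.isDefEq.respectTransparency false
set_option backward.isDefEq.respectTransparency.types false
set_option linter.style.haveILetI false

universe u

open CategoryTheory CategoryTheory.Limits AlgebraicGeometry TopologicalSpace Opposite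

noncomputable section

namespace Groth.Agent.Castel

variable {W X : Scheme.{u}}

/-- A closed subscheme inside the image of a flat preimmersion lifts. -/
theorem exists_comap_iso (v : W ⟶ X) [Flat v] [IsPreimmersion v] [QuasiCompact v] (K : X.IdealSheafData)
    (hK : (K.support : Set X) ⊆ Set.range v) :
    ∃ e : (K.comap v).subscheme ≅ K.subscheme, e.hom ≫ K.subschemeι = (K.comap v).subschemeι ≫ v := by
  let p := pullback.snd v K.subschemeι
  haveI : Flat p := inferInstanceAs (Flat (pullback.snd v K.subschemeι))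
  haveI : QuasiCompact p := inferInstanceAs (QuasiCompact (pullback.snd v K.subschemeι))
  haveI : Mono p := inferInstanceAs (Mono (pullback.snd v K.subschemeι))
  haveI : Surjective p := ⟨fun z => by
    obtain ⟨w, hw⟩ := hK (by rw [← Scheme.IdealSheafData.range_subschemeι]; exact ⟨z, rfl⟩)
    obtain ⟨q, -, hq⟩ := Scheme.Pullback.exists_preimage_pullback w z hw
    exact ⟨q, hq⟩⟩
  haveI : IsIso p := Flat.isIso_of_surjective_of_mono p
  refine ⟨K.comapIso v ≪≫ asIso p, ?_⟩
  rw [Iso.trans_hom, asIso_hom, Category.assoc, show p ≫ K.subschemeι = pullback.fst _ _ ≫ v from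
    pullback.condition.symm, ← Category.assoc, Scheme.IdealSheafData.comapIso_hom_fst]

/-- The powers commute with flat base change. -/
theorem nonempty_pullback_ipow (v : W ⟶ X) {I : X.IdealSheafData} (hI : BlowUp.IsEffCartierIdeal I)
    (hI' : BlowUp.IsEffCartierIdeal (I.comap v)) :
    ∀ n, Nonempty ((Scheme.Modules.pullback v).obj (ipow I n) ≅ ipow (I.comap v) n)
  | 0 => ⟨PicLoc.pullbackStructureIso v⟩
  | n + 1 => by
    obtain ⟨e⟩ := nonempty_pullback_ipow v hI hI' n
    obtain ⟨q⟩ := Nakai.nonempty_pullback_idealMod v hI hI'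
    obtain ⟨p⟩ := TMul.nonempty_pullTensorIso v (ClSub.idealMod I) (ipow I n)
    exact ⟨p.symm ≪≫ PicGrp.tensorModIso q e⟩

/-- The graded piece has no `H¹` if its restriction has none. -/
theorem subsingleton_h1_quot_of_pullback [IsLocallyNoetherian X] (I : X.IdealSheafData) {G : X.Modules}
    (hG : PicF.IsInvertible G)
    (h1 : Subsingleton (Coh.HH I.subscheme ((Scheme.Modules.pullback I.subschemeι).obj G) 1)) :
    Subsingleton (Coh.HH X (CohB1.tensorMod (ClSub.quotMod I) G) 1) := by
  let s := I.subschemeι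
  haveI := W7Hull.isIso_projMap_of_invertible s (Coh.structureModule _) hG
  let T := CohB1.tensorMod (Coh.structureModule I.subscheme) ((Scheme.Modules.pullback s).obj G)
  haveI : Coh.IsQCoh T := TMul.isQCoh_of_isInvertible (TMul.isInvertible_tensorMod
    TMul.isInvertible_structureModule (PicLoc.isInvertible_pullback s hG))
  have h2 : Subsingleton (Coh.HH I.subscheme T 1) := CohQC.hh_subsingleton_of_iso (TMul.leftUnitIso _).symm 1 h1
  obtain ⟨ψ⟩ := Groth.Agent.S0012.result s T 1
  exact CohQC.hh_subsingleton_of_iso (asIso (CohFinite.projMap s (Coh.structureModule _) G)).symm 1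
    ψ.symm.toEquiv.subsingleton

/-- The restriction of a pulled back module along a lifted divisor. -/
def comapPullIso (v : W ⟶ X) (I : X.IdealSheafData) {G : X.Modules} {G' : W.Modules}
    (i : (Scheme.Modules.pullback v).obj G ≅ G') (e : (I.comap v).subscheme ≅ I.subscheme)
    (he : e.hom ≫ I.subschemeι = (I.comap v).subschemeι ≫ v) :
    (Scheme.Modules.pullback e.hom).obj ((Scheme.Modules.pullback I.subschemeι).obj G) ≅
      (Scheme.Modules.pullback (I.comap v).subschemeι).obj G' :=
  (Scheme.Modules.pullbackComp e.hom I.subschemeι).app G ≪≫ (Scheme.Modules.pullbackCongr he).app G ≪≫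
    ((Scheme.Modules.pullbackComp (I.comap v).subschemeι v).app G).symm ≪≫
    (Scheme.Modules.pullback (I.comap v).subschemeι).mapIso i

/-- Sections without common zero move along an isomorphism. -/
theorem exists_sections_transport {Z Z' : Scheme.{u}} (e : Z' ⟶ Z) {L : Z.Modules} (hL : PicF.IsInvertible L)
    {L' : Z'.Modules} (c : (Scheme.Modules.pullback e).obj L ≅ L') (σ : Fin 2 → Γ(L, ⊤))
    (h : ∀ x, x ∈ CohB1.genLocus L (TMul.homOf (σ 0)) ∨ x ∈ CohB1.genLocus L (TMul.homOf (σ 1))) :
    ∃ τ : Fin 2 → Γ(L', ⊤),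
      ∀ x, x ∈ CohB1.genLocus L' (TMul.homOf (τ 0)) ∨ x ∈ CohB1.genLocus L' (TMul.homOf (τ 1)) := by
  refine ⟨fun i => TMul.val (((PicLoc.pullbackStructureIso e).inv ≫
    (Scheme.Modules.pullback e).map (TMul.homOf (σ i))) ≫ c.hom) ⊤, fun x => ?_⟩
  have key : ∀ i, e x ∈ CohB1.genLocus L (TMul.homOf (σ i)) → x ∈ CohB1.genLocus L' (TMul.homOf
      (TMul.val (((PicLoc.pullbackStructureIso e).inv ≫
        (Scheme.Modules.pullback e).map (TMul.homOf (σ i))) ≫ c.hom) ⊤)) := fun i hi => by
    rw [homOf_val, TMul.genLocus_comp]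
    exact (SetLike.ext_iff.1 (TMul.genLocus_pullback e hL (TMul.homOf (σ i))
      (PicLoc.pullbackStructureIso e).symm) x).2 hi
  exact (h (e x)).imp (key 0) (key 1)

end Groth.Agent.Castel
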