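import Groth.Agent.Castel.RelMin
import Groth.Agent.SteinGen.Basic
import Groth.Agent.SepBC.Closed
import Groth.Agent.S0419
import Groth.Agent.NormSect.Basic

/-!
Only finitely many fibre components of an arithmetic surface meet another component.
-/

set_option autoImplicit false
set_option backward.isDefEq.respectTransparency false
set_option backward.isDefEq.respectTransparency.types false

universe u

open CategoryTheory CategoryTheory.Limits AlgebraicGeometry TopologicalSpace Topology Opposite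

namespace Groth.Agent.Castel

/-- An element of the function field integral over global sections of a normal integral scheme is a global
section. -/
theorem mem_range_germ_of_isIntegral {X : Scheme.{u}} [IsIntegral X]
    (hX : ∀ x, IsIntegrallyClosed (X.presheaf.stalk x)) (a : X.functionField)
    (ha : (X.presheaf.germ ⊤ (genericPoint X) trivial).hom.IsIntegralElem a) :
    a ∈ Set.range (X.presheaf.germ ⊤ (genericPoint X) trivial) := by
  let g : Γ(X, ⊤) →+* X.functionField := (X.presheaf.germ ⊤ (genericPoint X) trivial).hom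
  haveI : Nonempty ↥(⊤ : X.Opens) := ⟨⟨genericPoint X, trivial⟩⟩
  have hloc : ∀ p : X, ∃ (V : X.Opens) (_ : Nonempty V) (_ : p ∈ V) (s : Γ(X, V)),
      X.germToFunctionField V s = a := by
    intro p
    haveI := hX p
    have hint : IsIntegral (X.presheaf.stalk p) a := by
      obtain ⟨P, hP, h0⟩ := ha
      refine ⟨P.map (X.presheaf.germ ⊤ p trivial).hom, hP.map _, ?_⟩
      rw [Polynomial.eval₂_map]
      have hc : (algebraMap (X.presheaf.stalk p) X.functionField).comp (X.presheaf.germ ⊤ p trivial).hom = g := by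
        ext r
        exact X.presheaf.germ_stalkSpecializes_apply (U := (⊤ : X.Opens)) trivial
          ((genericPoint_spec X).specializes (Set.mem_univ p)) r
      rw [hc]
      exact h0
    obtain ⟨t, ht⟩ := IsIntegrallyClosed.isIntegral_iff.1 hint
    obtain ⟨V, hpV, s, hs⟩ := X.presheaf.germ_exist t
    haveI : Nonempty V := ⟨⟨p, hpV⟩⟩
    refine ⟨V, inferInstance, hpV, s, ?_⟩
    rw [← ht, ← hs]
    exact (X.presheaf.germ_stalkSpecializes_apply (U := V) hpV ((genericPoint_spec X).specializes (Set.mem_univ p)) s).symm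
  choose V hne hpV s hs using hloc
  have hcompat : TopCat.Presheaf.IsCompatible X.presheaf V s := by
    intro i j
    haveI := hne i; haveI := hne j
    have hne' : ((V i : Set X) ∩ V j).Nonempty :=
      nonempty_preirreducible_inter (V i).2 (V j).2 ⟨i, hpV i⟩ ⟨j, hpV j⟩
    haveI : Nonempty ((V i ⊓ V j : X.Opens) : Scheme.{u}) := hne'.to_subtype
    apply germ_injective_of_isIntegral X (genericPoint X)
      (((genericPoint_spec X).mem_open_set_iff (V i ⊓ V j).2).2 (by simpa using hne'))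
    exact ((NormSect.germTo_res inf_le_left (s i)).trans ((hs i).trans (hs j).symm)).trans
      (NormSect.germTo_res inf_le_right (s j)).symm
  obtain ⟨σ, hσ, -⟩ := X.sheaf.existsUnique_gluing' V ⊤ (fun i => homOfLE le_top)
    (fun x _ => Opens.mem_iSup.2 ⟨x, hpV x⟩) s hcompat
  refine ⟨σ, ?_⟩
  haveI := hne (genericPoint X)
  rw [← hs (genericPoint X), ← hσ (genericPoint X)]
  exact (X.presheaf.germ_res_apply (homOfLE (le_top : V (genericPoint X) ≤ ⊤)) _ _ σ).symm

/-- The generic fibre of the Stein factorisation of a proper normal integral scheme is geometrically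
irreducible. -/
theorem geometricallyIrreducible_toSpecΓ {X : Scheme.{u}} [IsIntegral X]
    (hX : ∀ x, IsIntegrallyClosed (X.presheaf.stalk x)) [IrreducibleSpace ↑(Spec Γ(X, ⊤))]
    (hgen : X.toSpecΓ (genericPoint X) = genericPoint ↑(Spec Γ(X, ⊤))) :
    GeometricallyIrreducible (X.toSpecΓ.fiberToSpecResidueField (genericPoint ↑(Spec Γ(X, ⊤)))) := by
  let φ := X.toSpecΓ
  let η' : ↑(Spec Γ(X, ⊤)) := genericPoint ↑(Spec Γ(X, ⊤))
  let ι := φ.fiberι η'
  let w : φ.fiber η' := (φ.fiberHomeo η').symm ⟨genericPoint X, hgen⟩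
  have hwι : ι w = genericPoint X := φ.fiberι_fiberHomeo_symm η' _
  have hwspec : ∀ v : φ.fiber η', w ⤳ v := fun v => by
    rw [← ι.isEmbedding.toIsInducing.specializes_iff, hwι]
    exact (genericPoint_spec X).specializes trivial
  haveI : PreirreducibleSpace ↥(φ.fiber η') := ⟨fun U U' hU hU' hUn hUn' => by
    simp only [Set.univ_inter] at hUn hUn' ⊢
    exact ⟨w, (hwspec hUn.choose).mem_open hU hUn.choose_spec, (hwspec hUn'.choose).mem_open hU' hUn'.choose_spec⟩⟩
  haveI : IrreducibleSpace ↥(φ.fiber η') := { toNonempty := ⟨w⟩ }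
  have hw : genericPoint ↥(φ.fiber η') = w :=
    ((hwspec _).antisymm (genericPoint_specializes w)).eq.symm
  let k : Type u := (Spec Γ(X, ⊤)).residueField η'
  let f : φ.fiber η' ⟶ Spec (CommRingCat.of k) := φ.fiberToSpecResidueField η'
  refine SepBC.geometricallyIrreducible_of_generic f ?_
  rw [hw]
  letI := (WeilLib.kStr f w).toAlgebra
  refine eq_bot_iff.2 fun b hb => IntermediateField.mem_bot.2 ?_
  have hb' : IsIntegral k b := (mem_separableClosure_iff.1 hb).isIntegral
  -- transfer to the function field of `X`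
  let e : X.residueField (ι w) →+* (φ.fiber η').residueField w := (ι.residueFieldMap w).hom
  have hesurj : Function.Surjective e := fun y => by
    obtain ⟨y, rfl⟩ := IsLocalRing.residue_surjective y
    obtain ⟨y, rfl⟩ := ι.stalkMap_surjective w y
    exact ⟨X.residue (ι w) y, congr($(Scheme.residue_residueFieldMap ι w) y)⟩
  let ev : Γ(X, ⊤) →+* (φ.fiber η').residueField w := e.comp (X.evaluation ⊤ (ι w) trivial).hom
  let ρ : Γ(X, ⊤) →+* k :=
    ((Spec Γ(X, ⊤)).evaluation ⊤ η' trivial).hom.comp (Scheme.ΓSpecIso Γ(X, ⊤)).inv.hom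
  have hev : ev = (algebraMap k ((φ.fiber η').residueField w)).comp ρ := by
    have h1 := WeilLib.fromSpecResidueField_comp f w
    have h2 : (φ.fiber η').fromSpecResidueField w ≫ f ≫ (Spec Γ(X, ⊤)).fromSpecResidueField η' =
        Spec.map (ι.residueFieldMap w) ≫ X.fromSpecResidueField (ι w) ≫ φ := by
      rw [Scheme.Hom.SpecMap_residueFieldMap_fromSpecResidueField_assoc]
      exact congrArg ((φ.fiber η').fromSpecResidueField w ≫ ·) pullback.condition.symm
    rw [← Category.assoc, h1] at h2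
    have hA : ∀ (Z : Scheme.{u}) (z : Z), Z.fromSpecResidueField z ≫ Z.toSpecΓ =
        Spec.map (Z.evaluation ⊤ z trivial) := fun Z z => by
      rw [Scheme.fromSpecResidueField, Category.assoc, Scheme.fromSpecStalk_toSpecΓ, ← Spec.map_comp]
      rfl
    have h3 : (Spec Γ(X, ⊤)).fromSpecResidueField η' =
        Spec.map ((Scheme.ΓSpecIso Γ(X, ⊤)).inv ≫ (Spec Γ(X, ⊤)).evaluation ⊤ η' trivial) := by
      rw [Spec.map_comp, ← hA, Category.assoc, ← SpecMap_ΓSpecIso_hom, ← Spec.map_comp, Iso.inv_hom_id,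
        Spec.map_id, Category.comp_id]
    rw [h3, hA, ← Spec.map_comp, ← Spec.map_comp] at h2
    exact (congrArg CommRingCat.Hom.hom (Spec.map_injective h2)).symm
  have hρ : Function.Injective ρ := by
    have hη : η'.asIdeal = ⊥ := le_bot_iff.1
      ((PrimeSpectrum.le_iff_specializes η' ⟨⊥, Ideal.isPrime_bot⟩).2 (genericPoint_specializes _))
    refine (injective_iff_map_eq_zero ρ).2 fun a ha => ?_
    by_contra ha0
    have : η' ∈ (Spec Γ(X, ⊤)).basicOpen ((Scheme.ΓSpecIso Γ(X, ⊤)).inv a) := by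
      rw [basicOpen_eq_of_affine]
      exact fun h => ha0 ((Submodule.mem_bot _).1 (hη ▸ h))
    exact ((Scheme.evaluation_ne_zero_iff_mem_basicOpen (Spec Γ(X, ⊤)) (U := ⊤) η' trivial _).2 this) ha
  have hfrac : ∀ c : k, ∃ x y : Γ(X, ⊤), y ≠ 0 ∧ c * ρ y = ρ x := by
    intro c
    obtain ⟨c, rfl⟩ := IsLocalRing.residue_surjective c
    obtain ⟨⟨x, y⟩, hxy⟩ := IsLocalization.surj η'.asIdeal.primeCompl
      (S := (Spec.structureSheaf Γ(X, ⊤)).presheaf.stalk η') c
    refine ⟨x, y, fun h => y.2 (h ▸ zero_mem _), ?_⟩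
    exact (map_mul _ _ _).symm.trans (congrArg _ hxy)
  -- `b` is algebraic over `Γ(X)`
  letI : Algebra Γ(X, ⊤) k := ρ.toAlgebra
  letI : Algebra Γ(X, ⊤) ((φ.fiber η').residueField w) := ev.toAlgebra
  haveI : IsScalarTower Γ(X, ⊤) k ((φ.fiber η').residueField w) :=
    IsScalarTower.of_algebraMap_eq fun a => RingHom.congr_fun hev a
  haveI : FaithfulSMul Γ(X, ⊤) k := (faithfulSMul_iff_algebraMap_injective _ _).2 hρ
  haveI : IsFractionRing Γ(X, ⊤) k := IsFractionRing.of_field _ _ fun c => by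
    obtain ⟨x, y, hy, hxy⟩ := hfrac c
    exact ⟨x, y, by
      exact (eq_div_iff ((map_ne_zero_iff _ hρ).2 hy)).2 hxy⟩
  have halg : IsAlgebraic Γ(X, ⊤) b :=
    (IsFractionRing.isAlgebraic_iff Γ(X, ⊤) k _).2 hb'.isAlgebraic
  obtain ⟨y, hy, hyint⟩ := halg.exists_integral_multiple
  -- integral elements are constants
  obtain ⟨a, ha⟩ : ∃ a, ev a = y • b := by
    let r : X.functionField →+* (φ.fiber η').residueField w :=
      e.comp ((X.residue (ι w)).hom.comp
        (X.presheaf.stalkCongr (.of_eq hwι)).inv.hom)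
    have hrsurj : Function.Surjective r := hesurj.comp
      ((IsLocalRing.residue_surjective).comp
        (ConcreteCategory.bijective_of_isIso (X.presheaf.stalkCongr (.of_eq hwι)).inv).2)
    have hr : r.comp (X.presheaf.germ ⊤ (genericPoint X) trivial).hom = ev := by
      ext a
      show e ((X.residue (ι w)) ((X.presheaf.stalkCongr (.of_eq hwι)).inv (X.presheaf.germ ⊤ (genericPoint X) trivial a))) = _
      simp only [TopCat.Presheaf.stalkCongr_inv, TopCat.Presheaf.germ_stalkSpecializes_apply]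
      rfl
    obtain ⟨b', hb''⟩ := hrsurj (y • b)
    obtain ⟨a, ha⟩ := mem_range_germ_of_isIntegral hX b' (by
      obtain ⟨P, hP, h0⟩ := hyint
      refine ⟨P, hP, r.injective ?_⟩
      rw [Polynomial.hom_eval₂, hr, hb'', map_zero]
      exact h0)
    exact ⟨a, by rw [← hr, RingHom.comp_apply, ← hb'']; exact congrArg r ha⟩
  refine ⟨ρ a / ρ y, ?_⟩
  have hy' : ev y ≠ 0 := by
    rw [hev, RingHom.comp_apply]
    exact (map_ne_zero _).2 ((map_ne_zero_iff _ hρ).2 hy)
  rw [map_div₀]
  show (algebraMap k _).comp ρ a / (algebraMap k _).comp ρ y = b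
  rw [← hev, ha, Algebra.smul_def, div_eq_iff hy']
  exact mul_comm _ _

variable {R : Type u} [CommRing R] [IsDedekindDomain R] {X : Over (Spec (CommRingCat.of R))}

/-- Only finitely many maximal points of special fibres of an arithmetic surface are not isolated
components. -/
theorem exists_finite_bad (hX : ArSurf.IsArithSurface R X) :
    ∃ B : Set X.left, B.Finite ∧ ∀ z : X.left, (X.hom z).asIdeal ≠ ⊥ →
      (∀ w, X.hom w = X.hom z → w ⤳ z → w = z) → ¬ IsIsolatedComp X z → z ∈ B := by
  obtain ⟨hXreg, hXint, -, hXflat, hXproj⟩ := hX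
  haveI := hXint
  haveI := hXflat
  obtain ⟨n, i, hi, hiw⟩ := hXproj
  haveI : IsProper X.hom := by
    rw [← hiw]
    haveI := HQProj.isProper_toBase n (Spec (CommRingCat.of R))
    infer_instance
  haveI : IsLocallyNoetherian X.left := LocallyOfFiniteType.isLocallyNoetherian X.hom
  haveI : CompactSpace X.left := QuasiCompact.compactSpace_of_compactSpace X.hom
  haveI : IsNoetherian X.left := {}
  have hnormal : ∀ x : X.left, IsIntegrallyClosed (X.left.presheaf.stalk x) := fun x => by
    haveI := hXreg x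
    haveI := UFDLib.ufd_of_isRegularLocalRing (X.left.presheaf.stalk x)
    infer_instance
  let φ := X.left.toSpecΓ
  let ψ : CommRingCat.of R ⟶ Γ(X.left, ⊤) := (Scheme.ΓSpecIso (CommRingCat.of R)).inv ≫ X.hom.appTop
  let π := Spec.map ψ
  have hφπ : φ ≫ π = X.hom := by
    show φ ≫ Spec.map ((Scheme.ΓSpecIso (CommRingCat.of R)).inv ≫ X.hom.appTop) = _
    rw [Spec.map_comp, ← Scheme.toSpecΓ_naturality_assoc, ← SpecMap_ΓSpecIso_hom, ← Spec.map_comp,
      Iso.inv_hom_id, Spec.map_id, Category.comp_id]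
  haveI : IsIntegralHom π := IsIntegralHom.SpecMap_iff.2
    (RingHom.IsIntegral.trans _ _
      (RingHom.isIntegral_of_surjective _ (Scheme.ΓSpecIso (CommRingCat.of R)).symm.commRingCatIsoToRingEquiv.surjective)
      (SteinGen.isIntegral_app X.hom (isAffineOpen_top _)))
  haveI : IsProper φ := by
    haveI : IsProper (φ ≫ π) := by rw [hφπ]; infer_instance
    exact IsProper.of_comp φ π
  let η : Spec (CommRingCat.of R) := (⟨⊥, Ideal.isPrime_bot⟩ : PrimeSpectrum R)
  have hηle : ∀ s : Spec (CommRingCat.of R), η ⤳ s := fun s ↦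
    (PrimeSpectrum.le_iff_specializes η s).mp bot_le
  have hηX : X.hom (genericPoint X.left) = η := by
    obtain ⟨w, hw, hw'⟩ := Flat.generalizingMap X.hom (a := genericPoint X.left) (hηle _)
    rwa [(hw.antisymm ((genericPoint_spec X.left).specializes trivial)).eq] at hw'
  -- the generic point and surjectivity of `φ`
  haveI : IsDomain Γ(X.left, ⊤) := inferInstance
  haveI : IrreducibleSpace ↑(Spec Γ(X.left, ⊤)) := inferInstanceAs (IrreducibleSpace (PrimeSpectrum Γ(X.left, ⊤)))
  have hgen : φ (genericPoint X.left) = genericPoint ↑(Spec Γ(X.left, ⊤)) := by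
    have h0 : (φ (genericPoint X.left)).asIdeal = ⊥ := by
      refine eq_bot_iff.2 fun a ha => (Submodule.mem_bot _).2 ?_
      by_contra ha0
      haveI : Nonempty ↥(⊤ : X.left.Opens) := ⟨⟨genericPoint X.left, trivial⟩⟩
      have hmem : genericPoint X.left ∈ X.left.basicOpen a := by
        rw [Scheme.mem_basicOpen_top]
        exact IsUnit.mk0 _ fun h => ha0 (germ_injective_of_isIntegral X.left (U := ⊤) (genericPoint X.left) trivial
          (h.trans (map_zero _).symm))
      rw [← Scheme.toSpecΓ_preimage_basicOpen] at hmem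
      exact hmem ha
    refine (Specializes.antisymm ?_ (genericPoint_specializes _)).eq
    exact (PrimeSpectrum.le_iff_specializes _ _).1 (h0.trans_le bot_le)
  have hsurjφ : Function.Surjective φ.base := fun v => by
    have h1 : closure {φ (genericPoint X.left)} ⊆ Set.range φ.base :=
      closure_minimal (Set.singleton_subset_iff.mpr ⟨_, rfl⟩) φ.isClosedMap.isClosed_range
    exact h1 (hgen ▸ ((genericPoint_spec ↑(Spec Γ(X.left, ⊤))).def.ge trivial))
  have hdisc : ∀ v v' : ↑(Spec Γ(X.left, ⊤)), v ⤳ v' → π v = π v' → v = v' := fun v v' hvv' he => by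
    by_contra hne
    have hlt : v.asIdeal < v'.asIdeal := lt_of_le_of_ne ((PrimeSpectrum.le_iff_specializes v v').2 hvv')
      (fun e => hne (PrimeSpectrum.ext e))
    letI := ψ.hom.toAlgebra
    haveI : Algebra.IsIntegral R Γ(X.left, ⊤) := ⟨IsIntegralHom.SpecMap_iff.1 ‹IsIntegralHom π›⟩
    have he' : v.asIdeal.comap ψ.hom = v'.asIdeal.comap ψ.hom := congrArg PrimeSpectrum.asIdeal he
    exact (Ideal.IsIntegral.comap_lt_comap hlt).ne he'
  obtain ⟨V, hV, hVgi⟩ := S0419.result φ (geometricallyIrreducible_toSpecΓ hnormal hgen)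
  have hfib : ∀ v ∈ V, IsIrreducible (φ.base ⁻¹' {v}) := fun v hv => by
    haveI := hVgi
    let m : (φ ∣_ V).fiber ⟨v, hv⟩ ⟶ X.left := (φ ∣_ V).fiberι ⟨v, hv⟩ ≫ (φ ⁻¹ᵁ V).ι
    have hr : φ.base ⁻¹' {v} = Set.range m.base := by
      rw [Scheme.Hom.comp_base, TopCat.coe_comp, Set.range_comp, Scheme.Hom.range_fiberι]
      ext x
      constructor
      · intro hx
        have hx' : φ x = v := hx
        exact ⟨⟨x, show φ x ∈ V by rw [hx']; exact hv⟩, Subtype.ext (by simpa using hx'), rfl⟩
      · rintro ⟨x, hx, rfl⟩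
        simpa using congrArg Subtype.val hx
    rw [hr, ← Set.image_univ]
    exact (IrreducibleSpace.isIrreducible_univ _).image _ m.continuous.continuousOn
  -- finitely many bad base points
  let Sig : Set (Spec (CommRingCat.of R)) := π.base '' (V : Set _)ᶜ
  have hSigc : IsClosed Sig := π.isClosedMap _ V.2.isClosed_compl
  have hηV : φ (genericPoint X.left) ∈ V := by
    rw [hgen]
    exact ((genericPoint_spec _).mem_open_set_iff V.2).2 (by simpa using hV)
  have hηSig : η ∉ Sig := by
    rintro ⟨v, hv, hvη⟩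
    refine hv (hdisc (φ (genericPoint X.left)) v (hgen ▸ genericPoint_specializes v) ?_ ▸ hηV)
    rw [hvη, ← Scheme.Hom.comp_apply, hφπ, hηX]
  have hSigfin : Sig.Finite := by
    obtain ⟨I, hI⟩ := (PrimeSpectrum.isClosed_iff_zeroLocus_ideal (R := R) Sig).1 hSigc
    have hI0 : I ≠ ⊥ := fun h => hηSig (by rw [hI]; exact fun a ha => (h ▸ ha :))
    refine ((Ideal.finite_minimalPrimes_of_isNoetherianRing R I).preimage
      (fun a _ b _ h => PrimeSpectrum.ext h)).subset fun P hP => ?_
    have hIP : I ≤ P.asIdeal := (show P ∈ PrimeSpectrum.zeroLocus (I : Set R) from hI ▸ hP)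
    refine ⟨⟨P.isPrime, hIP⟩, fun Q hQ hQP => le_of_eq ?_⟩
    exact (((Ideal.IsPrime.isMaximal hQ.1 fun h => hI0 (le_bot_iff.1 (h ▸ hQ.2))).eq_of_le P.isPrime.ne_top hQP)).symm
  -- finitely many maximal points in each closed fibre
  let Max : Spec (CommRingCat.of R) → Set X.left := fun s =>
    {z | X.hom z = s ∧ ∀ w, X.hom w = s → w ⤳ z → w = z}
  have hMax : ∀ s, (s : PrimeSpectrum R).asIdeal ≠ ⊥ →
      (Max s).Finite ∧ ∀ x, X.hom x = s → ∃ z ∈ Max s, z ⤳ x := by
    intro s hs
    have hc : IsClosed (X.hom.base ⁻¹' {s}) := ((PrimeSpectrum.isClosed_singleton_iff_isMaximal s).mpr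
      (Ideal.IsPrime.isMaximal s.isPrime hs)).preimage X.hom.continuous
    obtain ⟨T, hTf, hT, hTs⟩ := NoetherianSpace.exists_finite_set_closeds_irreducible ⟨_, hc⟩
    have hmem : ∀ x, X.hom x = s → ∃ t ∈ T, x ∈ t := fun x hx => by
      have h : x ∈ (⟨_, hc⟩ : Closeds X.left) := hx
      rw [hTs] at h
      obtain ⟨F, rfl⟩ : ∃ F : Finset (Closeds X.left), (F : Set _) = T := ⟨hTf.toFinset, hTf.coe_toFinset⟩
      rw [← Finset.sup_id_eq_sSup, ← SetLike.mem_coe, Closeds.coe_finset_sup, Finset.sup_eq_iSup] at h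
      simpa using h
    have hin : ∀ t ∈ T, ∀ x ∈ t, X.hom x = s := fun t ht x hx => by
      have : t ≤ (⟨_, hc⟩ : Closeds X.left) := hTs ▸ le_sSup ht
      exact this hx
    constructor
    · refine (hTf.biUnion (t := fun t => {z | IsGenericPoint z (t : Set X.left)}) fun t _ =>
        Set.Subsingleton.finite fun a ha b hb => ha.eq hb).subset fun z ⟨hz, hmax⟩ => ?_
      obtain ⟨t, ht, hzt⟩ := hmem z hz
      obtain ⟨w, hw⟩ := QuasiSober.sober (hT t ht) t.isClosed
      refine Set.mem_biUnion ht ?_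
      rwa [← hmax w (hin t ht w hw.mem) (hw.specializes hzt)]
    · intro x hx
      obtain ⟨t, ht, hxt⟩ := hmem x hx
      obtain ⟨w, hw⟩ := QuasiSober.sober (hT t ht) t.isClosed
      -- enlarge to a maximal one
      obtain ⟨z, hz1, hz2, hz3⟩ : ∃ z, X.hom z = s ∧ z ⤳ w ∧ ∀ v, X.hom v = s → v ⤳ z → v = z := by
        let G : Set X.left := {z | (∃ t ∈ T, IsGenericPoint z (t : Set X.left)) ∧ z ⤳ w}
        have hGf : G.Finite := (hTf.biUnion (t := fun t => {z | IsGenericPoint z (t : Set X.left)}) fun t _ =>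
          Set.Subsingleton.finite fun a ha b hb => ha.eq hb).subset fun z ⟨⟨t, ht, hz⟩, _⟩ => Set.mem_biUnion ht hz
        letI := specializationOrder X.left
        obtain ⟨z, ⟨⟨⟨t', ht', hzt'⟩, hzw⟩, hzmax⟩⟩ := hGf.exists_maximal ⟨w, ⟨t, ht, hw⟩, specializes_rfl⟩
        refine ⟨z, hin t' ht' z hzt'.mem, hzw, fun v hv hvz => ?_⟩
        obtain ⟨t'', ht'', hvt''⟩ := hmem v hv
        obtain ⟨u, hu⟩ := QuasiSober.sober (hT t'' ht'') t''.isClosed
        have huz : u ⤳ z := (hu.specializes hvt'').trans hvz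
        have h := hzmax ⟨⟨t'', ht'', hu⟩, huz.trans hzw⟩ huz
        exact (hvz.antisymm ((show z ⤳ u from h).trans (hu.specializes hvt''))).eq
      exact ⟨z, ⟨hz1, hz3⟩, hz2.trans (hw.specializes hxt)⟩
  refine ⟨⋃ s ∈ Sig, Max s, hSigfin.biUnion fun s hs => (hMax s fun h => hηSig
    ((PrimeSpectrum.ext h : s = η) ▸ hs)).1, fun z hz hmax hiso => ?_⟩
  refine Set.mem_biUnion (x := X.hom z) ?_ ⟨rfl, hmax⟩
  by_contra hzSig
  apply hiso
  have hfibre : ∀ v, π v = X.hom z → v ∈ V := fun v hv => by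
    by_contra hvV
    exact hzSig ⟨v, hvV, hv⟩
  have hπz : π (φ z) = X.hom z := by rw [← Scheme.Hom.comp_apply, hφπ]
  have hfin : ((π.base ⁻¹' {X.hom z}) \ {φ z}).Finite := by
    refine (((hMax _ hz).1).image φ.base).subset fun v ⟨hv, _⟩ => ?_
    obtain ⟨x, rfl⟩ := hsurjφ v
    have hx : X.hom x = X.hom z := by
      have hv' : π (φ x) = X.hom z := hv
      rw [← hv', ← Scheme.Hom.comp_apply, hφπ]
    obtain ⟨w, hw, hwx⟩ := (hMax _ hz).2 x hx
    refine ⟨w, hw, hdisc _ _ (hwx.map φ.continuous) ?_⟩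
    rw [← Scheme.Hom.comp_apply, ← Scheme.Hom.comp_apply, hφπ, hw.1, hx]
  have hclosedpt : ∀ v, π v = X.hom z → IsClosed ({v} : Set ↑(Spec Γ(X.left, ⊤))) := fun v hv => by
    refine closure_subset_iff_isClosed.mp fun v' hv' => ?_
    have h := (specializes_iff_mem_closure.mpr hv' : v ⤳ v').map π.continuous
    have hc : IsClosed ({X.hom z} : Set (Spec (CommRingCat.of R))) :=
      (PrimeSpectrum.isClosed_singleton_iff_isMaximal _).mpr (Ideal.IsPrime.isMaximal (X.hom z).isPrime hz)
    exact (hdisc v v' (specializes_iff_mem_closure.mpr hv') (hv.trans (h.mem_closed hc hv).symm)).symm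
  have hclosed : IsClosed ((π.base ⁻¹' {X.hom z}) \ {φ z}) := by
    rw [← Set.biUnion_of_singleton ((π.base ⁻¹' {X.hom z}) \ {φ z})]
    exact hfin.isClosed_biUnion fun v hv => hclosedpt v hv.1
  refine ⟨φ ⁻¹ᵁ ⟨_, hclosed.isOpen_compl⟩, fun v hv => ?_⟩
  constructor
  · intro hvO
    have hvz : φ v = φ z := by
      by_contra hne
      have h : π (φ v) = X.hom z := by rw [← Scheme.Hom.comp_apply, hφπ, hv]
      exact hvO ⟨h, hne⟩
    have hirr := hfib _ (hfibre _ hπz)
    have hcl : IsClosed (φ.base ⁻¹' {φ z}) := (hclosedpt _ hπz).preimage φ.continuous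
    obtain ⟨w, hw⟩ := QuasiSober.sober hirr hcl
    have hwz := hmax w (by
      rw [← hφπ, Scheme.Hom.comp_apply, Scheme.Hom.comp_apply, (hw.mem : φ w = φ z)]) (hw.specializes rfl)
    exact hwz ▸ hw.specializes hvz
  · intro hzv hmem
    exact hmem.2 ((hzv.map φ.continuous).mem_closed (hclosedpt _ hπz) rfl)

end Groth.Agent.Castel
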