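import Groth.Agent.Castel.ContractModel
import Groth.Agent.Castel.ExcNumbers
import Groth.Agent.Castel.VertLine
import Groth.Agent.DualGeneric.PushDeg
import Groth.Agent.CycDim.DegBase

/-!
Components, multiplicities and intersection numbers after contracting an exceptional curve.
-/

set_option autoImplicit false
set_option backward.isDefEq.respectTransparency false
set_option backward.isDefEq.respectTransparency.types false
set_option linter.style.haveILetI false
set_option maxHeartbeats 1000000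

universe u

open CategoryTheory CategoryTheory.Limits AlgebraicGeometry TopologicalSpace Topology

noncomputable section

namespace Groth.Agent.Castel

variable {R : Type u} [CommRing R] [IsDomain R] [IsDiscreteValuationRing R] {X : Over (Spec (CommRingCat.of R))}

/-- The closure of the generic point of a vertical prime divisor. -/
theorem closure_genPtOf (Γ : ArSurf.VertComp R X) :
    closure ({Models.genPtOf R X Γ} : Set X.left) = Set.range Γ.ι := by
  refine subset_antisymm (Γ.ι.isClosedEmbedding.isClosed_range.closure_subset_iff.2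
    (Set.singleton_subset_iff.2 ⟨_, rfl⟩)) ?_
  rintro _ ⟨z, rfl⟩
  exact specializes_iff_mem_closure.1 ((genericPoint_specializes z).map Γ.ι.continuous)

/-- Stalks of pulled back ideal sheaves. -/
theorem stI_comap {A B : Scheme.{u}} (b : A ⟶ B) (I : B.IdealSheafData) (U : B.affineOpens) (W : A.affineOpens)
    (h : W.1 ≤ b ⁻¹ᵁ U.1) {x : A} (hx : x ∈ W.1) :
    DivPart.stI (I.comap b) W hx = (DivPart.stI I U (h hx)).map (b.stalkMap x).hom := by
  rw [DivPart.stI, DivPart.stI, FpqcDescent.ideal_comap_appLE I b U W h, Ideal.map_map, Ideal.map_map,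
    ← CommRingCat.hom_comp, ← CommRingCat.hom_comp]
  congr 2
  rw [Scheme.Hom.germ_stalkMap b U.1 x (h hx), Scheme.Hom.appLE, Category.assoc, TopCat.Presheaf.germ_res]

variable {E : ArSurf.VertComp R X} {Y : Scheme.{u}} {b : X.left ⟶ Y} {g : Y ⟶ Spec (CommRingCat.of R)} {y : Y}

theorem ContractFacts.inj (F : ContractFacts E b g y) {x x' : X.left} (h : b x = b x') (hx : b x ≠ y) : x = x' := by
  let V : Y.Opens := ⟨({y} : Set Y)ᶜ, F.closed.isOpen_compl⟩
  haveI := F.iso V fun h => h rfl
  have := (b ∣_ V).isOpenEmbedding.injective (a₁ := ⟨x, hx⟩) (a₂ := ⟨x', show b x' ∈ V from h ▸ hx⟩)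
    (Subtype.ext (by rw [morphismRestrict_base_coe, morphismRestrict_base_coe]; exact h))
  exact congrArg Subtype.val this

theorem ContractFacts.isIso_stalk (F : ContractFacts E b g y) {x : X.left} (hx : b x ≠ y) :
    IsIso (b.stalkMap x) := by
  let V : Y.Opens := ⟨({y} : Set Y)ᶜ, F.closed.isOpen_compl⟩
  haveI := F.iso V fun h => h rfl
  exact (MorphismProperty.arrow_mk_iso_iff (MorphismProperty.isomorphisms CommRingCat)
    (morphismRestrictStalkMap b V ⟨x, hx⟩)).1 (inferInstanceAs (IsIso ((b ∣_ V).stalkMap ⟨x, hx⟩)))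

theorem ContractFacts.genPt_ne (F : ContractFacts E b g y) {Γ : ArSurf.VertComp R X}
    (hΓ : Set.range Γ.ι ≠ Set.range E.ι) : b (Models.genPtOf R X Γ) ≠ y := fun h => by
  refine genPt_notMem hΓ ?_
  rw [Scheme.Hom.support_ker, E.ι.isClosedEmbedding.isClosed_range.closure_eq, ← F.fibre]
  exact h

theorem ContractFacts.closure_image (F : ContractFacts E b g y) (Γ : ArSurf.VertComp R X) :
    closure ({b (Models.genPtOf R X Γ)} : Set Y) = b '' Set.range Γ.ι := by
  haveI := F.properb
  refine subset_antisymm ((b.isClosedMap _ Γ.ι.isClosedEmbedding.isClosed_range).closure_subset_iff.2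
    (Set.singleton_subset_iff.2 ⟨_, ⟨_, rfl⟩, rfl⟩)) ?_
  rintro _ ⟨_, ⟨z, rfl⟩, rfl⟩
  exact specializes_iff_mem_closure.1 (((genericPoint_specializes z).map Γ.ι.continuous).map b.continuous)

/-- The generic point of a strict image. -/
theorem ContractFacts.genPt_image (F : ContractFacts E b g y) (Γ : ArSurf.VertComp R X)
    (Δ : ArSurf.VertComp R (Over.mk g)) (h : Set.range Δ.ι = b '' Set.range Γ.ι) :
    Models.genPtOf R (Over.mk g) Δ = b (Models.genPtOf R X Γ) := by
  have h1 : closure ({Models.genPtOf R (Over.mk g) Δ} : Set Y) = closure {b (Models.genPtOf R X Γ)} := by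
    rw [F.closure_image Γ, ← h]
    exact closure_genPtOf Δ
  exact ((specializes_iff_mem_closure.2 (h1.symm ▸ subset_closure rfl)).antisymm
    (specializes_iff_mem_closure.2 (h1 ▸ subset_closure rfl))).eq

/-- Multiplicities are unchanged. -/
theorem ContractFacts.mult_image (F : ContractFacts E b g y) (Γ : ArSurf.VertComp R X)
    (hΓ : Set.range Γ.ι ≠ Set.range E.ι)
    (Δ : ArSurf.VertComp R (Over.mk g)) (h : Set.range Δ.ι = b '' Set.range Γ.ι) :
    Models.mult R (Over.mk g) Δ = Models.mult R X Γ := by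
  let γ := Models.genPtOf R X Γ
  have hne := F.genPt_ne hΓ
  have hgen := F.genPt_image Γ Δ h
  haveI := F.isIso_stalk hne
  have hs : (b.stalkMap γ).hom.comp (Models.stalkHom R (Over.mk g) (b γ)) = Models.stalkHom R X γ := by
    refine RingHom.ext fun r => ?_
    show (b.stalkMap γ) (Y.presheaf.germ ⊤ (b γ) trivial (Coh.toGlobal g r)) = X.left.presheaf.germ ⊤ γ trivial (Coh.toGlobal X.hom r)
    rw [Scheme.Hom.germ_stalkMap_apply]
    congr 1
    rw [← F.comp]
    rfl
  have key : ∀ w : Y, w = b γ → (Module.length (Y.presheaf.stalk w)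
      (Y.presheaf.stalk w ⧸ Ideal.map (Models.stalkHom R (Over.mk g) w) (IsLocalRing.maximalIdeal R))).toNat =
      Models.mult R X Γ := by
    rintro w rfl
    let I := Ideal.map (Models.stalkHom R (Over.mk g) (b γ)) (IsLocalRing.maximalIdeal R)
    let e := (asIso (b.stalkMap γ)).commRingCatIsoToRingEquiv
    have hmap : Ideal.map (Models.stalkHom R X γ) (IsLocalRing.maximalIdeal R) = Ideal.map (b.stalkMap γ).hom I := by
      rw [Ideal.map_map, ← hs]
    rw [Models.mult]
    letI := (b.stalkMap γ).hom.toAlgebra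
    have hsurj : Function.Surjective (algebraMap (Y.presheaf.stalk (b γ)) (X.left.presheaf.stalk γ)) :=
      (ConcreteCategory.bijective_of_isIso (b.stalkMap γ)).2
    rw [← Module.length_eq_of_surjective hsurj]
    refine congrArg ENat.toNat (LinearEquiv.length_eq ?_)
    exact
      { Ideal.quotientEquiv I _ e hmap with
        map_smul' := fun a q => by
          obtain ⟨q, rfl⟩ := Ideal.Quotient.mk_surjective q
          show Ideal.Quotient.mk _ (e (a * q)) = a • Ideal.Quotient.mk _ (e q)
          rw [map_mul]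
          rfl }
  exact key _ hgen

/-- The components of the closed fibre of the target. -/
theorem ContractFacts.components (F : ContractFacts E b g y) (hX : ArSurf.IsArithSurface R X)
    (hE : Models.IsExcCurve E.ι) {n : ℕ} (Γ : Fin (n + 1) → ArSurf.VertComp R X)
    (hΓ : Models.IsComponentList R X Γ) (hlast : Γ (Fin.last n) = E) :
    Models.fibreComponents R (Over.mk g) = Set.range (fun i : Fin n => b '' Set.range (Γ i.castSucc).ι) := by
  haveI := F.properb
  haveI := isProper_hom_of_isArithSurface hX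
  have hcov := componentList_cover hΓ
  have hspec : ∀ i, b '' Set.range (Γ i).ι ⊆ Models.specialFibreSet R (Over.mk g) := fun i => by
    rintro _ ⟨x, hx, rfl⟩
    show g (b x) = _
    rw [← Scheme.Hom.comp_apply, F.comp]
    exact range_subset_specialFibre (Γ i) hx
  have hne : ∀ i : Fin n, Set.range (Γ i.castSucc).ι ≠ Set.range E.ι := fun i e =>
    Fin.castSucc_ne_last i (hΓ.1 (by show Set.range (Γ i.castSucc).ι = Set.range (Γ (Fin.last n)).ι; rw [hlast]; exact e))
  have hirr : ∀ i, IsIrreducible (b '' Set.range (Γ i).ι) := fun i => by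
    rw [← F.closure_image]
    exact isIrreducible_singleton.closure
  have hmax : ∀ i : Fin n, b '' Set.range (Γ i.castSucc).ι ∈ Models.fibreComponents R (Over.mk g) := by
    intro i
    refine ⟨⟨hirr _, hspec _⟩, fun S hS hle => ?_⟩
    haveI : QuasiSober Y := inferInstance
    obtain ⟨s, hs⟩ := QuasiSober.sober hS.1.closure isClosed_closure
    have hgs : g s = IsLocalRing.closedPoint R :=
      (closure_minimal hS.2 (Models.isClosed_specialFibreSet R (Over.mk g))) hs.mem
    set γ := Models.genPtOf R X (Γ i.castSucc)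
    have hγy := F.genPt_ne (hne i)
    have hsγ : s ⤳ b γ := hs.specializes (subset_closure (hle ⟨γ, ⟨_, rfl⟩, rfl⟩))
    have hsy : s ≠ y := fun e => hγy (hsγ.mem_closed F.closed e)
    obtain ⟨x, hx⟩ := F.surj s
    have hxγ : x ⤳ γ := by
      let V : Y.Opens := ⟨({y} : Set Y)ᶜ, F.closed.isOpen_compl⟩
      haveI := F.iso V fun h => h rfl
      have h1 : (⟨x, show b x ≠ y from hx.symm ▸ hsy⟩ : ↥(b ⁻¹ᵁ V)) ⤳ ⟨γ, hγy⟩ := by
        rw [← (b ∣_ V).isOpenEmbedding.isInducing.specializes_iff, subtype_specializes_iff,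
          morphismRestrict_base_coe, morphismRestrict_base_coe]
        exact hx.symm ▸ hsγ
      exact (subtype_specializes_iff _ _).1 h1
    obtain ⟨j, hj⟩ := Set.mem_iUnion.1 (hcov (show X.hom x = _ by rw [← F.comp, Scheme.Hom.comp_apply, hx, hgs]))
    have hji : j = i.castSucc := by
      by_contra hji
      refine genPt_notMem (Γ₂ := Γ j) (fun e => hji (hΓ.1 e).symm) ?_
      rw [Scheme.Hom.support_ker]
      exact subset_closure (hxγ.mem_closed (Γ j).ι.isClosedEmbedding.isClosed_range hj)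
    subst hji
    refine (subset_closure.trans hs.def.ge).trans ?_
    rw [← F.closure_image]
    refine closure_minimal (Set.singleton_subset_iff.2 ?_) isClosed_closure
    rw [F.closure_image, ← hx]
    exact ⟨x, hj, rfl⟩
  refine subset_antisymm (fun Z hZ => ?_) (by rintro _ ⟨i, rfl⟩; exact hmax i)
  obtain ⟨hZ', hZmax⟩ := hZ
  obtain ⟨s, hs⟩ := QuasiSober.sober hZ'.1.closure isClosed_closure
  have hgs : g s = IsLocalRing.closedPoint R :=
    (closure_minimal hZ'.2 (Models.isClosed_specialFibreSet R (Over.mk g))) hs.mem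
  obtain ⟨i, hi⟩ : ∃ i : Fin n, s ∈ b '' Set.range (Γ i.castSucc).ι := by
    obtain ⟨x, hx⟩ := F.surj s
    obtain ⟨j, hj⟩ := Set.mem_iUnion.1 (hcov (show X.hom x = _ by rw [← F.comp, Scheme.Hom.comp_apply, hx, hgs]))
    rcases Fin.eq_castSucc_or_eq_last j with ⟨i, rfl⟩ | rfl
    · exact ⟨i, x, hj, hx⟩
    · have hsy : s = y := by rw [← hx]; exact F.fibre.ge (hlast ▸ hj)
      obtain ⟨hsym, hoff, J, -, hrow⟩ := interMat_facts hX Γ hΓ.1
      have hz : ∑ l, (Models.mult R X (Γ l) : ℤ) * interMat Γ (Fin.last n) l = 0 := by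
        obtain ⟨L, hL⟩ : ∃ L : Fin (n + 1) → X.left.Modules,
            ∀ l, ClSub.IsInverseOf (L l) (ClSub.idealMod (Γ l).ι.ker) :=
          ⟨_, fun l => (exists_inverse_module ((Groth.Agent.S8914.result _).2 (isEffCartierIdeal_ker hX (Γ l)))).choose_spec.2⟩
        rw [← sum_mult_inter_eq_zero hX Γ hΓ.1 hcov L hL (Γ (Fin.last n))]
        exact Finset.sum_congr rfl fun l _ => by rw [inter_eq_interMat hX Γ (hL l)]
      have hEE : interMat Γ (Fin.last n) (Fin.last n) < 0 := by
        obtain ⟨-, k, _, e, ⟨c⟩⟩ := id hE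
        obtain ⟨M, hMi, hM⟩ := exists_inverse_module ((Groth.Agent.S8914.result _).2 (isEffCartierIdeal_ker hX E))
        have h2 := (vert_line_numbers E e hMi hM (m := 1) c).2
        have h3 : interMat Γ (Fin.last n) (Fin.last n) = ArSurf.inter R X M E := by
          rw [← inter_eq_interMat hX Γ (i := Fin.last n) (j := Fin.last n) (L := M) (by rw [hlast]; exact hM), hlast]
        haveI : IsProper (E.curve.left ↘ Spec (CommRingCat.of (IsLocalRing.ResidueField R))) := isProper_curve E
        have hw : 0 < Models.wdeg R X E :=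
          Nakai.h0_one_pos (k := IsLocalRing.ResidueField R) (X := E.curve.left)
        omega
      obtain ⟨l, hl, hl0⟩ : ∃ l, l ≠ Fin.last n ∧ interMat Γ (Fin.last n) l ≠ 0 := by
        by_contra! h
        rw [Finset.sum_eq_single (Fin.last n) (fun l _ hl => by rw [h l hl, mul_zero]) (by simp)] at hz
        rcases mul_eq_zero.1 hz with h0 | h0
        · exact (hrow _).1.ne' (by exact_mod_cast h0)
        · exact hEE.ne h0
      obtain ⟨z, hzE, hzl⟩ := Set.not_disjoint_iff.1 fun hd => hl0 ((hoff _ _ hl.symm).2.2 hd)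
      obtain ⟨i, rfl⟩ := (Fin.eq_castSucc_or_eq_last l).resolve_right hl
      exact ⟨i, z, hzl, (F.fibre.ge (hlast ▸ hzE) : b z = y).trans hsy.symm⟩
  refine ⟨i, ?_⟩
  have hle : Z ⊆ b '' Set.range (Γ i.castSucc).ι := by
    refine (subset_closure.trans hs.def.ge).trans (closure_minimal (Set.singleton_subset_iff.2 hi) ?_)
    exact b.isClosedMap _ (Γ i.castSucc).ι.isClosedEmbedding.isClosed_range
  exact subset_antisymm (hZmax ⟨hirr _, hspec _⟩ hle) hle

/-- Degrees on the strict image. -/
theorem ContractFacts.degI_image (F : ContractFacts E b g y) (hX : ArSurf.IsArithSurface R X)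
    (Γ : ArSurf.VertComp R X) (hΓ : Set.range Γ.ι ≠ Set.range E.ι)
    (Δ : ArSurf.VertComp R (Over.mk g)) (h : Set.range Δ.ι = b '' Set.range Γ.ι) {D : Y.IdealSheafData}
    (hD : BlowUp.IsEffCartierIdeal D) (hD' : BlowUp.IsEffCartierIdeal (D.comap b)) :
    degI Γ (D.comap b) = degI Δ D := by
  haveI := isProper_hom_of_isArithSurface hX
  haveI : IsProper (Over.mk g).hom := F.proper
  let k := IsLocalRing.ResidueField R
  haveI : IsProper (Γ.curve.left ↘ Spec (CommRingCat.of k)) := isProper_curve Γ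
  haveI : IsProper (Δ.curve.left ↘ Spec (CommRingCat.of k)) := isProper_curve Δ
  let γ := genericPoint Γ.curve.left
  obtain ⟨φ, hφ⟩ := RedSepLib.exists_lift_of_isReduced (Γ.ι ≫ b) Δ.ι (by
    rintro _ ⟨z, rfl⟩
    exact h.ge ⟨Γ.ι z, ⟨z, rfl⟩, rfl⟩)
  have hgen : φ γ = genericPoint Δ.curve.left := Δ.ι.isClosedEmbedding.injective (by
    rw [← Scheme.Hom.comp_apply, hφ]
    exact (F.genPt_image Γ Δ h).symm)
  haveI : IsClosedImmersion (Spec.map (CommRingCat.ofHom (IsLocalRing.residue R))) :=
    IsClosedImmersion.spec_of_surjective _ IsLocalRing.residue_surjective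
  have hover : φ ≫ (Δ.curve.left ↘ Spec (CommRingCat.of k)) = Γ.curve.left ↘ Spec (CommRingCat.of k) := by
    rw [← cancel_mono (Spec.map (CommRingCat.ofHom (IsLocalRing.residue R))), Category.assoc]
    show φ ≫ Δ.curve.hom ≫ _ = Γ.curve.hom ≫ _
    rw [← Δ.w, ← Γ.w, reassoc_of% hφ]
    exact congrArg (Γ.ι ≫ ·) F.comp
  have hne : b (Γ.ι γ) ≠ y := F.genPt_ne hΓ
  have hdeg1 : φ.residueDegree γ = 1 := by
    refine CycDeg.residueDegree_eq_one φ ?_
    haveI := F.isIso_stalk hne
    have h1 : Function.Surjective ((Γ.ι ≫ b).stalkMap γ).hom := by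
      rw [Scheme.Hom.stalkMap_comp, CommRingCat.hom_comp, RingHom.coe_comp]
      exact (Γ.ι.stalkMap_surjective γ).comp (ConcreteCategory.bijective_of_isIso (b.stalkMap (Γ.ι γ))).2
    have h2 : ∀ f' : Γ.curve.left ⟶ Y, f' = φ ≫ Δ.ι → Function.Surjective (f'.stalkMap γ).hom →
        Function.Surjective (φ.stalkMap γ).hom := by
      rintro _ rfl h'
      rw [Scheme.Hom.stalkMap_comp, CommRingCat.hom_comp, RingHom.coe_comp] at h'
      exact Function.Surjective.of_comp h'
    have h3 := h2 _ hφ.symm h1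
    intro v
    obtain ⟨w, rfl⟩ := IsLocalRing.residue_surjective v
    obtain ⟨a, rfl⟩ := h3 w
    exact ⟨Δ.curve.left.residue (φ γ) a, ConcreteCategory.congr_hom (Scheme.residue_residueFieldMap φ γ) a⟩
  have hDi := (Groth.Agent.S8914.result _).2 hD
  obtain ⟨nI⟩ := Nakai.nonempty_pullback_idealMod b hD hD'
  have h4 := DualGeneric.deg_pullback k (X := Γ.curve.left) (Y := Δ.curve.left) Γ.dim_eq.le Δ.dim_eq.le φ hover hgen
    (fun z hz hmem => by
      have hzgen : genericPoint Δ.curve.left = z := hgen.symm.trans hmem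
      subst hzgen
      have hall : ∀ w : Δ.curve.left, w = genericPoint Δ.curve.left := fun w =>
        (genericPoint_specializes w).mem_closed hz rfl
      haveI : Subsingleton Δ.curve.left := ⟨fun p q => (hall p).trans (hall q).symm⟩
      have h0 : topologicalKrullDim Δ.curve.left ≤ ((0 : ℕ) : WithBot ℕ∞) :=
        Unibranch.topologicalKrullDim_le_natCast fun l c hc => by
          rcases l with _ | l
          · exact le_rfl
          · exact absurd (Subsingleton.elim _ _) (hc 0).2
      rw [Δ.dim_eq] at h0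
      exact absurd h0 (by decide))
    (fun z hz => Γ.ι.isClosedEmbedding.injective (F.inj (by
      rw [← Scheme.Hom.comp_apply, ← Scheme.Hom.comp_apply, ← hφ, Scheme.Hom.comp_apply, Scheme.Hom.comp_apply]
      exact congrArg Δ.ι hz.symm) hne).symm)
    (CurveRR.isFinLocFreeOfRank_one (PicLoc.isInvertible_pullback Δ.ι hDi))
  rw [hdeg1, Nat.cast_one, one_mul] at h4
  rw [degI, degI, ← h4, Curv2.deg, Curv2.deg]
  rw [CurveRR.euler_eq_of_iso (k := k) ((Scheme.Modules.pullback Γ.ι).mapIso nI.symm ≪≫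
    (Scheme.Modules.pullbackComp Γ.ι b).app _ ≪≫ (Scheme.Modules.pullbackCongr hφ.symm).app _ ≪≫
    ((Scheme.Modules.pullbackComp φ Δ.ι).app _).symm)]
  rfl

/-- A pullback from the target has degree zero on the contracted curve. -/
theorem ContractFacts.degI_exc (F : ContractFacts E b g y) (hX : ArSurf.IsArithSurface R X) {D : Y.IdealSheafData}
    (hD : BlowUp.IsEffCartierIdeal D) (hD' : BlowUp.IsEffCartierIdeal (D.comap b)) :
    degI E (D.comap b) = 0 := by
  haveI := isProper_hom_of_isArithSurface hX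
  haveI : IsProper (E.curve.left ↘ Spec (CommRingCat.of (IsLocalRing.ResidueField R))) := isProper_curve E
  obtain ⟨nI⟩ := Nakai.nonempty_pullback_idealMod b hD hD'
  obtain ⟨t⟩ := nonempty_pullback_point (E.ι ≫ b) y (fun z => F.fibre.ge ⟨z, rfl⟩)
    ((Groth.Agent.S8914.result _).2 hD)
  rw [degI, Curv2.deg, CurveRR.euler_eq_of_iso ((Scheme.Modules.pullback E.ι).mapIso nI.symm ≪≫
    (Scheme.Modules.pullbackComp E.ι b).app _ ≪≫ t)]
  simp

/-- The total transform of a strict image. -/
theorem ContractFacts.exists_total (F : ContractFacts E b g y) (hX : ArSurf.IsArithSurface R X)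
    (Γ : ArSurf.VertComp R X) (hΓ : Set.range Γ.ι ≠ Set.range E.ι)
    (Δ : ArSurf.VertComp R (Over.mk g)) (h : Set.range Δ.ι = b '' Set.range Γ.ι) :
    BlowUp.IsEffCartierIdeal (Δ.ι.ker.comap b) ∧ ∃ c : ℕ, Δ.ι.ker.comap b = Γ.ι.ker * E.ι.ker ^ c := by
  haveI := hX.2.1
  haveI := isProper_hom_of_isArithSurface hX
  haveI : IsLocallyNoetherian X.left := LocallyOfFiniteType.isLocallyNoetherian X.hom
  haveI : CompactSpace X.left := QuasiCompact.compactSpace_of_compactSpace X.hom
  haveI : IsNoetherian X.left := {}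
  have hgen := F.genPt_image Γ Δ h
  have hΔs : (Δ.ι.ker.support : Set (Over.mk g).left) = b '' Set.range Γ.ι := by
    rw [Scheme.Hom.support_ker, Δ.ι.isClosedEmbedding.isClosed_range.closure_eq, h]
  have hcart : BlowUp.IsEffCartierIdeal (Δ.ι.ker.comap b) := by
    refine PtBlow.cartier_comap_generic b (isEffCartierIdeal_ker F.arith Δ) fun hmem => ?_
    rw [hΔs] at hmem
    have h1 : g (b (genericPoint X.left)) = IsLocalRing.closedPoint R := by
      obtain ⟨x, hx, hxb⟩ := hmem
      rw [← hxb, ← Scheme.Hom.comp_apply, F.comp]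
      exact range_subset_specialFibre Γ hx
    rw [← Scheme.Hom.comp_apply, F.comp] at h1
    haveI := hX.2.2.2.1
    obtain ⟨w, hw, hw'⟩ := Flat.generalizingMap X.hom (a := genericPoint X.left)
      ((PrimeSpectrum.le_iff_specializes (⟨⊥, Ideal.isPrime_bot⟩ : PrimeSpectrum R) (X.hom (genericPoint X.left))).mp bot_le)
    rw [(hw.antisymm ((genericPoint_spec X.left).specializes trivial)).eq, h1] at hw'
    exact IsDiscreteValuationRing.not_a_field R (congrArg PrimeSpectrum.asIdeal hw')
  refine ⟨hcart, ?_⟩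
  let Ds : Fin 2 → X.left.IdealSheafData := ![Γ.ι.ker, E.ι.ker]
  have hint : ∀ Δ' : ArSurf.VertComp R X, IsIntegral Δ'.ι.ker.subscheme := fun Δ' => by
    haveI : IsIso Δ'.ι.toImage := inferInstance
    haveI : Nonempty Δ'.ι.ker.subscheme := ⟨Δ'.ι.toImage (genericPoint Δ'.curve.left)⟩
    exact isIntegral_of_isOpenImmersion (inv Δ'.ι.toImage)
  have hsupp : ∀ Δ' : ArSurf.VertComp R X, (Δ'.ι.ker.support : Set X.left) = Set.range Δ'.ι := fun Δ' => by
    rw [Scheme.Hom.support_ker, Δ'.ι.isClosedEmbedding.isClosed_range.closure_eq]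
  obtain ⟨a, ha⟩ := DivPart.exists_eq_prod _ hcart 2 Ds
    (Fin.forall_fin_two.2 ⟨isEffCartierIdeal_ker hX Γ, isEffCartierIdeal_ker hX E⟩)
    (Fin.forall_fin_two.2 ⟨hint Γ, hint E⟩) (fun x hx => by
      rw [Scheme.IdealSheafData.support_comap] at hx
      have hx' : b x ∈ b '' Set.range Γ.ι := hΔs ▸ hx
      by_cases hy : b x = y
      · exact Set.mem_iUnion.2 ⟨1, show x ∈ (E.ι.ker.support : Set X.left) by rw [hsupp, ← F.fibre]; exact hy⟩
      · obtain ⟨z, hz, hzx⟩ := hx'
        exact Set.mem_iUnion.2 ⟨0, show x ∈ (Γ.ι.ker.support : Set X.left) by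
          rw [hsupp, F.inj hzx.symm hy]; exact hz⟩)
  rw [Fin.prod_univ_two] at ha
  refine ⟨a 1, ?_⟩
  suffices h0 : a 0 = 1 by rw [ha, h0, pow_one]; rfl
  let γ := Models.genPtOf R X Γ
  have hne := F.genPt_ne hΓ
  haveI := F.isIso_stalk hne
  obtain ⟨U, hU, hγU, -⟩ := exists_isAffineOpen_mem_and_subset (show b γ ∈ (⊤ : Y.Opens) from trivial)
  obtain ⟨W, hW, hγW, hWU⟩ := exists_isAffineOpen_mem_and_subset (x := γ) (U := b ⁻¹ᵁ U) hγU
  let W' : X.left.affineOpens := ⟨W, hW⟩
  have h1 : DivPart.stI (Δ.ι.ker.comap b) W' hγW = IsLocalRing.maximalIdeal (X.left.presheaf.stalk γ) := by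
    rw [stI_comap b _ ⟨U, hU⟩ W' hWU hγW]
    have h2 : ∀ (w : Y) (hw : w ∈ U), w = Models.genPtOf R (Over.mk g) Δ →
        DivPart.stI Δ.ι.ker ⟨U, hU⟩ hw = IsLocalRing.maximalIdeal (Y.presheaf.stalk w) := by
      rintro _ hw rfl
      exact stI_ker_genPt (X := Over.mk g) Δ ⟨U, hU⟩ hw
    erw [h2 (b γ) (hWU hγW) hgen.symm]
    exact IsLocalRing.eq_maximalIdeal (Ideal.map_isMaximal_of_equiv (asIso (b.stalkMap γ)).commRingCatIsoToRingEquiv
      (p := IsLocalRing.maximalIdeal _))
  have hunit : DivPart.stI E.ι.ker W' hγW = ⊤ := by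
    obtain ⟨f, -, hf, hu⟩ := DivPart.exists_generator E.ι.ker (isEffCartierIdeal_ker hX E) W' hγW
    rw [hf, Ideal.span_singleton_eq_top]
    exact hu (genPt_notMem hΓ)
  have h3 := congrArg (fun I => DivPart.stI I W' hγW) ha
  simp only [DivPart.stI, Scheme.IdealSheafData.ideal_mul, PtBlow.ideal_pow', Pi.mul_apply, Ideal.map_mul,
    Ideal.map_pow] at h3
  change DivPart.stI (Δ.ι.ker.comap b) W' hγW =
    DivPart.stI Γ.ι.ker W' hγW ^ a 0 * DivPart.stI E.ι.ker W' hγW ^ a 1 at h3
  rw [h1, hunit, Ideal.top_pow, Ideal.mul_top, stI_ker_genPt] at h3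
  haveI := hX.1 γ
  have hdim : ringKrullDim (X.left.presheaf.stalk γ) = 1 := by
    refine ringKrullDim_stalk_curve hX.2.2.1 ?_
    rw [closure_genPtOf, ← Γ.ι.isClosedEmbedding.isEmbedding.toHomeomorph.isHomeomorph.topologicalKrullDim_eq,
      Γ.dim_eq]
    rfl
  have hnf : ¬ IsField (X.left.presheaf.stalk γ) := fun hf => by
    rw [ringKrullDim_eq_zero_of_isField hf] at hdim
    exact zero_ne_one hdim
  haveI : IsDiscreteValuationRing (X.left.presheaf.stalk γ) :=
    (SepReg.dvr_iff_regular _ hnf hdim.le).2 inferInstance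
  have h4 := IsDiscreteValuationRing.length_quotient_pow_maximalIdeal (R := X.left.presheaf.stalk γ) (a 0)
  rw [← h3, ← pow_one (IsLocalRing.maximalIdeal _), IsDiscreteValuationRing.length_quotient_pow_maximalIdeal] at h4
  exact_mod_cast h4.symm

/-- Intersection numbers after a contraction. -/
theorem ContractFacts.inter_image (F : ContractFacts E b g y) (hX : ArSurf.IsArithSurface R X) {n : ℕ}
    (Γ : Fin (n + 1) → ArSurf.VertComp R X) (hΓ : Models.IsComponentList R X Γ) (hlast : Γ (Fin.last n) = E)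
    (Δ : Fin n → ArSurf.VertComp R (Over.mk g))
    (hΔ : ∀ i, Set.range (Δ i).ι = b '' Set.range (Γ i.castSucc).ι) (i j : Fin n) :
    interMat Δ i j * interMat Γ (Fin.last n) (Fin.last n) =
      interMat Γ i.castSucc j.castSucc * interMat Γ (Fin.last n) (Fin.last n) -
        interMat Γ i.castSucc (Fin.last n) * interMat Γ j.castSucc (Fin.last n) := by
  subst hlast
  haveI := isProper_hom_of_isArithSurface hX
  have hne : ∀ l : Fin n, Set.range (Γ l.castSucc).ι ≠ Set.range (Γ (Fin.last n)).ι := fun l e =>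
    Fin.castSucc_ne_last l (hΓ.1 (by show Set.range (Γ l.castSucc).ι = Set.range (Γ (Fin.last n)).ι; exact e))
  obtain ⟨hcart, c, hc⟩ := F.exists_total hX (Γ j.castSucc) (hne j) (Δ j) (hΔ j)
  have hcj := isEffCartierIdeal_ker hX (Γ j.castSucc)
  have hcE := isEffCartierIdeal_ker hX (Γ (Fin.last n))
  have hD := isEffCartierIdeal_ker F.arith (Δ j)
  have key : ∀ Θ : ArSurf.VertComp R X,
      degI Θ ((Δ j).ι.ker.comap b) = degI Θ (Γ j.castSucc).ι.ker + (c : ℤ) * degI Θ (Γ (Fin.last n)).ι.ker := fun Θ => by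
    rw [hc, degI_mul Θ hcj (DivPart.cartier_pow hcE c), degI_pow Θ hcE]
  have h1 : interMat Δ i j = interMat Γ i.castSucc j.castSucc + c * interMat Γ i.castSucc (Fin.last n) := by
    simp only [interMat]
    rw [← F.degI_image hX (Γ i.castSucc) (hne i) (Δ i) (hΔ i) hD hcart, key]
    ring
  have h2 : interMat Γ (Fin.last n) j.castSucc + c * interMat Γ (Fin.last n) (Fin.last n) = 0 := by
    have h := F.degI_exc hX hD hcart
    rw [key] at h
    simp only [interMat]
    linarith
  rw [h1, (interMat_facts hX Γ hΓ.1).1 j.castSucc (Fin.last n)]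
  linear_combination (interMat Γ i.castSucc (Fin.last n)) * h2

end Groth.Agent.Castel
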