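import Groth.Agent.Castel.ChainVan
import Groth.Agent.Castel.InterForm
import Groth.Agent.SteinGen.GeomConn
import Groth.Agent.AltN1.Basic
import Groth.Agent.DvrPoint.Basic
import Groth.Agent.PtBlow.Negativity
import Groth.Agent.PtBlow.ExcDescend
import Groth.Agent.RelMinSmooth.Contract
import Groth.Agent.W7Fib.Birat
import Groth.Agent.RatBlow.Sections

/-!
Two meeting exceptional curves of an arithmetic surface kill `H¹(O)` modulo torsion.
-/

set_option autoImplicit false
set_option backward.isDefEq.respectTransparency false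
set_option backward.isDefEq.respectTransparency.types false
set_option linter.style.haveILetI false

universe u

open CategoryTheory CategoryTheory.Limits AlgebraicGeometry TopologicalSpace Topology
open Groth.Agent.W7Rees (hm)
open Groth.Agent.QC (resO)

noncomputable section

namespace Groth.Agent.Castel

variable {k : Type u} [Field k]

/-- A function is constant on a projective line. -/
theorem basicOpen_projLine_eq (c : Γ(CohB1.ProjSpace 1 k, ⊤)) (p q : CohB1.ProjSpace 1 k)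
    (hp : p ∈ (CohB1.ProjSpace 1 k).basicOpen c) : q ∈ (CohB1.ProjSpace 1 k).basicOpen c := by
  haveI : IsIntegral (CohB1.ProjSpace 1 k) := Horrocks.isIntegral_projSpace
  haveI := ProjMor.isProper_toSpec (n := 1) (R := k)
  have hf := AlgebraicGeometry.isField_of_universallyClosed k (CohB1.ProjSpace.toSpec 1 k)
  have hc : c ≠ 0 := fun h => by
    rw [h, Scheme.basicOpen_zero] at hp
    exact hp
  obtain ⟨d, hd⟩ := hf.mul_inv_cancel hc
  rw [Scheme.mem_basicOpen_top]
  exact (IsUnit.of_mul_eq_one d hd).map _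

/-- Global functions do not separate the points of a closed line. -/
theorem toSpecΓ_line_eq {X : Scheme.{u}} (ι₀ : CohB1.ProjSpace 1 k ⟶ X) (p q : CohB1.ProjSpace 1 k) :
    X.toSpecΓ (ι₀ p) = X.toSpecΓ (ι₀ q) := by
  refine PrimeSpectrum.ext (Ideal.ext fun a => ?_)
  have key : ∀ p : CohB1.ProjSpace 1 k, a ∈ (X.toSpecΓ (ι₀ p)).asIdeal ↔
      p ∉ (CohB1.ProjSpace 1 k).basicOpen (ι₀.appTop a) := fun p => by
    show _ ↔ p ∉ (CohB1.ProjSpace 1 k).basicOpen (ι₀.app ⊤ a)
    rw [← Scheme.preimage_basicOpen, ← Scheme.toSpecΓ_preimage_basicOpen]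
    show a ∈ (X.toSpecΓ (ι₀ p)).asIdeal ↔ ¬ (a ∉ (X.toSpecΓ (ι₀ p)).asIdeal)
    rw [not_not]
  rw [key p, key q]
  exact not_congr ⟨basicOpen_projLine_eq _ p q, basicOpen_projLine_eq _ q p⟩

variable {W : Scheme.{u}}

/-- Restricting the ideal of a divisor to a line not in it. -/
theorem exists_exp [IsIntegral W] (ι₀ : CohB1.ProjSpace 1 k ⟶ W) {J : W.IdealSheafData}
    (hJ : BlowUp.IsEffCartierIdeal J)
    (hg : haveI := Horrocks.isIntegral_projSpace (k := k) (n := 1);
      ι₀ (genericPoint (CohB1.ProjSpace 1 k)) ∉ (J.support : Set W)) :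
    ∃ m : ℤ, Nonempty ((Scheme.Modules.pullback ι₀).obj (ClSub.idealMod J) ≅ Twist.twistProjSpace 1 k m) ∧
      m ≤ 0 ∧ (m = 0 → ∀ p, ι₀ p ∉ (J.support : Set W)) := by
  haveI : IsIntegral (CohB1.ProjSpace 1 k) := Horrocks.isIntegral_projSpace
  have hc : BlowUp.IsEffCartierIdeal (J.comap ι₀) := PtBlow.cartier_comap_generic ι₀ hJ hg
  obtain ⟨n⟩ := Nakai.nonempty_pullback_idealMod ι₀ hJ hc
  obtain ⟨m, ⟨em⟩, -⟩ := PicPn.existsUnique_iso (K := k) le_rfl _
    (PicLoc.isInvertible_pullback ι₀ ((Groth.Agent.S8914.result _).2 hJ))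
  refine ⟨m, ⟨em⟩, ?_, fun h0 p hp => ?_⟩
  · by_cases hne : ((J.comap ι₀).support : Set (CohB1.ProjSpace 1 k)).Nonempty
    · exact (PtBlow.Line.neg_of_idealMod_iso hc hne ⟨n.symm ≪≫ em⟩).le
    · have htop : J.comap ι₀ = ⊤ :=
        (Scheme.IdealSheafData.support_eq_bot_iff _).1 (SetLike.coe_injective (Set.not_nonempty_iff_eq_empty.1 hne))
      obtain ⟨o⟩ := Horrocks.Om_zero (k := k) (d := 1)
      obtain ⟨t⟩ := RatBlow.nonempty_idealMod_top (X := CohB1.ProjSpace 1 k)
      exact (PtBlow.Line.eq_of_iso (k := k) (em.symm ≪≫ n ≪≫ eqToIso (congrArg ClSub.idealMod htop) ≪≫ t ≪≫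
        o.symm)).le
  · have hp' : p ∈ ((J.comap ι₀).support : Set (CohB1.ProjSpace 1 k)) := by
      rw [Scheme.IdealSheafData.support_comap]
      exact hp
    have := PtBlow.Line.neg_of_idealMod_iso hc ⟨p, hp'⟩ ⟨n.symm ≪≫ em⟩
    omega

/-- Two lines with conormal degree one and the same closed set are the same divisor. -/
theorem range_ne_gen [IsIntegral W] {k' : Type u} [Field k'] (ι₁ : CohB1.ProjSpace 1 k ⟶ W) [IsClosedImmersion ι₁]
    (ι₂ : CohB1.ProjSpace 1 k' ⟶ W) [IsClosedImmersion ι₂] (hdim : topologicalKrullDim W ≤ 2)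
    (hne : Set.range ι₁ ≠ Set.range ι₂) (h2 : BlowUp.IsEffCartierIdeal ι₂.ker) :
    haveI := Horrocks.isIntegral_projSpace (k := k) (n := 1)
    ι₁ (genericPoint (CohB1.ProjSpace 1 k)) ∉ (ι₂.ker.support : Set W) := by
  haveI : IsIntegral (CohB1.ProjSpace 1 k) := Horrocks.isIntegral_projSpace
  haveI : IsIntegral (CohB1.ProjSpace 1 k') := Horrocks.isIntegral_projSpace
  rw [Scheme.Hom.support_ker, ι₂.isClosedEmbedding.isClosed_range.closure_eq]
  rintro ⟨z, hz⟩
  obtain ⟨p, hp⟩ : ∃ p : CohB1.ProjSpace 1 k, p ≠ genericPoint (CohB1.ProjSpace 1 k) := by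
    by_contra! hall
    haveI : Subsingleton (CohB1.ProjSpace 1 k) := ⟨fun p q => (hall p).trans (hall q).symm⟩
    have h0 : topologicalKrullDim (CohB1.ProjSpace 1 k) ≤ ((0 : ℕ) : WithBot ℕ∞) :=
      Unibranch.topologicalKrullDim_le_natCast fun l c hc => by
        rcases l with _ | l
        · exact le_rfl
        · exact absurd (Subsingleton.elim _ _) (hc 0).2
    rw [Groth.Agent.S10829.result k 1] at h0
    exact absurd h0 (by decide)
  by_cases hzg : z = genericPoint (CohB1.ProjSpace 1 k')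
  · apply hne
    have key : ∀ {k : Type u} [Field k] [IrreducibleSpace (CohB1.ProjSpace 1 k)] (ι : CohB1.ProjSpace 1 k ⟶ W)
        [IsClosedImmersion ι], Set.range ι = closure {ι (genericPoint (CohB1.ProjSpace 1 k))} := fun ι _ =>
      subset_antisymm (by
        rintro _ ⟨w, rfl⟩
        exact specializes_iff_mem_closure.1 ((genericPoint_specializes w).map ι.continuous))
        (closure_minimal (Set.singleton_subset_iff.2 ⟨_, rfl⟩) ι.isClosedEmbedding.isClosed_range)
    rw [key ι₁, key ι₂, ← hz, hzg]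
  · have hgen : genericPoint W ≠ ι₂ (genericPoint (CohB1.ProjSpace 1 k')) := by
      intro e
      have := W7Fib.genericPoint_notMem_support (I := ι₂.ker) fun h => by
        obtain ⟨U, hU, f, hf, hid⟩ := h2 (genericPoint W)
        haveI : Nonempty U.1 := ⟨⟨_, hU⟩⟩
        refine nonZeroDivisors.ne_zero hf ?_
        have : f ∈ ι₂.ker.ideal U := hid ▸ Ideal.mem_span_singleton_self f
        rw [h] at this
        simpa using this
      apply this
      rw [← SetLike.mem_coe, Scheme.Hom.support_ker, ι₂.isClosedEmbedding.isClosed_range.closure_eq, e]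
      exact ⟨_, rfl⟩
    refine RelMinSmooth.no_chain_four hdim ((genericPoint_spec W).specializes trivial)
      (hz ▸ (genericPoint_specializes z).map ι₂.continuous :
        ι₂ (genericPoint (CohB1.ProjSpace 1 k')) ⤳ ι₁ (genericPoint (CohB1.ProjSpace 1 k)))
      ((genericPoint_specializes p).map ι₁.continuous) hgen
      (fun e => hzg (ι₂.isClosedEmbedding.injective (hz.trans e.symm)))
      (fun e => hp (ι₁.isClosedEmbedding.injective e).symm)

variable {R : Type u} [CommRing R] [IsDedekindDomain R]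

/-- Two distinct meeting vertical exceptional curves: `H¹(O)` is torsion. -/
theorem exists_smul_h1_of_meeting {X : Over (Spec (CommRingCat.of R))} [X.left.Over (Spec (CommRingCat.of R))]
    (hover : X.left ↘ Spec (CommRingCat.of R) = X.hom)
    [IsIntegral X.left] [Flat X.hom] [IsProper X.hom] (hdim : topologicalKrullDim X.left ≤ 2) {k₁ k₂ : Type u} [Field k₁] [Field k₂]
    (ι₁ : CohB1.ProjSpace 1 k₁ ⟶ X.left) [IsClosedImmersion ι₁]
    (ι₂ : CohB1.ProjSpace 1 k₂ ⟶ X.left) [IsClosedImmersion ι₂]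
    (h₁ : BlowUp.IsEffCartierIdeal ι₁.ker) (h₂ : BlowUp.IsEffCartierIdeal ι₂.ker)
    (e₁ : (Scheme.Modules.pullback ι₁).obj (ClSub.idealMod ι₁.ker) ≅ Twist.twistProjSpace 1 k₁ 1)
    (e₂ : (Scheme.Modules.pullback ι₂).obj (ClSub.idealMod ι₂.ker) ≅ Twist.twistProjSpace 1 k₂ 1)
    (s : Spec (CommRingCat.of R)) (hs0 : s.asIdeal ≠ ⊥)
    (hs₁ : ∀ p, X.hom (ι₁ p) = s) (hs₂ : ∀ p, X.hom (ι₂ p) = s)
    (hne : Set.range ι₁ ≠ Set.range ι₂) {p₁ : CohB1.ProjSpace 1 k₁} {p₂ : CohB1.ProjSpace 1 k₂}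
    (hmeet : ι₁ p₁ = ι₂ p₂) :
    ∃ r : R, r ≠ 0 ∧ ∀ x : Coh.HH X.left (Coh.structureModule X.left) 1, r • x = 0 := by
  haveI : IsProper (X.left ↘ Spec (CommRingCat.of R)) := hover.symm ▸ inferInstance
  haveI : IsLocallyNoetherian X.left := LocallyOfFiniteType.isLocallyNoetherian X.hom
  haveI : CompactSpace X.left := QuasiCompact.compactSpace_of_compactSpace X.hom
  haveI : AlgebraicGeometry.IsNoetherian X.left := {}
  haveI : IsIntegral (CohB1.ProjSpace 1 k₁) := Horrocks.isIntegral_projSpace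
  haveI : IsIntegral (CohB1.ProjSpace 1 k₂) := Horrocks.isIntegral_projSpace
  set I := ι₁.ker with hI
  set J := ι₂.ker with hJ
  have hgI : ι₂ (genericPoint (CohB1.ProjSpace 1 k₂)) ∉ (I.support : Set X.left) :=
    range_ne_gen ι₂ ι₁ hdim hne.symm h₁
  have hgJ : ι₁ (genericPoint (CohB1.ProjSpace 1 k₁)) ∉ (J.support : Set X.left) :=
    range_ne_gen ι₁ ι₂ hdim hne h₂
  obtain ⟨a, ⟨ea⟩, ha, ha0⟩ := exists_exp ι₁ h₂ hgJ
  obtain ⟨b, ⟨eb⟩, hb, hb0⟩ := exists_exp ι₂ h₁ hgI
  have ha1 : a ≤ -1 := by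
    rcases ha.lt_or_eq with h | h
    · omega
    · refine absurd ?_ (ha0 h p₁)
      rw [hmeet, Scheme.Hom.support_ker]
      exact subset_closure ⟨p₂, rfl⟩
  have hb1 : b ≤ -1 := by
    rcases hb.lt_or_eq with h | h
    · omega
    · refine absurd ?_ (hb0 h p₂)
      rw [← hmeet, Scheme.Hom.support_ker]
      exact subset_closure ⟨p₁, rfl⟩
  -- the fibre divisor
  have hsmax : s.asIdeal.IsMaximal := Ideal.IsPrime.isMaximal s.isPrime hs0
  have hsc : IsClosed ({s} : Set (Spec (CommRingCat.of R))) := (PrimeSpectrum.isClosed_singleton_iff_isMaximal s).mpr hsmax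
  let Ps := Scheme.IdealSheafData.vanishingIdeal (⟨{s}, hsc⟩ : Closeds (Spec (CommRingCat.of R)))
  haveI hdvr : IsDiscreteValuationRing ((Spec (CommRingCat.of R)).presheaf.stalk s) := by
    haveI : IsDomain ((Spec.structureSheaf R).presheaf.stalk s) :=
      inferInstanceAs (IsDomain (((Spec (CommRingCat.of R)).presheaf.stalk s)))
    show IsDiscreteValuationRing ((Spec.structureSheaf R).presheaf.stalk s)
    exact IsLocalization.AtPrime.isDiscreteValuationRing_of_dedekind_domain R (P := s.asIdeal) hs0 _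
  have hPs : BlowUp.IsEffCartierIdeal Ps := (Groth.Agent.S8914.result Ps).1 (DvrPoint.isInvertible_idealMod hsc)
  let F := Ps.comap X.hom
  have hF : BlowUp.IsEffCartierIdeal F := BlowUpLib.cartier_comap_flat hPs X.hom
  have hFsupp : ∀ x, x ∈ (F.support : Set X.left) ↔ X.hom x = s := fun x => by
    show x ∈ ((Ps.comap X.hom).support : Set X.left) ↔ _
    rw [Scheme.IdealSheafData.support_comap]
    show X.hom x ∈ (Ps.support : Set _) ↔ _
    simp [Ps]
  have hF₁ : Nonempty ((Scheme.Modules.pullback ι₁).obj (ClSub.idealMod F) ≅ Twist.twistProjSpace 1 k₁ 0) := by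
    obtain ⟨n⟩ := Nakai.nonempty_pullback_idealMod X.hom hPs hF
    obtain ⟨t⟩ := nonempty_pullback_point (ι₁ ≫ X.hom) s (fun z => by rw [Scheme.Hom.comp_apply, hs₁])
      ((Groth.Agent.S8914.result _).2 hPs)
    obtain ⟨o⟩ := Horrocks.Om_zero (k := k₁) (d := 1)
    exact ⟨(Scheme.Modules.pullback ι₁).mapIso n.symm ≪≫ (Scheme.Modules.pullbackComp ι₁ X.hom).app _ ≪≫ t ≪≫ o.symm⟩
  have hF₂ : Nonempty ((Scheme.Modules.pullback ι₂).obj (ClSub.idealMod F) ≅ Twist.twistProjSpace 1 k₂ 0) := by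
    obtain ⟨n⟩ := Nakai.nonempty_pullback_idealMod X.hom hPs hF
    obtain ⟨t⟩ := nonempty_pullback_point (ι₂ ≫ X.hom) s (fun z => by rw [Scheme.Hom.comp_apply, hs₂])
      ((Groth.Agent.S8914.result _).2 hPs)
    obtain ⟨o⟩ := Horrocks.Om_zero (k := k₂) (d := 1)
    exact ⟨(Scheme.Modules.pullback ι₂).mapIso n.symm ≪≫ (Scheme.Modules.pullbackComp ι₂ X.hom).app _ ≪≫ t ≪≫ o.symm⟩
  -- F = I^p J^q Rest
  have gI : ι₁ (genericPoint (CohB1.ProjSpace 1 k₁)) ∈ (I.support : Set X.left) := by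
    rw [Scheme.Hom.support_ker]; exact subset_closure ⟨_, rfl⟩
  have gJ : ι₂ (genericPoint (CohB1.ProjSpace 1 k₂)) ∈ (J.support : Set X.left) := by
    rw [Scheme.Hom.support_ker]; exact subset_closure ⟨_, rfl⟩
  obtain ⟨p, hp, hp'⟩ := PtBlow.exists_max_pow hF gI
  obtain ⟨F', hF'⟩ := ModPairProd.exists_div (DivPart.cartier_pow h₁ p) hp
  have hF'c : BlowUp.IsEffCartierIdeal F' := BlowUpLib.cartier_of_mul_left (hF'.symm ▸ hF)
  obtain ⟨q, hq, hq'⟩ := PtBlow.exists_max_pow hF'c gJ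
  obtain ⟨Re, hRe⟩ := ModPairProd.exists_div (DivPart.cartier_pow h₂ q) hq
  have hRec : BlowUp.IsEffCartierIdeal Re := BlowUpLib.cartier_of_mul_left (hRe.symm ▸ hF'c)
  have hRI : ι₁ (genericPoint (CohB1.ProjSpace 1 k₁)) ∉ (Re.support : Set X.left) := fun h => hp' (by
    refine hF'.symm.le.trans fun V => ?_
    rw [pow_succ', Scheme.IdealSheafData.ideal_mul, Scheme.IdealSheafData.ideal_mul, ← hRe,
      Scheme.IdealSheafData.ideal_mul]
    exact Ideal.mul_mono_left (Ideal.mul_le_left.trans (PtBlow.le_ker_of_mem_support ι₁ (Iso.refl _) Re h V)))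
  have hRJ : ι₂ (genericPoint (CohB1.ProjSpace 1 k₂)) ∉ (Re.support : Set X.left) := fun h => hq' (by
    refine hRe.symm.le.trans fun V => ?_
    rw [pow_succ', Scheme.IdealSheafData.ideal_mul, Scheme.IdealSheafData.ideal_mul]
    exact Ideal.mul_mono_left (PtBlow.le_ker_of_mem_support ι₂ (Iso.refl _) Re h V))
  have hsplit : Re * J ^ q * I ^ p = F := by rw [hRe, hF']
  obtain ⟨r₁, ⟨er₁⟩, hr₁, hr₁0⟩ := exists_exp ι₁ hRec hRI
  obtain ⟨r₂, ⟨er₂⟩, hr₂, hr₂0⟩ := exists_exp ι₂ hRec hRJ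
  have hpow : ∀ {k : Type u} [Field k] (ι : CohB1.ProjSpace 1 k ⟶ X.left) {D : X.left.IdealSheafData}
      (_ : BlowUp.IsEffCartierIdeal D) {m : ℤ}
      (_ : (Scheme.Modules.pullback ι).obj (ClSub.idealMod D) ≅ Twist.twistProjSpace 1 k m) (n : ℕ),
      Nonempty ((Scheme.Modules.pullback ι).obj (ClSub.idealMod (D ^ n)) ≅ Twist.twistProjSpace 1 k (m * n)) := by
    intro k _ ι D hD m em n
    induction n with
    | zero =>
      obtain ⟨t⟩ := RatBlow.nonempty_idealMod_top (X := X.left)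
      obtain ⟨o⟩ := Horrocks.Om_zero (k := k) (d := 1)
      rw [pow_zero, Scheme.IdealSheafData.one_eq_top, show m * ((0 : ℕ) : ℤ) = 0 by simp]
      exact ⟨(Scheme.Modules.pullback ι).mapIso t ≪≫ PicLoc.pullbackStructureIso ι ≪≫ o.symm⟩
    | succ n ih =>
      obtain ⟨en⟩ := ih
      obtain ⟨μ⟩ := Nakai.nonempty_idealMod_mul (DivPart.cartier_pow hD n) hD
      obtain ⟨t⟩ := nonempty_pullback_tensor ι en em (c := m * ((n + 1 : ℕ) : ℤ)) (by push_cast; ring)
      rw [pow_succ]
      exact ⟨(Scheme.Modules.pullback ι).mapIso μ.symm ≪≫ t⟩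
  have hsum : ∀ {k : Type u} [Field k] (ι : CohB1.ProjSpace 1 k ⟶ X.left) {x y z : ℤ}
      (_ : Nonempty ((Scheme.Modules.pullback ι).obj (ClSub.idealMod F) ≅ Twist.twistProjSpace 1 k 0))
      (_ : (Scheme.Modules.pullback ι).obj (ClSub.idealMod I) ≅ Twist.twistProjSpace 1 k x)
      (_ : (Scheme.Modules.pullback ι).obj (ClSub.idealMod J) ≅ Twist.twistProjSpace 1 k y)
      (_ : (Scheme.Modules.pullback ι).obj (ClSub.idealMod Re) ≅ Twist.twistProjSpace 1 k z),
      z + y * q + x * p = 0 := by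
    intro k _ ι x y z ⟨eF⟩ ex ey ez
    obtain ⟨eI⟩ := hpow ι h₁ ex p
    obtain ⟨eJ⟩ := hpow ι h₂ ey q
    obtain ⟨μ₁⟩ := Nakai.nonempty_idealMod_mul hRec (DivPart.cartier_pow h₂ q)
    obtain ⟨μ₂⟩ := Nakai.nonempty_idealMod_mul (BlowUpLib.cartier_mul hRec (DivPart.cartier_pow h₂ q)) (DivPart.cartier_pow h₁ p)
    obtain ⟨t₁⟩ := nonempty_pullback_tensor ι ez eJ rfl
    obtain ⟨t₂⟩ := nonempty_pullback_tensor ι ((Scheme.Modules.pullback ι).mapIso μ₁.symm ≪≫ t₁) eI rfl
    exact (PtBlow.Line.eq_of_iso (k := k) (eF.symm ≪≫ (Scheme.Modules.pullback ι).mapIso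
      (eqToIso (congrArg ClSub.idealMod hsplit.symm) ≪≫ μ₂.symm) ≪≫ t₂)).symm
  have s₁ := hsum ι₁ hF₁ e₁ ea er₁
  have s₂ := hsum ι₂ hF₂ eb e₂ er₂
  have hp1 : 1 ≤ p := by
    by_contra h
    have hle : F ≤ I := PtBlow.le_ker_of_mem_support ι₁ (Iso.refl _) F
      ((hFsupp _).2 (hs₁ _))
    obtain rfl : p = 0 := by omega
    exact hp' (by rwa [pow_one])
  obtain ⟨rfl, rfl, rfl, rfl, hpq⟩ : a = -1 ∧ b = -1 ∧ r₁ = 0 ∧ r₂ = 0 ∧ p = q := by
    have h1 : (p : ℤ) ≥ (-a) * q := by linarith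
    have h2 : (q : ℤ) ≥ (-b) * p := by linarith
    have h3 : (p : ℤ) ≥ q := by nlinarith
    have h4 : (q : ℤ) ≥ p := by nlinarith
    have h5 : (p : ℤ) = q := le_antisymm h4 h3
    have ha' : a = -1 := by nlinarith
    have hb' : b = -1 := by nlinarith
    subst ha' hb'
    exact ⟨rfl, rfl, by linarith, by linarith, by exact_mod_cast h5⟩
  subst hpq
  have hRE₁ := hr₁0 rfl
  have hRE₂ := hr₂0 rfl
  -- the Stein factorisation
  letI algA : Algebra R Γ(X.left, ⊤) := (Coh.toGlobal X.hom : R →+* Γ(X.left, ⊤)).toAlgebra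
  haveI : Module.Finite R Γ(X.left, ⊤) := AltN1.finite_global X.hom
  haveI : IsNoetherianRing Γ(X.left, ⊤) := IsNoetherianRing.of_finite R Γ(X.left, ⊤)
  let A : Type u := Γ(X.left, ⊤)
  let φ : X.left ⟶ Spec (CommRingCat.of A) := X.left.toSpecΓ
  let π := Spec.map ((Scheme.ΓSpecIso (CommRingCat.of R)).inv ≫ X.hom.appTop)
  have hφπ : φ ≫ π = X.hom := by
    show X.left.toSpecΓ ≫ Spec.map ((Scheme.ΓSpecIso (CommRingCat.of R)).inv ≫ X.hom.appTop) = _
    rw [Spec.map_comp, ← Scheme.toSpecΓ_naturality_assoc, ← SpecMap_ΓSpecIso_hom, ← Spec.map_comp,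
      Iso.inv_hom_id, Spec.map_id, Category.comp_id]
  haveI : IsProper φ := by
    haveI : IsProper (φ ≫ π) := by rw [hφπ]; infer_instance
    exact IsProper.of_comp φ π
  letI overA : X.left.Over (Spec (CommRingCat.of A)) := ⟨φ⟩
  haveI : IsProper (X.left ↘ Spec (CommRingCat.of A)) := ‹IsProper φ›
  let P := φ (ι₁ (genericPoint (CohB1.ProjSpace 1 k₁)))
  have hP₁ : ∀ t, φ (ι₁ t) = P := fun t => toSpecΓ_line_eq ι₁ t _
  have hP₂ : ∀ t, φ (ι₂ t) = P := fun t => (toSpecΓ_line_eq ι₂ t p₂).trans (hmeet ▸ hP₁ p₁)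
  have happ : Function.Bijective (φ.app ⊤) := by
    have : φ.app ⊤ = (Scheme.ΓSpecIso Γ(X.left, ⊤)).hom := Scheme.toSpecΓ_appTop X.left
    rw [this]
    exact ConcreteCategory.bijective_of_isIso _
  haveI hgc : GeometricallyConnected φ := SteinGen.geometricallyConnected_of_isIso_app φ fun U =>
    SteinGen.isIso_app_of_affine_cover φ (fun _ : Unit => ⊤) (fun _ => isAffineOpen_top _) (fun _ => ⟨(), trivial⟩)
      (fun _ => happ) U
  have hconn : _root_.IsPreconnected (φ.base ⁻¹' {P}) := by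
    rw [← φ.range_fiberι P]
    haveI : ConnectedSpace (φ.fiber P) := inferInstance
    exact isPreconnected_range (φ.fiberι P).continuous
  have hπP : π P = s := by
    show π (φ (ι₁ (genericPoint (CohB1.ProjSpace 1 k₁)))) = s
    exact (Scheme.Hom.comp_apply φ π _).symm.trans ((congrArg (fun m : X.left ⟶ _ => m (ι₁ (genericPoint _))) hφπ).trans (hs₁ _))
  have hcover : ∀ x, φ x = P → x ∈ Set.range ι₁ ∨ x ∈ Set.range ι₂ := by
    intro x hx
    have hsub : φ.base ⁻¹' {P} ⊆ (Set.range ι₁ ∪ Set.range ι₂) ∪ (Re.support : Set X.left) := by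
      intro v hv
      have : v ∈ (F.support : Set X.left) := (hFsupp v).2 (by
        exact ((congrArg (fun m : X.left ⟶ _ => m v) hφπ).symm.trans
          ((Scheme.Hom.comp_apply φ π v).trans ((congrArg π (hv : φ v = P)).trans hπP))))
      rw [← hsplit, Scheme.IdealSheafData.support_mul, Scheme.IdealSheafData.support_mul] at this
      rcases this with (h | h) | h
      · exact Or.inr h
      · refine Or.inl (Or.inr ?_)
        have := (PtBlow.mem_support_pow' J v p h).2
        rwa [Scheme.Hom.support_ker, ι₂.isClosedEmbedding.isClosed_range.closure_eq] at this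
      · refine Or.inl (Or.inl ?_)
        have := (PtBlow.mem_support_pow' I v p h).2
        rwa [Scheme.Hom.support_ker, ι₁.isClosedEmbedding.isClosed_range.closure_eq] at this
    by_contra hx'
    obtain ⟨y, -, hy, hyR⟩ := isPreconnected_closed_iff.1 hconn _ _
      (ι₁.isClosedEmbedding.isClosed_range.union ι₂.isClosedEmbedding.isClosed_range) Re.support.isClosed hsub
      ⟨ι₁ p₁, hP₁ p₁, Or.inl ⟨_, rfl⟩⟩ ⟨x, hx, (hsub hx).resolve_left hx'⟩
    rcases hy with ⟨t, rfl⟩ | ⟨t, rfl⟩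
    · exact hRE₁ t hyR
    · exact hRE₂ t hyR
  -- the chain
  let K : ℕ → X.left.IdealSheafData := fun n => if Even n then I else J
  have hK : ∀ n, BlowUp.IsEffCartierIdeal (K n) := fun n => by
    show BlowUp.IsEffCartierIdeal (if Even n then I else J)
    split_ifs <;> assumption
  have hexp : ∀ n, Nonempty ((Scheme.Modules.pullback ι₁).obj (chainMod K n) ≅
        Twist.twistProjSpace 1 k₁ (if Even n then 0 else 1)) ∧
      Nonempty ((Scheme.Modules.pullback ι₂).obj (chainMod K n) ≅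
        Twist.twistProjSpace 1 k₂ (if Even n then 0 else -1)) := by
    intro n
    induction n with
    | zero =>
      obtain ⟨o₁⟩ := Horrocks.Om_zero (k := k₁) (d := 1)
      obtain ⟨o₂⟩ := Horrocks.Om_zero (k := k₂) (d := 1)
      simp only [Even.zero, if_true]
      exact ⟨⟨PicLoc.pullbackStructureIso ι₁ ≪≫ o₁.symm⟩, ⟨PicLoc.pullbackStructureIso ι₂ ≪≫ o₂.symm⟩⟩
    | succ n ih =>
      obtain ⟨⟨u₁⟩, ⟨u₂⟩⟩ := ih
      by_cases hn : Even n
      · simp only [hn, if_true, Nat.even_add_one, not_true, if_false] at u₁ u₂ ⊢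
        show Nonempty ((Scheme.Modules.pullback ι₁).obj (CohB1.tensorMod (ClSub.idealMod (K n)) (chainMod K n)) ≅ _) ∧ _
        rw [show K n = I from if_pos hn]
        refine ⟨nonempty_pullback_tensor ι₁ e₁ u₁ (by norm_num), ?_⟩
        show Nonempty ((Scheme.Modules.pullback ι₂).obj (CohB1.tensorMod (ClSub.idealMod (K n)) (chainMod K n)) ≅ _)
        rw [show K n = I from if_pos hn]
        exact nonempty_pullback_tensor ι₂ eb u₂ (by norm_num)
      · simp only [hn, if_false, Nat.even_add_one, not_false_iff, if_true] at u₁ u₂ ⊢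
        show Nonempty ((Scheme.Modules.pullback ι₁).obj (CohB1.tensorMod (ClSub.idealMod (K n)) (chainMod K n)) ≅ _) ∧
          Nonempty ((Scheme.Modules.pullback ι₂).obj (CohB1.tensorMod (ClSub.idealMod (K n)) (chainMod K n)) ≅ _)
        rw [show K n = J from if_neg hn]
        exact ⟨nonempty_pullback_tensor ι₁ ea u₁ (by norm_num), nonempty_pullback_tensor ι₂ e₂ u₂ (by norm_num)⟩
  have hsurj : ∀ n, Function.Surjective (hm (CurveRR.idealIncl (K n) (chainMod K n)) 1) := by
    intro n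
    obtain ⟨⟨u₁⟩, ⟨u₂⟩⟩ := hexp n
    by_cases hn : Even n
    · rw [show K n = I from if_pos hn]
      simp only [hn, if_true] at u₁
      exact surjective_h1_idealIncl' ι₁ rfl (isInvertible_chainMod hK n) (by norm_num) u₁
    · rw [show K n = J from if_neg hn]
      simp only [hn, if_false] at u₂
      exact surjective_h1_idealIncl' ι₂ rfl (isInvertible_chainMod hK n) (by norm_num) u₂
  have hψ : ∀ (r : R), r ∈ s.asIdeal → Coh.toGlobal X.hom r ∈ P.asIdeal := by
    intro r hr
    have hr' : r ∈ (π P).asIdeal := hπP.symm ▸ hr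
    exact hr'
  haveI : P.asIdeal.IsPrime := P.isPrime
  have hPmax : P.asIdeal.IsMaximal := by
    haveI : Algebra.IsIntegral R A := Algebra.IsIntegral.of_finite R A
    have hcm : ((show Ideal A from P.asIdeal).comap (algebraMap R A)).IsMaximal := by
      rw [show (show Ideal A from P.asIdeal).comap (algebraMap R A) = s.asIdeal from (congrArg PrimeSpectrum.asIdeal hπP :)]
      exact hsmax
    exact Ideal.isMaximal_of_isIntegral_of_isMaximal_comap (R := R) (show Ideal A from P.asIdeal) hcm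
  have hc : ∀ j : ℕ, ∃ n, ∀ V : X.left.affineOpens,
      (∏ i ∈ Finset.range n, (K i).ideal V) ≤ (P.asIdeal ^ j).map (baseFun V.1) := by
    intro j
    refine ⟨2 * (p * j), fun V => ?_⟩
    have hprod : ∀ m, (∏ i ∈ Finset.range (2 * m), (K i).ideal V) = (I.ideal V * J.ideal V) ^ m := by
      intro m
      induction m with
      | zero => simp
      | succ m ih =>
        rw [show 2 * (m + 1) = 2 * m + 1 + 1 by ring, Finset.prod_range_succ, Finset.prod_range_succ, ih,
          show K (2 * m) = I from if_pos (even_two_mul m), show K (2 * m + 1) = J from if_neg (by simp [Nat.even_add_one]),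
          pow_succ, mul_assoc]
    rw [hprod, pow_mul, Ideal.map_pow]
    refine Ideal.pow_right_mono ?_ j
    have hFle : F.ideal V ≤ P.asIdeal.map (baseFun V.1) := by
      let T : (Spec (CommRingCat.of R)).affineOpens := ⟨⊤, isAffineOpen_top _⟩
      rw [show F.ideal V = _ from Groth.Agent.FpqcDescent.ideal_comap_appLE Ps X.hom T V le_top,
        PtBlow.vanishingIdeal_ideal_eq hsc T trivial, Ideal.map_le_iff_le_comap]
      intro t ht
      obtain ⟨r, rfl⟩ := (Scheme.ΓSpecIso (CommRingCat.of R)).symm.commRingCatIsoToRingEquiv.surjective t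
      have hr : r ∈ s.asIdeal := by
        have hq : s ∉ (Spec (CommRingCat.of R)).basicOpen ((Scheme.ΓSpecIso (CommRingCat.of R)).inv r) := fun hmem => by
          have h2 : (T.2.primeIdealOf ⟨s, trivial⟩) ∈ PrimeSpectrum.basicOpen ((Scheme.ΓSpecIso (CommRingCat.of R)).inv r) := by
            have := T.2.fromSpec_preimage_basicOpen ((Scheme.ΓSpecIso (CommRingCat.of R)).inv r)
            have h3 : T.2.primeIdealOf ⟨s, trivial⟩ ∈ T.2.fromSpec ⁻¹ᵁ (Spec (CommRingCat.of R)).basicOpen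
                ((Scheme.ΓSpecIso (CommRingCat.of R)).inv r) := by
              rw [Scheme.Hom.mem_preimage, T.2.fromSpec_primeIdealOf ⟨s, trivial⟩]
              exact hmem
            rw [this] at h3
            exact h3
          exact h2 ht
        by_contra hr
        refine hq ?_
        rw [basicOpen_eq_of_affine]
        exact hr
      refine Ideal.mem_comap.2 ?_
      have := Ideal.mem_map_of_mem (baseFun (A := A) V.1) (hψ r hr)
      convert this using 1
      show _ = resO X.left (le_top : V.1 ≤ ⊤) (Coh.toGlobal φ (Coh.toGlobal X.hom r))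
      rw [show Coh.toGlobal φ (Coh.toGlobal X.hom r) = Coh.toGlobal X.hom r from ?_]
      · rfl
      · show φ.appTop ((Scheme.ΓSpecIso (CommRingCat.of A)).inv _) = _
        rw [show φ.appTop = (Scheme.ΓSpecIso Γ(X.left, ⊤)).hom from Scheme.toSpecΓ_appTop X.left]
        exact Iso.inv_hom_id_apply _ _
    have hdis : Re.ideal V ⊔ P.asIdeal.map (baseFun V.1) = ⊤ := by
      by_contra hne'
      obtain ⟨M, hM, hle⟩ := Ideal.exists_le_maximal _ hne'
      let x := V.2.fromSpec ⟨M, hM.isPrime⟩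
      have hxV : x ∈ V.1 := V.2.range_fromSpec.le ⟨_, rfl⟩
      have hmem : ∀ f : Γ(X.left, V.1), x ∈ X.left.basicOpen f ↔ f ∉ M := fun f => by
        show (⟨M, hM.isPrime⟩ : PrimeSpectrum Γ(X.left, V.1)) ∈ V.2.fromSpec ⁻¹ᵁ X.left.basicOpen f ↔ _
        rw [V.2.fromSpec_preimage_basicOpen]
        rfl
      have hxR : x ∈ (Re.support : Set X.left) := by
        rw [SetLike.mem_coe, Re.mem_support_iff_of_mem hxV, Scheme.mem_zeroLocus_iff]
        exact fun f hf hfx => (hmem f).1 hfx (hle (Ideal.mem_sup_left hf))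
      have hPx : P.asIdeal ≤ (φ x).asIdeal := by
        intro c hc
        by_contra hcx
        have hx1 : x ∈ φ ⁻¹ᵁ PrimeSpectrum.basicOpen c := hcx
        rw [show φ ⁻¹ᵁ PrimeSpectrum.basicOpen c = X.left.basicOpen c from Scheme.toSpecΓ_preimage_basicOpen _ c] at hx1
        have h2 := hle (Ideal.mem_sup_right (Ideal.mem_map_of_mem (baseFun (A := A) V.1) hc))
        refine (hmem _).1 ?_ h2
        show x ∈ X.left.basicOpen (resO X.left (le_top : V.1 ≤ ⊤) (Coh.toGlobal φ c))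
        rw [show Coh.toGlobal φ c = c from ?_]
        · erw [Scheme.basicOpen_res]
          exact ⟨hxV, hx1⟩
        · show φ.appTop ((Scheme.ΓSpecIso (CommRingCat.of A)).inv _) = _
          rw [show φ.appTop = (Scheme.ΓSpecIso Γ(X.left, ⊤)).hom from Scheme.toSpecΓ_appTop X.left]
          exact Iso.inv_hom_id_apply _ _
      have hxP : φ x = P := PrimeSpectrum.ext (hPmax.eq_of_le (φ x).isPrime.ne_top hPx).symm
      rcases hcover x hxP with ⟨t, ht⟩ | ⟨t, ht⟩
      · exact hRE₁ t (ht ▸ hxR)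
      · exact hRE₂ t (ht ▸ hxR)
    calc (I.ideal V * J.ideal V) ^ p = (I.ideal V * J.ideal V) ^ p * (Re.ideal V ⊔ P.asIdeal.map (baseFun V.1)) := by
          rw [hdis, Ideal.mul_top]
      _ = (I.ideal V * J.ideal V) ^ p * Re.ideal V ⊔ (I.ideal V * J.ideal V) ^ p * P.asIdeal.map (baseFun V.1) :=
          Ideal.mul_sup _ _ _
      _ ≤ _ := sup_le (le_trans (le_of_eq ?_) hFle) Ideal.mul_le_right
    rw [← hsplit, Scheme.IdealSheafData.ideal_mul, Scheme.IdealSheafData.ideal_mul, Pi.mul_apply, Pi.mul_apply,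
      PtBlow.ideal_pow', PtBlow.ideal_pow', mul_pow]
    ring
  obtain ⟨c, hcP, hc0⟩ := exists_notMem_smul_h1 (A := A) hK hsurj P.asIdeal hc
  -- descend to the base
  have hc0' : c ≠ 0 := fun h => hcP (h ▸ zero_mem _)
  haveI : Algebra.IsIntegral R A := Algebra.IsIntegral.of_finite R A
  obtain ⟨r, hr0, d, hd⟩ : ∃ r : R, r ≠ 0 ∧ ∃ d : A, Coh.toGlobal X.hom r = d * c := by
    have hne : (Ideal.span {c}).comap (algebraMap R A) ≠ ⊥ :=
      Ideal.comap_ne_bot_of_integral_mem hc0' (Ideal.mem_span_singleton_self c) (Algebra.IsIntegral.isIntegral c)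
    obtain ⟨r, hr, hr0⟩ := Submodule.exists_mem_ne_zero_of_ne_bot hne
    obtain ⟨d, hd⟩ := Ideal.mem_span_singleton'.1 (Ideal.mem_comap.1 hr)
    exact ⟨r, hr0, d, hd.symm⟩
  refine ⟨r, hr0, fun x => ?_⟩
  have htg : ∀ a : A, Coh.toGlobal φ a = a := fun a => by
    show φ.appTop ((Scheme.ΓSpecIso (CommRingCat.of A)).inv _) = _
    rw [show φ.appTop = (Scheme.ΓSpecIso Γ(X.left, ⊤)).hom from Scheme.toSpecΓ_appTop X.left]
    exact Iso.inv_hom_id_apply _ _
  have h1 : r • x = hm (Formal.smulMod R (Coh.structureModule X.left) r) 1 x := rfl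
  have h2 : Formal.smulMod R (Coh.structureModule X.left) r =
      Formal.smulMod A (Coh.structureModule X.left) (d * c) := by
    show Formal.smulModΓ _ (Coh.toGlobal (X.left ↘ Spec (CommRingCat.of R)) r) = Formal.smulModΓ _ (Coh.toGlobal φ (d * c))
    rw [hover, hd, htg]
  have h4 : ∀ a : A, hm (Formal.smulMod A (Coh.structureModule X.left) a) 1 x = Coh.toGlobal φ a • x := fun a => rfl
  rw [h1, h2, h4, map_mul, mul_smul, ← h4 c, show hm (Formal.smulMod A (Coh.structureModule X.left) c) 1 x = 0 from hc0 x,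
    smul_zero]

end Groth.Agent.Castel
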