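import Groth.Agent.Castel.ArithDim
import Groth.Agent.PtBlow.Minimal
import Groth.Agent.PtBlow.Structure
import Groth.Agent.PtBlow.Universal

/-!
Contracting all exceptional curves over a normal surface.
-/

set_option autoImplicit false
set_option backward.isDefEq.respectTransparency false
set_option backward.isDefEq.respectTransparency.types false
set_option linter.style.haveILetI false

universe u

open CategoryTheory CategoryTheory.Limits AlgebraicGeometry TopologicalSpace Opposite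
open Groth.Agent.PtBlow (exc isoLocus le_isoLocus)

noncomputable section

namespace Groth.Agent.Castel

variable {R : Type u} [CommRing R] [IsNoetherianRing R]

/-- One contraction over a given target: the number of exceptional points drops. -/
theorem exists_contract_step {X Y : Scheme.{u}} [IsIntegral X] [IsNoetherian X] [IsIntegral Y]
    (f : X ⟶ Spec (CommRingCat.of R)) [IsProper f] (L : X.Modules) (hL : CohB1.IsAmple L)
    (hX : ∀ x : X, IsRegularLocalRing (X.presheaf.stalk x)) (hdX : topologicalKrullDim X ≤ 2)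
    (g : X ⟶ Y) (q : Y ⟶ Spec (CommRingCat.of R)) (hq : g ≫ q = f)
    (hbir : ∃ U : Y.Opens, (U : Set Y).Nonempty ∧ IsIso (g ∣_ U))
    {E : Scheme.{u}} (ι : E ⟶ X) [IsClosedImmersion ι] (hE : Models.IsExcCurve ι) (y : Y)
    (hy : Set.range ((ι ≫ g).base : E → Y) = {y}) :
    ∃ (Z : Scheme.{u}) (b : X ⟶ Z) (g' : Z ⟶ Y) (_ : IsIntegral Z) (_ : IsNoetherian Z),
      b ≫ g' = g ∧ IsProper (g' ≫ q) ∧ IsProper b ∧ Function.Surjective b ∧
      (∀ V : Z.Opens, Function.Bijective (b.app V)) ∧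
      (∀ z : Z, IsRegularLocalRing (Z.presheaf.stalk z)) ∧ topologicalKrullDim Z ≤ 2 ∧
      (∃ L' : Z.Modules, CohB1.IsAmple L') ∧ (∃ U : Y.Opens, (U : Set Y).Nonempty ∧ IsIso (g' ∣_ U)) ∧
      (exc g').ncard < (exc g).ncard := by
  obtain ⟨hI, k, _, eP, hcon⟩ := id hE
  obtain ⟨M, hMi, ⟨dM⟩⟩ := W7Hull.exists_tensor_inverse (Intersect.isInvertible_ideal hI)
  have hM : ClSub.IsInverseOf M (ClSub.idealMod ι.ker) := ⟨TMul.commIso _ _ ≪≫ dM⟩
  obtain ⟨Z, b, fZ, y₀, hb, hbf, hfZ, hbp, hfib, happ, hoff, -, L', hL', -⟩ :=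
    exists_ample_contraction f L hL ι hE M hM hMi
  haveI := hfZ
  haveI := hbp
  haveI : IsLocallyNoetherian Z := LocallyOfFiniteType.isLocallyNoetherian fZ
  haveI : CompactSpace Z := QuasiCompact.compactSpace_of_compactSpace fZ
  haveI : IsNoetherian Z := {}
  haveI : IsIntegral (CohB1.ProjSpace 1 k) := Horrocks.isIntegral_projSpace
  let η : X := ι (eP.hom (genericPoint (CohB1.ProjSpace 1 k)))
  obtain ⟨g', hg', hguniq⟩ := PtBlow.existsUnique_desc ι hE b hb g y hy
  obtain ⟨-, -, y₁, hy₁, hyr, hyreg, hydim, hbl⟩ := hb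
  have hyy : y₁ = y₀ := by
    have h1 : b η = y₁ := hyr.subset ⟨_, rfl⟩
    have h2 : b η = y₀ := hfib.ge ⟨_, rfl⟩
    exact h1.symm.trans h2
  subst hyy
  have hRP : PtBlow.IsRegPt Z y₁ := ⟨hy₁, hyreg, hydim⟩
  have hq' : g' ≫ q = fZ := PtBlow.epi_blowUp hRP hbl (by rw [← Category.assoc, hg', hq, hbf])
  haveI : IsReduced Z := isReduced_of_app_injective b fun V => (happ V).1
  let V : Z.Opens := ⟨({y₁} : Set Z)ᶜ, hy₁.isOpen_compl⟩
  haveI := hoff V fun h => h rfl
  have hsurj : Function.Surjective b := fun z => by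
    by_cases hz : z = y₁
    · exact ⟨η, (hfib.ge ⟨_, rfl⟩ : b η = y₁).trans hz.symm⟩
    · obtain ⟨x, hx⟩ := (b ∣_ V).surjective ⟨z, hz⟩
      exact ⟨x.1, (morphismRestrict_base_coe b V x).symm.trans (congrArg Subtype.val hx)⟩
  haveI : IrreducibleSpace Z := hsurj.irreducibleSpace b.continuous
  haveI : IsIntegral Z := isIntegral_of_irreducibleSpace_of_isReduced Z
  have hgb : ∀ x, g' (b x) = g x := fun x => by rw [← Scheme.Hom.comp_apply, hg']
  have hEy : ∀ w : CohB1.ProjSpace 1 k, g (ι (eP.hom w)) = y := fun w => hy.subset ⟨eP.hom w, rfl⟩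
  -- opens over which `g` is an isomorphism avoid `y`
  have hW : ∀ W : Y.Opens, IsIso (g ∣_ W) → y ∉ W := by
    intro W hW hyW
    haveI := hW
    haveI : Subsingleton (CohB1.ProjSpace 1 k) := ⟨fun p p' => by
      have h := (g ∣_ W).isOpenEmbedding.injective
        (a₁ := ⟨ι (eP.hom p), show g (ι (eP.hom p)) ∈ W from (hEy p).symm ▸ hyW⟩)
        (a₂ := ⟨ι (eP.hom p'), show g (ι (eP.hom p')) ∈ W from (hEy p').symm ▸ hyW⟩)
        (Subtype.ext (by rw [morphismRestrict_base_coe, morphismRestrict_base_coe]; exact (hEy p).trans (hEy p').symm))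
      exact eP.hom.homeomorph.injective (ι.isClosedEmbedding.injective (congrArg Subtype.val h))⟩
    exact not_finite_projLine k Finite.of_subsingleton
  have hgy : g' y₁ = y := by
    rw [← show b η = y₁ from hfib.ge ⟨_, rfl⟩, hgb]
    exact hEy _
  have hiso : ∀ W : Y.Opens, IsIso (g ∣_ W) → IsIso (g' ∣_ W) := by
    intro W hWi
    haveI := hWi
    haveI : IsIso (b ∣_ g' ⁻¹ᵁ W) := hoff _ fun h => hW W hWi (by
      have : g' y₁ ∈ W := h
      rwa [hgy] at this)
    haveI : IsIso ((b ≫ g') ∣_ W) := by rw [hg']; exact hWi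
    rw [morphismRestrict_comp] at *
    exact IsIso.of_isIso_comp_left (b ∣_ g' ⁻¹ᵁ W) (g' ∣_ W)
  have hηexc : η ∈ exc g := by
    refine ⟨PtBlow.dim_excGen (ι := ι) (e := eP) hI, fun h => ?_⟩
    obtain ⟨⟨W, hWi⟩, hw⟩ := Opens.mem_iSup.1 h
    exact hW W hWi (by
      have : g η ∈ W := hw
      rwa [hEy] at this)
  refine ⟨Z, b, g', inferInstance, inferInstance, hg', hq' ▸ hfZ, hbp, hsurj, happ, fun z => ?_,
    dim_le_of_closedMap b hsurj b.isClosedMap (n := 2) hdX, ⟨L', hL'⟩, ?_, ?_⟩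
  · by_cases hz : z = y₁
    · exact hz ▸ hyreg
    · exact isRegular_of_iso_restrict b V hX hz
  · obtain ⟨U, hU, hUi⟩ := hbir
    exact ⟨U, hU, hiso U hUi⟩
  · choose s hs using hsurj
    have hstalk : ∀ z : Z, z ≠ y₁ → ringKrullDim (X.presheaf.stalk (s z)) = ringKrullDim (Z.presheaf.stalk z) := by
      intro z hz
      have hx : b (s z) ∈ V := by rw [hs z]; exact hz
      haveI : IsIso ((b ∣_ V).stalkMap ⟨s z, hx⟩) := inferInstance
      have h1 := (MorphismProperty.isomorphisms CommRingCat).arrow_mk_iso_iff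
        (morphismRestrictStalkMap b V ⟨s z, hx⟩)
      haveI : IsIso (b.stalkMap (s z)) := h1.1 (inferInstanceAs (IsIso ((b ∣_ V).stalkMap ⟨s z, hx⟩)))
      rw [← ringKrullDim_eq_of_ringEquiv (asIso (b.stalkMap (s z))).commRingCatIsoToRingEquiv]
      exact congrArg (fun w => ringKrullDim (Z.presheaf.stalk w)) (hs z)
    have hne : ∀ z ∈ exc g', z ≠ y₁ := fun z hz h => by
      have := hz.1
      rw [h, hydim] at this
      exact absurd this (by decide)
    have hmaps : ∀ z ∈ exc g', s z ∈ exc g := fun z hz => by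
      refine ⟨(hstalk z (hne z hz)).trans hz.1, fun h => hz.2 ?_⟩
      obtain ⟨⟨W, hWi⟩, hw⟩ := Opens.mem_iSup.1 h
      refine le_isoLocus (hiso W hWi) ?_
      rw [← hs z, hgb]
      exact hw
    have hsub : s '' exc g' ⊂ exc g := by
      refine (Set.ssubset_iff_of_subset (by rintro _ ⟨z, hz, rfl⟩; exact hmaps z hz)).2 ⟨η, hηexc, ?_⟩
      rintro ⟨z, hz, hzη⟩
      refine hne z hz ?_
      rw [← hs z, hzη]
      exact hfib.ge ⟨_, rfl⟩
    have hinj : Function.Injective s := fun z z' h => by rw [← hs z, ← hs z', h]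
    rw [← Set.ncard_image_of_injective _ hinj]
    exact Set.ncard_lt_ncard hsub (PtBlow.finite_exc g hbir)

/-- Contract until nothing exceptional lies over a point of the target. -/
theorem exists_no_exc {Y : Scheme.{u}} [IsIntegral Y] (q : Y ⟶ Spec (CommRingCat.of R)) :
    ∀ (n : ℕ) {X : Scheme.{u}} [IsIntegral X] [IsNoetherian X] (g : X ⟶ Y) [IsProper (g ≫ q)] (L : X.Modules),
      CohB1.IsAmple L → (∀ x : X, IsRegularLocalRing (X.presheaf.stalk x)) → topologicalKrullDim X ≤ 2 →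
      (∃ U : Y.Opens, (U : Set Y).Nonempty ∧ IsIso (g ∣_ U)) → (exc g).ncard ≤ n →
      ∃ (Z : Scheme.{u}) (c : X ⟶ Z) (h : Z ⟶ Y) (_ : IsIntegral Z) (_ : IsNoetherian Z),
        c ≫ h = g ∧ IsProper (h ≫ q) ∧ IsProper c ∧ Function.Surjective c ∧
        (∀ V : Z.Opens, Function.Bijective (c.app V)) ∧
        (∀ z : Z, IsRegularLocalRing (Z.presheaf.stalk z)) ∧ topologicalKrullDim Z ≤ 2 ∧
        (∃ L' : Z.Modules, CohB1.IsAmple L') ∧ (∃ U : Y.Opens, (U : Set Y).Nonempty ∧ IsIso (h ∣_ U)) ∧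
        ∀ (E : Scheme.{u}) (ι : E ⟶ Z) [IsClosedImmersion ι], Models.IsExcCurve ι →
          ¬ ∃ y : Y, Set.range ((ι ≫ h).base : E → Y) = {y} := by
  intro n
  induction n with
  | zero =>
    intro X _ _ g _ L hL hX hdX hbir hn
    refine ⟨X, 𝟙 X, g, inferInstance, inferInstance, Category.id_comp g, inferInstance, inferInstance,
      fun x => ⟨x, rfl⟩, fun V => Function.bijective_id, hX, hdX, ⟨L, hL⟩, hbir, fun E ι _ hE => ?_⟩
    rintro ⟨y, hy⟩
    obtain ⟨_, _, g', _, _, -, -, -, -, -, -, -, -, -, hlt⟩ :=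
      exists_contract_step (g ≫ q) L hL hX hdX g q rfl hbir ι hE y hy
    omega
  | succ n ih =>
    intro X _ _ g _ L hL hX hdX hbir hn
    by_cases hexc : ∀ (E : Scheme.{u}) (ι : E ⟶ X) [IsClosedImmersion ι], Models.IsExcCurve ι →
        ¬ ∃ y : Y, Set.range ((ι ≫ g).base : E → Y) = {y}
    · exact ⟨X, 𝟙 X, g, inferInstance, inferInstance, Category.id_comp g, inferInstance, inferInstance,
        fun x => ⟨x, rfl⟩, fun V => Function.bijective_id, hX, hdX, ⟨L, hL⟩, hbir, hexc⟩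
    push Not at hexc
    obtain ⟨E, ι, _, hE, y, hy⟩ := hexc
    obtain ⟨Z, b, g', hZi, hZn, hbg, hp, hbp, hbs, happ, hZr, hZd, ⟨L', hL'⟩, hbir', hlt⟩ :=
      exists_contract_step (g ≫ q) L hL hX hdX g q rfl hbir ι hE y hy
    haveI := hp
    obtain ⟨W, c, h, hWi, hWn, hch, hp', hcp, hcs, hcapp, hWr, hWd, hWL, hWb, hW⟩ :=
      ih g' L' hL' hZr hZd hbir' (by omega)
    haveI := hbp
    haveI := hcp
    refine ⟨W, b ≫ c, h, hWi, hWn, by rw [Category.assoc, hch, hbg], hp', inferInstance, ?_, fun V => ?_, hWr, hWd,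
      hWL, hWb, hW⟩
    · intro w
      obtain ⟨z, rfl⟩ := hcs w
      obtain ⟨x, rfl⟩ := hbs z
      exact ⟨x, rfl⟩
    · rw [Scheme.Hom.comp_app]
      exact (happ _).comp (hcapp V)

end Groth.Agent.Castel
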