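import Groth.Agent.Castel.Vert
import Groth.Agent.Castel.InterNeg
import Groth.Agent.Castel.ExcPair
import Groth.Agent.Castel.ExcFin
import Groth.Agent.Castel.ModelsInter
import Groth.Agent.Castel.MinDesing
import Groth.Agent.PtBlow.Minimal

/-!
The target of the contraction of an exceptional curve on an arithmetic surface.
-/

set_option autoImplicit false
set_option backward.isDefEq.respectTransparency false
set_option backward.isDefEq.respectTransparency.types false
set_option linter.style.haveILetI false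

universe u

open CategoryTheory CategoryTheory.Limits AlgebraicGeometry TopologicalSpace Topology

noncomputable section

namespace Groth.Agent.Castel

variable {R : Type u} [CommRing R] [IsDomain R] [IsDiscreteValuationRing R] {X : Over (Spec (CommRingCat.of R))}

/-- Properties of a contraction of an exceptional vertical prime divisor. -/
structure ContractFacts (E : ArSurf.VertComp R X) {Y : Scheme.{u}} (b : X.left ⟶ Y)
    (g : Y ⟶ Spec (CommRingCat.of R)) (y : Y) : Prop where
  comp : b ≫ g = X.hom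
  closed : IsClosed ({y} : Set Y)
  base : g y = IsLocalRing.closedPoint R
  proper : IsProper g
  properb : IsProper b
  surj : Function.Surjective b
  fibre : b ⁻¹' {y} = Set.range E.ι
  iso : ∀ V : Y.Opens, y ∉ V → IsIso (b ∣_ V)
  arith : ArSurf.IsArithSurface R (Over.mk g)

/-- The target of the contraction of an exceptional curve is an arithmetic surface. -/
theorem exists_contractFacts (hX : ArSurf.IsArithSurface R X) (E : ArSurf.VertComp R X)
    (hE : Models.IsExcCurve E.ι) {Y : Scheme.{u}} (b : X.left ⟶ Y) (hb : Models.IsContractionOf E.ι b)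
    (g : Y ⟶ Spec (CommRingCat.of R)) (hg : b ≫ g = X.hom) : ∃ y, ContractFacts E b g y := by
  have hX' := hX
  obtain ⟨hXr, hXi, hXd, hXf, hXp⟩ := hX'
  haveI := hXi
  haveI := PtBlow.isProper_of_isProjectiveOver (Z := X) hXp
  haveI : IsLocallyNoetherian X.left := LocallyOfFiniteType.isLocallyNoetherian X.hom
  haveI : CompactSpace X.left := QuasiCompact.compactSpace_of_compactSpace X.hom
  haveI : IsNoetherian X.left := {}
  obtain ⟨hYn, hbp, y, hy, hyr, hyreg, hydim, hbl⟩ := id hb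
  haveI := hYn; haveI := hbp
  have hRP : PtBlow.IsRegPt Y y := ⟨hy, hyreg, hydim⟩
  have hE' := hE
  obtain ⟨hI, k, _, eP, -⟩ := hE'
  haveI : IsIntegral (CohB1.ProjSpace 1 k) := Horrocks.isIntegral_projSpace
  let η : X.left := E.ι (eP.hom (genericPoint (CohB1.ProjSpace 1 k)))
  have hfib : b ⁻¹' {y} = Set.range E.ι :=
    (PtBlow.range_eq_preimage hRP hbl E.ι eP fun z => hyr.subset ⟨z, rfl⟩).symm
  -- the standard contraction
  obtain ⟨L, hL⟩ := exists_ample_of_proj hXp
  obtain ⟨M, hMi, ⟨dM⟩⟩ := W7Hull.exists_tensor_inverse (Intersect.isInvertible_ideal hI)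
  have hM : ClSub.IsInverseOf M (ClSub.idealMod E.ι.ker) := ⟨TMul.commIso _ _ ≪≫ dM⟩
  obtain ⟨Y', b', g', y', hb', hbg', hg', hbp', hfib', happ', hoff', -, L', hL', -⟩ :=
    exists_ample_contraction X.hom L hL E.ι hE M hM hMi
  haveI := hg'; haveI := hbp'
  obtain ⟨hYn', -, y₁, hy₁, hyr', hyreg', hydim', hbl'⟩ := id hb'
  haveI := hYn'
  have hRP' : PtBlow.IsRegPt Y' y₁ := ⟨hy₁, hyreg', hydim'⟩
  obtain ⟨ψ, hψ, -⟩ := PtBlow.existsUnique_desc E.ι hE b hb b' y₁ hyr'
  obtain ⟨χ, hχ, -⟩ := PtBlow.existsUnique_desc E.ι hE b' hb' b y hyr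
  have e₁ : ψ ≫ χ = 𝟙 Y := PtBlow.epi_blowUp hRP hbl (by rw [reassoc_of% hψ, hχ, Category.comp_id])
  have e₂ : χ ≫ ψ = 𝟙 Y' := PtBlow.epi_blowUp hRP' hbl' (by rw [reassoc_of% hχ, hψ, Category.comp_id])
  let e : Y ≅ Y' := ⟨ψ, χ, e₁, e₂⟩
  have hgψ : ψ ≫ g' = g := PtBlow.epi_blowUp hRP hbl (by rw [reassoc_of% hψ, hbg', hg])
  haveI : IsIso ψ := ⟨χ, e₁, e₂⟩
  haveI : IsProper g := by rw [← hgψ]; infer_instance
  have hoff : ∀ V : Y.Opens, y ∉ V → IsIso (b ∣_ V) := fun V hV =>
    PtBlow.isIso_restrict_le b (V := (PtBlow.pt hRP).support.compl) (fun v hv => by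
      show v ∉ ((PtBlow.pt hRP).support : Set Y)
      rw [PtBlow.coe_support_pt hRP]
      intro h
      exact hV (Set.mem_singleton_iff.1 h ▸ hv)) (BlowUpLib.isIso_restrict hbl)
  have happ : ∀ V : Y.Opens, Function.Bijective (b.app V) := fun V => bijective_app_contract hRP hbl V
  have hLY : CohB1.IsAmple ((Scheme.Modules.pullback ψ).obj L') :=
    TMul.isAmple_pullback ψ ψ.homeomorph.isInducing hL'
  obtain ⟨hYi, hYd, hYf, hYp, hYr⟩ := surface_facts hX b g hg y hy
    (hfib ▸ ⟨η, eP.hom (genericPoint _), rfl⟩) happ hoff hLY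
  have hsurj : Function.Surjective b := fun z => by
    by_cases hz : z = y
    · exact ⟨η, (hfib.ge ⟨_, rfl⟩ : b η = y).trans hz.symm⟩
    · haveI := hoff ⟨({y} : Set Y)ᶜ, hy.isOpen_compl⟩ fun h => h rfl
      obtain ⟨x, hx⟩ := (b ∣_ (⟨({y} : Set Y)ᶜ, hy.isOpen_compl⟩ : Y.Opens)).surjective ⟨z, hz⟩
      exact ⟨x.1, (morphismRestrict_base_coe b _ x).symm.trans (congrArg Subtype.val hx)⟩
  have hbase : g y = IsLocalRing.closedPoint R := by
    rw [← (hfib.ge ⟨_, rfl⟩ : b η = y), ← Scheme.Hom.comp_apply, hg]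
    exact range_subset_specialFibre E ⟨_, rfl⟩
  refine ⟨y, hg, hy, hbase, inferInstance, hbp, hsurj, hfib, hoff, fun z => ?_, hYi, le_antisymm hYd ?_, hYf, hYp⟩
  · by_cases hz : z = y
    · subst hz; exact hyreg
    · exact hYr z hz
  · exact hydim ▸ RegDual.ringKrullDim_stalk_le_topologicalKrullDim y

end Groth.Agent.Castel
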