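import Mathlib.RingTheory.Ideal.Cotangent
import Mathlib.RingTheory.Length
import Groth.Agent.Castel.ArtinPos

/-!
Cotangent dimension from lengths; existence of fundamental vectors.
-/

set_option autoImplicit false
set_option backward.isDefEq.respectTransparency false

universe u

noncomputable section

namespace Groth.Agent.Castel

/-- If the square of the maximal ideal has colength `(d + 1)` times that of the maximal ideal,
the cotangent space has dimension `d`. -/
theorem finrank_cotangentSpace_of_length {R A : Type u} [CommRing R] [CommRing A] [IsLocalRing A]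
    [IsNoetherianRing A] [Algebra R A] {l : ℕ} (hl : 0 < l) (d : ℕ)
    (h1 : Module.length R (A ⧸ IsLocalRing.maximalIdeal A) = (l : ℕ∞))
    (h2 : Module.length R (A ⧸ IsLocalRing.maximalIdeal A ^ 2) = (((d + 1) * l : ℕ) : ℕ∞)) :
    Module.finrank (IsLocalRing.ResidueField A) (IsLocalRing.CotangentSpace A) = d := by
  set m := IsLocalRing.maximalIdeal A with hm
  let g : (A ⧸ m ^ 2) →ₗ[R] (A ⧸ m) := (Ideal.Quotient.factorₐ R (Ideal.pow_le_self two_ne_zero)).toLinearMap
  let f : m.Cotangent →ₗ[R] (A ⧸ m ^ 2) := m.cotangentToQuotientSquare.restrictScalars R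
  have hf : Function.Injective f := m.cotangentToQuotientSquare_injective
  have hg : Function.Surjective g := Ideal.Quotient.factor_surjective (Ideal.pow_le_self (I := m) two_ne_zero)
  have hex : Function.Exact f g := by
    intro z
    obtain ⟨a, rfl⟩ := Ideal.Quotient.mk_surjective z
    constructor
    · intro h
      have ha : a ∈ m := Ideal.Quotient.eq_zero_iff_mem.1 h
      exact ⟨m.toCotangent ⟨a, ha⟩, rfl⟩
    · rintro ⟨c, hc⟩
      obtain ⟨⟨b, hb⟩, rfl⟩ := m.toCotangent_surjective c
      rw [← hc]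
      exact Ideal.Quotient.eq_zero_iff_mem.2 hb
  have h3 := Module.length_eq_add_of_exact f g hf hg hex
  rw [h1, h2] at h3
  have h4 : Module.length R m.Cotangent = ((d * l : ℕ) : ℕ∞) := by
    have h5 : (((d + 1) * l : ℕ) : ℕ∞) = ((d * l : ℕ) : ℕ∞) + (l : ℕ∞) := by push_cast; ring
    rw [h5] at h3
    exact ((ENat.addLECancellable_of_ne_top (ENat.coe_ne_top l)).inj_left.1 h3).symm
  let k := IsLocalRing.ResidueField A
  let b := Module.finBasis k (IsLocalRing.CotangentSpace A)
  set c := Module.finrank k (IsLocalRing.CotangentSpace A)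
  let e : m.Cotangent ≃ₗ[R] (Fin c → (A ⧸ m)) :=
    { (b.equivFun.toAddEquiv : m.Cotangent ≃+ (Fin c → (A ⧸ m))) with
      map_smul' := fun r x => by
        have h7 : r • x = algebraMap R A r • x := (algebraMap_smul A r x).symm
        have h8 : b.equivFun ((IsLocalRing.residue A (algebraMap R A r)) • (show IsLocalRing.CotangentSpace A from x)) =
            IsLocalRing.residue A (algebraMap R A r) • b.equivFun x := map_smul _ _ _
        funext i
        rw [h7]
        refine (congrFun h8 i).trans ?_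
        change Ideal.Quotient.mk m (algebraMap R A r) * (show A ⧸ m from b.equivFun x i) = r • (show A ⧸ m from b.equivFun x i)
        rw [Algebra.smul_def]
        rfl }
  have h6 : Module.length R m.Cotangent = ((c * l : ℕ) : ℕ∞) := by
    rw [show Module.length R m.Cotangent = _ from e.length_eq, Module.length_pi_of_fintype, Finset.sum_const,
      Finset.card_univ, Fintype.card_fin, h1, nsmul_eq_mul]
    push_cast
    rfl
  rw [h4] at h6
  exact (Nat.eq_of_mul_eq_mul_right hl (by exact_mod_cast h6)).symm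

/-- The componentwise least positive vector on which a negative definite form is nonpositive. -/
theorem exists_fundamental_vec {r : ℕ} (N : Fin r → Fin r → ℤ) (hoff : ∀ i j, i ≠ j → 0 ≤ N i j)
    (hneg : ∀ a : Fin r → ℤ, a ≠ 0 → ∑ i, ∑ j, a i * a j * N i j < 0) :
    ∃ z : Fin r → ℕ, (∀ i, 1 ≤ z i) ∧ (∀ i, ∑ j, (z j : ℤ) * N i j ≤ 0) ∧
      ∀ z' : Fin r → ℕ, (∀ i, 1 ≤ z' i) → (∀ i, ∑ j, (z' j : ℤ) * N i j ≤ 0) → ∀ i, z i ≤ z' i := by
  classical
  let P : (Fin r → ℕ) → Prop := fun z => (∀ i, 1 ≤ z i) ∧ ∀ i, ∑ j, (z j : ℤ) * N i j ≤ 0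
  have hne : ∃ n : ℕ, ∃ z, P z ∧ ∑ i, z i = n := by
    obtain ⟨m, d, -, hd, hd'⟩ := exists_negdef_solution N hoff hneg (fun _ => 1) fun _ => one_pos
    exact ⟨_, d, ⟨hd, fun i => by rw [hd' i]; have := Int.natCast_nonneg m; omega⟩, rfl⟩
  obtain ⟨z, ⟨hz1, hz⟩, hsum⟩ := Nat.find_spec hne
  refine ⟨z, hz1, hz, fun z' h1 h2 => ?_⟩
  let w : Fin r → ℕ := fun i => min (z i) (z' i)
  have hw : P w := ⟨fun i => le_min (hz1 i) (h1 i), fun i => by
    have key : ∀ t : Fin r → ℕ, w i = t i → w ≤ t → (∑ j, (t j : ℤ) * N i j ≤ 0) →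
        ∑ j, (w j : ℤ) * N i j ≤ 0 := fun t ht hle h => by
      refine le_trans (Finset.sum_le_sum fun j _ => ?_) h
      by_cases hj : j = i
      · rw [hj, ht]
      · exact mul_le_mul_of_nonneg_right (by exact_mod_cast hle j) (hoff i j (Ne.symm hj))
    rcases min_choice (z i) (z' i) with h | h
    · exact key z h (fun j => min_le_left _ _) (hz i)
    · exact key z' h (fun j => min_le_right _ _) (h2 i)⟩
  have hle : Nat.find hne ≤ ∑ i, w i := Nat.find_le ⟨w, hw, rfl⟩
  intro i
  by_contra hi
  have : ∑ j, w j < ∑ j, z j := Finset.sum_lt_sum (fun j _ => min_le_left _ _)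
    ⟨i, Finset.mem_univ i, by show min (z i) (z' i) < z i; omega⟩
  omega

end Groth.Agent.Castel
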