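import Groth.Agent.Castel.ProperModel
import Groth.Agent.Castel.InterForm
import Groth.Agent.Castel.ModelsInter
import Groth.Agent.Castel.ExcNumbers
import Groth.Agent.S18353
import Groth.Agent.S0458
import Groth.Agent.LefConn.Basic

/-!
The generic fibre of a regular proper model with a component list of curves is a curve.
-/

set_option autoImplicit false
set_option backward.isDefEq.respectTransparency false
set_option backward.isDefEq.respectTransparency.types false
set_option linter.style.haveILetI false

universe u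

open CategoryTheory CategoryTheory.Limits AlgebraicGeometry TopologicalSpace Topology

noncomputable section

namespace Groth.Agent.Castel

/-- `h⁰(O) = 1` means that the constants are the ground field. -/
theorem isIso_appTop_of_hRank {K : Type u} [Field K] {C : Scheme.{u}} {f : C ⟶ Spec (CommRingCat.of K)} [IsProper f]
    (h : Models.hRank K C f (Coh.structureModule C) 0 = 1) : IsIso f.appTop := by
  letI : C.Over (Spec (CommRingCat.of K)) := ⟨f⟩
  haveI : IsProper (C ↘ Spec (CommRingCat.of K)) := ‹IsProper f›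
  letI alg : Algebra K Γ(C, ⊤) := RingHom.toAlgebra' (Coh.toGlobal f) (fun c x => mul_comm (G := Γ(C, ⊤)) _ _)
  have h1 : Module.finrank K Γ(C, ⊤) = 1 := (finrank_gammaTop K (X := C)).trans h
  have hb : Function.Bijective (algebraMap K Γ(C, ⊤)) := by
    haveI : Nontrivial Γ(C, ⊤) := Module.nontrivial_of_finrank_pos (R := K) (by omega)
    refine ⟨(algebraMap K Γ(C, ⊤)).injective, fun x => ?_⟩
    obtain ⟨c, hc⟩ := (finrank_eq_one_iff_of_nonzero' (1 : Γ(C, ⊤)) one_ne_zero).1 h1 x
    exact ⟨c, by rw [Algebra.algebraMap_eq_smul_one, hc]⟩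
  rw [ConcreteCategory.isIso_iff_bijective]
  exact (Function.Bijective.of_comp_iff _
    (ConcreteCategory.bijective_of_isIso (Scheme.ΓSpecIso (CommRingCat.of K)).inv)).1 hb

variable {R : Type u} [CommRing R] [IsDomain R] [IsDiscreteValuationRing R]

/-- The generic fibre is a smooth proper curve. -/
theorem isSmoothProperCurve_of_model {C X : Scheme.{u}} {f : C ⟶ Spec (CommRingCat.of (FractionRing R))}
    {p : X ⟶ Spec (CommRingCat.of R)} [IsProper f] [Smooth f]
    (hH0 : IsIso f.appTop) (hg : Models.curveGenus (FractionRing R) C f ≠ 0)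
    (hX : Models.IsRegularProperModel R X p C f) {n : ℕ} (Γ : Fin n → ArSurf.VertComp R (Over.mk p))
    (hΓ : Models.IsComponentList R (Over.mk p) Γ) : Curve.IsSmoothProperCurve (FractionRing R) C f := by
  let K := FractionRing R
  obtain ⟨⟨hfl, hft, -, g, hgp⟩, hp, hreg⟩ := hX
  haveI := hfl; haveI := hp
  haveI : IsLocallyNoetherian X := LocallyOfFiniteType.isLocallyNoetherian p
  haveI : IsLocallyNoetherian C := LocallyOfFiniteType.isLocallyNoetherian f
  haveI : CompactSpace C := QuasiCompact.compactSpace_of_compactSpace f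
  haveI : IsNoetherian C := {}
  letI : C.Over (Spec (CommRingCat.of K)) := ⟨f⟩
  haveI : IsProper (C ↘ Spec (CommRingCat.of K)) := ‹IsProper f›
  have hfield : IsField Γ(C, ⊤) := by
    haveI := hH0
    exact MulEquiv.isField (A := Γ(C, ⊤)) (B := K) (Field.toIsField K)
      ((asIso f.appTop).symm ≪≫ Scheme.ΓSpecIso (CommRingCat.of K)).commRingCatIsoToRingEquiv.toMulEquiv
  haveI hne : Nonempty C := by
    by_contra h
    rw [not_nonempty_iff] at h
    haveI := hfield.nontrivial
    exact false_of_nontrivial_of_subsingleton Γ(C, ⊤)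
  have hstalk : ∀ c : C, IsRegularLocalRing (C.presheaf.stalk c) := fun c => by
    haveI := isIso_stalkMap_generic hgp c
    haveI := hreg (g c)
    exact IsRegularLocalRing.of_ringEquiv (asIso (g.stalkMap c)).commRingCatIsoToRingEquiv
  haveI hpre : PreconnectedSpace C := LefConn.preconnected_of_idem fun e he => by
    letI := hfield.toField
    exact IsIdempotentElem.iff_eq_zero_or_one.1 he
  have hconn : ConnectedSpace C := { toPreconnectedSpace := hpre, toNonempty := hne }
  have hint : IsIntegral C := Groth.Agent.S18353.isIntegral_of_connected C (fun c => PtBlow.isNormal_of_regular)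
  -- dimension
  have hfib : ∀ (k : ℕ) (c : Fin (k + 1) → X), (∀ i, c i ∈ Models.specialFibreSet R (Over.mk p)) →
      (∀ i : Fin k, c i.castSucc ⤳ c i.succ ∧ c i.castSucc ≠ c i.succ) → k ≤ 1 := by
    intro k c hc hch
    obtain ⟨i, hi⟩ := Set.mem_iUnion.1 (componentList_cover hΓ (hc 0))
    have hall : ∀ j, c j ∈ Set.range (Γ i).ι := fun j => by
      induction j using Fin.induction with
      | zero => exact hi
      | succ j ih => exact (hch j).1.mem_closed (Γ i).ι.isClosedEmbedding.isClosed_range ih
    choose d hd using hall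
    have h := Unibranch.natCast_le_topologicalKrullDim (α := (Γ i).curve.left) d fun j =>
      ⟨((Γ i).ι.isClosedEmbedding.isEmbedding.isInducing.specializes_iff).1 (by rw [hd, hd]; exact (hch j).1),
        fun e => (hch j).2 (by rw [← hd, e, hd])⟩
    rw [(Γ i).dim_eq] at h
    exact_mod_cast h
  have hdimfib : topologicalKrullDim ↥(p.fiber (IsLocalRing.closedPoint R)) ≤ (1 : ℕ) := by
    refine Unibranch.topologicalKrullDim_le_natCast (e := 1) fun k c hc => ?_
    refine hfib k (fun i => p.fiberι (IsLocalRing.closedPoint R) (c i)) (fun i => ?_) fun i =>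
      ⟨(hc i).1.map (p.fiberι _).continuous, fun e => (hc i).2 ((p.fiberι _).isEmbedding.injective e)⟩
    have h : p.fiberι (IsLocalRing.closedPoint R) (c i) ∈ Set.range (p.fiberι (IsLocalRing.closedPoint R)) := ⟨_, rfl⟩
    rw [p.range_fiberι] at h
    exact h
  have hle : ∀ c : C, ringKrullDim (C.presheaf.stalk c) ≤ (1 : ℕ) := by
    intro c
    let y := g c
    obtain ⟨x, hxy, hxs, hxne⟩ : ∃ x : X, y ⤳ x ∧ x ∈ Models.specialFibreSet R (Over.mk p) ∧ x ≠ y := by
      have hcl : IsClosed (p '' closure {y}) := p.isClosedMap _ isClosed_closure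
      have hmem : IsLocalRing.closedPoint R ∈ p '' closure {y} :=
        ((PrimeSpectrum.le_iff_specializes (p y) (IsLocalRing.closedPoint R)).1
          (IsLocalRing.le_maximalIdeal (p y).isPrime.ne_top)).mem_closed hcl ⟨y, subset_closure rfl, rfl⟩
      obtain ⟨x, hx, hpx⟩ := hmem
      refine ⟨x, specializes_iff_mem_closure.2 hx, hpx, fun e => ?_⟩
      have h3 : p y ∈ Set.range (Neron.genPt R).base := ⟨f c, congr($(hgp.w) c).symm⟩
      rw [← e, hpx, RelMinSmooth.range_genPt] at h3
      exact IsDiscreteValuationRing.not_a_field R (congrArg PrimeSpectrum.asIdeal h3)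
    letI := (p.stalkMap x).hom.toAlgebra
    haveI : IsLocalHom (algebraMap ((Spec (CommRingCat.of R)).presheaf.stalk (p x)) (X.presheaf.stalk x)) :=
      inferInstanceAs (IsLocalHom (p.stalkMap x).hom)
    have h1 := CInt.ringKrullDim_le_add (A := (Spec (CommRingCat.of R)).presheaf.stalk (p x))
      (B := X.presheaf.stalk x)
    obtain ⟨e⟩ := CMFlat.nonempty_fiberStalk_equiv p x
    have h2 : ringKrullDim (X.presheaf.stalk x ⧸ (IsLocalRing.maximalIdeal
        ((Spec (CommRingCat.of R)).presheaf.stalk (p x))).map (p.stalkMap x).hom) ≤ (1 : ℕ) := by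
      rw [ringKrullDim_eq_of_ringEquiv e]
      refine (RegDual.ringKrullDim_stalk_le_topologicalKrullDim _).trans ?_
      rw [show p x = IsLocalRing.closedPoint R from hxs]
      exact hdimfib
    have h3 : ringKrullDim (X.presheaf.stalk x) ≤ (2 : ℕ) :=
      h1.trans ((add_le_add (WeilExt.dim_stalk_spec_le (p x)) h2).trans (by norm_num))
    haveI := isIso_stalkMap_generic hgp c
    rw [← ringKrullDim_eq_of_ringEquiv (asIso (g.stalkMap c)).commRingCatIsoToRingEquiv,
      ringKrullDim_stalk_eq_coheight]
    rw [ringKrullDim_stalk_eq_coheight] at h3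
    have hlt : x < y := lt_iff_le_not_ge.2 ⟨hxy, fun h => hxne (Specializes.antisymm h hxy).eq⟩
    have h5 : Order.coheight y + 1 ≤ Order.coheight x := Order.coheight_add_one_le hlt
    have h6 : Order.coheight x ≤ (2 : ℕ∞) := WithBot.coe_le_coe.1 h3
    have h7 : Order.coheight y ≤ (1 : ℕ∞) := by
      have := h5.trans h6
      rw [show (2 : ℕ∞) = 1 + 1 from rfl] at this
      exact (ENat.add_le_add_iff_right (by norm_num)).1 this
    exact_mod_cast h7
  have hdim : topologicalKrullDim C ≤ (1 : ℕ) := by
    refine Unibranch.topologicalKrullDim_le_natCast (e := 1) fun k c hc => ?_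
    let z := c (Fin.last k)
    let l : LTSeries C := ⟨k, fun i => c i.rev, fun i => ?_⟩
    rotate_left
    · have h4 := hc i.rev
      rw [← Fin.rev_succ, ← Fin.rev_castSucc] at h4
      exact lt_iff_le_not_ge.2 ⟨h4.1, fun h => h4.2 (h4.1.antisymm h).eq⟩
    have h5 : (k : ℕ∞) ≤ Order.coheight z := by
      have h6 := Order.length_le_coheight (p := l) (x := z) (by
        show z ≤ c (Fin.rev 0)
        rw [Fin.rev_zero])
      exact h6
    have h7 := hle z
    rw [ringKrullDim_stalk_eq_coheight] at h7
    exact ENat.natCast_le_natCast.mp (WithBot.coe_le_coe.mp ((WithBot.coe_le_coe.2 h5).trans h7))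
  refine ⟨‹_›, ‹_›, hint, le_antisymm (by simpa using hdim) ?_⟩
  by_contra hlt
  have h0 : topologicalKrullDim C ≤ ((0 : ℕ) : WithBot ℕ∞) := by
    obtain ⟨d, hd⟩ : ∃ d : ℕ∞, topologicalKrullDim C = d := by
      have : topologicalKrullDim C ≠ ⊥ := fun h => by
        haveI := Order.krullDim_eq_bot_iff.1 h
        exact IsEmpty.false (⟨closure {Classical.arbitrary C}, isIrreducible_singleton.closure, isClosed_closure⟩ : TopologicalSpace.IrreducibleCloseds C)
      obtain ⟨d, hd⟩ := WithBot.ne_bot_iff_exists.1 this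
      exact ⟨d, hd.symm⟩
    rw [hd] at hlt ⊢
    have : ¬ (1 : ℕ∞) ≤ d := fun h => hlt (by exact_mod_cast h)
    rw [not_le, ENat.lt_one_iff_eq_zero] at this
    rw [this]
    exact le_rfl
  refine hg ?_
  haveI := Groth.Agent.S0458.result (X := C.toPresheafedSpace.carrier) 0 h0
    (Coh.toAb (Coh.structureModule C)) 1 one_pos
  exact Module.finrank_zero_of_subsingleton

end Groth.Agent.Castel
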