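import Groth.Agent.Castel.InterForm
import Groth.Agent.ExtShX.Divisor
import Groth.Agent.S0927
import Groth.Agent.S0458
import Mathlib.CategoryTheory.Abelian.DiagramLemmas.KernelCokernelComp

/-!
Euler characteristics of divisors supported in the closed fibre, and their additivity.
-/

set_option autoImplicit false
set_option backward.isDefEq.respectTransparency false
set_option backward.isDefEq.respectTransparency.types false
set_option linter.style.haveILetI false

universe u

open CategoryTheory CategoryTheory.Limits AlgebraicGeometry TopologicalSpace Opposite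
open Groth.Agent.QC (res resO app_res res_self)
open Groth.Agent.CohFinite (tmap tmap_tm hhMap hhδ hhEquiv)

noncomputable section

namespace Groth.Agent.Castel

open Groth.Agent.Nakai (mulToOne mulToOne_tm mem_nonZeroDivisors_of_gen)

section Mul

variable {X : Scheme.{u}}

/-- Ideal modules of effective Cartier divisors multiply. -/
theorem exists_idealMod_mul {I J : X.IdealSheafData} (hI : BlowUp.IsEffCartierIdeal I)
    (hJ : BlowUp.IsEffCartierIdeal J) :
    ∃ e : CohB1.tensorMod (ClSub.idealMod I) (ClSub.idealMod J) ≅ ClSub.idealMod (I * J),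
      e.hom ≫ ClSub.idealModι (I * J) = mulToOne I J := by
  have hIi := (Groth.Agent.S8914.result I).2 hI
  have hJi := (Groth.Agent.S8914.result J).2 hJ
  have hKi := (Groth.Agent.S8914.result (I * J)).2 (Groth.Agent.BlowUpLib.cartier_mul hI hJ)
  have local' : ∀ x : X, ∃ (D : X.Opens) (hD : IsAffineOpen D) (g : Γ(ClSub.idealMod I, D))
      (h : Γ(ClSub.idealMod J, D)), x ∈ D ∧ TMul.IsGen g ∧ TMul.IsGen h ∧
      (I * J).ideal ⟨D, hD⟩ = Ideal.span {(show Γ(X, D) from (mulToOne I J).app D (TMul.tm g h))} := fun x => by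
    obtain ⟨U₁, g, hx₁, hg⟩ := TMul.exists_isGen hIi x
    obtain ⟨U₂, h, hx₂, hh⟩ := TMul.exists_isGen hJi x
    obtain ⟨D, hD, hxD, hDU⟩ := exists_isAffineOpen_mem_and_subset (x := x) (U := U₁ ⊓ U₂) ⟨hx₁, hx₂⟩
    replace hDU : D ≤ U₁ ⊓ U₂ := hDU
    have hg' := hg.res (hDU.trans inf_le_left)
    have hh' := hh.res (hDU.trans inf_le_right)
    refine ⟨D, hD, _, _, hxD, hg', hh', ?_⟩
    rw [mulToOne_tm, Scheme.IdealSheafData.ideal_mul, Pi.mul_apply, ← Ideal.span_singleton_mul_span_singleton,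
      ResDesc.ideal_eq_span_of_isGen I hD hg' rfl, ResDesc.ideal_eq_span_of_isGen J hD hh' rfl]
  have hzero : mulToOne I J ≫ ClSub.toSubscheme (I * J) = 0 := by
    refine TMul.hom_ext fun U g₀ h₀ => ?_
    refine Groth.Agent.QC.section_eq_of_locally fun x hx => ?_
    obtain ⟨D, hD, g, h, hxD, hg, hh, hid⟩ := local' x
    obtain ⟨V, hV, hxV, hle⟩ := exists_isAffineOpen_mem_and_subset (x := x) (U := U ⊓ D) ⟨hx, hxD⟩
    have hVU : V ≤ U := fun z hz => (hle hz).1
    have hVD : V ≤ D := fun z hz => (hle hz).2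
    refine ⟨V, hVU, hxV, ?_⟩
    rw [app_res, app_res]
    show (ClSub.toSubscheme (I * J)).app V ((mulToOne I J).app V (res _ hVU (TMul.tm g₀ h₀))) = _
    refine Eq.trans (b := 0) ?_ rfl
    refine (QC.mem_range_kernel_app (ClSub.toSubscheme (I * J)) _ _).mp
      ((QC.mem_range_idealModι_affine (I * J) ⟨V, hV⟩ _).mpr ?_)
    rw [TMul.res_tm]
    change (show Γ(X, V) from (mulToOne I J).app V (TMul.tm (res _ hVU g₀) (res _ hVU h₀))) ∈ _
    rw [mulToOne_tm, Scheme.IdealSheafData.ideal_mul, Pi.mul_apply]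
    exact Ideal.mul_mem_mul ((QC.mem_range_idealModι_affine I ⟨V, hV⟩ _).mp ⟨_, rfl⟩)
      ((QC.mem_range_idealModι_affine J ⟨V, hV⟩ _).mp ⟨_, rfl⟩)
  let φ : CohB1.tensorMod (ClSub.idealMod I) (ClSub.idealMod J) ⟶ ClSub.idealMod (I * J) :=
    kernel.lift (ClSub.toSubscheme (I * J)) (mulToOne I J) hzero
  have hφ : IsIso φ := by
    refine RelTilde.isIso_of_bijective_near _ fun x => ?_
    obtain ⟨D₀, hD₀, g₀, h₀, hxD₀, hg₀, hh₀, hid₀⟩ := local' x
    obtain ⟨U, j₀, hxU, hj₀⟩ := TMul.exists_isGen hKi x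
    obtain ⟨D, hD, hxD, hDU⟩ := exists_isAffineOpen_mem_and_subset (x := x) (U := D₀ ⊓ U) ⟨hxD₀, hxU⟩
    replace hDU : D ≤ D₀ ⊓ U := hDU
    have hg := hg₀.res (hDU.trans inf_le_left : D ≤ D₀)
    have hh := hh₀.res (hDU.trans inf_le_left : D ≤ D₀)
    have hj := hj₀.res (hDU.trans inf_le_right : D ≤ U)
    have hgh := TMul.isGen_tm hg hh
    obtain ⟨a, ha⟩ := (hj D le_rfl).2 (φ.app D (TMul.tm (res _ (hDU.trans inf_le_left) g₀)
      (res _ (hDU.trans inf_le_left) h₀)))
    simp only [res_self] at ha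
    have hua : IsUnit a := by
      have hA := mem_nonZeroDivisors_of_gen I hg
      have hB := mem_nonZeroDivisors_of_gen J hh
      have hid : (I * J).ideal ⟨D, hD⟩ = Ideal.span {(show Γ(X, D) from (mulToOne I J).app D
          (TMul.tm (res _ (hDU.trans inf_le_left) g₀) (res _ (hDU.trans inf_le_left) h₀)))} := by
        rw [mulToOne_tm, Scheme.IdealSheafData.ideal_mul, Pi.mul_apply, ← Ideal.span_singleton_mul_span_singleton,
          ResDesc.ideal_eq_span_of_isGen I hD hg rfl, ResDesc.ideal_eq_span_of_isGen J hD hh rfl]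
      have hmem : (show Γ(X, D) from (ClSub.idealModι (I * J)).app D (res _ (hDU.trans inf_le_right) j₀)) ∈
          (I * J).ideal ⟨D, hD⟩ := (QC.mem_range_idealModι_affine (I * J) ⟨D, hD⟩ _).mp ⟨_, rfl⟩
      rw [hid] at hmem
      obtain ⟨b, hb⟩ := Ideal.mem_span_singleton'.mp hmem
      have h1 : (show Γ(X, D) from (mulToOne I J).app D (TMul.tm (res _ (hDU.trans inf_le_left) g₀)
            (res _ (hDU.trans inf_le_left) h₀))) =
          a * (show Γ(X, D) from (ClSub.idealModι (I * J)).app D (res _ (hDU.trans inf_le_right) j₀)) := by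
        refine Eq.trans ?_ (Scheme.Modules.Hom.app_smul (ClSub.idealModι (I * J)) a _)
        refine Eq.trans ?_ (congrArg ((ClSub.idealModι (I * J)).app D) ha.symm)
        exact congrArg (fun ψ : _ ⟶ Coh.structureModule X => ψ.app D (TMul.tm (res _ (hDU.trans inf_le_left) g₀)
            (res _ (hDU.trans inf_le_left) h₀))) (kernel.lift_ι (ClSub.toSubscheme (I * J)) (mulToOne I J) hzero).symm
      rw [← hb, mulToOne_tm, ← mul_assoc] at h1
      have h2 : (1 : Γ(X, D)) = a * b := (mul_cancel_right_mem_nonZeroDivisors (mul_mem hA hB)).mp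
        ((one_mul _).trans h1)
      exact IsUnit.of_mul_eq_one b h2.symm
    have hgφ := ha ▸ TMul.isGen_smul hj hua
    refine ⟨D, hxD, fun V hV => ?_⟩
    refine (Function.Bijective.of_comp_iff (φ.app V) (hgh V hV)).1 ?_
    have h : (φ.app V) ∘ (fun d : Γ(X, V) => d • res _ hV (TMul.tm (res _ (hDU.trans inf_le_left) g₀)
        (res _ (hDU.trans inf_le_left) h₀))) = fun d => d • res _ hV (φ.app D (TMul.tm
          (res _ (hDU.trans inf_le_left) g₀) (res _ (hDU.trans inf_le_left) h₀))) := funext fun d => by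
      rw [Function.comp_apply, Scheme.Modules.Hom.app_smul, app_res φ]
    rw [h]
    exact hgφ V hV
  exact ⟨asIso φ, kernel.lift_ι _ _ _⟩

end Mul

section Seq

variable {X : Scheme.{u}}

/-- `0 → A ⊗ O/J → O/(J·I) → O/I → 0` with `A` the ideal of `I`. -/
theorem exists_shortExact_quotMod_mul {I J : X.IdealSheafData} (hI : BlowUp.IsEffCartierIdeal I)
    (hJ : BlowUp.IsEffCartierIdeal J) :
    ∃ S : ShortComplex X.Modules, S.ShortExact ∧
      Nonempty (S.X₁ ≅ CohB1.tensorMod (ClSub.idealMod I) (ClSub.quotMod J)) ∧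
      Nonempty (S.X₂ ≅ ClSub.quotMod (J * I)) ∧ Nonempty (S.X₃ ≅ ClSub.quotMod I) := by
  have hA := (Groth.Agent.S8914.result I).2 hI
  obtain ⟨e, he⟩ := exists_idealMod_mul hJ hI
  let A := ClSub.idealMod I
  have hS := CohFinite.shortExact_tmap hA (CurveRR.ideal_shortExact J)
  let f : CohB1.tensorMod (ClSub.idealMod J) A ⟶ A := tmap (ClSub.idealModι J) A ≫ (TMul.leftUnitIso A).hom
  let g : A ⟶ Coh.structureModule X := ClSub.idealModι I
  have hfg : f ≫ g = e.hom ≫ ClSub.idealModι (J * I) := by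
    rw [he, Category.assoc]
    rfl
  haveI : Mono g := inferInstanceAs (Mono (kernel.ι _))
  let S₀ := kernelCokernelCompSequence.snakeInput f g
  have hmono : Mono S₀.L₃.f := S₀.L₂'_exact.mono_g ((isZero_kernel_of_mono g).eq_of_src _ _)
  haveI : Epi S₀.L₂.g := inferInstanceAs (Epi (biprod.snd : A ⊞ Coh.structureModule X ⟶ Coh.structureModule X))
  refine ⟨S₀.L₃, { exact := S₀.L₃_exact, mono_f := hmono, epi_g := inferInstance }, ⟨?_⟩, ⟨?_⟩, ⟨?_⟩⟩
  · exact cokernelCompIsIso (tmap (ClSub.idealModι J) A) (TMul.leftUnitIso A).hom ≪≫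
      (cokernelIsCokernel _).coconePointUniqueUpToIso hS.gIsCokernel ≪≫ TMul.commIso _ _
  · exact cokernelIsoOfEq hfg ≪≫ cokernelEpiComp e.hom _ ≪≫
      (cokernelIsCokernel _).coconePointUniqueUpToIso (CurveRR.ideal_shortExact (J * I)).gIsCokernel
  · exact (cokernelIsCokernel _).coconePointUniqueUpToIso (CurveRR.ideal_shortExact I).gIsCokernel

end Seq

variable {R : Type u} [CommRing R] [IsDomain R] [IsDiscreteValuationRing R] {X : Over (Spec (CommRingCat.of R))}

/-- The cohomology of `F` has finite length and vanishes beyond degree one. -/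
def FinLen (R : Type u) [CommRing R] [IsDomain R] [IsDiscreteValuationRing R] (X : Over (Spec (CommRingCat.of R)))
    (F : X.left.Modules) : Prop :=
  ∀ q, Module.length R (Coh.HH X.left F q) ≠ ⊤ ∧ (2 ≤ q → Subsingleton (Coh.HH X.left F q))

/-- The Euler characteristic by lengths. -/
def chiL (R : Type u) [CommRing R] [IsDomain R] [IsDiscreteValuationRing R] (X : Over (Spec (CommRingCat.of R)))
    (F : X.left.Modules) : ℤ :=
  (Models.lengthH R X F 0 : ℤ) - Models.lengthH R X F 1

theorem lengthH_eq_of_iso {F G : X.left.Modules} (e : F ≅ G) (q : ℕ) :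
    Models.lengthH R X F q = Models.lengthH R X G q :=
  congrArg ENat.toNat (hhEquiv R e q).length_eq

theorem finLen_of_iso {F G : X.left.Modules} (e : F ≅ G) (h : FinLen R X F) : FinLen R X G := fun q =>
  ⟨(hhEquiv R e q).length_eq ▸ (h q).1, fun hq => by
    haveI := (h q).2 hq
    exact (hhEquiv R e q).symm.injective.subsingleton⟩

theorem chiL_eq_of_iso {F G : X.left.Modules} (e : F ≅ G) : chiL R X F = chiL R X G := by
  simp only [chiL, lengthH_eq_of_iso e]

theorem length_ker_add_range {M N : Type u} [AddCommGroup M] [AddCommGroup N] [Module R M] [Module R N]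
    (f : M →ₗ[R] N) : Module.length R M = Module.length R (LinearMap.ker f) + Module.length R (LinearMap.range f) :=
  Module.length_eq_add_of_exact f.ker.subtype f.rangeRestrict (Submodule.injective_subtype _)
    f.surjective_rangeRestrict fun x => by
      rw [Set.mem_range]
      exact ⟨fun h => ⟨⟨x, by simpa [LinearMap.mem_ker] using congrArg Subtype.val h⟩, rfl⟩, fun ⟨y, hy⟩ =>
        Subtype.ext (hy ▸ LinearMap.mem_ker.1 y.2)⟩

/-- Additivity along a short exact sequence. -/
theorem finLen_and_chiL_add {S : ShortComplex X.left.Modules} (hS : S.ShortExact) (h₁ : FinLen R X S.X₁)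
    (h₃ : FinLen R X S.X₃) :
    FinLen R X S.X₂ ∧ chiL R X S.X₂ = chiL R X S.X₁ + chiL R X S.X₃ := by
  letI : X.left.Over (Spec (CommRingCat.of R)) := ⟨X.hom⟩
  have e1 : ∀ i, LinearMap.range (hhMap R S.f i) = LinearMap.ker (hhMap R S.g i) := fun i => by
    ext x
    exact (CohFinite.map_g_eq_zero_iff (CohFinite.shortExact_toAb hS) i x).symm
  have e2 : ∀ i, LinearMap.range (hhMap R S.g i) = LinearMap.ker (hhδ R hS i) := fun i => by
    ext x
    exact (CohFinite.δH_eq_zero_iff (CohFinite.shortExact_toAb hS) i x).symm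
  have e3 : ∀ i, LinearMap.range (hhδ R hS i) = LinearMap.ker (hhMap R S.f (i + 1)) := fun i => by
    ext x
    exact (CohFinite.map_f_eq_zero_iff (CohFinite.shortExact_toAb hS) i x).symm
  have hle : ∀ q, Module.length R (Coh.HH X.left S.X₂ q) ≤
      Module.length R (Coh.HH X.left S.X₁ q) + Module.length R (Coh.HH X.left S.X₃ q) := fun q => by
    rw [length_ker_add_range (hhMap R S.g q), ← e1]
    exact add_le_add (Module.length_le_of_surjective (hhMap R S.f q).rangeRestrict
      (LinearMap.surjective_rangeRestrict _)) (Module.length_le_of_injective _ (Submodule.injective_subtype _))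
  have h₂ : FinLen R X S.X₂ := fun q => by
    refine ⟨fun h => ?_, fun hq => ?_⟩
    · rcases ENat.add_eq_top.1 (top_le_iff.1 (h ▸ hle q)) with h' | h'
      exacts [(h₁ q).1 h', (h₃ q).1 h']
    · haveI := (h₁ q).2 hq
      haveI := (h₃ q).2 hq
      refine Module.length_eq_zero_iff.1 (le_antisymm ((hle q).trans ?_) bot_le)
      rw [Module.length_eq_zero, Module.length_eq_zero, zero_add]
  refine ⟨h₂, ?_⟩
  let k : ℕ → ℕ∞ := fun i => Module.length R (LinearMap.ker (hhMap R S.f i))
  have hk0 : k 0 = 0 := by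
    simp only [k]
    rw [LinearMap.ker_eq_bot.2 (CohFinite.map_f_injective (CohFinite.shortExact_toAb hS)), Module.length_bot]
  have hk2 : k 2 = 0 := by
    haveI := (h₁ 2).2 le_rfl
    exact Module.length_eq_zero
  have hstep : ∀ i, ((Module.length R (Coh.HH X.left S.X₁ i)).toNat : ℤ) + (Module.length R (Coh.HH X.left S.X₃ i)).toNat -
      (Module.length R (Coh.HH X.left S.X₂ i)).toNat = (k i).toNat + (k (i + 1)).toNat := fun i => by
    have a1 := length_ker_add_range (hhMap R S.f i)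
    have a2 := length_ker_add_range (hhMap R S.g i)
    have a3 := length_ker_add_range (hhδ R hS i)
    rw [← e1] at a2
    rw [← e2, e3] at a3
    have t1 := (h₁ i).1
    have t2 := (h₂ i).1
    have t3 := (h₃ i).1
    rw [a1] at t1 ⊢
    rw [a2] at t2 ⊢
    rw [a3] at t3 ⊢
    simp only [ne_eq, ENat.add_eq_top, not_or] at t1 t2 t3
    rw [ENat.toNat_add t1.1 t1.2, ENat.toNat_add t2.1 t2.2, ENat.toNat_add t3.1 t3.2]
    simp only [k]
    push_cast
    ring
  have s0 := hstep 0
  have s1 := hstep 1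
  simp only [hk0, hk2, ENat.toNat_zero, Nat.cast_zero] at s0 s1
  simp only [chiL, Models.lengthH]
  linarith

/-- The direct image of a coherent sheaf on a vertical prime divisor. -/
theorem finLen_and_chiL_push [IsProper X.hom] (Γ : ArSurf.VertComp R X) (Q : Γ.curve.left.Modules)
    (hQ : Coh.IsCoh Q) :
    FinLen R X ((Scheme.Modules.pushforward Γ.ι).obj Q) ∧
    chiL R X ((Scheme.Modules.pushforward Γ.ι).obj Q) =
      Curv2.euler (IsLocalRing.ResidueField R) Γ.curve.left Q := by
  let k := IsLocalRing.ResidueField R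
  haveI : IsProper (Γ.curve.left ↘ Spec (CommRingCat.of k)) := isProper_curve Γ
  haveI : IsLocallyNoetherian Γ.curve.left := LocallyOfFiniteType.isLocallyNoetherian (Γ.curve.left ↘ Spec (CommRingCat.of k))
  let q : Γ.curve.left ⟶ Spec (CommRingCat.of R) := Γ.curve.hom ≫ Spec.map (CommRingCat.ofHom (IsLocalRing.residue R))
  haveI : Coh.IsQCoh Q := hQ.1
  letI : Γ.curve.left.Over (Spec (CommRingCat.of R)) := ⟨q⟩
  have key : ∀ i, Module.length R (Coh.HH X.left ((Scheme.Modules.pushforward Γ.ι).obj Q) i) =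
      (CurveRR.h k Q i : ℕ∞) := fun i => by
    obtain ⟨b⟩ := CohFinite.hh_push_linear (A := R) Γ.ι Γ.w Q (CohQC.directAcyclic_of_isAffineHom Γ.ι _) i
    haveI : IsScalarTower R k (Coh.HH Γ.curve.left Q i) := by
      refine IsScalarTower.of_algebraMap_smul fun r x => ?_
      have h : Coh.toGlobal (Γ.curve.left ↘ Spec (CommRingCat.of k)) (IsLocalRing.residue R r) =
          Coh.toGlobal (Γ.curve.left ↘ Spec (CommRingCat.of R)) r := by
        have hn := ConcreteCategory.congr_hom
          (Scheme.ΓSpecIso_inv_naturality (CommRingCat.ofHom (IsLocalRing.residue R))) r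
        show Γ.curve.hom.appTop ((Scheme.ΓSpecIso _).inv (IsLocalRing.residue R r)) = q.appTop ((Scheme.ΓSpecIso _).inv r)
        rw [Scheme.Hom.comp_appTop]
        exact congrArg (fun z => Γ.curve.hom.appTop z) hn
      show (Coh.toGlobal (Γ.curve.left ↘ Spec (CommRingCat.of k)) (IsLocalRing.residue R r) : Coh.Γtop Γ.curve.left) • x =
        (Coh.toGlobal (Γ.curve.left ↘ Spec (CommRingCat.of R)) r : Coh.Γtop Γ.curve.left) • x
      rw [h]
    haveI : Module.Finite k (Coh.HH Γ.curve.left Q i) := CohFinite.finite_proper (A := k) Γ.curve.left Q hQ i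
    rw [← b.length_eq, Module.length_eq_of_surjective (R := k) IsLocalRing.residue_surjective,
      Module.length_eq_finrank]
  refine ⟨fun i => ⟨by rw [key]; exact ENat.coe_ne_top _, fun hi => ?_⟩, ?_⟩
  · haveI := CurveRR.subsingleton_of_two_le (k := k) Γ.dim_eq.le Q i hi
    rw [← Module.length_eq_zero_iff (R := R), key, CurveRR.h_eq_zero (k := k) ‹_›, Nat.cast_zero]
  · rw [CurveRR.euler_eq Γ.dim_eq.le, chiL, Models.lengthH, Models.lengthH, key, key]
    rfl

/-- The empty divisor. -/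
theorem finLen_and_chiL_top :
    FinLen R X (ClSub.quotMod (⊤ : X.left.IdealSheafData)) ∧
      chiL R X (ClSub.quotMod (⊤ : X.left.IdealSheafData)) = 0 := by
  have hsub : ∀ U : X.left.Opens, ∀ s : Γ(ClSub.quotMod (⊤ : X.left.IdealSheafData), U), s = 0 := fun U s =>
    CurveRR.suppIn_of_subset (CurveRR.support_quotMod _) U s fun x _ hx => by
      rw [Scheme.IdealSheafData.support_top] at hx
      exact hx
  have hid : 𝟙 (ClSub.quotMod (⊤ : X.left.IdealSheafData)) = 0 := by
    ext U s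
    exact (hsub U s).trans rfl
  have h0 : ∀ q, Subsingleton (Coh.HH X.left (ClSub.quotMod (⊤ : X.left.IdealSheafData)) q) := fun q =>
    CohFinite.subsingleton_of_split (ι := Empty) _ (fun j => j.elim) (fun j => j.elim) (fun j => j.elim)
      (by rw [Finset.univ_eq_empty, Finset.sum_empty, hid]) q (fun j => j.elim)
  refine ⟨fun q => ⟨?_, fun _ => h0 q⟩, ?_⟩
  · haveI := h0 q
    rw [Module.length_eq_zero]
    exact ENat.zero_ne_top
  · haveI := h0 0
    haveI := h0 1
    simp [chiL, Models.lengthH, Module.length_eq_zero]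

/-- Adding a vertical prime divisor. -/
theorem finLen_and_chiL_mul [IsProper X.hom] (Γ : ArSurf.VertComp R X) {I : X.left.IdealSheafData}
    (hI : BlowUp.IsEffCartierIdeal I) (hJ : BlowUp.IsEffCartierIdeal Γ.ι.ker)
    (h : FinLen R X (ClSub.quotMod I)) :
    FinLen R X (ClSub.quotMod (Γ.ι.ker * I)) ∧
    chiL R X (ClSub.quotMod (Γ.ι.ker * I)) =
      chiL R X (ClSub.quotMod I) + degI Γ I + ((Models.wdeg R X Γ : ℤ) - Models.h1 R X Γ) := by
  let k := IsLocalRing.ResidueField R
  haveI : IsProper (Γ.curve.left ↘ Spec (CommRingCat.of k)) := isProper_curve Γ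
  haveI : IsLocallyNoetherian Γ.curve.left := LocallyOfFiniteType.isLocallyNoetherian (Γ.curve.left ↘ Spec (CommRingCat.of k))
  haveI := CurveRR.isNoetherian_of_proper k Γ.curve.left
  obtain ⟨S, hS, ⟨a₁⟩, ⟨a₂⟩, ⟨a₃⟩⟩ := exists_shortExact_quotMod_mul hI hJ
  have hA := (Groth.Agent.S8914.result I).2 hI
  have hAf : FlatMod.IsFinLocFree (ClSub.idealMod I) := fun x =>
    let ⟨U, hx, e⟩ := CurveRR.isFinLocFreeOfRank_one hA x
    ⟨U, 1, hx, e⟩
  haveI := Groth.Agent.S0927.isIso_proj Γ.ι (ClSub.idealMod I) hAf (Coh.structureModule Γ.curve.left)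
  obtain ⟨qi⟩ := ExtShX.nonempty_quotMod_iso Γ.ι
  let Q := CohB1.tensorMod ((Scheme.Modules.pullback Γ.ι).obj (ClSub.idealMod I)) (Coh.structureModule Γ.curve.left)
  have eQ : Q ≅ (Scheme.Modules.pullback Γ.ι).obj (ClSub.idealMod I) := TMul.commIso _ _ ≪≫ TMul.leftUnitIso _
  have hp := PicLoc.isInvertible_pullback Γ.ι hA
  have hQ : Coh.IsCoh Q := CohFinite.isCoh_of_iso eQ.symm (CurveRR.isCoh_of_inv hp)
  obtain ⟨hfl, hchi⟩ := finLen_and_chiL_push Γ Q hQ
  have b₁ : S.X₁ ≅ (Scheme.Modules.pushforward Γ.ι).obj Q := a₁ ≪≫ PicGrp.tensorModIso (Iso.refl _) qi ≪≫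
    asIso (Groth.Agent.S0927.proj Γ.ι (ClSub.idealMod I) (Coh.structureModule Γ.curve.left))
  obtain ⟨hf₂, hadd⟩ := finLen_and_chiL_add hS (finLen_of_iso b₁.symm hfl) (finLen_of_iso a₃.symm h)
  refine ⟨finLen_of_iso a₂ hf₂, ?_⟩
  rw [← chiL_eq_of_iso a₂, hadd, chiL_eq_of_iso b₁, hchi, chiL_eq_of_iso a₃, CurveRR.euler_eq_of_iso eQ, degI,
    Curv2.deg, CurveRR.euler_eq Γ.dim_eq.le (Coh.structureModule Γ.curve.left)]
  simp only [Models.wdeg, Models.h1, CurveRR.h, Nat.cast_one, one_mul]
  ring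

end Groth.Agent.Castel
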