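import Groth.Agent.Castel.PicClass
import Groth.Agent.Castel.NumType
import Groth.Agent.S14809
import Groth.Agent.SurfAdj.Nef
import Groth.Agent.MeroLib.Sections
import Groth.Agent.Nakai.PullIdeal

/-!
`Pic(X) → Pic(C)` for a regular proper model: the kernel is spanned by the components of the closed fibre
and the only relation is the closed fibre itself.
-/

set_option autoImplicit false
set_option backward.isDefEq.respectTransparency false
set_option backward.isDefEq.respectTransparency.types false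
set_option linter.style.haveILetI false
set_option linter.unusedSectionVars false

universe u

open CategoryTheory CategoryTheory.Limits AlgebraicGeometry TopologicalSpace Opposite
open Groth.Agent.DivPart (stI pr)

noncomputable section

namespace Groth.Agent.Castel

attribute [local instance] W7Cube.law

section Ideals

variable {Y : Scheme.{u}}

open scoped Classical in
/-- The class of an ideal sheaf (junk unless Cartier). -/
def clsD (I : Y.IdealSheafData) : PicLoc.PicSet Y :=
  if h : PicF.IsInvertible (ClSub.idealMod I) then PicGrp.cls _ h else 1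

theorem clsD_eq {I : Y.IdealSheafData} (h : PicF.IsInvertible (ClSub.idealMod I)) :
    clsD I = PicGrp.cls (ClSub.idealMod I) h :=
  dif_pos h

theorem cls_inverse {L : Y.Modules} {I : Y.IdealSheafData} (hI : BlowUp.IsEffCartierIdeal I)
    (hL : ClSub.IsInverseOf L (ClSub.idealMod I)) :
    ∃ h : PicF.IsInvertible L, PicGrp.cls L h = (clsD I)⁻¹ := by
  have hIi := (Groth.Agent.S8914.result _).2 hI
  exact ⟨isInvertible_of_isInverseOf hIi hL, by rw [clsD_eq hIi]; exact cls_eq_inv _ hIi hL⟩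

theorem clsD_prod {σ : Type} (s : Finset σ) (I : σ → Y.IdealSheafData) (hI : ∀ i, BlowUp.IsEffCartierIdeal (I i))
    (a : σ → ℕ) : clsD (∏ i ∈ s, I i ^ a i) = ∏ i ∈ s, clsD (I i) ^ a i := by
  obtain ⟨h, e⟩ := exists_cls_ideal_prod s I hI a
  rw [clsD_eq h, e]
  exact Finset.prod_congr rfl fun i _ => by rw [clsD_eq ((Groth.Agent.S8914.result _).2 (hI i))]

theorem nonempty_iso_iff {L M : Y.Modules} (hL : PicF.IsInvertible L) (hM : PicF.IsInvertible M) :
    Nonempty (L ≅ M) ↔ PicGrp.cls L hL = PicGrp.cls M hM :=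
  (PicGrp.cls_eq_cls_iff hL hM).symm

theorem nonempty_iso_structure_iff {L : Y.Modules} (hL : PicF.IsInvertible L) :
    Nonempty (L ≅ Coh.structureModule Y) ↔ PicGrp.cls L hL = (1 : PicLoc.PicSet Y) := by
  rw [← cls_structure]; exact nonempty_iso_iff hL _

theorem nonempty_tensorPow_iso_iff {L : Y.Modules} (hL : PicF.IsInvertible L) (n : ℕ) :
    Nonempty (CohB1.tensorPow L n ≅ Coh.structureModule Y) ↔ PicGrp.cls L hL ^ n = (1 : PicLoc.PicSet Y) := by
  rw [← cls_tensorPow hL n]; exact nonempty_iso_structure_iff _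

theorem pull_eq_iff {X : Scheme.{u}} (g : X ⟶ Y) {L : Y.Modules} (hL : PicF.IsInvertible L) {N : X.Modules}
    (hN : PicF.IsInvertible N) :
    Nonempty ((Scheme.Modules.pullback g).obj L ≅ N) ↔ W7Cube.pull g (PicGrp.cls L hL) = PicGrp.cls N hN := by
  rw [pull_cls]; exact nonempty_iso_iff _ _

end Ideals

variable {R : Type u} [CommRing R] [IsDomain R] [IsDiscreteValuationRing R]

section Surface

variable {X : Over (Spec (CommRingCat.of R))}

/-- The class of `Σ v_i Γ_i`. -/
def picO {n : ℕ} (Γ : Fin n → ArSurf.VertComp R X) (v : Fin n → ℤ) : PicLoc.PicSet X.left :=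
  ∏ i, clsD (Γ i).ι.ker ^ (- v i)

theorem picO_add {n : ℕ} (Γ : Fin n → ArSurf.VertComp R X) (v w : Fin n → ℤ) :
    picO Γ (v + w) = picO Γ v * picO Γ w := by
  rw [picO, picO, picO, ← Finset.prod_mul_distrib]
  exact Finset.prod_congr rfl fun i _ => by rw [← zpow_add, Pi.add_apply, neg_add]

theorem picO_zero {n : ℕ} (Γ : Fin n → ArSurf.VertComp R X) : picO Γ 0 = 1 := by
  simp [picO]

theorem picO_smul {n : ℕ} (Γ : Fin n → ArSurf.VertComp R X) (k : ℤ) (v : Fin n → ℤ) :
    picO Γ (k • v) = picO Γ v ^ k := by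
  rw [picO, picO, ← Finset.prod_zpow]
  exact Finset.prod_congr rfl fun i _ => by rw [← zpow_mul, Pi.smul_apply, smul_eq_mul, neg_mul, mul_comm]

theorem picO_neg {n : ℕ} (Γ : Fin n → ArSurf.VertComp R X) (v : Fin n → ℤ) :
    picO Γ (-v) = (picO Γ v)⁻¹ :=
  eq_inv_of_mul_eq_one_left (by rw [← picO_add, neg_add_cancel, picO_zero])

theorem picO_sub {n : ℕ} (Γ : Fin n → ArSurf.VertComp R X) (v w : Fin n → ℤ) :
    picO Γ (v - w) = picO Γ v / picO Γ w := by
  rw [sub_eq_add_neg, picO_add, picO_neg, div_eq_mul_inv]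

variable (hA : ArSurf.IsArithSurface R X)
include hA

theorem cls_twist {n : ℕ} (Γ : Fin n → ArSurf.VertComp R X) (L : Fin n → X.left.Modules)
    (hL : ∀ i, ClSub.IsInverseOf (L i) (ClSub.idealMod (Γ i).ι.ker)) (a : Fin n → ℕ) :
    ∃ h : PicF.IsInvertible (FGA.multiTwist L a),
      PicGrp.cls (FGA.multiTwist L a) h = picO Γ (fun i => (a i : ℤ)) := by
  choose hi ei using fun i => cls_inverse (isEffCartierIdeal_ker hA (Γ i)) (hL i)
  obtain ⟨h, e⟩ := exists_cls_multiTwist L hi a
  refine ⟨h, e.trans (Finset.prod_congr rfl fun i _ => ?_)⟩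
  rw [ei, inv_pow, ← zpow_natCast, ← zpow_neg]

theorem clsD_divI {n : ℕ} (Γ : Fin n → ArSurf.VertComp R X) (a : Fin n → ℕ) :
    clsD (divI Γ a) = picO Γ (fun i => - (a i : ℤ)) := by
  rw [divI, clsD_prod Finset.univ _ (fun i => isEffCartierIdeal_ker hA (Γ i)) a, picO]
  exact Finset.prod_congr rfl fun i _ => by rw [neg_neg, zpow_natCast]

/-- The degree of `Σ v_j Γ_j` on `Γ_i`. -/
theorem degP_picO {n : ℕ} (Γ : Fin n → ArSurf.VertComp R X) (v : Fin n → ℤ) (i : Fin n) :
    degP (Γ i) (picO Γ v) = ∑ j, interMat Γ i j * v j := by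
  haveI := isProper_hom_of_isArithSurface hA
  rw [picO, degP_prod]
  refine Finset.sum_congr rfl fun j _ => ?_
  rw [degP_zpow, clsD_eq ((Groth.Agent.S8914.result _).2 (isEffCartierIdeal_ker hA (Γ j))), degP_cls,
    inter_eq_deg]
  show -v j * degI (Γ i) (Γ j).ι.ker = - degI (Γ i) (Γ j).ι.ker * v j
  ring

/-- The ideal of `Σ a_j Γ_j` at the generic point of `Γ_i`. -/
theorem stI_divI {n : ℕ} (Γ : Fin n → ArSurf.VertComp R X) (hinj : Function.Injective fun i => Set.range (Γ i).ι)
    (a : Fin n → ℕ) (i : Fin n) (W : X.left.affineOpens) (hW : Models.genPtOf R X (Γ i) ∈ W.1) :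
    stI (divI Γ a) W hW = IsLocalRing.maximalIdeal (X.left.presheaf.stalk (Models.genPtOf R X (Γ i))) ^ a i := by
  classical
  haveI := hA.2.2.2.1
  haveI := hA.2.1
  haveI := isProper_hom_of_isArithSurface hA
  haveI : IsLocallyNoetherian X.left := LocallyOfFiniteType.isLocallyNoetherian X.hom
  haveI : CompactSpace X.left := QuasiCompact.compactSpace_of_compactSpace X.hom
  haveI : IsNoetherian X.left := {}
  have hc := fun j => isEffCartierIdeal_ker hA (Γ j)
  have hmul : ∀ s : Finset (Fin n), stI (∏ j ∈ s, (Γ j).ι.ker ^ a j) W hW =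
      if i ∈ s then IsLocalRing.maximalIdeal (X.left.presheaf.stalk (Models.genPtOf R X (Γ i))) ^ a i else ⊤ := by
    intro s
    induction s using Finset.induction with
    | empty => simp [stI, Scheme.IdealSheafData.one_eq_top, Ideal.map_top]
    | insert j s hj ih =>
      have hstep : stI ((Γ j).ι.ker ^ a j * ∏ t ∈ s, (Γ t).ι.ker ^ a t) W hW =
          stI (Γ j).ι.ker W hW ^ a j * stI (∏ t ∈ s, (Γ t).ι.ker ^ a t) W hW := by
        simp only [stI, Scheme.IdealSheafData.ideal_mul, PtBlow.ideal_pow', Pi.mul_apply, Ideal.map_mul, Ideal.map_pow]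
      rw [Finset.prod_insert hj, hstep, ih]
      by_cases hji : j = i
      · subst hji
        rw [if_neg hj, if_pos (Finset.mem_insert_self _ _), stI_ker_genPt]
        exact Ideal.mul_top _
      · obtain ⟨g, -, hg, hu⟩ := DivPart.exists_generator (Γ j).ι.ker (hc j) W hW
        have htop : stI (Γ j).ι.ker W hW = ⊤ := by
          rw [hg, Ideal.span_singleton_eq_top]
          exact hu (genPt_notMem fun e => hji (hinj e).symm)
        rw [htop, Ideal.top_pow, Ideal.top_mul]
        simp only [Finset.mem_insert, Ne.symm hji, false_or]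
  have h := hmul Finset.univ
  rwa [if_pos (Finset.mem_univ i)] at h

/-- Exponents of vertical divisors are determined by the ideal. -/
theorem divI_injective {n : ℕ} (Γ : Fin n → ArSurf.VertComp R X)
    (hinj : Function.Injective fun i => Set.range (Γ i).ι) {a b : Fin n → ℕ} (h : divI Γ a = divI Γ b) : a = b := by
  have hA' := hA
  obtain ⟨hXr, hXi, hXd, hXf, -⟩ := hA'
  haveI := hXi
  haveI := hXf
  haveI := isProper_hom_of_isArithSurface hA
  haveI : IsLocallyNoetherian X.left := LocallyOfFiniteType.isLocallyNoetherian X.hom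
  haveI : CompactSpace X.left := QuasiCompact.compactSpace_of_compactSpace X.hom
  haveI : IsNoetherian X.left := {}
  funext i
  let ξ := Models.genPtOf R X (Γ i)
  obtain ⟨W, hW, hξW, -⟩ := exists_isAffineOpen_mem_and_subset (show ξ ∈ (⊤ : X.left.Opens) from trivial)
  have ha := stI_divI hA Γ hinj a i ⟨W, hW⟩ hξW
  rw [h, stI_divI hA Γ hinj b i ⟨W, hW⟩ hξW] at ha
  have hdim : ringKrullDim (X.left.presheaf.stalk ξ) = 1 := by
    refine ringKrullDim_stalk_curve hXd ?_
    have hcl : closure ({ξ} : Set X.left) = Set.range (Γ i).ι := by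
      refine subset_antisymm ((Γ i).ι.isClosedEmbedding.isClosed_range.closure_subset_iff.2
        (Set.singleton_subset_iff.2 ⟨_, rfl⟩)) ?_
      rintro _ ⟨z, rfl⟩
      exact specializes_iff_mem_closure.1 ((genericPoint_specializes z).map (Γ i).ι.continuous)
    rw [hcl, ← (Γ i).ι.isClosedEmbedding.isEmbedding.toHomeomorph.isHomeomorph.topologicalKrullDim_eq,
      (Γ i).dim_eq]
    rfl
  have hnf : ¬ IsField (X.left.presheaf.stalk ξ) := fun h => by
    rw [ringKrullDim_eq_zero_of_isField h] at hdim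
    exact zero_ne_one hdim
  haveI := hXr ξ
  haveI : IsDiscreteValuationRing (X.left.presheaf.stalk ξ) :=
    (SepReg.dvr_iff_regular _ hnf hdim.le).2 inferInstance
  have hl := congrArg (fun J : Ideal (X.left.presheaf.stalk ξ) =>
    Module.length (X.left.presheaf.stalk ξ) (X.left.presheaf.stalk ξ ⧸ J)) ha
  simp only [ξ, IsDiscreteValuationRing.length_quotient_pow_maximalIdeal] at hl
  exact_mod_cast hl.symm

end Surface

/-- The closed fibre has trivial class. -/
theorem clsD_fibreIdeal {X : Over (Spec (CommRingCat.of R))} [Flat X.hom] :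
    clsD (fibreIdeal X) = (1 : PicLoc.PicSet X.left) := by
  let I₀ : (Spec (CommRingCat.of R)).IdealSheafData := Scheme.IdealSheafData.ofIdealTop
    ((IsLocalRing.maximalIdeal R).map (Scheme.ΓSpecIso (CommRingCat.of R)).inv.hom)
  have hI₀ : BlowUp.IsEffCartierIdeal I₀ := cartier_base
  have hI₀i := (Groth.Agent.S8914.result _).2 hI₀
  have hFi := (Groth.Agent.S8914.result _).2 (cartier_fibreIdeal (X := X))
  obtain ⟨O, -, g, hy, hg⟩ := CohFinite.exists_gen_le hI₀i
    (show IsLocalRing.closedPoint R ∈ (⊤ : (Spec (CommRingCat.of R)).Opens) from trivial)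
  have hO : (⊤ : (Spec (CommRingCat.of R)).Opens) ≤ O :=
    ((IsLocalRing.closed_point_mem_iff (R := R)).1 hy).ge
  obtain ⟨a⟩ := nonempty_iso_of_isGen (Groth.Agent.SymAlg.isGen_res hO hg)
  obtain ⟨i⟩ := Nakai.nonempty_pullback_idealMod X.hom hI₀ (cartier_fibreIdeal (X := X))
  rw [clsD_eq hFi]
  exact (nonempty_iso_structure_iff hFi).1
    ⟨i.symm ≪≫ (Scheme.Modules.pullback X.hom).mapIso a.symm ≪≫ PicLoc.pullbackStructureIso X.hom⟩

/-- An ideal with trivial module is generated by a global function. -/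
theorem exists_global_generator {Y : Scheme.{u}} (I : Y.IdealSheafData)
    (e : Coh.structureModule Y ≅ ClSub.idealMod I) :
    ∃ h : Γ(Y, ⊤), ∀ W : Y.affineOpens,
      I.ideal W = Ideal.span {Groth.Agent.QC.resO Y (le_top : W.1 ≤ ⊤) h} := by
  let g : Γ(ClSub.idealMod I, ⊤) := e.hom.app ⊤ (1 : Γ(Y, ⊤))
  have hg : TMul.IsGen g := MeroLib.IsGen.map_iso e.hom (TMul.isGen_one ⊤)
  refine ⟨(ClSub.idealModι I).app ⊤ g, fun W => ?_⟩
  exact ResDesc.ideal_eq_span_of_isGen I W.2 (hg.res le_top)
    (Groth.Agent.QC.app_res (ClSub.idealModι I) (le_top : W.1 ≤ ⊤) g)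

section Model

variable {C X : Scheme.{u}} {f : C ⟶ Spec (CommRingCat.of (FractionRing R))}
  {p : X ⟶ Spec (CommRingCat.of R)}
  (hC : Curve.IsSmoothProperCurve (FractionRing R) C f) (hH0 : IsIso f.appTop)
  (hX : Models.IsRegularProperModel R X p C f) {n : ℕ} (Γ : Fin n → ArSurf.VertComp R (Over.mk p))
  (hΓ : Models.IsComponentList R (Over.mk p) Γ)
include hC hH0 hX hΓ

/-- `Σ m_i Γ_i` has trivial class. -/
theorem picO_mult : picO Γ (fun i => (Models.mult R (Over.mk p) (Γ i) : ℤ)) = 1 := by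
  have hA := isArithSurface_of_regularProper hC hX
  haveI : Flat (Over.mk p).hom := hA.2.2.2.1
  have h := clsD_divI hA Γ (fun i => Models.mult R (Over.mk p) (Γ i))
  rw [show divI Γ (fun i => Models.mult R (Over.mk p) (Γ i)) = fibreIdeal (Over.mk p) from
    (fibreIdeal_eq_prod hA Γ hΓ.1 (componentList_cover hΓ)).symm, clsD_fibreIdeal] at h
  rw [← inv_eq_one, ← picO_neg]
  exact h.symm

omit hΓ in
/-- The global functions on a model with `H⁰(C, O) = K` are `R`. -/
theorem bijective_toGlobal : Function.Bijective (Coh.toGlobal p : R →+* Γ(X, ⊤)) := by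
  obtain ⟨hint, -⟩ := surface_of_regularProper hC hX
  obtain ⟨⟨hfl, -, -, g, hg⟩, hp, -⟩ := hX
  haveI := hint; haveI := hfl; haveI := hp; haveI := hC.2.2.1; haveI := hH0
  let K := FractionRing R
  let ψ : K →+* Γ(C, ⊤) := Coh.toGlobal f
  have hψ : Function.Bijective ψ := ((ConcreteCategory.bijective_of_isIso f.appTop).comp
    (ConcreteCategory.bijective_of_isIso (Scheme.ΓSpecIso (CommRingCat.of K)).inv))
  have hcomm : g.appTop.hom.comp (Coh.toGlobal p) = ψ.comp (algebraMap R K) := RingHom.ext fun r => by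
    show g.appTop (p.appTop ((Scheme.ΓSpecIso (CommRingCat.of R)).inv r)) =
      f.appTop ((Scheme.ΓSpecIso (CommRingCat.of K)).inv (algebraMap R K r))
    have h1 := ConcreteCategory.congr_hom
      (Scheme.ΓSpecIso_inv_naturality (CommRingCat.ofHom (algebraMap R K))) r
    have h2 := ConcreteCategory.congr_hom (congrArg Scheme.Hom.appTop hg.w)
      ((Scheme.ΓSpecIso (CommRingCat.of R)).inv r)
    simp only [Scheme.Hom.comp_appTop] at h2
    exact h2.trans (congrArg f.appTop h1.symm)
  have hinj : Function.Injective g.appTop := by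
    haveI := isIso_stalkMap_generic hg (genericPoint C)
    intro a b hab
    refine germ_injective_of_isIntegral X (g (genericPoint C)) (U := ⊤) trivial ?_
    refine (ConcreteCategory.bijective_of_isIso (g.stalkMap (genericPoint C))).1 ?_
    rw [Scheme.Hom.germ_stalkMap_apply, Scheme.Hom.germ_stalkMap_apply]
    exact congrArg _ hab
  have hψa : Function.Injective (ψ.comp (algebraMap R K)) := hψ.1.comp (IsFractionRing.injective R K)
  refine ⟨fun a b h => hψa ?_, fun h => ?_⟩
  · rw [← hcomm]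
    exact congrArg g.appTop.hom h
  obtain ⟨x, hx⟩ := hψ.2 (g.appTop h)
  have h1 : (Coh.toGlobal p).IsIntegralElem h :=
    RingHom.IsIntegral.trans _ _ (RingHom.isIntegral_of_surjective _
      (ConcreteCategory.bijective_of_isIso (Scheme.ΓSpecIso (CommRingCat.of R)).inv).2)
      (isIntegral_appTop_of_universallyClosed p) h
  have h2 : (ψ.comp (algebraMap R K)).IsIntegralElem (ψ x) := by
    rw [← hcomm, hx]
    obtain ⟨P, hP, hP0⟩ := h1
    exact ⟨P, hP, by rw [← Polynomial.hom_eval₂, hP0, map_zero]⟩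
  have h3 : IsIntegral R x := by
    obtain ⟨P, hP, hP0⟩ := h2
    refine ⟨P, hP, hψ.1 ?_⟩
    rw [map_zero, ← hP0, Polynomial.hom_eval₂]
  obtain ⟨r, hr⟩ := IsIntegrallyClosed.isIntegral_iff.1 h3
  refine ⟨r, hinj ?_⟩
  rw [← hx, ← hr]
  exact RingHom.congr_fun hcomm r

/-- An effective vertical divisor with trivial class is a multiple of the closed fibre. -/
theorem eq_mult_of_clsD_eq_one (e : Fin n → ℕ) (he : clsD (divI Γ e) = (1 : PicLoc.PicSet X)) :
    ∃ k : ℕ, ∀ i, e i = k * Models.mult R (Over.mk p) (Γ i) := by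
  have hA := isArithSurface_of_regularProper hC hX
  haveI : IsIntegral X := hA.2.1
  haveI : Flat (Over.mk p).hom := hA.2.2.2.1
  haveI := hX.2.1
  have hei := (Groth.Agent.S8914.result _).2 (cartier_divI hA Γ e)
  obtain ⟨i⟩ := (nonempty_iso_structure_iff hei).2 ((clsD_eq hei).symm.trans he)
  obtain ⟨h, hh⟩ := exists_global_generator (divI Γ e) i.symm
  obtain ⟨ϖ, hϖ⟩ := IsDiscreteValuationRing.exists_irreducible R
  let φ : R →+* Γ(X, ⊤) := Coh.toGlobal p
  have hφ : Function.Bijective φ := bijective_toGlobal hC hH0 hX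
  obtain ⟨r, rfl⟩ := hφ.2 h
  have hr : r ≠ 0 := fun hr => by
    obtain ⟨W, hxW, w, hw, hW⟩ := cartier_divI hA Γ e (genericPoint X)
    haveI : Nonempty (W.1 : (Over.mk p).left.Opens) := ⟨⟨_, hxW⟩⟩
    have h1 := hh W
    rw [hr, map_zero, map_zero, hW, Ideal.span_singleton_zero, Ideal.span_singleton_eq_bot] at h1
    exact nonZeroDivisors.ne_zero hw h1
  obtain ⟨k, hk⟩ := IsDiscreteValuationRing.associated_pow_irreducible hr hϖ
  refine ⟨k, fun j => ?_⟩
  have hdiv : divI Γ e = divI Γ (fun i => k * Models.mult R (Over.mk p) (Γ i)) := by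
    have hfib : fibreIdeal (Over.mk p) ^ k = divI Γ (fun i => k * Models.mult R (Over.mk p) (Γ i)) := by
      rw [fibreIdeal_eq_prod hA Γ hΓ.1 (componentList_cover hΓ), divI, ← Finset.prod_pow]
      exact Finset.prod_congr rfl fun i _ => by rw [← pow_mul, mul_comm]
    rw [← hfib]
    refine Scheme.IdealSheafData.ext (funext fun W => ?_)
    rw [hh W, PtBlow.ideal_pow', fibreIdeal_ideal, hϖ.maximalIdeal_eq, Ideal.map_span,
      Set.image_singleton, Ideal.span_singleton_pow, ← map_pow]
    obtain ⟨u, hu⟩ := hk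
    show _ = Ideal.span {((Groth.Agent.QC.resO X (le_top : W.1 ≤ ⊤)).comp φ) (ϖ ^ k)}
    rw [← hu, map_mul, Ideal.span_singleton_mul_right_unit (u.isUnit.map _)]
    rfl
  exact congrFun (divI_injective hA Γ hΓ.1 hdiv) j

/-- The relations between the classes of the components. -/
theorem picO_eq_one_iff (v : Fin n → ℤ) :
    picO Γ v = 1 ↔ ∃ c : ℤ, ∀ i, v i = c * (Models.mult R (Over.mk p) (Γ i) : ℤ) := by
  have hA := isArithSurface_of_regularProper hC hX
  have hpow : ∀ c : ℤ, picO Γ (fun i => c * (Models.mult R (Over.mk p) (Γ i) : ℤ)) = 1 := fun c => by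
    rw [show (fun i => c * (Models.mult R (Over.mk p) (Γ i) : ℤ)) =
      c • (fun i => (Models.mult R (Over.mk p) (Γ i) : ℤ)) from funext fun i => rfl, picO_smul,
      picO_mult hC hH0 hX Γ hΓ, one_zpow]
  refine ⟨fun hv => ?_, fun ⟨c, hc⟩ => by rw [show v = _ from funext hc, hpow]⟩
  haveI : IsProper (Over.mk p).hom := hX.2.1
  obtain ⟨-, -, J, -, hrow⟩ := interMat_facts hA Γ hΓ.1
  obtain ⟨N, hN⟩ : ∃ N : ℕ, ∀ i, v i ≤ N :=
    ⟨∑ i, (v i).natAbs, fun i => le_trans Int.le_natAbs
      (Int.ofNat_le.2 (Finset.single_le_sum (fun j _ => Nat.zero_le (v j).natAbs) (Finset.mem_univ i)))⟩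
  let e : Fin n → ℕ := fun i => ((N : ℤ) * (Models.mult R (Over.mk p) (Γ i) : ℤ) - v i).toNat
  have he : ∀ i, (e i : ℤ) = (N : ℤ) * (Models.mult R (Over.mk p) (Γ i) : ℤ) - v i := fun i => by
    refine Int.toNat_of_nonneg (sub_nonneg.2 ((hN i).trans ?_))
    exact le_mul_of_one_le_right (Int.natCast_nonneg _) (Int.ofNat_le.2 (hrow i).1)
  obtain ⟨k, hk⟩ := eq_mult_of_clsD_eq_one hC hH0 hX Γ hΓ e (by
    rw [clsD_divI hA]
    have : (fun i => - (e i : ℤ)) = v - fun i => (N : ℤ) * (Models.mult R (Over.mk p) (Γ i) : ℤ) :=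
      funext fun i => by rw [he, Pi.sub_apply, neg_sub]
    rw [this, picO_sub, hv, hpow, div_one])
  refine ⟨(N : ℤ) - k, fun i => ?_⟩
  have h := he i
  rw [hk i, Nat.cast_mul] at h
  linarith

theorem picO_eq_iff (v w : Fin n → ℤ) :
    picO Γ v = picO Γ w ↔ ∃ c : ℤ, ∀ i, v i - w i = c * (Models.mult R (Over.mk p) (Γ i) : ℤ) := by
  rw [← picO_eq_one_iff hC hH0 hX Γ hΓ (fun i => v i - w i), show (fun i => v i - w i) = v - w from rfl,
    picO_sub, div_eq_one]

omit hC hH0 hX hΓ in
/-- Off the closed fibre is the generic fibre. -/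
theorem mem_range_generic {g : C ⟶ X}
    (hg : IsPullback g f p (Spec.map (CommRingCat.ofHom (algebraMap R (FractionRing R))))) {x : X}
    (hx : x ∉ Models.specialFibreSet R (Over.mk p)) : x ∈ Set.range g := by
  have hg' : IsPullback g f p (Neron.genPt R) := hg
  rw [← hg'.isoPullback_hom_fst, Scheme.Hom.comp_base, TopCat.coe_comp, Set.range_comp,
    hg'.isoPullback.hom.surjective.range_eq, Set.image_univ, Scheme.Pullback.range_fst, RelMinSmooth.range_genPt]
  refine PrimeSpectrum.ext ?_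
  by_contra h
  exact hx (PrimeSpectrum.ext (IsLocalRing.eq_maximalIdeal (Ideal.IsPrime.isMaximal (p x).isPrime h)))

omit hH0 hΓ in
/-- The generic point of a model is that of the generic fibre. -/
theorem generic_eq {g : C ⟶ X}
    (hg : IsPullback g f p (Spec.map (CommRingCat.ofHom (algebraMap R (FractionRing R))))) :
    ∃ y : C, ∀ (U : X.Opens) (x : X), x ∈ U → g y ∈ U := by
  haveI := hC.2.2.1
  haveI := hX.1.1
  exact ⟨genericPoint C, fun U x hx => (genericPoint_of_flat p g hg x).mem_open U.2 hx⟩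

variable {g : C ⟶ X} (hg : IsPullback g f p (Spec.map (CommRingCat.ofHom (algebraMap R (FractionRing R)))))
include hg

/-- The classes trivial on the generic fibre are vertical. -/
theorem exists_picO_of_pull_eq_one (c : PicLoc.PicSet X) (hc : W7Cube.pull g c = 1) :
    ∃ v : Fin n → ℤ, c = picO Γ v := by
  obtain ⟨M, hM, rfl⟩ := PicGrp.exists_eq_cls c
  rw [pull_cls, ← nonempty_iso_structure_iff] at hc
  obtain ⟨j⟩ := hc
  have hA := isArithSurface_of_regularProper hC hX
  haveI : IsIntegral X := hA.2.1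
  haveI : IsProper (Over.mk p).hom := hX.2.1
  haveI : IsProper p := hX.2.1
  haveI : Flat p := hA.2.2.2.1
  haveI : IsLocallyNoetherian X := LocallyOfFiniteType.isLocallyNoetherian p
  haveI : CompactSpace X := QuasiCompact.compactSpace_of_compactSpace p
  haveI : IsNoetherian X := {}
  haveI : X.IsSeparated := by
    constructor
    rw [← terminal.comp_from p]
    infer_instance
  haveI := hC.2.2.1
  let K := FractionRing R
  have hfield : IsField (Γ(C, ⊤) : Type u) := by
    haveI := hH0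
    exact MulEquiv.isField (A := Γ(C, ⊤)) (B := K) (Field.toIsField K)
      ((asIso f.appTop).symm ≪≫ Scheme.ΓSpecIso (CommRingCat.of K)).commRingCatIsoToRingEquiv.toMulEquiv
  obtain ⟨y, hy⟩ := generic_eq hC hX hg
  letI : X.Over (Spec (CommRingCat.of R)) := ⟨p⟩
  letI : C.Over (Spec (CommRingCat.of K)) := ⟨f⟩
  haveI : Module.Flat R K := IsLocalization.flat K (nonZeroDivisors R)
  obtain ⟨q⟩ := W7Cech.nonempty_hh_flatBC R K g hg M (TMul.isQCoh_of_isInvertible hM) 0
  haveI : Nontrivial (Coh.HH C ((Scheme.Modules.pullback g).obj M) 0) := by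
    haveI : Nontrivial ↑((Coh.toAb (Coh.structureModule C)).obj.obj (op ⊤)) := hfield.nontrivial
    haveI : Nontrivial (Coh.HH C (Coh.structureModule C) 0) :=
      (Sheaf.H.equiv₀ (Coh.toAb (Coh.structureModule C)) (Limits.isTerminalTop (α := C.Opens))).toEquiv.nontrivial
    exact (CohFinite.hhEquiv K j 0).toEquiv.nontrivial
  haveI : Nontrivial (Coh.HH X M 0) := by
    refine not_subsingleton_iff_nontrivial.1 fun hs => ?_
    haveI := q.toEquiv.nontrivial
    exact not_subsingleton (TensorProduct R K (Coh.HH X M 0)) inferInstance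
  haveI : Nontrivial Γ(M, ⊤) :=
    (Sheaf.H.equiv₀ (Coh.toAb M) (Limits.isTerminalTop (α := X.Opens))).symm.toEquiv.nontrivial
  obtain ⟨t, ht⟩ := exists_ne (0 : Γ(M, ⊤))
  let s : Coh.structureModule X ⟶ M := TMul.homOf t
  have hs : s ≠ 0 := fun h => ht (by
    have h9 := congrArg (fun ψ => TMul.val ψ ⊤) h
    simp only [s, TMul.val_homOf, Groth.Agent.QC.res_self] at h9
    exact h9)
  obtain ⟨x₀, hx₀⟩ := S14809.genLocus_nonempty hM s hs
  have hη : genericPoint X ∈ CohB1.genLocus M s :=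
    (genericPoint_specializes x₀).mem_open (CohB1.genLocus M s).2 hx₀
  obtain ⟨D, hD, hDs, ⟨eD⟩⟩ := NegTwist.exists_cartier_of_section_support hM s
    fun y hy => SurfAdj.eq_genericPoint_of_isAssPoint hy ▸ hη
  obtain ⟨σ, hσ⟩ : ∃ σ : Coh.structureModule C ⟶ Coh.structureModule C,
      CohB1.genLocus (Coh.structureModule C) σ = g ⁻¹ᵁ CohB1.genLocus M s :=
    ⟨_, (TMul.genLocus_comp _ j.hom).trans (TMul.genLocus_pullback g hM s (PicLoc.pullbackStructureIso g).symm)⟩
  have htop : g ⁻¹ᵁ CohB1.genLocus M s = ⊤ := by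
    rw [← hσ]
    refine S14809.genLocus_unit_top hfield σ (x := y) ?_
    rw [hσ]
    exact hy _ x₀ hx₀
  obtain ⟨a, ha⟩ := DivPart.exists_eq_prod D hD n (fun i => (Γ i).ι.ker) (fun i => isEffCartierIdeal_ker hA (Γ i))
    (fun i => by
      haveI : IsIso (Γ i).ι.toImage := inferInstance
      haveI : Nonempty (Γ i).ι.ker.subscheme := ⟨(Γ i).ι.toImage (genericPoint (Γ i).curve.left)⟩
      exact isIntegral_of_isOpenImmersion (inv (Γ i).ι.toImage))
    (fun x hx => by
      rw [hDs] at hx
      have hxs : x ∈ Models.specialFibreSet R (Over.mk p) := by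
        by_contra hns
        obtain ⟨y', rfl⟩ := mem_range_generic hg hns
        exact hx ((SetLike.ext_iff.1 htop y').2 trivial)
      obtain ⟨i, hi⟩ := Set.mem_iUnion.1 (componentList_cover hΓ hxs)
      refine Set.mem_iUnion.2 ⟨i, ?_⟩
      rw [Scheme.Hom.support_ker]
      exact subset_closure hi)
  refine ⟨fun i => (a i : ℤ), ?_⟩
  have hDi := (Groth.Agent.S8914.result D).2 hD
  rw [cls_eq_inv hM hDi ⟨TMul.commIso M (ClSub.idealMod D) ≪≫ eD⟩, ← clsD_eq hDi, ha,
    show (∏ i, (Γ i).ι.ker ^ a i) = divI Γ a from rfl, clsD_divI hA, ← picO_neg]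
  exact congrArg _ (funext fun i => neg_neg _)

omit hH0 hΓ in
/-- A component is trivial on the generic fibre. -/
theorem pull_clsD_vert (i : Fin n) : W7Cube.pull g (clsD (Γ i).ι.ker) = (1 : PicLoc.PicSet C) := by
  have hA := isArithSurface_of_regularProper hC hX
  have hI := isEffCartierIdeal_ker hA (Γ i)
  have htop : (Γ i).ι.ker.comap g = ⊤ := by
    rw [← Scheme.IdealSheafData.support_eq_bot_iff]
    refine SetLike.ext' (Set.eq_empty_iff_forall_notMem.2 fun y hy => ?_)
    rw [Scheme.IdealSheafData.support_comap] at hy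
    have h1 : g y ∈ closure (Set.range (Γ i).ι) := by rw [← Scheme.Hom.support_ker]; exact hy
    have h2 := range_subset_specialFibre (Γ i)
      ((Γ i).ι.isClosedEmbedding.isClosed_range.closure_subset_iff.2 subset_rfl h1)
    change p (g y) = IsLocalRing.closedPoint R at h2
    have h3 : p (g y) ∈ Set.range (Neron.genPt R).base := ⟨f y, congr($(hg.w) y).symm⟩
    rw [h2, RelMinSmooth.range_genPt] at h3
    exact IsDiscreteValuationRing.not_a_field R (congrArg PrimeSpectrum.asIdeal h3)
  have hc : BlowUp.IsEffCartierIdeal ((Γ i).ι.ker.comap g) := htop ▸ BlowUpLib.cartier_top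
  obtain ⟨e⟩ := Nakai.nonempty_pullback_idealMod g hI hc
  rw [clsD_eq ((Groth.Agent.S8914.result _).2 hI), pull_cls, ← cls_ideal_top (Y := C)]
  exact (nonempty_iso_iff _ _).1 ⟨e ≪≫ eqToIso (congrArg ClSub.idealMod htop)⟩

omit hH0 hΓ in
/-- Vertical classes are trivial on the generic fibre. -/
theorem pull_picO (v : Fin n → ℤ) : W7Cube.pull g (picO Γ v) = 1 := by
  rw [picO, map_prod]
  refine Finset.prod_eq_one fun i _ => ?_
  rw [map_zpow, pull_clsD_vert hC hX Γ hg i, one_zpow]

end Model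

end Groth.Agent.Castel
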