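import Groth.Agent.Castel.HerbrandAlg
import Groth.Agent.Castel.CanonFibre
import Groth.Agent.Castel.PicModel
import Groth.Agent.FibVan.Main
import Groth.Agent.CohFinite.Proper
import Groth.Agent.CohQC.Affineness

/-!
The Euler characteristic of a divisor with trivial line bundle on an arithmetic surface.
-/

set_option autoImplicit false
set_option backward.isDefEq.respectTransparency false
set_option backward.isDefEq.respectTransparency.types false
set_option linter.style.haveILetI false

universe u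

open CategoryTheory CategoryTheory.Limits AlgebraicGeometry TopologicalSpace Opposite
open Groth.Agent.CohFinite (hhMap hhδ hhEquiv toAbMap)

noncomputable section

namespace Groth.Agent.Castel

variable {R : Type u} [CommRing R] [IsDomain R] [IsDiscreteValuationRing R] {X : Over (Spec (CommRingCat.of R))}

/-- Endomorphisms of the structure sheaf are multiplications. -/
theorem eq_mulHom {Y : Scheme.{u}} (φ : Coh.structureModule Y ⟶ Coh.structureModule Y) :
    φ = CohQC.mulHom (show Γ(Y, ⊤) from φ.app ⊤ (1 : Γ(Y, ⊤))) := by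
  refine Scheme.Modules.hom_ext _ _ fun U => ?_
  ext t
  have h1 : (show Γ(Y, U) from φ.app U (1 : Γ(Y, U))) =
      QC.resO Y (le_top : U ≤ ⊤) (show Γ(Y, ⊤) from φ.app ⊤ (1 : Γ(Y, ⊤))) :=
    ((QC.app_res φ (le_top : U ≤ ⊤) (1 : Γ(Y, ⊤))).trans
      (congrArg (φ.app U) (map_one (Y.presheaf.map (homOfLE (le_top : U ≤ ⊤)).op).hom))).symm
  refine Eq.trans ?_ (CohQC.mulHom_app _ U t).symm
  rw [← h1]
  exact (congrArg (φ.app U) (mul_one (show Γ(Y, U) from t)).symm).trans
    (Scheme.Modules.Hom.app_smul φ (show Γ(Y, U) from t) (1 : Γ(Y, U)))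

/-- Multiplication on cohomology is the module structure over global functions. -/
theorem hhMap_mulHom {Y : Scheme.{u}} [Y.Over (Spec (CommRingCat.of R))] (b : Γ(Y, ⊤)) (i : ℕ)
    (x : Coh.HH Y (Coh.structureModule Y) i) :
    hhMap R (CohQC.mulHom b) i x = Sheaf.H.map (Coh.smulAb (Coh.structureModule Y) b) i x := by
  show Sheaf.H.map (toAbMap (CohQC.mulHom b)) i x = _
  have h : toAbMap (CohQC.mulHom b) = Coh.smulAb (Coh.structureModule Y) b := by
    ext U t
    refine Eq.trans ?_ (Coh.smulAb_app _ _ U t).symm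
    exact (CohQC.mulHom_app b U.unop t).trans (mul_comm (G := Γ(Y, U.unop)) _ _)
  rw [h]

/-- Cohomology in degree two vanishes. -/
theorem subsingleton_h2 (hX : ArSurf.IsArithSurface R X) (p : ℕ) (hp : 1 < p) :
    Subsingleton (Coh.HH X.left (Coh.structureModule X.left) p) := by
  obtain ⟨-, hXi, hXd, hfl, -⟩ := id hX
  haveI := hXi
  haveI := hfl
  haveI := isProper_hom_of_isArithSurface hX
  letI : X.left.Over (Spec (CommRingCat.of R)) := ⟨X.hom⟩
  haveI : IsProper (X.left ↘ Spec (CommRingCat.of R)) := ‹IsProper X.hom›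
  haveI : Coh.IsQCoh (Coh.structureModule X.left) := Groth.Agent.QC.isQCoh_unit _
  refine FibVan.subsingleton_hh_qcoh (A := R) 1 ?_ _ p hp
  let c := IsLocalRing.closedPoint R
  have hgen : X.hom (genericPoint X.left) ≠ c := fun e => by
    obtain ⟨w, hw, hw'⟩ := Flat.generalizingMap X.hom (a := genericPoint X.left)
      ((PrimeSpectrum.le_iff_specializes (⟨⊥, Ideal.isPrime_bot⟩ : PrimeSpectrum R) (X.hom (genericPoint X.left))).mp bot_le)
    rw [(hw.antisymm ((genericPoint_spec X.left).specializes trivial)).eq, e] at hw'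
    exact IsDiscreteValuationRing.not_a_field R (congrArg PrimeSpectrum.asIdeal hw')
  refine Unibranch.topologicalKrullDim_le_natCast fun l z hz => ?_
  let ι := X.hom.fiberι c
  have hne : ∀ y, genericPoint X.left ≠ ι y := fun y e => hgen (e ▸ (X.hom.range_fiberι c).le ⟨y, rfl⟩)
  have h := (Unibranch.natCast_le_topologicalKrullDim (α := X.left) (k := l + 1)
    (Fin.cons (genericPoint X.left) fun i => ι (z i)) fun i => by
      refine Fin.cases ?_ (fun j => ?_) i
      · simp only [Fin.castSucc_zero, Fin.cons_zero, Fin.cons_succ]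
        exact ⟨genericPoint_specializes _, hne _⟩
      · simp only [← Fin.succ_castSucc, Fin.cons_succ]
        exact ⟨(hz j).1.map ι.isEmbedding.continuous, fun e => (hz j).2 (ι.isEmbedding.injective e)⟩).trans hXd.le
  have h' : ((l + 1 : ℕ) : WithBot ℕ∞) ≤ ((2 : ℕ) : WithBot ℕ∞) := h
  have := CartierDim.natCast_le_withBot.mp h'
  omega

/-- `χ(O/J) = c · len(A/b)` for every `J` with trivial line bundle, with one constant `c`. -/
theorem exists_euler_trivial (hX : ArSurf.IsArithSurface R X) :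
    ∃ c : ℤ, ∀ (J : X.left.IdealSheafData), (Coh.structureModule X.left ≅ ClSub.idealMod J) → J ≠ ⊤ →
      ∃ L : ℕ, 0 < L ∧ chiL R X (ClSub.quotMod J) = c * L := by
  obtain ⟨-, hXi, -, hfl, -⟩ := id hX
  haveI := hXi
  haveI := hfl
  haveI := isProper_hom_of_isArithSurface hX
  letI : X.left.Over (Spec (CommRingCat.of R)) := ⟨X.hom⟩
  haveI : IsProper (X.left ↘ Spec (CommRingCat.of R)) := ‹IsProper X.hom›
  haveI : IsLocallyNoetherian X.left := LocallyOfFiniteType.isLocallyNoetherian X.hom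
  let O := Coh.structureModule X.left
  letI alg : Algebra R Γ(X.left, ⊤) := RingHom.toAlgebra (Coh.toGlobal X.hom : R →+* Γ(X.left, ⊤))
  letI modA : ∀ i, Module Γ(X.left, ⊤) (Coh.HH X.left O i) := fun i => Coh.moduleΓtop O i
  haveI tower : ∀ i, IsScalarTower R Γ(X.left, ⊤) (Coh.HH X.left O i) := fun i =>
    IsScalarTower.of_algebraMap_smul fun r x => rfl
  haveI hfin : ∀ i, Module.Finite R (Coh.HH X.left O i) := fun i =>
    CohFinite.finite_proper R X.left O RefStalk.isCoh_structureModule i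
  let e0 : Γ(X.left, ⊤) ≃ₗ[Γ(X.left, ⊤)] Coh.HH X.left O 0 :=
    { (Sheaf.H.equiv₀ (Coh.toAb O) (Limits.isTerminalTop (α := X.left.Opens))).symm with
      map_smul' := fun a x => by
        refine Eq.trans (congrArg (W7Cech.gsH0 R O) ?_) (Sheaf.H.equiv₀_symm_naturality (Limits.isTerminalTop
          (α := X.left.Opens)) (Coh.smulAb O a) x).symm
        rw [Coh.smulAb_app]
        show a * (show Γ(X.left, ⊤) from x) = (X.left.presheaf.map _).hom a * (show Γ(X.left, ⊤) from x)
        exact congrArg (· * (show Γ(X.left, ⊤) from x)) (Groth.Agent.QC.resO_self (X := X.left) le_rfl _).symm }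
  let e : Γ(X.left, ⊤) ≃ₗ[R] Coh.HH X.left O 0 := e0.restrictScalars R
  haveI : Module.Finite R Γ(X.left, ⊤) := Module.Finite.equiv e.symm
  obtain ⟨r, hr⟩ := Herbrand.exists_herbrand R Γ(X.left, ⊤) (Coh.HH X.left O 1)
  refine ⟨1 - r, fun J eJ hJ => ?_⟩
  let φ : O ⟶ O := eJ.hom ≫ ClSub.idealModι J
  let b : Γ(X.left, ⊤) := φ.app ⊤ (1 : Γ(X.left, ⊤))
  have hb : φ = CohQC.mulHom b := eq_mulHom φ
  have hspan : ∀ W : X.left.affineOpens, J.ideal W = Ideal.span {QC.resO X.left (le_top : W.1 ≤ ⊤) b} := fun W => by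
    have hg : TMul.IsGen (show Γ(ClSub.idealMod J, ⊤) from eJ.hom.app ⊤ (1 : Γ(X.left, ⊤))) :=
      MeroLib.IsGen.map_iso eJ.hom (TMul.isGen_one ⊤)
    exact ResDesc.ideal_eq_span_of_isGen J W.2 (hg.res le_top)
      (Groth.Agent.QC.app_res (ClSub.idealModι J) (le_top : W.1 ≤ ⊤) _)
  have hb0 : b ≠ 0 := fun h => by
    obtain ⟨g, hg⟩ : ∃ g : Γ(X.left, ⊤), g = 1 := ⟨1, rfl⟩
    haveI : Mono φ := inferInstance
    have hinj := Groth.Agent.QC.app_injective_of_mono φ ⊤
    exact one_ne_zero (α := Γ(X.left, ⊤)) (hinj (h.trans (map_zero (φ.app ⊤).hom).symm))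
  have hnu : ¬ IsUnit b := fun h => hJ (Scheme.IdealSheafData.ext (funext fun W => by
    rw [hspan W, Scheme.IdealSheafData.ideal_top]
    exact Ideal.span_singleton_eq_top.2 (h.map _)))
  obtain ⟨hL, hZ, hK, hq⟩ := hr b hb0
  let L := Module.length R (Γ(X.left, ⊤) ⧸ LinearMap.range (DistribSMul.toLinearMap R Γ(X.left, ⊤) b))
  refine ⟨L.toNat, ?_, ?_⟩
  · refine Nat.pos_of_ne_zero fun h0 => ?_
    rcases ENat.toNat_eq_zero.1 h0 with h | h
    · haveI := Module.length_eq_zero_iff.1 h
      refine hnu ?_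
      obtain ⟨x, hx⟩ := (Submodule.Quotient.subsingleton_iff.1 this).ge (Submodule.mem_top (x := (1 : Γ(X.left, ⊤))))
      exact IsUnit.of_mul_eq_one x hx
    · exact hL h
  -- the long exact sequence
  have w : CohQC.mulHom b ≫ ClSub.toSubscheme J = 0 := by
    rw [← hb, Category.assoc, show ClSub.idealModι J ≫ ClSub.toSubscheme J = 0 from kernel.condition _, comp_zero]
  let S : ShortComplex X.left.Modules := ShortComplex.mk (CohQC.mulHom b) (ClSub.toSubscheme J) w
  let S₀ : ShortComplex X.left.Modules := ShortComplex.mk (ClSub.idealModι J) (ClSub.toSubscheme J) (kernel.condition _)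
  let iso : S₀ ≅ S :=
    (ShortComplex.isoMk eJ.symm (Iso.refl _) (Iso.refl _) (by
      show eJ.inv ≫ CohQC.mulHom b = ClSub.idealModι J ≫ 𝟙 _
      rw [← hb, Category.comp_id]
      exact eJ.inv_hom_id_assoc _) (by
      show 𝟙 _ ≫ ClSub.toSubscheme J = ClSub.toSubscheme J ≫ 𝟙 _
      rw [Category.id_comp, Category.comp_id]))
  have hS : S.ShortExact := ShortComplex.shortExact_of_iso iso (CurveRR.ideal_shortExact J)
  have e1 : ∀ i, LinearMap.range (hhMap R S.f i) = LinearMap.ker (hhMap R S.g i) := fun i => by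
    ext x
    exact (CohFinite.map_g_eq_zero_iff (CohFinite.shortExact_toAb hS) i x).symm
  have e2 : ∀ i, LinearMap.range (hhMap R S.g i) = LinearMap.ker (hhδ R hS i) := fun i => by
    ext x
    exact (CohFinite.δH_eq_zero_iff (CohFinite.shortExact_toAb hS) i x).symm
  have e3 : ∀ i, LinearMap.range (hhδ R hS i) = LinearMap.ker (hhMap R S.f (i + 1)) := fun i => by
    ext x
    exact (CohFinite.map_f_eq_zero_iff (CohFinite.shortExact_toAb hS) i x).symm
  have hf : ∀ i, hhMap R S.f i = DistribSMul.toLinearMap R (Coh.HH X.left O i) b := fun i =>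
    LinearMap.ext fun x => hhMap_mulHom (R := R) b i x
  have hlen : ∀ i, Module.length R (Coh.HH X.left S.X₃ i) =
      Module.length R (Coh.HH X.left O i ⧸ LinearMap.range (DistribSMul.toLinearMap R (Coh.HH X.left O i) b)) +
        Module.length R (LinearMap.ker (DistribSMul.toLinearMap R (Coh.HH X.left O (i + 1)) b)) := fun i => by
    rw [length_ker_add_range (hhδ R hS i), e3, hf, ← e2, ← (hhMap R S.g i).quotKerEquivRange.length_eq, ← e1, hf]
  have hk2 : Module.length R (LinearMap.ker (DistribSMul.toLinearMap R (Coh.HH X.left O 2) b)) = 0 := by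
    haveI := subsingleton_h2 hX 2 one_lt_two
    exact Module.length_eq_zero
  have h0 : Module.length R (Coh.HH X.left O 0 ⧸ LinearMap.range (DistribSMul.toLinearMap R (Coh.HH X.left O 0) b)) = L := by
    refine (Submodule.Quotient.equiv _ _ e ?_).length_eq.symm
    refine le_antisymm ?_ ?_
    · rintro _ ⟨_, ⟨x, rfl⟩, rfl⟩
      exact ⟨e x, (e0.map_smul b x).symm⟩
    · rintro _ ⟨y, rfl⟩
      refine ⟨b • e.symm y, ⟨e.symm y, rfl⟩, ?_⟩
      exact (e0.map_smul b _).trans (congrArg (b • ·) (e.apply_symm_apply y))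
  show ((Module.length R (Coh.HH X.left S.X₃ 0)).toNat : ℤ) - (Module.length R (Coh.HH X.left S.X₃ 1)).toNat = _
  rw [hlen, hlen, hk2, add_zero, h0, ENat.toNat_add hL hK]
  push_cast
  linarith

/-- The ideal of the closed fibre has trivial module. -/
theorem nonempty_trivial_fibreIdeal [Flat X.hom] :
    Nonempty (Coh.structureModule X.left ≅ ClSub.idealMod (fibreIdeal X)) := by
  have hI₀ := cartier_base (R := R)
  obtain ⟨O, -, g, hy, hg⟩ := CohFinite.exists_gen_le ((Groth.Agent.S8914.result _).2 hI₀)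
    (show IsLocalRing.closedPoint R ∈ (⊤ : (Spec (CommRingCat.of R)).Opens) from trivial)
  have hO : (⊤ : (Spec (CommRingCat.of R)).Opens) ≤ O :=
    ((IsLocalRing.closed_point_mem_iff (R := R)).1 hy).ge
  obtain ⟨a⟩ := nonempty_iso_of_isGen (Groth.Agent.SymAlg.isGen_res hO hg)
  obtain ⟨i⟩ := Nakai.nonempty_pullback_idealMod X.hom hI₀ (cartier_fibreIdeal (X := X))
  exact ⟨(i.symm ≪≫ (Scheme.Modules.pullback X.hom).mapIso a.symm ≪≫ PicLoc.pullbackStructureIso X.hom).symm⟩

/-- Comparing a divisor with trivial line bundle with the generic fibre. -/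
theorem euler_trivial_generic (hX : ArSurf.IsArithSurface R X) (hne : (Models.specialFibreSet R X).Nonempty)
    {J : X.left.IdealSheafData} (eJ : Coh.structureModule X.left ≅ ClSub.idealMod J) (hJ : J ≠ ⊤) :
    ∃ d L : ℕ, 0 < d ∧ 0 < L ∧ chiL R X (ClSub.quotMod J) * d =
      FGA.eulerCharLE (FractionRing R) ((Neron.genericFibre R).obj X).left
        (Coh.structureModule ((Neron.genericFibre R).obj X).left) 1 * L := by
  haveI : Flat X.hom := hX.2.2.2.1
  obtain ⟨c, hc⟩ := exists_euler_trivial hX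
  obtain ⟨ef⟩ := nonempty_trivial_fibreIdeal (X := X)
  have hf : fibreIdeal X ≠ ⊤ := fun h => by
    obtain ⟨x, hx⟩ := hne
    have h' := (mem_support_fibreIdeal x).2 hx
    rw [h, Scheme.IdealSheafData.support_top] at h'
    exact h'
  obtain ⟨d, hd, hd'⟩ := hc _ ef hf
  obtain ⟨L, hL, hL'⟩ := hc J eJ hJ
  refine ⟨d, L, hd, hL, ?_⟩
  rw [← chiL_fibre_arith hX, hL', hd']
  ring

end Groth.Agent.Castel
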