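import Groth.Agent.Castel.ExcNumbers
import Groth.Agent.Castel.InterForm

/-!
Exceptional vertical prime divisors are components of the closed fibre.
-/

set_option autoImplicit false
set_option backward.isDefEq.respectTransparency false
set_option backward.isDefEq.respectTransparency.types false
set_option linter.style.haveILetI false

universe u

open CategoryTheory CategoryTheory.Limits AlgebraicGeometry TopologicalSpace Opposite

noncomputable section

namespace Groth.Agent.Castel

/-- Being exceptional of the first kind depends only on the closed subscheme. -/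
theorem isExcCurve_of_iso {E E' Y : Scheme.{u}} (ι : E ⟶ Y) (ι' : E' ⟶ Y) (e : E ≅ E') (h : e.hom ≫ ι' = ι)
    (hk : ι.ker = ι'.ker) (hE : Models.IsExcCurve ι) : Models.IsExcCurve ι' := by
  obtain ⟨hI, k, hk', eP, ⟨c⟩⟩ := hE
  refine ⟨hk ▸ hI, k, hk', eP ≪≫ e, ⟨?_⟩⟩
  refine (Scheme.Modules.pullbackCongr (show (eP ≪≫ e).hom ≫ ι' = eP.hom ≫ ι by
    rw [Iso.trans_hom, Category.assoc, h])).app _ ≪≫ ?_
  rw [← hk]
  exact c

variable {R : Type u} [CommRing R] [IsDomain R] [IsDiscreteValuationRing R] {X : Over (Spec (CommRingCat.of R))}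

/-- An exceptional vertical prime divisor is one of the listed components, which is then exceptional. -/
theorem exists_exc_component {n : ℕ} (Γ : Fin n → ArSurf.VertComp R X) (hΓ : Models.IsComponentList R X Γ)
    (E : ArSurf.VertComp R X) (hE : Models.IsExcCurve E.ι) : ∃ i, Models.IsExcCurve (Γ i).ι := by
  obtain ⟨Z, hZ, hxZ⟩ := exists_component (E.ι (genericPoint E.curve.left))
    (range_subset_specialFibre E ⟨_, rfl⟩)
  obtain ⟨i, hi⟩ := hΓ.2.ge hZ
  have hi' : Set.range (Γ i).ι = Z := hi
  have hr : Set.range E.ι = Set.range (Γ i).ι := by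
    by_contra hne
    refine genPt_notMem hne ?_
    rw [Scheme.Hom.support_ker]
    exact subset_closure (hi'.symm ▸ hxZ)
  obtain ⟨hk, e, he⟩ := exists_iso_of_range E.ι (Γ i).ι hr
  exact ⟨i, isExcCurve_of_iso _ _ e he hk hE⟩

end Groth.Agent.Castel
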