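import Groth.Agent.Castel.NumType
import Groth.Agent.Castel.VertLine
import Groth.Agent.DualGeneric.GenusZero
import Groth.Agent.Nakai.FibreDeg

/-!
Meeting exceptional curves on a regular proper model.
-/

set_option autoImplicit false
set_option backward.isDefEq.respectTransparency false
set_option backward.isDefEq.respectTransparency.types false
set_option linter.style.haveILetI false

universe u

open CategoryTheory CategoryTheory.Limits AlgebraicGeometry TopologicalSpace Opposite

noncomputable section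

namespace Groth.Agent.Castel

/-- A closed subscheme with `h⁰ = 1` and finite over the field is a rational point. -/
theorem exists_point_of_h0_one {k : Type u} [Field k] {X : Scheme.{u}} [X.Over (Spec (CommRingCat.of k))]
    [IsProper (X ↘ Spec (CommRingCat.of k))] {D : X.IdealSheafData}
    (hfin : IsFinite (D.subschemeι ≫ (X ↘ Spec (CommRingCat.of k))))
    (h : CurveRR.h k (ClSub.quotMod D) 0 = 1) :
    IsIso (D.subschemeι ≫ (X ↘ Spec (CommRingCat.of k))) := by
  let z := D.subschemeι ≫ (X ↘ Spec (CommRingCat.of k))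
  haveI : IsFinite z := hfin
  haveI : IsAffine D.subscheme := isAffine_of_isAffineHom z
  letI := CurveRR.secMod k (ClSub.quotMod D) ⊤
  rw [← CurveRR.finrank_sec] at h
  let g : k →+* Γ(D.subscheme, D.subschemeι ⁻¹ᵁ ⊤) := (D.subschemeι.app ⊤).hom.comp (CurveRR.cst k X ⊤)
  have hg : (g : k → Γ(D.subscheme, D.subschemeι ⁻¹ᵁ ⊤)) = (Coh.toGlobal z : k → _) := funext fun a => by
    show (D.subschemeι.app ⊤).hom (CurveRR.cst k X ⊤ a) = _
    rw [show CurveRR.cst k X ⊤ a = Coh.toGlobal (X ↘ Spec (CommRingCat.of k)) a from Groth.Agent.QC.resO_self _ _]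
    rfl
  let e : k →ₗ[k] Γ(ClSub.quotMod D, ⊤) :=
    { toFun := fun a => g a
      map_add' := map_add _
      map_smul' := fun a b => map_mul g a b }
  haveI : Nontrivial Γ(ClSub.quotMod D, ⊤) := Module.nontrivial_of_finrank_pos (R := k) (by rw [h]; exact one_pos)
  haveI : Nontrivial Γ(D.subscheme, D.subschemeι ⁻¹ᵁ ⊤) := ‹Nontrivial Γ(ClSub.quotMod D, ⊤)›
  have hinj : Function.Injective e := (g.injective :)
  haveI : FiniteDimensional k Γ(ClSub.quotMod D, ⊤) := Module.finite_of_finrank_pos (by rw [h]; exact one_pos)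
  have hbe : Function.Bijective e := ⟨hinj, (LinearMap.injective_iff_surjective_of_finrank_eq_finrank
    (by rw [h, Module.finrank_self])).1 hinj⟩
  have hb : Function.Bijective (Coh.toGlobal z) := by
    have : Function.Bijective (g : k → Γ(D.subscheme, D.subschemeι ⁻¹ᵁ ⊤)) := hbe
    rw [hg] at this
    exact this
  haveI : IsIso z.appTop := by
    rw [ConcreteCategory.isIso_iff_bijective]
    exact (Function.Bijective.of_comp_iff _ (ConcreteCategory.bijective_of_isIso
      (Scheme.ΓSpecIso (CommRingCat.of k)).inv)).1 hb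
  haveI : IsIso (Spec.map z.appTop) := inferInstance
  have hz : z = D.subscheme.isoSpec.hom ≫ Spec.map z.appTop ≫ (Spec (CommRingCat.of k)).isoSpec.inv := by
    rw [← Category.assoc, Scheme.isoSpec_hom_naturality, Category.assoc, Iso.hom_inv_id, Category.comp_id]
  show IsIso z
  rw [hz]
  infer_instance

/-- Two meeting exceptional curves: the whole closed fibre consists of them, reduced, and the genus is zero. -/
theorem meeting_numbers {R : Type u} [CommRing R] [IsDomain R] [IsDiscreteValuationRing R] {C X : Scheme.{u}}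
    {f : C ⟶ Spec (CommRingCat.of (FractionRing R))}
    {p : X ⟶ Spec (CommRingCat.of R)} (hC : Curve.IsSmoothProperCurve (FractionRing R) C f) (hH0 : IsIso f.appTop)
    (hX : Models.IsRegularProperModel R X p C f) {n : ℕ} (Γ : Fin n → ArSurf.VertComp R (Over.mk p))
    (hΓ : Models.IsComponentList R (Over.mk p) Γ) (i j : Fin n) (hij : i ≠ j)
    (hi : Models.IsExcCurve (Γ i).ι) (hj : Models.IsExcCurve (Γ j).ι)
    (hmeet : ¬ Disjoint (Set.range (Γ i).ι) (Set.range (Γ j).ι)) :
    n = 2 ∧ (∀ l, l = i ∨ l = j) ∧ (∀ l, Models.mult R (Over.mk p) (Γ l) = 1) ∧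
      (∀ l, Models.wdeg R (Over.mk p) (Γ l) = 1 ∧ Models.h1 R (Over.mk p) (Γ l) = 0) ∧
      interMat Γ i j = 1 ∧ interMat Γ j i = 1 ∧ Models.curveGenus (FractionRing R) C f = 0 := by
  classical
  have hA := isArithSurface_of_regularProper hC hX
  haveI : IsProper (Over.mk p).hom := hX.2.1
  haveI := geometricallyConnected_of_regularProper hC hH0 hX
  have hconn : _root_.IsConnected (Models.specialFibreSet R (Over.mk p)) := p.isConnected_preimage_singleton _
  obtain ⟨hsym, hoff, J, -, hrow⟩ := interMat_facts hA Γ hΓ.1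
  have hnum : ∀ l, Models.IsExcCurve (Γ l).ι →
      Models.h1 R (Over.mk p) (Γ l) = 0 ∧ interMat Γ l l = -(Models.wdeg R (Over.mk p) (Γ l) : ℤ) := fun l hl => by
    obtain ⟨-, k, _, e, ⟨c⟩⟩ := hl
    have hI := isEffCartierIdeal_ker hA (Γ l)
    obtain ⟨L, hLi, ⟨d⟩⟩ := W7Hull.exists_tensor_inverse (Intersect.isInvertible_ideal hI)
    have hL : ClSub.IsInverseOf L (ClSub.idealMod (Γ l).ι.ker) := ⟨TMul.commIso _ _ ≪≫ d⟩
    obtain ⟨h1, h2⟩ := vert_line_numbers (Γ l) e hLi hL (m := 1) c
    rw [one_mul, inter_eq_interMat hA Γ hL] at h2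
    exact ⟨h1, h2⟩
  obtain ⟨h1i, hMi⟩ := hnum i hi
  obtain ⟨h1j, hMj⟩ := hnum j hj
  obtain ⟨T, -, hTa, hTw, -, -⟩ := exists_numType hC hH0 hX Γ hΓ
  have hxpos : 0 < interMat Γ i j := lt_of_le_of_ne (hoff i j hij).1 fun e => hmeet ((hoff i j hij).2.1 e.symm)
  have hwi : (Models.wdeg R (Over.mk p) (Γ i) : ℤ) ≤ interMat Γ i j := by
    have := T.w_dvd i j
    rw [hTa, hTw] at this
    exact Int.le_of_dvd hxpos this
  have hwj : (Models.wdeg R (Over.mk p) (Γ j) : ℤ) ≤ interMat Γ i j := by
    have := T.w_dvd j i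
    rw [hTa, hTw, hsym j i] at this
    exact Int.le_of_dvd hxpos this
  let v : Fin n → ℤ := fun l => if l = i ∨ l = j then 1 else 0
  have hv : ∀ G : Fin n → ℤ, ∑ l, v l * G l = G i + G j := fun G => by
    have h := Finset.sum_subset (Finset.subset_univ ({i, j} : Finset (Fin n))) (f := fun l => v l * G l)
      fun l _ hl => by
        have : ¬ (l = i ∨ l = j) := by simpa using hl
        simp [v, this]
    rw [← h, Finset.sum_pair hij]
    simp [v]
  obtain ⟨L, hL⟩ : ∃ L : Fin n → X.Modules, ∀ l, ClSub.IsInverseOf (L l) (ClSub.idealMod (Γ l).ι.ker) := by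
    have : ∀ l, ∃ L : X.Modules, ClSub.IsInverseOf L (ClSub.idealMod (Γ l).ι.ker) := fun l => by
      obtain ⟨L, -, ⟨d⟩⟩ := W7Hull.exists_tensor_inverse (Intersect.isInvertible_ideal (isEffCartierIdeal_ker hA (Γ l)))
      exact ⟨L, ⟨TMul.commIso _ _ ≪≫ d⟩⟩
    choose L hL using this
    exact ⟨L, hL⟩
  have hform := interMat_form hA hconn hΓ hL v
  have hQ : ∑ a, ∑ b, v a * v b * interMat Γ a b =
      interMat Γ i i + interMat Γ i j + (interMat Γ j i + interMat Γ j j) := by
    simp only [mul_assoc, ← Finset.mul_sum, hv]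
  rw [hQ, hsym j i, hMi, hMj] at hform
  have hxwi : interMat Γ i j = (Models.wdeg R (Over.mk p) (Γ i) : ℤ) := by linarith [hform.1]
  have hxwj : interMat Γ i j = (Models.wdeg R (Over.mk p) (Γ j) : ℤ) := by linarith [hform.1]
  obtain ⟨c, hc⟩ := hform.2.1 (by linarith)
  have hci : (1 : ℚ) = c * (Models.mult R (Over.mk p) (Γ i) : ℚ) := by simpa [v] using hc i
  have hcj : (1 : ℚ) = c * (Models.mult R (Over.mk p) (Γ j) : ℚ) := by simpa [v, hij.symm] using hc j
  have hc0 : c ≠ 0 := fun e => by rw [e, zero_mul] at hci; exact one_ne_zero hci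
  have hall : ∀ l, l = i ∨ l = j := fun l => by
    by_contra hl
    have h := hc l
    simp only [v, if_neg hl, Int.cast_zero] at h
    exact mul_ne_zero hc0 (Nat.cast_ne_zero.2 (hrow l).1.ne') h.symm
  have huniv : (Finset.univ : Finset (Fin n)) = {i, j} := Finset.ext fun l => by simpa using hall l
  have hn : n = 2 := by
    rw [← Finset.card_fin n, huniv, Finset.card_pair hij]
  have hmij : Models.mult R (Over.mk p) (Γ i) = Models.mult R (Over.mk p) (Γ j) := by
    exact_mod_cast mul_left_cancel₀ hc0 (hci.symm.trans hcj)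
  have hwij : Models.wdeg R (Over.mk p) (Γ i) = Models.wdeg R (Over.mk p) (Γ j) := by
    exact_mod_cast hxwi.symm.trans hxwj
  have hg := genus_formula hC hH0 hX Γ hΓ
  rw [huniv, Finset.sum_pair hij, h1i, h1j, hMi, hMj, ← hmij, ← hwij] at hg
  push_cast at hg
  have hm := (hrow i).1
  have hw := (wdeg_facts (Γ i)).1
  have hprod : Models.mult R (Over.mk p) (Γ i) * Models.wdeg R (Over.mk p) (Γ i) = 1 := by
    have h1 : 1 ≤ Models.mult R (Over.mk p) (Γ i) * Models.wdeg R (Over.mk p) (Γ i) := Nat.mul_pos hm hw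
    have h2 : (Models.mult R (Over.mk p) (Γ i) : ℤ) * Models.wdeg R (Over.mk p) (Γ i) ≤ 1 := by
      have := Int.natCast_nonneg (Models.curveGenus (FractionRing R) C f)
      linarith
    have h2' : Models.mult R (Over.mk p) (Γ i) * Models.wdeg R (Over.mk p) (Γ i) ≤ 1 := by exact_mod_cast h2
    omega
  obtain ⟨hm1, hw1⟩ := mul_eq_one.1 hprod
  refine ⟨hn, hall, fun l => ?_, fun l => ?_, by rw [hxwi, hw1]; rfl, by rw [hsym j i, hxwi, hw1]; rfl, ?_⟩
  · rcases hall l with rfl | rfl
    exacts [hm1, hmij ▸ hm1]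
  · rcases hall l with rfl | rfl
    exacts [⟨hw1, h1i⟩, ⟨hwij ▸ hw1, h1j⟩]
  · rw [hm1, hw1] at hg
    omega

/-- A component of genus zero with constants `k` meeting another one with degree one is a projective line. -/
theorem exists_iso_line {R : Type u} [CommRing R] [IsDomain R] [IsDiscreteValuationRing R]
    {X : Over (Spec (CommRingCat.of R))} (hX : ArSurf.IsArithSurface R X) {n : ℕ}
    (Γ : Fin n → ArSurf.VertComp R X) (l m : Fin n) (h1 : Models.h1 R X (Γ l) = 0) (hd : interMat Γ l m = 1) :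
    ∃ e : (Γ l).curve.left ≅ CohB1.ProjSpace 1 (IsLocalRing.ResidueField R),
      e.hom ≫ CohB1.ProjSpace.toSpec 1 (IsLocalRing.ResidueField R) = (Γ l).curve.hom := by
  haveI := isProper_hom_of_isArithSurface hX
  let k := IsLocalRing.ResidueField R
  haveI : IsProper ((Γ l).curve.left ↘ Spec (CommRingCat.of k)) := isProper_curve (Γ l)
  have hI := isEffCartierIdeal_ker hX (Γ m)
  obtain ⟨L, hLi, ⟨d⟩⟩ := W7Hull.exists_tensor_inverse (Intersect.isInvertible_ideal hI)
  have hL : ClSub.IsInverseOf L (ClSub.idealMod (Γ m).ι.ker) := ⟨TMul.commIso _ _ ≪≫ d⟩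
  rw [← inter_eq_interMat hX Γ hL, inter_eq_deg] at hd
  exact DualGeneric.exists_iso_of_deg_one k (Γ l).dim_eq h1 (PicLoc.isInvertible_pullback (Γ l).ι hLi) hd

/-- The residue field at the image of a point over the residue field is the residue field. -/
theorem surjective_residue_of_section {R : Type u} [CommRing R] [IsDomain R] [IsDiscreteValuationRing R]
    (X : Over (Spec (CommRingCat.of R))) (t : Spec (CommRingCat.of (IsLocalRing.ResidueField R)) ⟶ X.left)
    (ht : t ≫ X.hom = Spec.map (CommRingCat.ofHom (IsLocalRing.residue R)))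
    (q : Spec (CommRingCat.of (IsLocalRing.ResidueField R))) :
    Function.Surjective ((X.left.residue (t q)).hom.comp (Models.stalkHom R X (t q))) := by
  let k := IsLocalRing.ResidueField R
  let T := Spec (CommRingCat.of k)
  have hsurj : Function.Surjective ((T.residue q).hom.comp ((T.presheaf.germ ⊤ q trivial).hom.comp
      ((Scheme.ΓSpecIso (CommRingCat.of k)).inv.hom.comp (IsLocalRing.residue R)))) := by
    refine (T.residue_surjective q).comp ?_
    show Function.Surjective ((T.presheaf.germ ⊤ q trivial).hom.comp (Scheme.ΓSpecIso (CommRingCat.of k)).inv.hom ∘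
      IsLocalRing.residue R)
    refine Function.Surjective.comp ?_ IsLocalRing.residue_surjective
    letI : Algebra k (T.presheaf.stalk q) :=
      ((T.presheaf.germ ⊤ q trivial).hom.comp (Scheme.ΓSpecIso (CommRingCat.of k)).inv.hom).toAlgebra
    haveI : IsLocalization.AtPrime (T.presheaf.stalk q) q.asIdeal := StructureSheaf.IsLocalization.to_stalk k q
    exact (IsField.localization_map_bijective (M := q.asIdeal.primeCompl) (fun h => h (zero_mem _))
      (Field.toIsField k)).2
  refine Function.Surjective.of_comp_left (f := (t.residueFieldMap q).hom)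
    (g := (X.left.residue (t q)).hom.comp (Models.stalkHom R X (t q))) ?_ (t.residueFieldMap q).hom.injective
  intro a
  obtain ⟨r, hr⟩ := hsurj a
  refine ⟨r, ?_⟩
  rw [← hr]
  show (t.residueFieldMap q).hom ((X.left.residue (t q)).hom (Models.stalkHom R X (t q) r)) = _
  have h1 := congrArg (fun φ => φ.hom (Models.stalkHom R X (t q) r)) (Scheme.residue_residueFieldMap t q)
  refine h1.trans (congrArg (T.residue q).hom ?_)
  show (t.stalkMap q).hom ((X.left.presheaf.germ ⊤ (t q) trivial).hom (X.hom.appTop _)) = _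
  refine (Scheme.Hom.germ_stalkMap_apply t ⊤ q trivial _).trans ?_
  refine congrArg (T.presheaf.germ ⊤ q trivial).hom ?_
  have h2 := congrArg (fun φ : T ⟶ Spec (CommRingCat.of R) => φ.appTop.hom ((Scheme.ΓSpecIso (CommRingCat.of R)).inv r)) ht
  simp only [Scheme.Hom.comp_appTop] at h2
  refine h2.trans ?_
  exact (ConcreteCategory.congr_hom (Scheme.ΓSpecIso_inv_naturality (CommRingCat.ofHom (IsLocalRing.residue R))) r).symm

/-- Components with intersection number one meet transversally in a rational point. -/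
theorem exists_meet_point {R : Type u} [CommRing R] [IsDomain R] [IsDiscreteValuationRing R]
    {X : Over (Spec (CommRingCat.of R))} (hX : ArSurf.IsArithSurface R X) {n : ℕ}
    (Γ : Fin n → ArSurf.VertComp R X) (hinj : Function.Injective fun i => Set.range (Γ i).ι) (i j : Fin n)
    (hij : i ≠ j) (hd : interMat Γ i j = 1) :
    ∃ x : X.left, Set.range (Γ i).ι ∩ Set.range (Γ j).ι = {x} ∧
      (Γ i).ι.ker ⊔ (Γ j).ι.ker = Scheme.IdealSheafData.vanishingIdeal ⟨closure {x}, isClosed_closure⟩ ∧
      Function.Surjective ((X.left.residue x).hom.comp (Models.stalkHom R X x)) := by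
  haveI := isProper_hom_of_isArithSurface hX
  let k := IsLocalRing.ResidueField R
  haveI : IsProper ((Γ i).curve.left ↘ Spec (CommRingCat.of k)) := isProper_curve (Γ i)
  have hJ := isEffCartierIdeal_ker hX (Γ j)
  obtain ⟨L, -, ⟨d⟩⟩ := W7Hull.exists_tensor_inverse (Intersect.isInvertible_ideal hJ)
  have hL : ClSub.IsInverseOf L (ClSub.idealMod (Γ j).ι.ker) := ⟨TMul.commIso _ _ ≪≫ d⟩
  obtain ⟨hD', hdeg⟩ := inter_eq_h0 (Γ i) hJ (genPt_notMem fun e => hij (hinj e)) hL
  rw [inter_eq_interMat hX Γ hL, hd] at hdeg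
  let D := (Γ j).ι.ker.comap (Γ i).ι
  haveI := exists_point_of_h0_one (k := k) (CurveRR.isFinite_subscheme (k := k) (I := D)
    (CurveRR.cartier_dim_le_zero (Γ i).dim_eq.le hD')) (by exact_mod_cast hdeg.symm)
  let z := D.subschemeι ≫ ((Γ i).curve.left ↘ Spec (CommRingCat.of k))
  let t : Spec (CommRingCat.of k) ⟶ X.left := inv z ≫ D.subschemeι ≫ (Γ i).ι
  have htker : t.ker = (Γ i).ι.ker ⊔ (Γ j).ι.ker := by
    rw [Scheme.Hom.ker_comp_of_isIso, Scheme.Hom.ker_comp, D.ker_subschemeι]
    refine le_antisymm ?_ (sup_le ?_ ((Scheme.IdealSheafData.map_gc (Γ i).ι).le_u_l _))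
    · obtain ⟨g, hg⟩ : ∃ g : ((Γ i).ι.ker ⊔ (Γ j).ι.ker).subscheme ⟶ (Γ i).curve.left,
          g ≫ (Γ i).ι = ((Γ i).ι.ker ⊔ (Γ j).ι.ker).subschemeι :=
        ⟨IsClosedImmersion.lift (Γ i).ι _ (by rw [Scheme.IdealSheafData.ker_subschemeι]; exact le_sup_left),
          IsClosedImmersion.lift_fac _ _ _⟩
      have h2 : g.ker.map (Γ i).ι = (Γ i).ι.ker ⊔ (Γ j).ι.ker := by
        rw [← Scheme.Hom.ker_comp, hg, Scheme.IdealSheafData.ker_subschemeι]
      refine (Scheme.IdealSheafData.map_mono (Γ i).ι ?_).trans h2.le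
      exact Scheme.IdealSheafData.le_map_iff_comap_le.1 (h2.symm ▸ le_sup_right)
    · exact (Scheme.Hom.le_ker_comp D.subschemeι (Γ i).ι).trans_eq
        (by rw [Scheme.Hom.ker_comp, D.ker_subschemeι])
  haveI : IsClosedImmersion t := inferInstance
  let q : Spec (CommRingCat.of k) := IsLocalRing.closedPoint k
  haveI : Subsingleton (Spec (CommRingCat.of k)) := inferInstanceAs (Subsingleton (PrimeSpectrum k))
  have hr : Set.range t = {t q} := Set.range_eq_singleton_iff.2 fun p => congrArg t (Subsingleton.elim p q)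
  have hcl : closure ({t q} : Set X.left) = {t q} := by
    rw [← hr]; exact t.isClosedEmbedding.isClosed_range.closure_eq
  have hsupp : (t.ker.support : Set X.left) = {t q} := by
    rw [Scheme.Hom.support_ker, hr, hcl]
  refine ⟨t q, ?_, ?_, ?_⟩
  · rw [← hsupp, htker, Scheme.IdealSheafData.support_sup, TopologicalSpace.Closeds.coe_inf]
    simp only [Scheme.Hom.support_ker, (Γ i).ι.isClosedEmbedding.isClosed_range.closure_eq,
      (Γ j).ι.isClosedEmbedding.isClosed_range.closure_eq]
  · rw [← htker, Nakai.ker_eq_vanishingIdeal t]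
    refine congrArg _ (Closeds.ext ?_)
    show (t.ker.support : Set X.left) = closure {t q}
    rw [hcl, hsupp]
  · have ht : t ≫ X.hom = Spec.map (CommRingCat.ofHom (IsLocalRing.residue R)) := by
      show (inv z ≫ D.subschemeι ≫ (Γ i).ι) ≫ X.hom = _
      rw [Category.assoc, Category.assoc, (Γ i).w]
      show inv z ≫ D.subschemeι ≫ ((Γ i).curve.left ↘ Spec (CommRingCat.of k)) ≫ _ = _
      rw [← Category.assoc D.subschemeι, ← Category.assoc, IsIso.inv_hom_id, Category.id_comp]
    exact surjective_residue_of_section X t ht q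

end Groth.Agent.Castel
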