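import Groth.Agent.QuotScheme.EffEpi

/-!
Maps constant on the fibres of a contraction factor through it.
-/

set_option autoImplicit false
set_option backward.isDefEq.respectTransparency false
set_option backward.isDefEq.respectTransparency.types false

universe u

open CategoryTheory CategoryTheory.Limits AlgebraicGeometry TopologicalSpace Topology
open Groth.Agent.QuotScheme

namespace Groth.Agent.Castel

/-- A map constant on the fibres of a closed surjection with `O = f_*O` factors uniquely through it. -/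
theorem existsUnique_factor_of_fibres {S' S W : Scheme.{u}} (g : S' ⟶ S) (hs : Function.Surjective g.base)
    (hcl : IsClosedMap g.base) (happ : ∀ U : S.Opens, Function.Bijective (g.app U).hom) (e : S' ⟶ W)
    (he : ∀ a b, g a = g b → e a = e b) : ∃! a : S ⟶ W, g ≫ a = e := by
  have hq : Topology.IsQuotientMap g.base := hcl.isQuotientMap g.continuous hs
  have hinj : ∀ U : S.Opens, Function.Injective (g.app U).hom := fun U => (happ U).1
  have hepi : ∀ O : S.Opens, Epi (g ∣_ O) := fun O ↦
    epi_of_surjective_of_injective _ (morphismRestrict_surjective g hq.surjective O)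
      (morphismRestrict_app_injective g hinj O)
  haveI : Epi g := epi_of_surjective_of_injective g hq.surjective hinj
  obtain ⟨a, ha⟩ := exists_desc_of_local g hepi e fun y ↦ by
    obtain ⟨x, rfl⟩ := hs y
    obtain ⟨V, hV, hxV, -⟩ := exists_affine_nbhd (Y := W) (O := ⊤) (y := e x) trivial
    have hsat : g.base ⁻¹' (g.base '' (e ⁻¹ᵁ V : Set S')) = (e ⁻¹ᵁ V : Set S') := by
      refine Set.Subset.antisymm ?_ (Set.subset_preimage_image _ _)
      rintro t ⟨s, hs, hst⟩
      change e t ∈ V
      rw [← he s t hst]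
      exact hs
    let O : S.Opens := ⟨g.base '' (e ⁻¹ᵁ V : Set S'),
      hq.isOpen_preimage.mp (by rw [hsat]; exact (e ⁻¹ᵁ V).isOpen)⟩
    obtain ⟨U, hU, hxU, hUO⟩ := exists_affine_nbhd (Y := S) (O := O) (y := g x) ⟨x, hxV, rfl⟩
    have hUV : g ⁻¹ᵁ U ≤ e ⁻¹ᵁ V := fun t ht ↦ hsat.le (hUO ht)
    let e' := RingEquiv.ofBijective (g.app U).hom (happ U)
    let φ : Γ(W, V) ⟶ Γ(S, U) := CommRingCat.ofHom
      (e'.symm.toRingHom.comp (e.appLE V (g ⁻¹ᵁ U) hUV).hom)
    have hφ : φ ≫ g.app U = e.appLE V (g ⁻¹ᵁ U) hUV := by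
      ext r
      exact e'.apply_symm_apply _
    refine ⟨U, U.toSpecΓ ≫ Spec.map φ ≫ hV.fromSpec, hxU, ?_⟩
    rw [← Scheme.Hom.resLE_eq_morphismRestrict, ← Scheme.Opens.toSpecΓ_SpecMap_appLE_assoc,
      ← Spec.map_comp_assoc, ← Scheme.Hom.app_eq_appLE, hφ,
      Scheme.Opens.toSpecΓ_SpecMap_appLE_assoc, ← hV.isoSpec_hom, hV.isoSpec_hom_fromSpec,
      Scheme.Hom.resLE_comp_ι]
  exact ⟨a, ha, fun b hb => (cancel_epi g).1 (hb.trans ha.symm)⟩

end Groth.Agent.Castel
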