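import Groth.Agent.Castel.MinUniqueApps
import Groth.Agent.WeilExt.Cor
import Groth.Agent.CMFlat.Scheme
import Groth.Agent.CInt.Codim
import Groth.Agent.RedSepLib.Basic
import Groth.Agent.S0404
import Groth.Prelude.Def_ModelsG

/-!
Regular proper models of curves over a discrete valuation ring.
-/

set_option autoImplicit false
set_option backward.isDefEq.respectTransparency false
set_option backward.isDefEq.respectTransparency.types false
set_option linter.style.haveILetI false

universe u

open CategoryTheory CategoryTheory.Limits AlgebraicGeometry TopologicalSpace Topology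

noncomputable section

namespace Groth.Agent.Castel

section Dim

variable {R : Type u} [CommRing R] [IsDedekindDomain R]

/-- A scheme over a Dedekind base with fibres of dimension at most one has dimension at most two. -/
theorem dim_le_two_of_fibres {Y : Scheme.{u}} (q : Y ⟶ Spec (CommRingCat.of R)) [LocallyOfFiniteType q]
    (h : ∀ s, topologicalKrullDim ↥(q.fiber s) ≤ (1 : ℕ)) : topologicalKrullDim Y ≤ 2 := by
  haveI : IsLocallyNoetherian Y := LocallyOfFiniteType.isLocallyNoetherian q
  refine Unibranch.topologicalKrullDim_le_natCast (e := 2) fun k c hc => ?_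
  let y := c (Fin.last k)
  letI := (q.stalkMap y).hom.toAlgebra
  haveI : IsLocalHom (algebraMap ((Spec (CommRingCat.of R)).presheaf.stalk (q y)) (Y.presheaf.stalk y)) :=
    inferInstanceAs (IsLocalHom (q.stalkMap y).hom)
  have h1 := CInt.ringKrullDim_le_add (A := (Spec (CommRingCat.of R)).presheaf.stalk (q y))
    (B := Y.presheaf.stalk y)
  obtain ⟨e⟩ := CMFlat.nonempty_fiberStalk_equiv q y
  have h2 : ringKrullDim (Y.presheaf.stalk y ⧸ (IsLocalRing.maximalIdeal
      ((Spec (CommRingCat.of R)).presheaf.stalk (q y))).map (q.stalkMap y).hom) ≤ (1 : ℕ) := by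
    rw [ringKrullDim_eq_of_ringEquiv e]
    exact (RegDual.ringKrullDim_stalk_le_topologicalKrullDim _).trans (h _)
  have h3 : ringKrullDim (Y.presheaf.stalk y) ≤ (2 : ℕ) :=
    h1.trans ((add_le_add (WeilExt.dim_stalk_spec_le (q y)) h2).trans (by norm_num))
  let l : LTSeries Y := ⟨k, fun i => c i.rev, fun i => ?_⟩
  rotate_left
  · have h4 := hc i.rev
    rw [← Fin.rev_succ, ← Fin.rev_castSucc] at h4
    exact lt_iff_le_not_ge.2 ⟨h4.1, fun h => h4.2 (h4.1.antisymm h).eq⟩
  have h5 : (k : ℕ∞) ≤ Order.coheight y := by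
    have h6 := Order.length_le_coheight (p := l) (x := y) (by
      show y ≤ c (Fin.rev 0)
      rw [Fin.rev_zero])
    exact h6
  rw [ringKrullDim_stalk_eq_coheight] at h3
  exact ENat.natCast_le_natCast.mp (WithBot.coe_le_coe.mp ((WithBot.coe_le_coe.2 h5).trans h3))

end Dim

variable {R : Type u} [CommRing R] [IsDomain R] [IsDiscreteValuationRing R]

/-- A flat scheme with irreducible generic fibre is irreducible. -/
theorem genericPoint_of_flat {C Y : Scheme.{u}} [IsIntegral C] {f : C ⟶ Spec (CommRingCat.of (FractionRing R))}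
    (q : Y ⟶ Spec (CommRingCat.of R)) [Flat q] (g : C ⟶ Y) (hg : IsPullback g f q (Neron.genPt R)) (y : Y) :
    g (genericPoint C) ⤳ y := by
  obtain ⟨w, hw, hw'⟩ := Flat.generalizingMap q (a := y)
    ((PrimeSpectrum.le_iff_specializes (⟨⊥, Ideal.isPrime_bot⟩ : PrimeSpectrum R) (q y)).mp bot_le)
  obtain ⟨v, hv⟩ : w ∈ Set.range g := by
    rw [← hg.isoPullback_hom_fst, Scheme.Hom.comp_base, TopCat.coe_comp, Set.range_comp,
      hg.isoPullback.hom.surjective.range_eq, Set.image_univ, Scheme.Pullback.range_fst, RelMinSmooth.range_genPt]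
    exact hw'
  exact ((genericPoint_specializes v).map g.continuous).trans ((specializes_of_eq hv).trans hw)

/-- The inclusion of the generic fibre induces isomorphisms of local rings. -/
theorem isIso_stalkMap_generic {C Y : Scheme.{u}} {f : C ⟶ Spec (CommRingCat.of (FractionRing R))}
    {q : Y ⟶ Spec (CommRingCat.of R)} {g : C ⟶ Y} (hg : IsPullback g f q (Neron.genPt R)) (v : C) :
    IsIso (g.stalkMap v) := by
  suffices ∀ g' : C ⟶ Y, g' = hg.isoPullback.hom ≫ pullback.fst q (Neron.genPt R) → IsIso (g'.stalkMap v) from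
    this g hg.isoPullback_hom_fst.symm
  rintro g' rfl
  haveI := RelMinSmooth.isIso_stalkMap_fst q (hg.isoPullback.hom v)
  rw [Scheme.Hom.stalkMap_comp]
  exact inferInstance

/-- A regular proper model of a curve is an integral surface. -/
theorem surface_of_regularProper {C Y : Scheme.{u}} {f : C ⟶ Spec (CommRingCat.of (FractionRing R))}
    {q : Y ⟶ Spec (CommRingCat.of R)} (hC : Curve.IsSmoothProperCurve (FractionRing R) C f)
    (hY : Models.IsRegularProperModel R Y q C f) : IsIntegral Y ∧ topologicalKrullDim Y ≤ 2 := by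
  obtain ⟨⟨hfl, hft, -, g, hgp⟩, hp, hreg⟩ := hY
  obtain ⟨hCp, -, hCi, hCd⟩ := hC
  haveI := hfl; haveI := hp; haveI := hCi; haveI := hCp
  haveI : IrreducibleSpace Y := by
    haveI : Nonempty Y := ⟨g (genericPoint C)⟩
    haveI : PreirreducibleSpace Y := ⟨fun U U' hU hU' hUn hUn' => by
      simp only [Set.univ_inter] at hUn hUn' ⊢
      exact ⟨g (genericPoint C), (genericPoint_of_flat q g hgp _).mem_open hU hUn.choose_spec,
        (genericPoint_of_flat q g hgp _).mem_open hU' hUn'.choose_spec⟩⟩
    exact ⟨inferInstance⟩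
  haveI : ∀ y, _root_.IsReduced (Y.presheaf.stalk y) := fun y => by
    haveI := hreg y
    haveI := (PtBlow.isNormal_of_regular (R := Y.presheaf.stalk y)).1
    infer_instance
  haveI : IsReduced Y := isReduced_of_isReduced_stalk _
  haveI := isIntegral_of_irreducibleSpace_of_isReduced Y
  refine ⟨inferInstance, ?_⟩
  · haveI : IsLocallyNoetherian Y := LocallyOfFiniteType.isLocallyNoetherian q
    haveI : LocallyOfFinitePresentation q := inferInstance
    let η : Spec (CommRingCat.of R) := (⟨⊥, Ideal.isPrime_bot⟩ : PrimeSpectrum R)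
    haveI : IsPreimmersion (Neron.genPt R) := IsPreimmersion.of_isLocalization (nonZeroDivisors R)
    haveI : IsPreimmersion g := MorphismProperty.of_isPullback (P := @IsPreimmersion) hgp.flip inferInstance
    have hη : topologicalKrullDim ↥(q.fiber η) ≤ (1 : ℕ) := by
      have hsub : Set.range (q.fiberι η) ⊆ Set.range g := by
        rw [q.range_fiberι, ← hgp.isoPullback_hom_fst, Scheme.Hom.comp_base, TopCat.coe_comp, Set.range_comp,
          hgp.isoPullback.hom.surjective.range_eq, Set.image_univ, Scheme.Pullback.range_fst,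
          RelMinSmooth.range_genPt]
      choose j hj using fun x => hsub ⟨x, rfl⟩
      have hjc : Continuous j := g.isEmbedding.isInducing.continuous_iff.2 (by
        rw [show g ∘ j = q.fiberι η from funext hj]; exact (q.fiberι η).continuous)
      refine (IsInducing.topologicalKrullDim_le (f := j) (IsInducing.of_comp hjc g.continuous (by
        rw [show g ∘ j = q.fiberι η from funext hj]; exact (q.fiberι η).isEmbedding.isInducing))).trans ?_
      rw [hCd]; rfl
    refine dim_le_two_of_fibres q fun s => not_lt.1 fun hlt => not_lt.2 hη ?_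
    exact (show η ⤳ s from (PrimeSpectrum.le_iff_specializes η s).mp bot_le).mem_open
      (S0404.result q ((1 : ℕ) : WithBot ℕ∞)) hlt

/-- A regular proper model of a curve is a model in the sense of the contraction library. -/
theorem isModel_of_regularProper {C Y : Scheme.{u}} {f : C ⟶ Spec (CommRingCat.of (FractionRing R))}
    {q : Y ⟶ Spec (CommRingCat.of R)} (hC : Curve.IsSmoothProperCurve (FractionRing R) C f)
    (hg : 0 < Models.curveGenus (FractionRing R) C f) (hY : Models.IsRegularProperModel R Y q C f) :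
    IsModel q := by
  obtain ⟨hint, hdim⟩ := surface_of_regularProper hC hY
  obtain ⟨⟨hfl, -, -, g, hgp⟩, hp, hreg⟩ := hY
  refine ⟨hint, hp, hfl, hreg, hdim, ?_⟩
  letI : C.Over (Spec (CommRingCat.of (FractionRing R))) := ⟨f⟩
  haveI : Nontrivial (Coh.HH C (Coh.structureModule C) 1) := Module.nontrivial_of_finrank_pos (R := FractionRing R) hg
  haveI : IsIso hgp.isoPullback.inv := inferInstance
  exact nontrivial_h1_of_iso (A := pullback q (Neron.genPt R)) hgp.isoPullback.inv ‹_›

/-- An exceptional curve on a proper `R`-scheme is a vertical prime divisor. -/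
theorem exists_vertComp_of_exc {Y : Scheme.{u}} (q : Y ⟶ Spec (CommRingCat.of R)) [IsProper q] {E : Scheme.{u}}
    (ι : E ⟶ Y) [IsClosedImmersion ι] (hE : Models.IsExcCurve ι) :
    ∃ Γ : ArSurf.VertComp R (Over.mk q), Models.IsExcCurve Γ.ι := by
  have hR := IsDiscreteValuationRing.not_isField R
  obtain ⟨-, k, _, e, -⟩ := id hE
  haveI : IsIntegral (CohB1.ProjSpace 1 k) := Horrocks.isIntegral_projSpace
  haveI : Nonempty E := ⟨e.hom (genericPoint (CohB1.ProjSpace 1 k))⟩
  haveI : IsIntegral E := isIntegral_of_isOpenImmersion e.inv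
  obtain ⟨s, hs, hsp⟩ := exc_base_const hR q (e.hom ≫ ι)
  haveI : Ideal.IsMaximal s.asIdeal := Ideal.IsPrime.isMaximal s.isPrime hs
  have hs' : s = IsLocalRing.closedPoint R := PrimeSpectrum.ext (IsLocalRing.eq_maximalIdeal inferInstance)
  haveI : IsClosedImmersion (Spec.map (CommRingCat.ofHom (IsLocalRing.residue R))) :=
    IsClosedImmersion.spec_of_surjective _ Ideal.Quotient.mk_surjective
  obtain ⟨l, hl⟩ := RedSepLib.exists_lift_of_isReduced (ι ≫ q)
    (Spec.map (CommRingCat.ofHom (IsLocalRing.residue R))) (by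
      rintro _ ⟨x, rfl⟩
      obtain ⟨p, rfl⟩ := e.hom.surjective x
      refine ⟨(show PrimeSpectrum (IsLocalRing.ResidueField R) from default), ?_⟩
      rw [show (ι ≫ q) (e.hom p) = q ((e.hom ≫ ι) p) from rfl, hsp p, hs']
      exact IsLocalRing.comap_closedPoint (R := R) (S := IsLocalRing.ResidueField R)
        (IsLocalRing.residue R))
  exact ⟨{ curve := Over.mk l, ι := ι, isClosedImmersion := inferInstance, isIntegral := ‹IsIntegral E›
           dim_eq := e.hom.homeomorph.isHomeomorph.topologicalKrullDim_eq.symm.trans (Groth.Agent.S10829.result k 1)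
           w := hl.symm }, hE⟩

end Groth.Agent.Castel
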