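import Groth.Agent.Castel.InterForm
import Groth.Agent.Castel.ProperModel
import Groth.Agent.DivPart.Sum

/-!
The closed fibre of a regular, not necessarily proper, model as a sum of its components.
-/

set_option autoImplicit false
set_option backward.isDefEq.respectTransparency false
set_option backward.isDefEq.respectTransparency.types false
set_option linter.style.haveILetI false

universe u

open CategoryTheory CategoryTheory.Limits AlgebraicGeometry TopologicalSpace Opposite IsLocalRing Topology
open Groth.Agent.DivPart (stI)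

noncomputable section

namespace Groth.Agent.Castel.OpenModel

variable {R : Type u} [CommRing R] [IsDomain R] [IsDiscreteValuationRing R]
  {C X : Scheme.{u}} {f : C ⟶ Spec (CommRingCat.of (FractionRing R))} {p : X ⟶ Spec (CommRingCat.of R)}
  (hC : Curve.IsSmoothProperCurve (FractionRing R) C f) (hX : Models.IsModel R X p C f)
  (hreg : Models.IsRegularScheme X)
  {n : ℕ} (Γ : Fin n → ArSurf.VertComp R (Over.mk p)) (hΓ : Models.IsComponentList R (Over.mk p) Γ)
include hC hX hreg

/-- A regular model is integral. -/
theorem isIntegral_model : IsIntegral X := by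
  obtain ⟨hfl, hft, -, g, hgp⟩ := hX
  haveI := hfl; haveI := hC.2.2.1
  haveI : IrreducibleSpace X := by
    haveI : Nonempty X := ⟨g (genericPoint C)⟩
    haveI : PreirreducibleSpace X := ⟨fun U U' hU hU' hUn hUn' => by
      simp only [Set.univ_inter] at hUn hUn' ⊢
      exact ⟨g (genericPoint C), (genericPoint_of_flat p g hgp _).mem_open hU hUn.choose_spec,
        (genericPoint_of_flat p g hgp _).mem_open hU' hUn'.choose_spec⟩⟩
    exact ⟨inferInstance⟩
  haveI : ∀ y, _root_.IsReduced (X.presheaf.stalk y) := fun y => by
    haveI := hreg y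
    haveI := (PtBlow.isNormal_of_regular (R := X.presheaf.stalk y)).1
    infer_instance
  haveI : IsReduced X := isReduced_of_isReduced_stalk _
  exact isIntegral_of_irreducibleSpace_of_isReduced X

include hΓ

omit hC hX hreg in
/-- The components cover the closed fibre. -/
theorem cover : Models.specialFibreSet R (Over.mk p) ⊆ ⋃ i, Set.range (Γ i).ι := fun x hx => by
  obtain ⟨Z, hZ, hxZ⟩ := exists_component (X := Over.mk p) x hx
  obtain ⟨i, hi⟩ := hΓ.2.ge hZ
  exact Set.mem_iUnion.2 ⟨i, (show Set.range (Γ i).ι = Z from hi).symm ▸ hxZ⟩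

/-- A regular model with a component is a surface. -/
theorem dim_model (i : Fin n) : topologicalKrullDim X = 2 := by
  haveI := isIntegral_model hC hX hreg
  obtain ⟨hfl, hft, -, g, hgp⟩ := hX
  haveI := hfl; haveI := hft
  refine le_antisymm (dim_le_two_of_fibres p fun s => ?_) ?_
  · by_cases hs : s = IsLocalRing.closedPoint R
    · subst hs
      refine Unibranch.topologicalKrullDim_le_natCast fun l c hc => ?_
      let F := p.fiberι (IsLocalRing.closedPoint R)
      have hmem : ∀ m, F (c m) ∈ Models.specialFibreSet R (Over.mk p) := fun m =>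
        (p.range_fiberι _).le ⟨c m, rfl⟩
      obtain ⟨j, hj⟩ := Set.mem_iUnion.1 (cover Γ hΓ (hmem 0))
      have hall : ∀ m, F (c m) ∈ Set.range (Γ j).ι := fun m =>
        (((Unibranch.specializes_of_chain c hc m).map F.continuous).mem_closed
          (Γ j).ι.isClosedEmbedding.isClosed_range hj)
      choose d hd using hall
      have h := (Unibranch.natCast_le_topologicalKrullDim d fun m =>
        ⟨((Γ j).ι.isClosedEmbedding.isInducing.specializes_iff).1 (by
            rw [hd, hd]; exact (hc m).1.map F.continuous),
          fun e => (hc m).2 (F.isEmbedding.injective (by rw [← hd, ← hd, e]))⟩).trans (Γ j).dim_eq.le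
      exact CartierDim.natCast_le_withBot.mp (show ((l : ℕ) : WithBot ℕ∞) ≤ ((1 : ℕ) : WithBot ℕ∞) from h)
    · have hη : s = (⟨⊥, Ideal.isPrime_bot⟩ : PrimeSpectrum R) := PrimeSpectrum.ext (by
        by_contra h
        exact hs (PrimeSpectrum.ext (IsLocalRing.eq_maximalIdeal (Ideal.IsPrime.isMaximal s.isPrime h))))
      subst hη
      haveI : IsPreimmersion (Neron.genPt R) := IsPreimmersion.of_isLocalization (nonZeroDivisors R)
      haveI : IsPreimmersion g := MorphismProperty.of_isPullback (P := @IsPreimmersion) hgp.flip inferInstance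
      let η : Spec (CommRingCat.of R) := (⟨⊥, Ideal.isPrime_bot⟩ : PrimeSpectrum R)
      have hsub : Set.range (p.fiberι η) ⊆ Set.range g := by
        have hgp' : IsPullback g f p (Neron.genPt R) := hgp
        rw [p.range_fiberι, ← hgp'.isoPullback_hom_fst, Scheme.Hom.comp_base, TopCat.coe_comp, Set.range_comp,
          hgp'.isoPullback.hom.surjective.range_eq, Set.image_univ, Scheme.Pullback.range_fst,
          RelMinSmooth.range_genPt]
      choose j hj using fun x => hsub ⟨x, rfl⟩
      have hjc : Continuous j := g.isEmbedding.isInducing.continuous_iff.2 (by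
        rw [show g ∘ j = p.fiberι η from funext hj]; exact (p.fiberι η).continuous)
      refine (IsInducing.topologicalKrullDim_le (f := j) (IsInducing.of_comp hjc g.continuous (by
        rw [show g ∘ j = p.fiberι η from funext hj]; exact (p.fiberι η).isEmbedding.isInducing))).trans ?_
      rw [hC.2.2.2]; rfl
  · haveI := (Γ i).isIntegral
    obtain ⟨e, he⟩ : ∃ e : (Γ i).curve.left, e ≠ genericPoint (Γ i).curve.left := by
      by_contra! hall
      have h0 : topologicalKrullDim (Γ i).curve.left ≤ ((0 : ℕ) : WithBot ℕ∞) :=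
        Unibranch.topologicalKrullDim_le_natCast fun l c hc => by
          rcases l with _ | l
          · exact le_rfl
          · exact absurd ((hall _).trans (hall _).symm) (hc 0).2
      rw [(Γ i).dim_eq] at h0
      exact absurd h0 (by decide)
    refine Unibranch.natCast_le_topologicalKrullDim (α := X) (k := 2)
      ![genericPoint X, (Γ i).ι (genericPoint (Γ i).curve.left), (Γ i).ι e] fun m => ?_
    fin_cases m
    · refine ⟨genericPoint_specializes _, fun h => ?_⟩
      have h1 : p ((Γ i).ι (genericPoint (Γ i).curve.left)) = IsLocalRing.closedPoint R :=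
        range_subset_specialFibre (Γ i) ⟨_, rfl⟩
      rw [← (show genericPoint X = (Γ i).ι (genericPoint (Γ i).curve.left) from h)] at h1
      obtain ⟨w, hw, hw'⟩ := Flat.generalizingMap p (a := genericPoint X)
        ((PrimeSpectrum.le_iff_specializes (⟨⊥, Ideal.isPrime_bot⟩ : PrimeSpectrum R) (p (genericPoint X))).mp bot_le)
      rw [(hw.antisymm ((genericPoint_spec X).specializes trivial)).eq, h1] at hw'
      exact IsDiscreteValuationRing.not_a_field R (congrArg PrimeSpectrum.asIdeal hw')
    · exact ⟨(genericPoint_specializes e).map (Γ i).ι.continuous,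
        fun h => he ((Γ i).ι.isClosedEmbedding.injective h).symm⟩

/-- The components are effective Cartier divisors. -/
theorem cartier_ker (i : Fin n) : BlowUp.IsEffCartierIdeal (Γ i).ι.ker := by
  haveI := isIntegral_model hC hX hreg
  haveI := hX.2.1
  haveI : IsLocallyNoetherian X := LocallyOfFiniteType.isLocallyNoetherian p
  have hXd := dim_model hC hX hreg Γ hΓ i
  let ι := (Γ i).ι
  haveI : IsIso ι.toImage := inferInstance
  haveI : Nonempty ι.ker.subscheme := ⟨ι.toImage (genericPoint (Γ i).curve.left)⟩
  haveI : IsIntegral ι.ker.subscheme := isIntegral_of_isOpenImmersion (inv ι.toImage)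
  haveI : CompactSpace X := by
    haveI := hX.2.2.1
    exact QuasiCompact.compactSpace_of_compactSpace p
  haveI : IsNoetherian X := {}
  refine Groth.Agent.S1684.result X ι.ker (ringKrullDim_stalk_curve hXd ?_) fun x _ => ?_
  · have hr : Set.range ι.ker.subschemeι = Set.range ι := by
      rw [Scheme.IdealSheafData.range_subschemeι, Scheme.Hom.support_ker]
      exact ι.isClosedEmbedding.isClosed_range.closure_eq
    have h1 : closure ({ι.ker.subschemeι (genericPoint ι.ker.subscheme)} : Set (Over.mk p).left) = Set.range ι := by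
      rw [← hr, ← Intersect.image_closure ι.ker.subschemeι, genericPoint_closure]
      exact Set.image_univ
    refine (congrArg (fun S : Set (Over.mk p).left => topologicalKrullDim S) h1).trans ?_
    rw [← ι.isClosedEmbedding.isEmbedding.toHomeomorph.isHomeomorph.topologicalKrullDim_eq, (Γ i).dim_eq]
    rfl
  · haveI := hreg x
    exact Groth.Agent.S2821.result _

/-- The closed fibre is the sum of its components with their multiplicities. -/
theorem fibreIdeal_eq_prod :
    fibreIdeal (Over.mk p) = ∏ j, (Γ j).ι.ker ^ Models.mult R (Over.mk p) (Γ j) := by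
  classical
  haveI : IsIntegral (Over.mk p).left := isIntegral_model hC hX hreg
  haveI : Flat (Over.mk p).hom := hX.1
  haveI : LocallyOfFiniteType p := hX.2.1
  haveI : QuasiCompact p := hX.2.2.1
  haveI : IsLocallyNoetherian X := LocallyOfFiniteType.isLocallyNoetherian p
  haveI : CompactSpace X := QuasiCompact.compactSpace_of_compactSpace p
  haveI : IsNoetherian (Over.mk p).left := ({} : IsNoetherian X)
  have hc := fun j => cartier_ker hC hX hreg Γ hΓ j
  have hint : ∀ j, IsIntegral (Γ j).ι.ker.subscheme := fun j => by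
    haveI : IsIso (Γ j).ι.toImage := inferInstance
    haveI : Nonempty (Γ j).ι.ker.subscheme := ⟨(Γ j).ι.toImage (genericPoint (Γ j).curve.left)⟩
    exact isIntegral_of_isOpenImmersion (inv (Γ j).ι.toImage)
  obtain ⟨a, ha⟩ := DivPart.exists_eq_prod (fibreIdeal (Over.mk p)) cartier_fibreIdeal n (fun j => (Γ j).ι.ker) hc
    hint (fun x hx => by
      obtain ⟨j, hj⟩ := Set.mem_iUnion.1 (cover Γ hΓ ((mem_support_fibreIdeal x).1 hx))
      refine Set.mem_iUnion.2 ⟨j, ?_⟩
      rw [Scheme.Hom.support_ker, (Γ j).ι.isClosedEmbedding.isClosed_range.closure_eq]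
      exact hj)
  rw [ha]
  refine Finset.prod_congr rfl fun i _ => congrArg _ ?_
  let ξ := Models.genPtOf R (Over.mk p) (Γ i)
  obtain ⟨W, hW, hξW, -⟩ := exists_isAffineOpen_mem_and_subset (show ξ ∈ (⊤ : (Over.mk p).left.Opens) from trivial)
  let W' : (Over.mk p).left.affineOpens := ⟨W, hW⟩
  have h1 : stI (fibreIdeal (Over.mk p)) W' hξW =
      (IsLocalRing.maximalIdeal R).map (Models.stalkHom R (Over.mk p) ξ) := by
    rw [stI, fibreIdeal_ideal, Ideal.map_map]
    refine congrArg (fun φ => Ideal.map φ (IsLocalRing.maximalIdeal R)) ?_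
    refine RingHom.ext fun r => ?_
    exact (Over.mk p).left.presheaf.germ_res_apply (homOfLE (le_top : W'.1 ≤ ⊤)) ξ hξW _
  have hmul : ∀ s : Finset (Fin n), stI (∏ j ∈ s, (Γ j).ι.ker ^ a j) W' hξW =
      if i ∈ s then IsLocalRing.maximalIdeal ((Over.mk p).left.presheaf.stalk ξ) ^ a i else ⊤ := by
    intro s
    induction s using Finset.induction with
    | empty => simp [stI, Scheme.IdealSheafData.one_eq_top, Ideal.map_top]
    | insert j s hj ih =>
      have hstep : stI ((Γ j).ι.ker ^ a j * ∏ t ∈ s, (Γ t).ι.ker ^ a t) W' hξW =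
          stI (Γ j).ι.ker W' hξW ^ a j * stI (∏ t ∈ s, (Γ t).ι.ker ^ a t) W' hξW := by
        simp only [stI, Scheme.IdealSheafData.ideal_mul, PtBlow.ideal_pow', Pi.mul_apply, Ideal.map_mul, Ideal.map_pow]
      rw [Finset.prod_insert hj, hstep, ih]
      by_cases hji : j = i
      · subst hji
        rw [if_neg hj, if_pos (Finset.mem_insert_self _ _), stI_ker_genPt]
        exact Ideal.mul_top _
      · obtain ⟨g, -, hg, hu⟩ := DivPart.exists_generator (Γ j).ι.ker (hc j) W' hξW
        have htop : stI (Γ j).ι.ker W' hξW = ⊤ := by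
          rw [hg, Ideal.span_singleton_eq_top]
          exact hu (genPt_notMem fun e => hji (hΓ.1 e).symm)
        rw [htop, Ideal.top_pow, Ideal.top_mul]
        simp only [Finset.mem_insert, Ne.symm hji, false_or]
  have h2 := hmul Finset.univ
  rw [if_pos (Finset.mem_univ i), ← ha, h1] at h2
  have hXd : topologicalKrullDim (Over.mk p).left = 2 := dim_model hC hX hreg Γ hΓ i
  have hdim : ringKrullDim ((Over.mk p).left.presheaf.stalk ξ) = 1 := by
    refine ringKrullDim_stalk_curve hXd ?_
    have hcl : closure ({ξ} : Set (Over.mk p).left) = Set.range (Γ i).ι := by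
      refine subset_antisymm ((Γ i).ι.isClosedEmbedding.isClosed_range.closure_subset_iff.2
        (Set.singleton_subset_iff.2 ⟨_, rfl⟩)) ?_
      rintro _ ⟨z, rfl⟩
      exact specializes_iff_mem_closure.1 ((genericPoint_specializes z).map (Γ i).ι.continuous)
    rw [hcl, ← (Γ i).ι.isClosedEmbedding.isEmbedding.toHomeomorph.isHomeomorph.topologicalKrullDim_eq,
      (Γ i).dim_eq]
    rfl
  have hnf : ¬ IsField ((Over.mk p).left.presheaf.stalk ξ) := fun h => by
    rw [ringKrullDim_eq_zero_of_isField h] at hdim
    exact zero_ne_one hdim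
  haveI : IsRegularLocalRing ((Over.mk p).left.presheaf.stalk ξ) := hreg ξ
  haveI : IsDiscreteValuationRing ((Over.mk p).left.presheaf.stalk ξ) :=
    (SepReg.dvr_iff_regular _ hnf hdim.le).2 inferInstance
  rw [Models.mult]
  change a i = (Module.length _ ((Over.mk p).left.presheaf.stalk ξ ⧸
    Ideal.map (Models.stalkHom R (Over.mk p) ξ) _)).toNat
  rw [h2, IsDiscreteValuationRing.length_quotient_pow_maximalIdeal]
  rfl

omit hC hX hreg hΓ in
/-- The two descriptions of the closed fibre. -/
theorem specialFibreIdeal_eq (Y : Over (Spec (CommRingCat.of R))) : Models.specialFibreIdeal R Y = fibreIdeal Y :=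
  rfl

end Groth.Agent.Castel.OpenModel
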