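import Groth.Agent.Castel.DivField

/-!
The ring of constants of a fundamental divisor is a field.
-/

set_option autoImplicit false
set_option backward.isDefEq.respectTransparency false
set_option backward.isDefEq.respectTransparency.types false
set_option linter.style.haveILetI false

universe u

open CategoryTheory CategoryTheory.Limits AlgebraicGeometry TopologicalSpace Opposite

noncomputable section

namespace Groth.Agent.Castel

variable {R : Type u} [CommRing R] [IsDomain R] [IsDiscreteValuationRing R] {X : Over (Spec (CommRingCat.of R))}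
  (hX : ArSurf.IsArithSurface R X) {r : ℕ} (Γ : Fin r → ArSurf.VertComp R X)
include hX

/-- Adding a component on which the divisor is positive keeps a field of constants. -/
theorem goodH0_add_single {b : Fin r → ℕ} (hinj : Function.Injective fun i => Set.range (Γ i).ι) {i : Fin r}
    (hi : 0 < ∑ j, (b j : ℤ) * interMat Γ i j) (hg : GoodH0 X (divI Γ b)) :
    GoodH0 X (divI Γ (b + Pi.single i 1)) := by
  haveI := isProper_hom_of_isArithSurface hX
  obtain ⟨h1, -⟩ := step_facts (Γ i) (cartier_divI hX Γ b) (isEffCartierIdeal_ker hX (Γ i))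
    (chiL_divI hX Γ hinj b).1 (by rw [degI_divI hX]; omega)
  have he : divI Γ (b + Pi.single i 1) = (Γ i).ι.ker * divI Γ b := by
    rw [← divI_add_single]
    congr 1
    funext j
    by_cases hj : j = i <;> simp [hj]
  rw [he]
  exact good_of_injective _ h1 hg

/-- A step towards a divisor which is nonpositive on all components. -/
theorem exists_fund_step (hinj : Function.Injective fun i => Set.range (Γ i).ι)
    (hconn : _root_.IsConnected (⋃ i, Set.range (Γ i).ι)) {z b : Fin r → ℕ}
    (hz : ∀ i, ∑ j, (z j : ℤ) * interMat Γ i j ≤ 0)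
    (hmin : ∀ z' : Fin r → ℕ, (∀ i, 1 ≤ z' i) → (∀ i, ∑ j, (z' j : ℤ) * interMat Γ i j ≤ 0) → ∀ i, z i ≤ z' i)
    (hb : b ≤ z) (hb0 : b ≠ 0) (hne : b ≠ z) :
    ∃ i, b i < z i ∧ 0 < ∑ j, (b j : ℤ) * interMat Γ i j := by
  classical
  obtain ⟨-, hoff, -⟩ := interMat_facts hX Γ hinj
  obtain ⟨i, hi⟩ : ∃ i, 0 < ∑ j, (b j : ℤ) * interMat Γ i j := by
    by_contra! hh
    by_cases hpos : ∀ i, 1 ≤ b i
    · exact hne (le_antisymm hb fun i => hmin b hpos hh i)
    · push Not at hpos
      obtain ⟨i₀, hi₀⟩ := hpos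
      obtain ⟨j₀, hj₀⟩ := Function.ne_iff.1 hb0
      let U : Set X.left := ⋃ i ∈ {i | b i = 0}, Set.range (Γ i).ι
      let V : Set X.left := ⋃ i ∈ {i | b i ≠ 0}, Set.range (Γ i).ι
      have hU : IsClosed U := Set.Finite.isClosed_biUnion (Set.toFinite _) fun i _ =>
        (Γ i).ι.isClosedEmbedding.isClosed_range
      have hV : IsClosed V := Set.Finite.isClosed_biUnion (Set.toFinite _) fun i _ =>
        (Γ i).ι.isClosedEmbedding.isClosed_range
      have hsub : (⋃ i, Set.range (Γ i).ι) ⊆ U ∪ V := Set.iUnion_subset fun i => by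
        by_cases h : b i = 0
        · exact Set.subset_union_of_subset_left (Set.subset_biUnion_of_mem (u := fun i => Set.range (Γ i).ι) h) _
        · exact Set.subset_union_of_subset_right (Set.subset_biUnion_of_mem (u := fun i => Set.range (Γ i).ι) h) _
      haveI := fun i => (Γ i).isIntegral
      obtain ⟨x, -, hxU, hxV⟩ := (isPreconnected_closed_iff.1 hconn.isPreconnected) U V hU hV hsub
        ⟨(Γ i₀).ι (genericPoint (Γ i₀).curve.left), Set.mem_iUnion.2 ⟨i₀, _, rfl⟩,
          Set.mem_biUnion (show b i₀ = 0 by omega) ⟨_, rfl⟩⟩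
        ⟨(Γ j₀).ι (genericPoint (Γ j₀).curve.left), Set.mem_iUnion.2 ⟨j₀, _, rfl⟩,
          Set.mem_biUnion (show b j₀ ≠ 0 from hj₀) ⟨_, rfl⟩⟩
      obtain ⟨i, hi, hxi⟩ := Set.mem_iUnion₂.1 hxU
      obtain ⟨j, hj, hxj⟩ := Set.mem_iUnion₂.1 hxV
      have hij : i ≠ j := fun h => hj (h ▸ hi)
      have hnn : ∀ l, 0 ≤ (b l : ℤ) * interMat Γ i l := fun l => by
        by_cases hl : l = i
        · simp [hl, show b i = 0 from hi]
        · exact mul_nonneg (Int.natCast_nonneg _) (hoff i l (Ne.symm hl)).1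
      have hpos : 0 < interMat Γ i j := lt_of_le_of_ne (hoff i j hij).1 fun h =>
        Set.disjoint_left.1 ((hoff i j hij).2.1 h.symm) hxi hxj
      have := Finset.single_le_sum (fun l _ => hnn l) (Finset.mem_univ j)
      have hbj : (0 : ℤ) < b j := by exact_mod_cast Nat.pos_of_ne_zero hj
      exact absurd (hh i) (not_le.2 (lt_of_lt_of_le (mul_pos hbj hpos) this))
  refine ⟨i, lt_of_le_of_ne (hb i) fun he => ?_, hi⟩
  have : ∑ j, (b j : ℤ) * interMat Γ i j ≤ ∑ j, (z j : ℤ) * interMat Γ i j := by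
    refine Finset.sum_le_sum fun j _ => ?_
    by_cases hj : j = i
    · rw [hj, he]
    · exact mul_le_mul_of_nonneg_right (by exact_mod_cast hb j) (hoff i j (Ne.symm hj)).1
  linarith [hz i]

/-- `H⁰(Z, O)` is a field for the fundamental divisor `Z`. -/
theorem goodH0_fundamental (hinj : Function.Injective fun i => Set.range (Γ i).ι)
    (hconn : _root_.IsConnected (⋃ i, Set.range (Γ i).ι)) {z : Fin r → ℕ} (hz1 : ∀ i, 1 ≤ z i)
    (hz : ∀ i, ∑ j, (z j : ℤ) * interMat Γ i j ≤ 0)
    (hmin : ∀ z' : Fin r → ℕ, (∀ i, 1 ≤ z' i) → (∀ i, ∑ j, (z' j : ℤ) * interMat Γ i j ≤ 0) → ∀ i, z i ≤ z' i) :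
    GoodH0 X (divI Γ z) := by
  classical
  haveI := isProper_hom_of_isArithSurface hX
  obtain ⟨x₀, hx⟩ := hconn.nonempty
  obtain ⟨i₁, -⟩ := Set.mem_iUnion.1 hx
  suffices key : ∀ N : ℕ, ∀ b : Fin r → ℕ, b ≤ z → b ≠ 0 → GoodH0 X (divI Γ b) → ∑ i, (z i - b i) = N →
      GoodH0 X (divI Γ z) by
    refine key _ (Pi.single i₁ 1) (fun i => ?_) (by simp) ?_ rfl
    · by_cases h : i = i₁ <;> simp [h, hz1]
    · rw [show divI Γ (Pi.single i₁ 1) = (Γ i₁).ι.ker from ?_]
      · exact good_component (Γ i₁)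
      · rw [divI, Finset.prod_eq_single i₁ (fun j _ hj => by simp [hj]) (fun h => absurd (Finset.mem_univ i₁) h)]
        simp
  intro N
  induction N with
  | zero =>
    intro b hb _ hg hs
    have : b = z := funext fun i => by
      have := (Finset.sum_eq_zero_iff.1 hs) i (Finset.mem_univ i)
      have : b i ≤ z i := hb i
      omega
    exact this ▸ hg
  | succ N ih =>
    intro b hb h0 hg hs
    have hne : b ≠ z := fun h => by
      rw [h] at hs
      simp at hs
    obtain ⟨i, hi, hpos⟩ := exists_fund_step hX Γ hinj hconn hz hmin hb h0 hne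
    refine ih (b + Pi.single i 1) (fun j => ?_) (fun h => by simpa using congrFun h i)
      (goodH0_add_single hX Γ hinj hpos hg) ?_
    · by_cases h : j = i
      · subst h; simp; omega
      · simpa [h] using hb j
    · have hsplit : ∀ g : Fin r → ℕ, ∑ j, g j = g i + ∑ j ∈ Finset.univ.erase i, g j :=
        fun g => (Finset.add_sum_erase _ g (Finset.mem_univ i)).symm
      rw [hsplit] at hs ⊢
      rw [Finset.sum_congr rfl fun j hj => by rw [Pi.add_apply, Pi.single_eq_of_ne (Finset.ne_of_mem_erase hj), add_zero]]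
      simp only [Pi.add_apply, Pi.single_eq_same] at hs ⊢
      omega

end Groth.Agent.Castel
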