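import Groth.Agent.Castel.ComapIso
import Groth.Agent.Castel.AvoidSec
import Groth.Agent.Castel.FundDivisor
import Groth.Agent.Castel.ContractUniq
import Groth.Agent.Castel.GlobalCot
import Groth.Agent.Castel.ArtinContract
import Groth.Agent.Castel.ContractGG
import Groth.Agent.TMul.AmpleCrit

/-!
The powers of the maximal ideal at the image of a configuration with good fundamental divisor.
-/

set_option autoImplicit false
set_option backward.isDefEq.respectTransparency false
set_option backward.isDefEq.respectTransparency.types false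
set_option linter.style.haveILetI false

universe u

open CategoryTheory CategoryTheory.Limits AlgebraicGeometry TopologicalSpace Opposite
open TMul (homOf)

noncomputable section

namespace Groth.Agent.Castel

variable {R : Type u} [CommRing R] [IsDomain R] [IsDiscreteValuationRing R] {X : Over (Spec (CommRingCat.of R))}

omit [IsDomain R] [IsDiscreteValuationRing R] in
/-- `toΓ` factors through the base change to a local ring of the base. -/
theorem toGlobal_fromSpecStalk {Y : Over (Spec (CommRingCat.of R))} (y : Y.left) {W : Scheme.{u}}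
    (p : W ⟶ Spec (CommRingCat.of (Y.left.presheaf.stalk y))) (r : R) :
    Coh.toGlobal p (Models.stalkHom R Y y r) = Coh.toGlobal (p ≫ Y.left.fromSpecStalk y ≫ Y.hom) r := by
  change p.appTop _ = (p ≫ Y.left.fromSpecStalk y ≫ Y.hom).appTop _
  rw [Scheme.Hom.comp_appTop, Scheme.Hom.comp_appTop, CommRingCat.comp_apply, CommRingCat.comp_apply]
  refine congrArg p.appTop ?_
  rw [Scheme.fromSpecStalk_appTop]
  have h : (Spec (Y.left.presheaf.stalk y)).presheaf.map (homOfLE (le_top :
      (⊤ : (Spec (Y.left.presheaf.stalk y)).Opens) ≤ ⊤)).op = 𝟙 _ := by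
    rw [Subsingleton.elim (homOfLE (le_top : (⊤ : (Spec (Y.left.presheaf.stalk y)).Opens) ≤ ⊤)) (𝟙 _), op_id,
      CategoryTheory.Functor.map_id]
  change _ = (Y.left.presheaf.germ ⊤ y trivial ≫ (Scheme.ΓSpecIso _).inv ≫
    (Spec (Y.left.presheaf.stalk y)).presheaf.map (homOfLE le_top).op).hom
      (Y.hom.appTop ((Scheme.ΓSpecIso (CommRingCat.of R)).inv r))
  rw [h, Category.comp_id]
  rfl

variable (hX : ArSurf.IsArithSurface R X) {r : ℕ} (Γ : Fin r → ArSurf.VertComp R X)
include hX

omit hX in
theorem divI_smul (n : ℕ) (z : Fin r → ℕ) : divI Γ z ^ n = divI Γ (fun j => n * z j) := by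
  simp only [divI, ← Finset.prod_pow, ← pow_mul, mul_comm n]

/-- The conormal powers on the fundamental divisor: no `H¹`, and two sections without common zero. -/
theorem fund_facts [Infinite (IsLocalRing.ResidueField R)] (hinj : Function.Injective fun i => Set.range (Γ i).ι)
    {z : Fin r → ℕ} (hz1 : ∀ i, 1 ≤ z i) (hz : ∀ i, ∑ j, (z j : ℤ) * interMat Γ i j ≤ 0)
    (h1 : Subsingleton (Coh.HH (divI Γ z).subscheme (Coh.structureModule (divI Γ z).subscheme) 1)) :
    (∀ n, Subsingleton (Coh.HH (divI Γ z).subscheme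
      ((Scheme.Modules.pullback (divI Γ z).subschemeι).obj (ipow (divI Γ z) n)) 1)) ∧
    ∃ σ : Fin 2 → Γ((Scheme.Modules.pullback (divI Γ z).subschemeι).obj (ClSub.idealMod (divI Γ z)), ⊤),
      ∀ x, x ∈ CohB1.genLocus _ (homOf (σ 0)) ∨ x ∈ CohB1.genLocus _ (homOf (σ 1)) := by
  classical
  haveI := isProper_hom_of_isArithSurface hX
  haveI : IsLocallyNoetherian X.left := LocallyOfFiniteType.isLocallyNoetherian X.hom
  haveI : CompactSpace X.left := QuasiCompact.compactSpace_of_compactSpace X.hom
  set I := divI Γ z with hIdef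
  have hI : BlowUp.IsEffCartierIdeal I := cartier_divI hX Γ z
  set s := I.subschemeι with hs
  haveI : CompactSpace I.subscheme := s.isClosedEmbedding.compactSpace
  haveI : IsLocallyNoetherian I.subscheme := LocallyOfFiniteType.isLocallyNoetherian s
  haveI : AlgebraicGeometry.IsNoetherian I.subscheme := {}
  have hker : s.ker = divI Γ z := I.ker_subschemeι
  have hdeg : ∀ (n : ℕ) (i : Fin r) (g : (Γ i).curve.left ⟶ I.subscheme), g ≫ s = (Γ i).ι →
      0 ≤ degAlong (Γ i) g ((Scheme.Modules.pullback s).obj (ipow I n)) := fun n i g hg => by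
    rw [degAlong_comp (Γ i) hg]
    obtain ⟨q⟩ := nonempty_ipow_iso hI n
    haveI : IsProper ((Γ i).curve.left ↘ Spec (CommRingCat.of (IsLocalRing.ResidueField R))) := isProper_curve (Γ i)
    have h2 : degAlong (Γ i) (Γ i).ι (ipow I n) = degI (Γ i) (I ^ n) := by
      rw [degAlong, degI, Curv2.deg, Curv2.deg,
        CurveRR.euler_eq_of_iso ((Scheme.Modules.pullback (Γ i).ι).mapIso q)]
    rw [h2, hIdef, divI_smul, degI_divI hX]
    simp only [Nat.cast_mul, mul_assoc, ← Finset.mul_sum]
    have := mul_nonpos_of_nonneg_of_nonpos (Int.natCast_nonneg n) (hz i)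
    linarith
  have hall : ∀ n, Subsingleton (Coh.HH I.subscheme ((Scheme.Modules.pullback s).obj (ipow I n)) 1) ∧
      Curv2.IsGloballyGenerated ((Scheme.Modules.pullback s).obj (ipow I n)) := fun n =>
    h1_zero_and_gg hX Γ hinj s hker h1 (PicLoc.isInvertible_pullback s (isInvertible_ipow hI n)) (hdeg n)
  refine ⟨fun n => (hall n).1, ?_⟩
  have hinv : PicF.IsInvertible ((Scheme.Modules.pullback s).obj (ClSub.idealMod I)) :=
    PicLoc.isInvertible_pullback s ((S8914.result _).2 hI)
  let c : (Scheme.Modules.pullback s).obj (ipow I 1) ≅ (Scheme.Modules.pullback s).obj (ClSub.idealMod I) :=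
    (Scheme.Modules.pullback s).mapIso (SecTwist.unitorR (ClSub.idealMod I))
  have hgg : ∀ w : I.subscheme, ∃ t : Γ((Scheme.Modules.pullback s).obj (ClSub.idealMod I), ⊤),
      w ∈ CohB1.genLocus _ (homOf t) := fun w => by
    obtain ⟨ι, p, hp⟩ := (hall 1).2
    haveI := hp
    obtain ⟨D, g, hwD, hg⟩ := TMul.exists_isGen (PicLoc.isInvertible_pullback s (isInvertible_ipow hI 1)) w
    obtain ⟨t, W, hwW, -, htW⟩ := TMul.exists_isGen_of_epi_free (κ := ι) p hg hwD
    have ht : w ∈ CohB1.genLocus _ (homOf t) := TMul.le_genLocus _ (by rwa [TMul.val_homOf]) hwW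
    refine ⟨TMul.val (TMul.homOf t ≫ c.hom) ⊤, ?_⟩
    rw [homOf_val, TMul.genLocus_comp]
    exact ht
  -- the generic points of the components
  have hgi : ∀ i, ∃ w : I.subscheme, s w = (Γ i).ι (genericPoint (Γ i).curve.left) := fun i => by
    have : (Γ i).ι (genericPoint (Γ i).curve.left) ∈ (I.support : Set X.left) := by
      exact (support_divI Γ z).2 i (hz1 i) ⟨_, rfl⟩
    rw [← Scheme.IdealSheafData.range_subschemeι] at this
    exact this
  choose w hw using hgi
  refine exists_two_sections_gen (s ≫ X.hom) hinv hgg (Finset.univ.image w) fun O hO p hp => ?_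
  obtain ⟨i, u, hu⟩ : ∃ i u, (Γ i).ι u = s p := by
    have h : s p ∈ (I.support : Set X.left) := by rw [← Scheme.IdealSheafData.range_subschemeι]; exact ⟨p, rfl⟩
    exact Set.mem_iUnion.1 ((support_divI Γ z).1 h)
  haveI := (Γ i).isIntegral
  have hne : u ≠ genericPoint (Γ i).curve.left := fun h => hp (by
    rw [show p = w i from s.isEmbedding.injective (by rw [hw i, ← hu, h])]
    exact hO _ (Finset.mem_image_of_mem w (Finset.mem_univ i)))
  have h2 : IsClosed ({s p} : Set X.left) := by
    rw [← hu, ← Set.image_singleton]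
    exact (Γ i).ι.isClosedEmbedding.isClosedMap _ (isClosed_of_ne_genericPoint (Γ i).dim_eq.le hne)
  simpa [Set.preimage, s.isEmbedding.injective.eq_iff] using h2.preimage s.continuous

/-- The local ring modulo the powers of its maximal ideal gives the functions on the thickenings. -/
theorem length_quot_pow [Infinite (IsLocalRing.ResidueField R)]
    (hinj : Function.Injective fun i => Set.range (Γ i).ι)
    (hconn : _root_.IsConnected (⋃ i, Set.range (Γ i).ι))
    {z : Fin r → ℕ} (hz1 : ∀ i, 1 ≤ z i) (hz : ∀ i, ∑ j, (z j : ℤ) * interMat Γ i j ≤ 0)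
    (hmin : ∀ z' : Fin r → ℕ, (∀ i, 1 ≤ z' i) → (∀ i, ∑ j, (z' j : ℤ) * interMat Γ i j ≤ 0) → ∀ i, z i ≤ z' i)
    (h1 : Subsingleton (Coh.HH (divI Γ z).subscheme (Coh.structureModule (divI Γ z).subscheme) 1))
    {Y : Over (Spec (CommRingCat.of R))} (f : X ⟶ Y) [IsLocallyNoetherian Y.left] [IsProper f.left]
    (happ : ∀ V : Y.left.Opens, Function.Bijective (f.left.app V)) (y : Y.left)
    (hfib : f.left.base ⁻¹' {y} = ⋃ i, Set.range (Γ i).ι.base) (n : ℕ) (hn : 1 ≤ n) :
    letI : Algebra R (Y.left.presheaf.stalk y) := (Models.stalkHom R Y y).toAlgebra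
    letI := (toΓ X (divI Γ z ^ n)).toAlgebra
    Module.length R (Y.left.presheaf.stalk y ⧸ IsLocalRing.maximalIdeal (Y.left.presheaf.stalk y) ^ n) =
      Module.length R Γ((divI Γ z ^ n).subscheme, ⊤) := by
  haveI := isProper_hom_of_isArithSurface hX
  haveI : IsLocallyNoetherian X.left := LocallyOfFiniteType.isLocallyNoetherian X.hom
  haveI : CompactSpace X.left := QuasiCompact.compactSpace_of_compactSpace X.hom
  obtain ⟨hfield, -, -⟩ := goodH0_fundamental hX Γ hinj hconn hz1 hz hmin
  set I := divI Γ z with hIdef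
  obtain ⟨hH, σ, hσ⟩ := fund_facts hX Γ hinj hz1 hz h1
  have hI : BlowUp.IsEffCartierIdeal I := cartier_divI hX Γ z
  have hsupp : (I.support : Set X.left) = f.left.base ⁻¹' {y} := by
    rw [hfib]
    exact (support_divI Γ z).1.antisymm (Set.iUnion_subset fun i => (support_divI Γ z).2 i (hz1 i))
  let A := Y.left.presheaf.stalk y
  let j : Spec (CommRingCat.of A) ⟶ Y.left := Y.left.fromSpecStalk y
  haveI : Flat j := GrpField.flat_fromSpecStalk y
  haveI : IsPreimmersion j := inferInstanceAs (IsPreimmersion (Y.left.fromSpecStalk y))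
  haveI : IsNoetherianRing A := inferInstanceAs (IsNoetherianRing (Y.left.presheaf.stalk y))
  let X₁ := pullback j f.left
  letI : X₁.Over (Spec (CommRingCat.of A)) := ⟨pullback.fst j f.left⟩
  haveI : IsProper (X₁ ↘ Spec (CommRingCat.of A)) := inferInstanceAs (IsProper (pullback.fst j f.left))
  let v : X₁ ⟶ X.left := pullback.snd j f.left
  haveI : Flat v := inferInstanceAs (Flat (pullback.snd j f.left))
  haveI : IsPreimmersion v := inferInstanceAs (IsPreimmersion (pullback.snd j f.left))
  haveI : QuasiCompact j := inferInstanceAs (QuasiCompact (Y.left.fromSpecStalk y))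
  haveI : QuasiCompact v := inferInstanceAs (QuasiCompact (pullback.snd j f.left))
  haveI : IsLocallyNoetherian X₁ := LocallyOfFiniteType.isLocallyNoetherian (X₁ ↘ Spec (CommRingCat.of A))
  haveI : CompactSpace X₁ := QuasiCompact.compactSpace_of_compactSpace (X₁ ↘ Spec (CommRingCat.of A))
  haveI : AlgebraicGeometry.IsNoetherian X₁ := {}
  have hjy : j (IsLocalRing.closedPoint A) = y := Scheme.fromSpecStalk_closedPoint
  have hinjj : ∀ q, j q = y → q = IsLocalRing.closedPoint A := fun q hq =>
    j.isEmbedding.injective (hq.trans hjy.symm)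
  have hrange : ∀ K : X.left.IdealSheafData, (K.support : Set X.left) ⊆ f.left.base ⁻¹' {y} →
      (K.support : Set X.left) ⊆ Set.range v := fun K hK x hx => by
    obtain ⟨x₁, -, h₁⟩ := Scheme.Pullback.exists_preimage_pullback (f := j) (g := f.left) _ x
      (hjy.trans (hK hx).symm)
    exact ⟨x₁, h₁⟩
  have hI₁ : BlowUp.IsEffCartierIdeal (I.comap v) := BlowUpLib.cartier_comap_flat hI v
  have hfib₁ : ∀ x : X₁, (X₁ ↘ Spec (CommRingCat.of A)) x = IsLocalRing.closedPoint A ↔ x ∈ (I.comap v).support := by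
    intro x
    have hc : j (pullback.fst j f.left x) = f.left (v x) := by
      rw [← Scheme.Hom.comp_apply, ← Scheme.Hom.comp_apply]
      exact congrArg (fun φ : X₁ ⟶ Y.left => φ x) pullback.condition
    have hs : x ∈ (I.comap v).support ↔ f.left (v x) = y := by
      rw [← SetLike.mem_coe, Scheme.IdealSheafData.support_comap]
      change v x ∈ (I.support : Set X.left) ↔ _
      rw [hsupp]
      rfl
    rw [hs]
    exact ⟨fun h => hc.symm.trans ((congrArg j h).trans hjy), fun h => hinjj _ (hc.trans h)⟩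
  have hA : Function.Bijective (Coh.toGlobal (X₁ ↘ Spec (CommRingCat.of A))) := by
    have h1 := PurePair.bijective_app_of_flat_baseChange j f.left (fun V _ => happ V)
      (IsPullback.of_hasPullback j f.left) ⊤
    have h2 := Function.Bijective.comp h1
      (ConcreteCategory.bijective_of_isIso (Scheme.ΓSpecIso (CommRingCat.of A)).inv)
    rw [show Coh.toGlobal (X₁ ↘ Spec (CommRingCat.of A)) =
      ((pullback.fst j f.left).app ⊤).hom.comp (Scheme.ΓSpecIso (CommRingCat.of A)).inv.hom from rfl]
    exact h2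
  have hsupp₁ : (((ptIdeal A).comap (X₁ ↘ Spec (CommRingCat.of A))).support : Set X₁) = (I.comap v).support := by
    ext x
    rw [Scheme.IdealSheafData.support_comap]
    exact (mem_support_ptIdeal _).trans (hfib₁ x)
  obtain ⟨c, hc⟩ := exists_pow_le (I.comap v) ((ptIdeal A).comap (X₁ ↘ Spec (CommRingCat.of A))) hsupp₁.subset
  obtain ⟨e, he⟩ := exists_comap_iso v I (hrange I hsupp.subset)
  have hgr : ∀ m, Subsingleton (Coh.HH X₁ (CohB1.tensorMod (ClSub.quotMod (I.comap v)) (ipow (I.comap v) m)) 1) :=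
    fun m => by
      obtain ⟨i⟩ := nonempty_pullback_ipow v hI hI₁ m
      exact subsingleton_h1_quot_of_pullback _ (isInvertible_ipow hI₁ m)
        (CohQC.hh_subsingleton_of_iso (comapPullIso v I i e he) 1
          (TwistOverVan.subsingleton_hh_pullback_iso e.hom _
            (TMul.isQCoh_of_isInvertible (PicLoc.isInvertible_pullback _ (isInvertible_ipow hI m))) 1 (hH m)))
  obtain ⟨q⟩ := Nakai.nonempty_pullback_idealMod v hI hI₁
  obtain ⟨τ, hτ⟩ := exists_sections_transport e.hom
    (PicLoc.isInvertible_pullback _ ((S8914.result _).2 hI)) (comapPullIso v I q e he) σ hσ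
  have hfield₁ : IsField Γ((I.comap v).subscheme, ⊤) :=
    (RingEquiv.ofBijective e.hom.appTop.hom (ConcreteCategory.bijective_of_isIso e.hom.appTop)).symm.toMulEquiv.isField
      hfield
  obtain ⟨hsurj, hker⟩ := surjective_powRes_and_ker hA hI₁ hgr (fun x hx => (hfib₁ x).1 hx)
    (fun W => (hc W).trans (comap_ptIdeal W).le) hfield₁ τ hτ n hn
  have hsuppn : ((I ^ n).support : Set X.left) ⊆ f.left.base ⁻¹' {y} := by
    rw [Scheme.IdealSheafData.support_pow _ _ (by omega)]; exact hsupp.subset
  obtain ⟨en, hen⟩ : ∃ e : ((I.comap v) ^ n).subscheme ≅ (I ^ n).subscheme,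
      e.hom ≫ (I ^ n).subschemeι = ((I.comap v) ^ n).subschemeι ≫ v := by
    rw [← ThickSys.comap_pow]
    exact exists_comap_iso v (I ^ n) (hrange _ hsuppn)
  letI algA : Algebra R A := (Models.stalkHom R Y y).toAlgebra
  letI algT := (toΓ X (I ^ n)).toAlgebra
  let ρ : A →ₐ[R] Γ((I ^ n).subscheme, ⊤) :=
    { toRingHom := en.inv.appTop.hom.comp (powRes A (I.comap v) n)
      commutes' := fun a => by
        change en.inv.appTop (((I.comap v) ^ n).subschemeι.app ⊤
          (Coh.toGlobal (X₁ ↘ Spec (CommRingCat.of A)) (Models.stalkHom R Y y a))) = toΓ X (I ^ n) a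
        rw [toGlobal_fromSpecStalk]
        have hcomp : (en.inv ≫ ((I.comap v) ^ n).subschemeι) ≫ (X₁ ↘ Spec (CommRingCat.of A)) ≫ j ≫ Y.hom =
            (I ^ n).subschemeι ≫ X.hom := by
          have hstr : (X₁ ↘ Spec (CommRingCat.of A)) ≫ j ≫ Y.hom = v ≫ X.hom := by
            refine (Category.assoc _ _ _).symm.trans ((congrArg (· ≫ Y.hom) pullback.condition).trans ?_)
            exact (Category.assoc _ _ _).trans (congrArg (v ≫ ·) (Over.w f))
          rw [hstr, Category.assoc, ← Category.assoc (((I.comap v) ^ n).subschemeι), ← hen, Category.assoc,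
            en.inv_hom_id_assoc]
        rw [toΓ, ← hcomp]
        rfl }
  have hρ : Function.Surjective ρ :=
    (ConcreteCategory.bijective_of_isIso en.inv.appTop).2.comp hsurj
  have hρk : RingHom.ker ρ.toRingHom = IsLocalRing.maximalIdeal A ^ n := by
    rw [← hker]
    ext t
    rw [RingHom.mem_ker, RingHom.mem_ker]
    exact map_eq_zero_iff en.inv.appTop.hom (ConcreteCategory.bijective_of_isIso en.inv.appTop).1
  exact (((Ideal.quotientEquivAlgOfEq R hρk.symm).trans
    (Ideal.quotientKerAlgEquivOfSurjective hρ)).toLinearEquiv).length_eq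

/-- The Hilbert–Samuel function of the contracted point. -/
theorem hilbert_samuel [Infinite (IsLocalRing.ResidueField R)]
    (hinj : Function.Injective fun i => Set.range (Γ i).ι)
    (hconn : _root_.IsConnected (⋃ i, Set.range (Γ i).ι))
    {z : Fin r → ℕ} (hz1 : ∀ i, 1 ≤ z i) (hz : ∀ i, ∑ j, (z j : ℤ) * interMat Γ i j ≤ 0)
    (hmin : ∀ z' : Fin r → ℕ, (∀ i, 1 ≤ z' i) → (∀ i, ∑ j, (z' j : ℤ) * interMat Γ i j ≤ 0) → ∀ i, z i ≤ z' i)
    (hb : ∀ a : Fin r → ℕ, a ≠ 0 →
      Subsingleton (Coh.HH (divI Γ a).subscheme (Coh.structureModule (divI Γ a).subscheme) 1))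
    {Y : Over (Spec (CommRingCat.of R))} (f : X ⟶ Y) [IsLocallyNoetherian Y.left] [IsProper f.left]
    (happ : ∀ V : Y.left.Opens, Function.Bijective (f.left.app V)) (y : Y.left)
    (hfib : f.left.base ⁻¹' {y} = ⋃ i, Set.range (Γ i).ι.base) (n : ℕ) (hn : 1 ≤ n) :
    letI : Algebra R (Y.left.presheaf.stalk y) := (Models.stalkHom R Y y).toAlgebra
    Module.length R (Y.left.presheaf.stalk y ⧸ IsLocalRing.maximalIdeal (Y.left.presheaf.stalk y) ^ n) =
      (Models.lengthH R X (ClSub.quotMod (divI Γ fun j => n * z j)) 0 : ℕ∞) ∧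
    2 * (Models.lengthH R X (ClSub.quotMod (divI Γ fun j => n * z j)) 0 : ℤ) =
      -(n : ℤ) ^ 2 * ∑ i, ∑ j, (z i : ℤ) * z j * interMat Γ i j +
      n * ∑ i, (z i : ℤ) * (2 * ((Models.wdeg R X (Γ i) : ℤ) - Models.h1 R X (Γ i)) + interMat Γ i i) := by
  haveI := isProper_hom_of_isArithSurface hX
  obtain ⟨x₀, hx₀⟩ := hconn.nonempty
  obtain ⟨i₀, -⟩ := Set.mem_iUnion.1 hx₀
  have hnz : ∀ m : ℕ, 1 ≤ m → (fun j => m * z j) ≠ 0 := fun m hm h => by
    have := congrFun h i₀
    simp only [Pi.zero_apply, mul_eq_zero] at this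
    rcases this with h' | h'
    · omega
    · have := hz1 i₀; omega
  have h1 : Subsingleton (Coh.HH (divI Γ z).subscheme (Coh.structureModule (divI Γ z).subscheme) 1) :=
    hb z fun h => by have := hz1 i₀; rw [h] at this; simp at this
  obtain ⟨hfin, hchi⟩ := chiL_divI hX Γ hinj fun j => n * z j
  have hl1 : Models.lengthH R X (ClSub.quotMod (divI Γ fun j => n * z j)) 1 = 0 := by
    haveI := subsingleton_hh_push (divI Γ fun j => n * z j).subschemeι (QC.isQCoh_unit _) 1 (hb _ (hnz n hn))
    rw [Models.lengthH, Module.length_eq_zero]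
    rfl
  refine ⟨?_, ?_⟩
  · have h2 := length_quot_pow hX Γ hinj hconn hz1 hz hmin h1 f happ y hfib n hn
    rw [divI_smul] at h2
    refine h2.trans ((length_quot_zero _).symm.trans ?_)
    exact (ENat.coe_toNat (hfin 0).1).symm
  · rw [chiL, hl1, Nat.cast_zero, sub_zero] at hchi
    rw [hchi, Finset.mul_sum, Finset.mul_sum, ← Finset.sum_neg_distrib, ← Finset.sum_add_distrib,
      ← Finset.sum_add_distrib]
    refine Finset.sum_congr rfl fun i _ => ?_
    rw [← Finset.sum_neg_distrib]
    congr 1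
    · rw [Finset.mul_sum]; exact Finset.sum_congr rfl fun j _ => by push_cast; ring
    · push_cast; ring

end Groth.Agent.Castel
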