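import Groth.Agent.Castel.LocalVan

/-!
Functions on the thickenings of a contracted divisor over a local base.
-/

set_option autoImplicit false
set_option backward.isDefEq.respectTransparency false
set_option backward.isDefEq.respectTransparency.types false
set_option linter.style.haveILetI false

universe u

open CategoryTheory CategoryTheory.Limits AlgebraicGeometry TopologicalSpace Opposite
open Groth.Agent.QC (res resO resO_resO resO_self app_res res_smul res_self res_res)
open TMul (IsGen homOf val_homOf)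

noncomputable section

namespace Groth.Agent.Castel

variable {X : Scheme.{u}} {I : X.IdealSheafData}

/-- Sections of the ideal lifting two given sections without common zero. -/
theorem exists_sections' (hI : BlowUp.IsEffCartierIdeal I) (h : Subsingleton (Coh.HH X (ipow I 2) 1))
    (σ : Fin 2 → Γ((Scheme.Modules.pullback I.subschemeι).obj (ClSub.idealMod I), ⊤))
    (hgen : ∀ x, x ∈ CohB1.genLocus _ (homOf (σ 0)) ∨ x ∈ CohB1.genLocus _ (homOf (σ 1))) :
    ∃ l : Fin 2 → Γ(ClSub.idealMod I, ⊤),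
      ∀ z : I.subscheme, ∀ (V : X.Opens) (g : Γ(ClSub.idealMod I, V)) (c : Fin 2 → Γ(X, V))
        (hz : I.subschemeι z ∈ V), IsGen g → (∀ i, res (ClSub.idealMod I) le_top (l i) = c i • g) →
          ∃ i, IsUnit (X.presheaf.germ V _ hz (c i)) := by
  have hinv : PicF.IsInvertible (ClSub.idealMod I) := (S8914.result _).2 hI
  choose l hl using fun i => surjective_eta_ideal hI h (σ i)
  refine ⟨l, fun z V g c hz hg hc => ?_⟩
  obtain ⟨i, hi⟩ : ∃ i, z ∈ CohB1.genLocus _ (homOf (σ i)) := by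
    rcases hgen z with hp | hp
    · exact ⟨0, hp⟩
    · exact ⟨1, hp⟩
  refine ⟨i, (TMul.mem_genLocus_iff_isUnit (homOf (l i)) hg (c := c i) (by rw [val_homOf]; exact hc i) hz).1 ?_⟩
  change z ∈ I.subschemeι ⁻¹ᵁ CohB1.genLocus (ClSub.idealMod I) (homOf (l i))
  rw [← ProjMor.genLocus_pullSec I.subschemeι hinv (l i)]
  change z ∈ CohB1.genLocus _ (homOf (L := (Scheme.Modules.pullback I.subschemeι).obj (ClSub.idealMod I))
    (ProjMor.eta I.subschemeι (ClSub.idealMod I) ⊤ (l i)))
  rw [hl i]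
  exact hi

variable {A : Type u} [CommRing A] [IsNoetherianRing A] [IsLocalRing A] [X.Over (Spec (CommRingCat.of A))]

/-- Functions from the base on the `n`-th thickening. -/
abbrev powRes (A : Type u) [CommRing A] [X.Over (Spec (CommRingCat.of A))] (I : X.IdealSheafData) (n : ℕ) :
    A →+* Γ((I ^ n).subscheme, (I ^ n).subschemeι ⁻¹ᵁ ⊤) :=
  ((I ^ n).subschemeι.app ⊤).hom.comp (Coh.toGlobal (X ↘ Spec (CommRingCat.of A)))

/-- The functions on the `n`-th thickening are the base modulo `𝔪ⁿ`. -/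
theorem surjective_powRes_and_ker [IsProper (X ↘ Spec (CommRingCat.of A))]
    (hA : Function.Bijective (Coh.toGlobal (X ↘ Spec (CommRingCat.of A))))
    (hI : BlowUp.IsEffCartierIdeal I)
    (hgr : ∀ n, Subsingleton (Coh.HH X (CohB1.tensorMod (ClSub.quotMod I) (ipow I n)) 1))
    (hfib : ∀ x : X, (X ↘ Spec (CommRingCat.of A)) x = IsLocalRing.closedPoint A → x ∈ I.support)
    {c : ℕ} (hc : ∀ W : X.affineOpens, I.ideal W ^ c ≤ (IsLocalRing.maximalIdeal A).map (baseFun W.1))
    (hfield : IsField Γ(I.subscheme, ⊤))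
    (σ : Fin 2 → Γ((Scheme.Modules.pullback I.subschemeι).obj (ClSub.idealMod I), ⊤))
    (hgen : ∀ x, x ∈ CohB1.genLocus _ (homOf (σ 0)) ∨ x ∈ CohB1.genLocus _ (homOf (σ 1)))
    (n : ℕ) (hn : 1 ≤ n) :
    Function.Surjective (powRes A I n) ∧ RingHom.ker (powRes A I n) = IsLocalRing.maximalIdeal A ^ n := by
  haveI : IsLocallyNoetherian X := LocallyOfFiniteType.isLocallyNoetherian (X ↘ Spec (CommRingCat.of A))
  have hvan := subsingleton_h1_ipow' (A := A) hI hgr hc
  have hvan' : ∀ n, Subsingleton (Coh.HH X (ClSub.idealMod (I ^ n)) 1) := fun n => by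
    obtain ⟨e⟩ := nonempty_ipow_iso hI n
    exact CohQC.hh_subsingleton_of_iso e 1 (hvan n)
  set φ := Coh.toGlobal (X ↘ Spec (CommRingCat.of A)) with hφ
  have hsurj : ∀ n, Function.Surjective (powRes A I n) := fun n => by
    have h' := CohQC.hh_subsingleton_of_iso (SecTwist.unitorR (ClSub.idealMod (I ^ n))).symm 1 (hvan' n)
    intro z
    obtain ⟨w, hw⟩ := surjective_of_h1_ideal (I ^ n) h' z
    obtain ⟨t, rfl⟩ := hA.2 w
    exact ⟨t, hw⟩
  have hmem : ∀ n t, t ∈ RingHom.ker (powRes A I n) ↔ InId (I ^ n) (φ t) := fun n t =>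
    (inId_iff_app_eq_zero (I ^ n) (φ t)).symm
  have hone : RingHom.ker (powRes A I 1) = IsLocalRing.maximalIdeal A := by
    have hF : IsField Γ((I ^ 1).subscheme, (I ^ 1).subschemeι ⁻¹ᵁ ⊤) := by
      rw [pow_one]; exact hfield
    letI := hF.toField
    exact IsLocalRing.eq_maximalIdeal (RingHom.ker_isMaximal_of_surjective (powRes A I 1) (hsurj 1))
  have hm : ∀ t ∈ IsLocalRing.maximalIdeal A, InId I (φ t) := fun t ht => by
    rw [← hone, hmem, pow_one] at ht; exact ht
  obtain ⟨l, hlgen⟩ := exists_sections' hI (hvan 2) σ hgen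
  choose a ha using fun i => hA.2 ((ClSub.idealModι I).app ⊤ (l i))
  have hcov := genOpen_sup_eq_top hI hfib l (fun i => φ (a i)) ha hlgen
  have hJ : ∀ i, InId I (φ (a i)) := fun i => (inId_iff_mem_range I _).2 ⟨l i, (ha i).symm⟩
  have hmema : ∀ i, a i ∈ IsLocalRing.maximalIdeal A := fun i => by
    rw [← hone, hmem, pow_one]; exact hJ i
  have hle : ∀ n, IsLocalRing.maximalIdeal A ^ n ≤ RingHom.ker (powRes A I n) := fun n t ht => by
    rw [hmem]
    intro W hW
    rw [Scheme.IdealSheafData.ideal_pow]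
    have h1 : baseFun W.1 t ∈ (IsLocalRing.maximalIdeal A ^ n).map (baseFun W.1) := Ideal.mem_map_of_mem _ ht
    rw [Ideal.map_pow] at h1
    exact Ideal.pow_right_mono (show (IsLocalRing.maximalIdeal A).map (baseFun W.1) ≤ I.ideal W from
      Ideal.map_le_iff_le_comap.2 fun s hs => hm s hs W hW) n h1
  refine ⟨hsurj n, ?_⟩
  induction n, hn using Nat.le_induction with
  | base => exact hone.trans (pow_one _).symm
  | succ k hk ih =>
    obtain ⟨m, rfl⟩ : ∃ m, k = m + 1 := ⟨k - 1, by omega⟩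
    refine le_antisymm (fun t ht => ?_) (hle _)
    obtain ⟨u, v, hu, hv, huv⟩ := exists_pair_of_mem_pow I hI (φ (a 0)) (φ (a 1)) (φ t) m hcov (hJ 0) (hJ 1)
      ((hmem _ t).1 ht) (hvan' m)
    obtain ⟨p, rfl⟩ := hA.2 u
    obtain ⟨q, rfl⟩ := hA.2 v
    have hp : p ∈ IsLocalRing.maximalIdeal A ^ (m + 1) := ih ▸ (hmem _ p).2 hu
    have hq : q ∈ IsLocalRing.maximalIdeal A ^ (m + 1) := ih ▸ (hmem _ q).2 hv
    have huv' : φ t = φ (p * a 0 + q * a 1) := by
      rw [huv]; exact ((map_add φ _ _).trans (congrArg₂ (· + ·) (map_mul φ _ _) (map_mul φ _ _))).symm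
    rw [hA.1 huv', pow_succ _ (m + 1)]
    exact add_mem (Ideal.mul_mem_mul hp (hmema 0)) (Ideal.mul_mem_mul hq (hmema 1))

end Groth.Agent.Castel
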