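import Groth.Agent.Castel.Line
import Groth.Agent.W7Rees.Main
import Groth.Agent.W7Hull.AmpleSurj
import Groth.Agent.CohFinite.Proper
import Groth.Agent.CurveRR.GlobGen
import Groth.Agent.TwistOverVan.Basic
import Groth.Agent.TMul.Pullback
import Groth.Agent.PtBlow.LineSign

/-!
Vanishing of the first cohomology of the powers of the ideal of an exceptional line over a local base.
-/

set_option autoImplicit false
set_option backward.isDefEq.respectTransparency false
set_option backward.isDefEq.respectTransparency.types false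
set_option linter.style.haveILetI false

universe u

open CategoryTheory CategoryTheory.Limits AlgebraicGeometry TopologicalSpace Opposite
open Groth.Agent.QC (res resO resO_resO resO_self app_res res_smul res_self res_res)
open Groth.Agent.CohFinite (tmap tmap_tm shortExact_tmap)
open Groth.Agent.W7Rees (hm qπ)
open TMul (tm)

noncomputable section

namespace Groth.Agent.Castel

variable {X : Scheme.{u}}

/-- The tensor powers of an ideal sheaf. -/
def ipow (I : X.IdealSheafData) : ℕ → X.Modules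
  | 0 => Coh.structureModule X
  | n + 1 => CohB1.tensorMod (ClSub.idealMod I) (ipow I n)

theorem isInvertible_ipow {I : X.IdealSheafData} (hI : BlowUp.IsEffCartierIdeal I) :
    ∀ n, PicF.IsInvertible (ipow I n)
  | 0 => TMul.isInvertible_structureModule
  | n + 1 => TMul.isInvertible_tensorMod ((S8914.result I).2 hI) (isInvertible_ipow hI n)

/-- The inclusion of higher into lower powers. -/
def incl (I : X.IdealSheafData) (n : ℕ) : ∀ j, ipow I (n + j) ⟶ ipow I n
  | 0 => 𝟙 _
  | j + 1 => CurveRR.idealIncl I (ipow I (n + j)) ≫ incl I n j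

variable {k : Type u} [Field k]

theorem pullback_ipow (ι₀ : CohB1.ProjSpace 1 k ⟶ X) {I : X.IdealSheafData}
    {m : ℤ} (e : (Scheme.Modules.pullback ι₀).obj (ClSub.idealMod I) ≅ Twist.twistProjSpace 1 k m) :
    ∀ n : ℕ, Nonempty ((Scheme.Modules.pullback ι₀).obj (ipow I n) ≅ Twist.twistProjSpace 1 k (m * n))
  | 0 => by
    obtain ⟨t⟩ := Horrocks.Om_zero (k := k) (d := 1)
    exact ⟨PicLoc.pullbackStructureIso ι₀ ≪≫ t.symm ≪≫ eqToIso (by simp)⟩
  | n + 1 => by
    obtain ⟨e'⟩ := pullback_ipow ι₀ e n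
    obtain ⟨t⟩ := PtBlow.Line.tensor_twist (k := k) m (m * n) (m * ((n + 1 : ℕ) : ℤ)) (by push_cast; ring)
    obtain ⟨p⟩ := TMul.nonempty_pullTensorIso ι₀ (ClSub.idealMod I) (ipow I n)
    exact ⟨p.symm ≪≫ PicGrp.tensorModIso e e' ≪≫ t⟩

/-- The graded pieces have no first cohomology. -/
theorem subsingleton_h1_quot [IsLocallyNoetherian X] {I : X.IdealSheafData} (hI : BlowUp.IsEffCartierIdeal I)
    (ι₀ : CohB1.ProjSpace 1 k ⟶ X) [IsClosedImmersion ι₀] (hker : ι₀.ker = I)
    {m : ℤ} (hm0 : 0 ≤ m) (e : (Scheme.Modules.pullback ι₀).obj (ClSub.idealMod I) ≅ Twist.twistProjSpace 1 k m) (n : ℕ) :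
    Subsingleton (Coh.HH X (CohB1.tensorMod (ClSub.quotMod I) (ipow I n)) 1) := by
  subst hker
  let s := ι₀.ker.subschemeι
  haveI : IsIso ι₀.toImage := inferInstance
  have hfac : inv ι₀.toImage ≫ ι₀ = s := (IsIso.inv_comp_eq _).2 ι₀.toImage_imageι.symm
  obtain ⟨e'⟩ := pullback_ipow ι₀ e n
  haveI := W7Hull.isIso_projMap_of_invertible s (Coh.structureModule _) (isInvertible_ipow hI n)
  have hq : Coh.IsQCoh ((Scheme.Modules.pullback s).obj (ipow ι₀.ker n)) :=
    TMul.isQCoh_of_isInvertible (PicLoc.isInvertible_pullback s (isInvertible_ipow hI n))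
  have h1 : Subsingleton (Coh.HH ι₀.ker.subscheme ((Scheme.Modules.pullback s).obj (ipow ι₀.ker n)) 1) := by
    refine CohQC.hh_subsingleton_of_iso ?_ 1 (TwistOverVan.subsingleton_hh_pullback_iso (inv ι₀.toImage) _
      (TMul.isQCoh_of_isInvertible (CohFinite.isInvertible_twist 1 k (m * n))) 1
      (subsingleton_h1_twist k _ ((by norm_num : (-1 : ℤ) ≤ 0).trans (mul_nonneg hm0 (Int.natCast_nonneg n)))))
    exact ((Scheme.Modules.pullbackCongr hfac.symm).app (ipow ι₀.ker n) ≪≫
      ((Scheme.Modules.pullbackComp (inv ι₀.toImage) ι₀).app (ipow ι₀.ker n)).symm ≪≫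
      (Scheme.Modules.pullback (inv ι₀.toImage)).mapIso e').symm
  let T := CohB1.tensorMod (Coh.structureModule ι₀.ker.subscheme) ((Scheme.Modules.pullback s).obj (ipow ι₀.ker n))
  haveI : Coh.IsQCoh T := TMul.isQCoh_of_isInvertible (TMul.isInvertible_tensorMod
    TMul.isInvertible_structureModule (PicLoc.isInvertible_pullback s (isInvertible_ipow hI n)))
  have h2 : Subsingleton (Coh.HH ι₀.ker.subscheme T 1) :=
    CohQC.hh_subsingleton_of_iso (TMul.leftUnitIso _).symm 1 h1
  obtain ⟨ψ⟩ := Groth.Agent.S0012.result s T 1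
  exact CohQC.hh_subsingleton_of_iso (asIso (CohFinite.projMap s (Coh.structureModule _) (ipow ι₀.ker n))).symm 1
    ψ.symm.toEquiv.subsingleton

theorem surjective_h1_idealIncl [IsLocallyNoetherian X] {I : X.IdealSheafData} (hI : BlowUp.IsEffCartierIdeal I)
    (ι₀ : CohB1.ProjSpace 1 k ⟶ X) [IsClosedImmersion ι₀] (hker : ι₀.ker = I)
    {m : ℤ} (hm0 : 0 ≤ m) (e : (Scheme.Modules.pullback ι₀).obj (ClSub.idealMod I) ≅ Twist.twistProjSpace 1 k m) (n : ℕ) :
    Function.Surjective (hm (CurveRR.idealIncl I (ipow I n)) 1) := by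
  intro x
  have hS := shortExact_tmap (isInvertible_ipow hI n) (CurveRR.ideal_shortExact I)
  have hT := hS.map_of_exact (CohQC.toAbF X)
  have h3 := subsingleton_h1_quot hI ι₀ hker hm0 e n
  let u := TMul.leftUnitIso (ipow I n)
  obtain ⟨y, hy⟩ := (CohFinite.map_g_eq_zero_iff hT 1 (hm u.inv 1 x)).1 (@Subsingleton.elim _ h3 _ _)
  refine ⟨y, (W7Rees.hm_comp (tmap (ClSub.idealModι I) (ipow I n)) u.hom 1 y).trans ?_⟩
  rw [show hm (tmap (ClSub.idealModι I) (ipow I n)) 1 y = hm u.inv 1 x from hy]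
  refine (W7Rees.hm_comp u.inv u.hom 1 x).symm.trans ?_
  rw [u.inv_hom_id]
  exact (congrArg (fun φ => Sheaf.H.map φ 1 x) (CategoryTheory.Functor.map_id _ _)).trans (Sheaf.H.map_id_apply _)

variable {A : Type u} [CommRing A] [X.Over (Spec (CommRingCat.of A))]

/-- functions from the base on an open -/
def baseFun (W : X.Opens) : A →+* Γ(X, W) :=
  (resO X (le_top : W ≤ ⊤)).comp (Coh.toGlobal (X ↘ Spec (CommRingCat.of A)))

theorem smul_mem_ker (G : X.Modules) (J : Ideal A) (W : X.Opens) (s : Γ(G, W)) {a : Γ(X, W)}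
    (ha : a ∈ J.map (baseFun W)) : (qπ G J).app W (a • s) = 0 := by
  induction ha using Submodule.span_induction generalizing s with
  | mem x hx =>
    obtain ⟨b, hb, rfl⟩ := hx
    have h0 : Formal.smulMod A G b ≫ qπ G J = 0 := by
      have h1 : Sigma.ι (fun _ : J => G) ⟨b, hb⟩ ≫ Formal.smulFamily J G = Formal.smulMod A G b :=
        Sigma.ι_desc _ _
      rw [← h1, Category.assoc, cokernel.condition, comp_zero]
    exact (ConcreteCategory.congr_hom (congrArg (fun φ => Scheme.Modules.Hom.app φ W) h0) s)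
  | zero => rw [zero_smul, map_zero]
  | add x y _ _ hx hy => rw [add_smul, map_add, hx, hy, add_zero]
  | smul c x _ hx => rw [smul_eq_mul, mul_comm, mul_smul]; exact hx _

theorem incl_comp_qπ {I : X.IdealSheafData} (hI : BlowUp.IsEffCartierIdeal I) (n : ℕ) :
    ∀ (j : ℕ) (J : Ideal A), (∀ W : X.affineOpens, I.ideal W ^ j ≤ J.map (baseFun W.1)) →
      incl I n j ≫ qπ (ipow I n) J = 0 := by
  intro j
  have key : ∀ (U : X.Opens) (s : Γ(ipow I (n + j), U)), ∀ x ∈ U, ∃ (W : X.affineOpens) (hW : W.1 ≤ U),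
      x ∈ W.1 ∧ res (ipow I n) hW ((incl I n j).app U s) ∈ (I.ideal W ^ j) • (⊤ : Submodule Γ(X, W.1) Γ(ipow I n, W.1)) := by
    induction j with
    | zero =>
      intro U s x hx
      obtain ⟨W, hW, hxW, hle⟩ := exists_isAffineOpen_mem_and_subset hx
      exact ⟨⟨W, hW⟩, hle, hxW, by rw [pow_zero, one_smul]; trivial⟩
    | succ j ih =>
      intro U s x hx
      obtain ⟨V, hV, e, hxV, he⟩ := CohFinite.exists_gen_le (isInvertible_ipow hI (n + j)) hx
      obtain ⟨a, ha⟩ := (TMul.tm_bijective (M := ClSub.idealMod I) he V le_rfl).2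
        (res (ipow I (n + j + 1)) hV s)
      simp only [res_self] at ha
      obtain ⟨W, hWV, hxW, hmem⟩ := ih V e x hxV
      refine ⟨W, hWV.trans hV, hxW, ?_⟩
      have hval : res (ipow I n) (hWV.trans hV) ((incl I n (j + 1)).app U s) =
          HSMul.hSMul (α := Γ(X, W.1)) (resO X hWV ((ClSub.idealModι I).app V a))
            (res (ipow I n) hWV ((incl I n j).app V e)) := by
        have h4 : (incl I n (j + 1)).app V (res (ipow I (n + j + 1)) hV s) =
            HSMul.hSMul (α := Γ(X, V)) ((ClSub.idealModι I).app V a) ((incl I n j).app V e) := by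
          rw [← ha]
          exact (congrArg ((incl I n j).app V) (CurveRR.idealIncl_tm I a e)).trans
            (Scheme.Modules.Hom.app_smul _ _ _)
        rw [← res_smul, ← h4, ← res_res _ hWV hV]
        exact congrArg _ (app_res (incl I n (j + 1)) hV s)
      rw [hval, pow_succ', Submodule.mul_smul]
      refine Submodule.smul_mem_smul ?_ hmem
      exact (Groth.Agent.QC.mem_range_idealModι_affine I W _).1
        ⟨res (ClSub.idealMod I) hWV a, (app_res _ _ _).symm⟩
  intro J hJ
  refine Scheme.Modules.hom_ext _ _ fun U => ?_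
  ext s
  refine Groth.Agent.QC.section_eq_of_locally fun x hx => ?_
  obtain ⟨W, hW, hxW, hmem⟩ := key U s x hx
  refine ⟨W.1, hW, hxW, Eq.trans ?_ (map_zero (res _ hW)).symm⟩
  refine (app_res (qπ (ipow I n) J) hW _).trans ?_
  refine Submodule.smul_induction_on (p := fun t => (qπ (ipow I n) J).app W.1 t = 0) hmem
    (fun a ha t _ => smul_mem_ker _ J W.1 t (hJ W ha)) fun a b ha hb => ?_
  rw [map_add, ha, hb, add_zero]

/-- The first cohomology of every power vanishes over a local base. -/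
theorem subsingleton_h1_ipow [IsNoetherianRing A] [IsLocalRing A] [IsProper (X ↘ Spec (CommRingCat.of A))]
    {I : X.IdealSheafData} (hI : BlowUp.IsEffCartierIdeal I)
    (ι₀ : CohB1.ProjSpace 1 k ⟶ X) [IsClosedImmersion ι₀] (hker : ι₀.ker = I)
    {m : ℤ} (hm0 : 0 ≤ m) (e : (Scheme.Modules.pullback ι₀).obj (ClSub.idealMod I) ≅ Twist.twistProjSpace 1 k m)
    {c : ℕ} (hc : ∀ W : X.affineOpens, I.ideal W ^ c ≤ (IsLocalRing.maximalIdeal A).map (baseFun W.1))
    (n : ℕ) : Subsingleton (Coh.HH X (ipow I n) 1) := by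
  haveI : IsLocallyNoetherian X := LocallyOfFiniteType.isLocallyNoetherian (X ↘ Spec (CommRingCat.of A))
  set 𝔪 := IsLocalRing.maximalIdeal A with hmdef
  have hF : Coh.IsCoh (ipow I n) := ⟨TMul.isQCoh_of_isInvertible (isInvertible_ipow hI n),
    TMul.isFT_of_isInvertible (isInvertible_ipow hI n)⟩
  haveI := CohFinite.finite_proper (A := A) X (ipow I n) hF 1
  have hsurj : ∀ j, Function.Surjective (hm (incl I n j) 1) := by
    intro j
    induction j with
    | zero =>
      exact fun x => ⟨x, (congrArg (fun φ => Sheaf.H.map φ 1 x) (CategoryTheory.Functor.map_id _ _)).trans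
        (Sheaf.H.map_id_apply _)⟩
    | succ j ih =>
      intro x
      obtain ⟨y, rfl⟩ := ih x
      obtain ⟨z, rfl⟩ := surjective_h1_idealIncl hI ι₀ hker hm0 e (n + j) y
      exact ⟨z, (W7Rees.hm_comp _ _ 1 z).symm.symm⟩
  obtain ⟨d, hd⟩ := W7Rees.exists_ker_le_pow 𝔪 hF 1
  have htop : (⊤ : Submodule A (Coh.HH X (ipow I n) 1)) ≤ 𝔪 • ⊤ := by
    intro x _
    obtain ⟨y, rfl⟩ := hsurj (c * (1 + d)) x
    have h0 : hm (qπ (ipow I n) (𝔪 ^ (1 + d))) 1 (hm (incl I n (c * (1 + d))) 1 y) = 0 := by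
      refine (W7Rees.hm_comp _ _ 1 y).symm.trans ?_
      rw [incl_comp_qπ hI n (c * (1 + d)) (𝔪 ^ (1 + d)) fun W => by
        rw [Ideal.map_pow, pow_mul]; exact Ideal.pow_right_mono (hc W) _]
      refine (congrArg (fun φ => Sheaf.H.map φ 1 y) (Functor.map_zero _ _ _)).trans ?_
      change Abelian.Ext.comp y (Abelian.Ext.mk₀ 0) (add_zero 1) = 0
      rw [Abelian.Ext.mk₀_zero, Abelian.Ext.comp_zero]
    have h1 := hd _ _ h0
    rwa [show 1 + d - d = 1 by omega, pow_one] at h1
  have hbot : (⊤ : Submodule A (Coh.HH X (ipow I n) 1)) = ⊥ :=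
    Submodule.eq_bot_of_le_smul_of_le_jacobson_bot 𝔪 ⊤ Module.Finite.fg_top htop
      (IsLocalRing.maximalIdeal_le_jacobson ⊥)
  exact ⟨fun a b => ((Submodule.eq_bot_iff _).1 hbot a trivial).trans ((Submodule.eq_bot_iff _).1 hbot b trivial).symm⟩

end Groth.Agent.Castel
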