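import Groth.Agent.Castel.Split
import Groth.Agent.Castel.Vanish
import Groth.Agent.SymAlg.BundleMap
import Groth.Agent.FpqcDescent.IdealGlue
import Mathlib.AlgebraicGeometry.Morphisms.Proper

/-!
Two functions generating the maximal ideal and the ideal of the exceptional line.
-/

set_option autoImplicit false
set_option backward.isDefEq.respectTransparency false
set_option backward.isDefEq.respectTransparency.types false
set_option linter.style.haveILetI false

universe u

open CategoryTheory CategoryTheory.Limits AlgebraicGeometry TopologicalSpace Opposite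
open Groth.Agent.QC (res resO resO_resO resO_self app_res res_smul res_self res_res)
open Groth.Agent.CohFinite (tmap tmap_tm shortExact_tmap)
open TMul (tm IsGen val homOf val_homOf)

noncomputable section

namespace Groth.Agent.Castel

variable {X : Scheme.{u}}

/-- The inverse image of sections along an isomorphism is surjective. -/
theorem surjective_eta_iso {Z W : Scheme.{u}} (β : Z ⟶ W) [IsIso β] (P : W.Modules) (U : W.Opens) :
    Function.Surjective (ProjMor.eta β P U) := by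
  haveI : (Scheme.Modules.pullback β).IsEquivalence :=
    (CategoryTheory.Equivalence.mk (Scheme.Modules.pullback β) (Scheme.Modules.pullback (inv β))
      ((Scheme.Modules.pullbackId W).symm ≪≫ Scheme.Modules.pullbackCongr (IsIso.inv_hom_id β).symm ≪≫
        (Scheme.Modules.pullbackComp (inv β) β).symm)
      (Scheme.Modules.pullbackComp β (inv β) ≪≫ Scheme.Modules.pullbackCongr (IsIso.hom_inv_id β) ≪≫
        Scheme.Modules.pullbackId Z)).isEquivalence_functor
  haveI : IsIso ((Scheme.Modules.pullbackPushforwardAdjunction β).unit.app P) :=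
    haveI := (Scheme.Modules.pullbackPushforwardAdjunction β).unit_isIso_of_L_fully_faithful
    inferInstance
  intro t
  refine ⟨(inv ((Scheme.Modules.pullbackPushforwardAdjunction β).unit.app P)).app U t, ?_⟩
  exact ConcreteCategory.congr_hom (congrArg (fun φ => Scheme.Modules.Hom.app φ U)
    (IsIso.inv_hom_id ((Scheme.Modules.pullbackPushforwardAdjunction β).unit.app P))) t

/-- Vanishing of `H¹` of the kernel lifts global sections. -/
theorem surjective_app_top {T : TopCat.{u}} {S : ShortComplex (CohTop.Ab T)} (hS : S.ShortExact)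
    (h : Subsingleton (Sheaf.H S.X₁ 1)) (z : S.X₃.obj.obj (op ⊤)) :
    ∃ w, S.g.hom.app (op (⊤ : Opens T)) w = z := by
  have hU : Subsingleton (CohSite.HU S.X₁ 1 (⊤ : Opens T)) :=
    (SiteCoh.huTerminalEquiv (Opens.grothendieckTopology T) isTerminalTop S.X₁ 1).symm.toEquiv.subsingleton_congr.2 h
  let φ := (SiteCoh.secEquiv (⊤ : Opens T) S.X₃).symm z
  have h0 : (Abelian.Ext.mk₀ φ).comp hS.extClass (zero_add 1) = 0 :=
    @Subsingleton.elim (Abelian.Ext (CohCx.freeSheaf (Opens.grothendieckTopology T) (⊤ : Opens T)) S.X₁ 1) hU _ _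
  obtain ⟨x₂, hx₂⟩ := Abelian.Ext.covariant_sequence_exact₃ _ hS (Abelian.Ext.mk₀ φ) (zero_add 1) h0
  obtain ⟨ψ, rfl⟩ := (Abelian.Ext.mk₀_bijective _ _).2 x₂
  rw [Abelian.Ext.mk₀_comp_mk₀] at hx₂
  have hψ : ψ ≫ S.g = φ := (Abelian.Ext.mk₀_bijective _ _).1 hx₂
  refine ⟨SiteCoh.secEquiv (⊤ : Opens T) S.X₂ ψ, ?_⟩
  rw [← SiteCoh.secEquiv_comp, hψ]
  exact AddEquiv.apply_symm_apply _ z

/-- A function lies in an ideal sheaf iff it does so locally. -/
theorem mem_ideal_of_locally (J : X.IdealSheafData) (W : X.affineOpens) (t : Γ(X, W.1))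
    (h : ∀ x ∈ W.1, ∃ (V : X.affineOpens) (hV : V.1 ≤ W.1), x ∈ V.1 ∧ resO X hV t ∈ J.ideal V) :
    t ∈ J.ideal W := by
  refine (Groth.Agent.QC.mem_range_idealModι_affine J W t).1 ?_
  refine SiteCoh.sections_exact (CohFinite.shortExact_toAb (CurveRR.ideal_shortExact J)) W.1 t
    (Groth.Agent.QC.section_eq_of_locally fun x hx => ?_)
  obtain ⟨V, hV, hxV, hmem⟩ := h x hx
  obtain ⟨a, ha⟩ := (Groth.Agent.QC.mem_range_idealModι_affine J V _).2 hmem
  refine ⟨V.1, hV, hxV, ?_⟩
  change res (ClSub.quotMod J) hV ((ClSub.toSubscheme J).app W.1 t) = res (ClSub.quotMod J) hV 0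
  rw [map_zero]
  refine (app_res (ClSub.toSubscheme J) hV t).trans ?_
  rw [show res (Coh.structureModule X) hV t = (ClSub.idealModι J).app V.1 a from ha.symm]
  exact ConcreteCategory.congr_hom (congrArg (fun φ => Scheme.Modules.Hom.app φ V.1)
    (kernel.condition (ClSub.toSubscheme J))) a

/-- The structure map on global sections is surjective when the ideal has no `H¹`. -/
theorem surjective_of_h1_ideal (J : X.IdealSheafData)
    (h : Subsingleton (Coh.HH X (CohB1.tensorMod (ClSub.idealMod J) (Coh.structureModule X)) 1)) :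
    Function.Surjective (J.subschemeι.app ⊤) := by
  intro z
  have hS := (CurveRR.ideal_shortExact J).map_of_exact (CohQC.toAbF X)
  have h' : Subsingleton (Coh.HH X (ClSub.idealMod J) 1) :=
    CohQC.hh_subsingleton_of_iso (SecTwist.unitorR _) 1 h
  obtain ⟨w, hw⟩ := surjective_app_top hS h' z
  exact ⟨w, hw⟩

variable {k : Type u} [Field k] {I : X.IdealSheafData}

/-- Inverse image of sections of the ideal is surjective on global sections. -/
theorem surjective_eta_ideal (hI : BlowUp.IsEffCartierIdeal I)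
    (h : Subsingleton (Coh.HH X (ipow I 2) 1)) :
    Function.Surjective (ProjMor.eta I.subschemeι (ClSub.idealMod I) ⊤) := by
  set G := ClSub.idealMod I with hG
  have hinv : PicF.IsInvertible G := (S8914.result I).2 hI
  haveI := W7Hull.isIso_projMap_of_invertible I.subschemeι (Coh.structureModule I.subscheme) hinv
  set s := I.subschemeι with hs
  have h' : Subsingleton (Coh.HH X (CohB1.tensorMod (ClSub.idealMod I) G) 1) :=
    CohQC.hh_subsingleton_of_iso (PicGrp.tensorModIso (Iso.refl _) (SecTwist.unitorR G)) 1 h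
  have hS := (shortExact_tmap hinv (CurveRR.ideal_shortExact I)).map_of_exact (CohQC.toAbF X)
  intro z
  let y := (inv (CohFinite.projMap s (Coh.structureModule I.subscheme) G)).app ⊤
    (tm (M := Coh.structureModule I.subscheme) (1 : Γ(I.subscheme, ⊤)) z)
  obtain ⟨w, hw⟩ := surjective_app_top hS h' y
  refine ⟨(TMul.leftUnitIso G).hom.app ⊤ w, ?_⟩
  set l := (TMul.leftUnitIso G).hom.app ⊤ w with hl
  have hwl : w = tm (M := Coh.structureModule X) (1 : Γ(X, ⊤)) l := by
    have h1 : (TMul.leftUnitIso G).hom.app ⊤ w =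
        (TMul.leftUnitIso G).hom.app ⊤ (tm (M := Coh.structureModule X) (1 : Γ(X, ⊤)) l) := by
      rw [CurveRR.leftUnitIso_tm, one_smul]
    exact (ConcreteCategory.bijective_of_isIso ((TMul.leftUnitIso G).hom.app ⊤)).1 h1
  have h2 := congrArg ((CohFinite.projMap s (Coh.structureModule I.subscheme) G).app ⊤) hw
  have h3 : (CohFinite.projMap s (Coh.structureModule I.subscheme) G).app ⊤ y =
      tm (M := Coh.structureModule I.subscheme) (1 : Γ(I.subscheme, ⊤)) z :=
    ConcreteCategory.congr_hom (congrArg (fun φ => Scheme.Modules.Hom.app φ ⊤)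
      (IsIso.inv_hom_id (CohFinite.projMap s (Coh.structureModule I.subscheme) G))) _
  rw [hwl] at h2
  have h4 := h2.trans h3
  change (CohFinite.projMap s (Coh.structureModule I.subscheme) G).app ⊤
    ((tmap (ClSub.toSubscheme I) G).app ⊤ (tm (M := Coh.structureModule X) (1 : Γ(X, ⊤)) l)) = _ at h4
  rw [tmap_tm] at h4
  have h5 := (CohFinite.projMap_tm s (Coh.structureModule I.subscheme) G (U := ⊤) _ l).symm.trans h4
  have h6 := congrArg ((TMul.leftUnitIso ((Scheme.Modules.pullback s).obj G)).hom.app (s ⁻¹ᵁ ⊤)) h5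
  rw [CurveRR.leftUnitIso_tm] at h6
  erw [CurveRR.leftUnitIso_tm] at h6
  rw [one_smul, show (ClSub.toSubscheme I).app ⊤ (1 : Γ(X, ⊤)) = s.app ⊤ 1 from rfl, map_one, one_smul] at h6
  exact h6

/-- Two sections of the ideal restricting to given sections without common zero generate near the curve. -/
theorem exists_sections {β : I.subscheme ⟶ CohB1.ProjSpace 1 k} (hI : BlowUp.IsEffCartierIdeal I) (h : Subsingleton (Coh.HH X (ipow I 2) 1))
    {m : ℤ} (e' : (Scheme.Modules.pullback I.subschemeι).obj (ClSub.idealMod I) ≅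
      (Scheme.Modules.pullback β).obj (Twist.twistProjSpace 1 k m))
    (σ : Fin 2 → Γ(Twist.twistProjSpace 1 k m, ⊤))
    (hgen : ∀ x, x ∈ CohB1.genLocus _ (homOf (σ 0)) ∨ x ∈ CohB1.genLocus _ (homOf (σ 1))) :
    ∃ l : Fin 2 → Γ(ClSub.idealMod I, ⊤),
      (∀ i, ProjMor.eta I.subschemeι _ ⊤ (l i) = (SymAlg.pullθ β e').app ⊤ (σ i)) ∧
      ∀ z : I.subscheme, ∀ (V : X.Opens) (g : Γ(ClSub.idealMod I, V)) (c : Fin 2 → Γ(X, V))
        (hz : I.subschemeι z ∈ V), IsGen g → (∀ i, res (ClSub.idealMod I) le_top (l i) = c i • g) →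
          ∃ i, IsUnit (X.presheaf.germ V _ hz (c i)) := by
  let s := I.subschemeι
  let G := ClSub.idealMod I
  have hinv : PicF.IsInvertible G := (S8914.result _).2 hI
  have hGq : Coh.IsQCoh G := TMul.isQCoh_of_isInvertible hinv
  have hT := CohFinite.isInvertible_twist 1 k m
  have hTq : Coh.IsQCoh (Twist.twistProjSpace 1 k m) := TMul.isQCoh_of_isInvertible hT
  let M := (Scheme.Modules.pullback s).obj G
  have hM : PicF.IsInvertible M := PicLoc.isInvertible_pullback s hinv
  let θ := SymAlg.pullθ β e'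
  choose l hl using fun i => surjective_eta_ideal hI h
    (show Γ(M, s ⁻¹ᵁ ⊤) from θ.app ⊤ (σ i))
  refine ⟨l, fun i => hl i, fun z V g c hz hg hc => ?_⟩
  obtain ⟨i, hi⟩ : ∃ i, β z ∈ CohB1.genLocus _ (homOf (σ i)) := by
    rcases hgen (β z) with hp | hp
    · exact ⟨0, hp⟩
    · exact ⟨1, hp⟩
  obtain ⟨D, gT, hzD, hgT⟩ := TMul.exists_isGen (hT) (β z)
  obtain ⟨d, hd⟩ := (hgT D le_rfl).2 (res _ le_top (σ i))
  simp only [res_self] at hd
  have hdu : IsUnit ((CohB1.ProjSpace 1 k).presheaf.germ D (β z) hzD d) :=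
    (TMul.mem_genLocus_iff_isUnit (homOf (σ i)) hgT (c := d) (by rw [val_homOf]; exact hd.symm) hzD).1 hi
  let O : I.subscheme.Opens := s ⁻¹ᵁ V ⊓ β ⁻¹ᵁ D
  have hzO : z ∈ O := ⟨hz, hzD⟩
  have hg' := SymAlg.isGen_pullθ s (Iso.refl M) hM hGq g hg
  have hgT' := SymAlg.isGen_pullθ β e' hM hTq gT hgT
  set γ : Γ(M, O) := res M inf_le_left (show Γ(M, s ⁻¹ᵁ V) from (SymAlg.pullθ s (Iso.refl M)).app V g) with hγ
  set δ : Γ(M, O) := res M inf_le_right (show Γ(M, β ⁻¹ᵁ D) from θ.app D gT) with hδ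
  have hδgen : IsGen δ := hgT'.res _
  obtain ⟨u, hu⟩ := (hδgen O le_rfl).2 γ
  simp only [res_self] at hu
  have e1 : res M (le_top : O ≤ ⊤) (show Γ(M, s ⁻¹ᵁ ⊤) from ProjMor.eta s G ⊤ (l i)) =
      resO _ (inf_le_left : O ≤ s ⁻¹ᵁ V) (s.app V (c i)) • γ := by
    rw [hγ, ← res_smul]
    have h1 : res M (s.preimage_mono le_top : s ⁻¹ᵁ V ≤ s ⁻¹ᵁ ⊤) (ProjMor.eta s G ⊤ (l i)) =
        s.app V (c i) • ProjMor.eta s G V g := by
      refine (ProjMor.eta_res s G le_top (l i)).trans ?_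
      rw [hc i, ProjMor.eta_smul]
    exact (res_res M _ _ _).symm.trans (congrArg (res M (inf_le_left : O ≤ s ⁻¹ᵁ V)) h1)
  have e2 : res M (le_top : O ≤ ⊤) (show Γ(M, β ⁻¹ᵁ ⊤) from θ.app ⊤ (σ i)) =
      resO _ (inf_le_right : O ≤ β ⁻¹ᵁ D) (β.app D d) • δ := by
    rw [hδ, ← res_smul]
    have h1 : res M (β.preimage_mono le_top : β ⁻¹ᵁ D ≤ β ⁻¹ᵁ ⊤) (θ.app ⊤ (σ i)) =
        β.app D d • (show Γ(M, β ⁻¹ᵁ D) from θ.app D gT) := by
      refine (app_res θ le_top (σ i)).trans ?_
      rw [← hd, Scheme.Modules.Hom.app_smul]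
      rfl
    exact (res_res M _ _ _).symm.trans (congrArg (res M (inf_le_right : O ≤ β ⁻¹ᵁ D)) h1)
  have e3 : resO _ (inf_le_left : O ≤ s ⁻¹ᵁ V) (s.app V (c i)) * u =
      resO _ (inf_le_right : O ≤ β ⁻¹ᵁ D) (β.app D d) := by
    refine (hδgen O le_rfl).1 ?_
    simp only [res_self]
    rw [mul_smul, hu, ← e1, ← e2, hl i]
  have h7 := congrArg (I.subscheme.presheaf.germ O z hzO) e3
  rw [map_mul] at h7
  have hβd : IsUnit (I.subscheme.presheaf.germ O z hzO
      (resO _ (inf_le_right : O ≤ β ⁻¹ᵁ D) (β.app D d))) := by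
    erw [I.subscheme.presheaf.germ_res_apply, ← β.germ_stalkMap_apply D z hzD d]
    exact hdu.map _
  rw [← h7] at hβd
  refine ⟨i, (isUnit_map_iff (s.stalkMap z).hom _).1 ?_⟩
  have h8 := isUnit_of_mul_isUnit_left hβd
  erw [I.subscheme.presheaf.germ_res_apply] at h8
  erw [s.germ_stalkMap_apply]
  exact h8

/-- Two sections of the ideal restrict to a basis of `O(1)` on the line. -/
theorem exists_two_sections (hI : BlowUp.IsEffCartierIdeal I) (h : Subsingleton (Coh.HH X (ipow I 2) 1))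
    (ι₀ : CohB1.ProjSpace 1 k ⟶ X) [IsClosedImmersion ι₀] (hker : ι₀.ker = I)
    (e : (Scheme.Modules.pullback ι₀).obj (ClSub.idealMod I) ≅ Twist.twistProjSpace 1 k 1) :
    ∃ l : Fin 2 → Γ(ClSub.idealMod I, ⊤),
      (∀ z : I.subscheme, ∀ (V : X.Opens) (g : Γ(ClSub.idealMod I, V)) (c : Fin 2 → Γ(X, V))
        (hz : I.subschemeι z ∈ V), IsGen g → (∀ i, res (ClSub.idealMod I) le_top (l i) = c i • g) →
          ∃ i, IsUnit (X.presheaf.germ V _ hz (c i))) ∧
      ∀ w : Γ((Scheme.Modules.pullback I.subschemeι).obj (ClSub.idealMod I), I.subschemeι ⁻¹ᵁ ⊤),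
        ∃ a b : Γ(I.subscheme, I.subschemeι ⁻¹ᵁ ⊤),
          w = a • ProjMor.eta I.subschemeι _ ⊤ (l 0) + b • ProjMor.eta I.subschemeι _ ⊤ (l 1) := by
  subst hker
  set s := ι₀.ker.subschemeι with hs
  haveI : IsIso ι₀.toImage := inferInstance
  set β := inv ι₀.toImage with hβ
  have hfac : β ≫ ι₀ = s := (IsIso.inv_comp_eq _).2 ι₀.toImage_imageι.symm
  let e' : (Scheme.Modules.pullback s).obj (ClSub.idealMod ι₀.ker) ≅
      (Scheme.Modules.pullback β).obj (Twist.twistProjSpace 1 k 1) :=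
    (Scheme.Modules.pullbackCongr hfac.symm).app _ ≪≫
      ((Scheme.Modules.pullbackComp β ι₀).app _).symm ≪≫ (Scheme.Modules.pullback β).mapIso e
  let θ := SymAlg.pullθ β e'
  obtain ⟨p, q, hgen, hspan⟩ := exists_two_gens k
  obtain ⟨l, hl, hlgen⟩ := exists_sections hI h e' ![p, q] hgen
  refine ⟨l, hlgen, fun w => ?_⟩
  obtain ⟨t, ht⟩ := surjective_eta_iso β (Twist.twistProjSpace 1 k 1) ⊤ (e'.hom.app _ w)
  obtain ⟨a, b, hab⟩ := hspan t
  refine ⟨β.app ⊤ a, β.app ⊤ b, ?_⟩
  rw [hl 0, hl 1]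
  have hw : θ.app ⊤ t = w := by
    change e'.inv.app _ (ProjMor.eta β _ ⊤ t) = w
    rw [ht]
    exact ConcreteCategory.congr_hom (congrArg (fun φ => Scheme.Modules.Hom.app φ _) e'.hom_inv_id) w
  rw [← hw, hab, map_add, Scheme.Modules.Hom.app_smul, Scheme.Modules.Hom.app_smul]
  rfl

variable {A : Type u} [CommRing A] [IsNoetherianRing A] [IsLocalRing A] [X.Over (Spec (CommRingCat.of A))]
  [IsProper (X ↘ Spec (CommRingCat.of A))]

omit [IsNoetherianRing A] in
/-- Sections generating along the curve generate everywhere. -/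
theorem genOpen_sup_eq_top (hI : BlowUp.IsEffCartierIdeal I)
    (hfib : ∀ x : X, (X ↘ Spec (CommRingCat.of A)) x = IsLocalRing.closedPoint A → x ∈ I.support)
    (l : Fin 2 → Γ(ClSub.idealMod I, ⊤)) (φa : Fin 2 → Γ(X, ⊤))
    (ha : ∀ i, φa i = (ClSub.idealModι I).app ⊤ (l i))
    (hlgen : ∀ z : I.subscheme, ∀ (V : X.Opens) (g : Γ(ClSub.idealMod I, V)) (c : Fin 2 → Γ(X, V))
        (hz : I.subschemeι z ∈ V), IsGen g → (∀ i, res (ClSub.idealMod I) le_top (l i) = c i • g) →
          ∃ i, IsUnit (X.presheaf.germ V _ hz (c i))) :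
    genOpen I (φa 0) ⊔ genOpen I (φa 1) = ⊤ := by
  set f := X ↘ Spec (CommRingCat.of A) with hf
  set s := I.subschemeι with hs
  by_contra hne
  obtain ⟨y, hy⟩ : ∃ y, y ∉ genOpen I (φa 0) ⊔ genOpen I (φa 1) := by
    by_contra! hall
    exact hne (top_le_iff.1 fun y _ => hall y)
  have hcl : IsClosed (f '' (↑(genOpen I (φa 0) ⊔ genOpen I (φa 1)) : Set X)ᶜ) :=
    f.isClosedMap _ (genOpen I (φa 0) ⊔ genOpen I (φa 1)).isOpen.isClosed_compl
  obtain ⟨x, hxU, hx⟩ := (IsLocalRing.specializes_closedPoint (f y)).mem_closed hcl ⟨y, hy, rfl⟩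
  obtain ⟨z, rfl⟩ : x ∈ Set.range s := by rw [hs, I.range_subschemeι]; exact hfib x hx
  obtain ⟨D, g, hzD, hg⟩ := TMul.exists_isGen ((S8914.result I).2 hI) (s z)
  choose cc hcc using fun i => (hg D le_rfl).2 (res (ClSub.idealMod I) le_top (l i))
  simp only [res_self] at hcc
  obtain ⟨i, hi⟩ := hlgen z D g cc hzD hg fun i => (hcc i).symm
  obtain ⟨W, hW, hzW, hWD⟩ := exists_isAffineOpen_mem_and_subset
    (show s z ∈ X.basicOpen (cc i) from (X.mem_basicOpen (cc i) _ hzD).2 hi)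
  have hWD' : W ≤ D := hWD.trans (X.basicOpen_le _)
  have hsup : ∀ j, genOpen I (φa j) ≤ genOpen I (φa 0) ⊔ genOpen I (φa 1) :=
    Fin.forall_fin_two.2 ⟨le_sup_left, le_sup_right⟩
  refine hxU (hsup i ?_)
  suffices W ≤ genOpen I (φa i) from this hzW
  refine le_iSup_of_le (⟨⟨W, hW⟩, ?_⟩ : {W : X.affineOpens // I.ideal W = Ideal.span {resO X le_top (φa i)}}) le_rfl
  have hu : IsUnit (resO X hWD' (cc i)) := by
    have h1 := X.toRingedSpace.isUnit_res_basicOpen (cc i)
    have h2 := h1.map (resO X (hWD : W ≤ X.basicOpen (cc i)))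
    exact (resO_resO hWD (X.basicOpen_le (cc i)) (cc i)) ▸ h2
  have hval : resO X (le_top : W ≤ ⊤) (φa i) =
      resO X hWD' (cc i) * (show Γ(X, W) from (ClSub.idealModι I).app W (res (ClSub.idealMod I) hWD' g)) := by
    rw [ha i]
    have h1 : res (ClSub.idealMod I) (le_top : W ≤ ⊤) (l i) =
        resO X hWD' (cc i) • res (ClSub.idealMod I) hWD' g := by
      rw [← res_smul, hcc i, res_res]
    refine (app_res (ClSub.idealModι I) (le_top : W ≤ ⊤) (l i)).trans ?_
    rw [h1, Scheme.Modules.Hom.app_smul]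
    rfl
  rw [hval, Ideal.span_singleton_mul_left_unit hu]
  refine le_antisymm (fun t ht => ?_) ?_
  · obtain ⟨r, hr⟩ := (Groth.Agent.QC.mem_range_idealModι_affine I ⟨W, hW⟩ t).2 ht
    obtain ⟨d, hd⟩ := (hg W hWD').2 r
    refine Ideal.mem_span_singleton'.2 ⟨d, ?_⟩
    rw [← hr, ← hd]
    exact (Scheme.Modules.Hom.app_smul (ClSub.idealModι I) d _).symm
  · rw [Ideal.span_singleton_le_iff_mem]
    exact (Groth.Agent.QC.mem_range_idealModι_affine I ⟨W, hW⟩ _).1 ⟨_, rfl⟩

omit [IsNoetherianRing A] [IsLocalRing A] [X.Over (Spec (CommRingCat.of A))]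
  [IsProper (X ↘ Spec (CommRingCat.of A))] in
/-- A section of the ideal vanishing on the curve lies in the square. -/
theorem mem_sq_of_eta_eq_zero (hI : BlowUp.IsEffCartierIdeal I) (R : Γ(ClSub.idealMod I, ⊤))
    (hR0 : ProjMor.eta I.subschemeι (ClSub.idealMod I) ⊤ R = 0) :
    ∀ W : X.affineOpens, resO X le_top ((ClSub.idealModι I).app ⊤ R) ∈ I.ideal W * I.ideal W := by
  set s := I.subschemeι with hs
  intro W
  show _ ∈ (I * I).ideal W
  refine mem_ideal_of_locally (I * I) W _ fun x hx => ?_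
  obtain ⟨D, g, hxD, hg⟩ := TMul.exists_isGen ((S8914.result I).2 hI) x
  obtain ⟨V, hV, hxV, hle⟩ := exists_isAffineOpen_mem_and_subset (x := x) (U := D ⊓ W.1) ⟨hxD, hx⟩
  have hVD : V ≤ D := fun y hy => (hle hy).1
  have hVW : V ≤ W.1 := fun y hy => (hle hy).2
  refine ⟨⟨V, hV⟩, hVW, hxV, ?_⟩
  obtain ⟨d, hd⟩ := (hg V hVD).2 (res (ClSub.idealMod I) le_top R)
  have hdI : d ∈ I.ideal ⟨V, hV⟩ := by
    refine (Groth.Agent.QC.mem_range_idealModι_affine I ⟨V, hV⟩ d).1
      (SiteCoh.sections_exact (CohFinite.shortExact_toAb (CurveRR.ideal_shortExact I)) V d ?_)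
    have hgen := SymAlg.isGen_pullθ s (Iso.refl _) (PicLoc.isInvertible_pullback s ((S8914.result I).2 hI))
      (TMul.isQCoh_of_isInvertible ((S8914.result I).2 hI)) g hg
    refine (hgen (s ⁻¹ᵁ V) (s.preimage_mono hVD)).1 ?_
    change s.app V d • res ((Scheme.Modules.pullback s).obj (ClSub.idealMod I)) (s.preimage_mono hVD)
        (ProjMor.eta s (ClSub.idealMod I) D g) = (0 : Γ(I.subscheme, s ⁻¹ᵁ V)) • _
    refine Eq.trans ?_ (zero_smul _ _).symm
    refine (congrArg (fun t => s.app V d • t) (ProjMor.eta_res s (ClSub.idealMod I) hVD g)).trans ?_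
    refine (ProjMor.eta_smul s (ClSub.idealMod I) d _).symm.trans ?_
    change d • res (ClSub.idealMod I) hVD g = _ at hd
    rw [hd]
    refine (ProjMor.eta_res s (ClSub.idealMod I) (le_top : V ≤ ⊤) R).symm.trans ?_
    first
      | exact (congrArg _ hR0).trans (map_zero _)
      | exact ((congrArg _ hR0).trans (map_zero _)).symm
  rw [resO_resO]
  have hval : resO X (le_top : V ≤ ⊤) ((ClSub.idealModι I).app ⊤ R) =
      d * (show Γ(X, V) from (ClSub.idealModι I).app V (res (ClSub.idealMod I) hVD g)) := by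
    refine (app_res (ClSub.idealModι I) (le_top : V ≤ ⊤) R).trans ?_
    rw [← hd, Scheme.Modules.Hom.app_smul]
    rfl
  rw [hval, Scheme.IdealSheafData.ideal_mul]
  exact Ideal.mul_mem_mul hdI ((Groth.Agent.QC.mem_range_idealModι_affine I ⟨V, hV⟩ _).1 ⟨_, rfl⟩)

/-- The maximal ideal of the base is generated by two functions and cuts out the line. -/
theorem exists_gens (hA : Function.Bijective (Coh.toGlobal (X ↘ Spec (CommRingCat.of A))))
    (hI : BlowUp.IsEffCartierIdeal I)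
    (ι₀ : CohB1.ProjSpace 1 k ⟶ X) [IsClosedImmersion ι₀] (hker : ι₀.ker = I)
    (e : (Scheme.Modules.pullback ι₀).obj (ClSub.idealMod I) ≅ Twist.twistProjSpace 1 k 1)
    (hfib : ∀ x : X, (X ↘ Spec (CommRingCat.of A)) x = IsLocalRing.closedPoint A → x ∈ I.support)
    {c : ℕ} (hc : ∀ W : X.affineOpens, I.ideal W ^ c ≤ (IsLocalRing.maximalIdeal A).map (baseFun W.1)) :
    ∃ a b : A, IsLocalRing.maximalIdeal A = Ideal.span {a, b} ∧
      ∀ W : X.affineOpens, I.ideal W = (IsLocalRing.maximalIdeal A).map (baseFun W.1) := by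
  haveI : IsLocallyNoetherian X := LocallyOfFiniteType.isLocallyNoetherian (X ↘ Spec (CommRingCat.of A))
  have hvan := fun n => subsingleton_h1_ipow (A := A) hI ι₀ hker zero_le_one e hc n
  set f := X ↘ Spec (CommRingCat.of A) with hf
  set φ := Coh.toGlobal f with hφ
  set s := I.subschemeι with hs
  have hsurj := surjective_of_h1_ideal I (hvan 1)
  -- the kernel of restriction to the line is the maximal ideal
  have hfield : IsField Γ(I.subscheme, ⊤) := by
    subst hker
    haveI : IsIntegral (CohB1.ProjSpace 1 k) := Horrocks.isIntegral_projSpace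
    haveI := ProjMor.isProper_toSpec (n := 1) (R := k)
    haveI : IsIso ι₀.toImage := inferInstance
    haveI : Nonempty ι₀.ker.subscheme := (inferInstance : Nonempty (CohB1.ProjSpace 1 k)).map ι₀.toImage
    haveI : IsIntegral ι₀.ker.subscheme := isIntegral_of_isOpenImmersion (inv ι₀.toImage)
    exact isField_of_universallyClosed (X := ι₀.ker.subscheme) (K := k)
      (inv ι₀.toImage ≫ CohB1.ProjSpace.toSpec 1 k)
  let ρ : A →+* Γ(I.subscheme, ⊤) := (s.app ⊤).hom.comp φ
  have hρ : Function.Surjective ρ := hsurj.comp hA.2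
  have hkerρ : RingHom.ker ρ = IsLocalRing.maximalIdeal A := by
    letI := hfield.toField
    exact IsLocalRing.eq_maximalIdeal (RingHom.ker_isMaximal_of_surjective ρ hρ)
  have hle : ∀ (W : X.affineOpens) (t : A), t ∈ IsLocalRing.maximalIdeal A → baseFun W.1 t ∈ I.ideal W := by
    intro W t ht
    refine (Groth.Agent.QC.mem_range_idealModι_affine I W _).1
      (SiteCoh.sections_exact (CohFinite.shortExact_toAb (CurveRR.ideal_shortExact I)) W.1 _ ?_)
    rw [← hkerρ] at ht
    change (ClSub.toSubscheme I).app W.1 (res (Coh.structureModule X) le_top (φ t)) = 0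
    refine (app_res (ClSub.toSubscheme I) le_top (φ t)).symm.trans ?_
    refine (congrArg (res (ClSub.quotMod I) (le_top : W.1 ≤ ⊤)) ?_).trans (map_zero _)
    have h0 : ρ t = 0 := RingHom.mem_ker.1 ht
    exact h0
  obtain ⟨l, hlgen, hlspan⟩ := exists_two_sections hI (hvan 2) ι₀ hker e
  choose a ha using fun i => hA.2 ((ClSub.idealModι I).app ⊤ (l i))
  have hmema : ∀ i, a i ∈ IsLocalRing.maximalIdeal A := fun i => by
    rw [← hkerρ, RingHom.mem_ker]
    change (ClSub.toSubscheme I).app ⊤ (φ (a i)) = 0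
    rw [ha i]
    exact ConcreteCategory.congr_hom (congrArg (fun ψ => Scheme.Modules.Hom.app ψ ⊤)
      (kernel.condition (ClSub.toSubscheme I))) (l i)
  -- near the line one of the two functions generates
  have hcov : genOpen I (φ (a 0)) ⊔ genOpen I (φ (a 1)) = ⊤ :=
    genOpen_sup_eq_top hI hfib l (fun i => φ (a i)) ha hlgen
  have hideal : ∀ W : X.affineOpens, I.ideal W = (IsLocalRing.maximalIdeal A).map (baseFun W.1) := by
    let T : (Spec (CommRingCat.of A)).affineOpens := ⟨⊤, isAffineOpen_top _⟩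
    let J := (Scheme.IdealSheafData.ofIdealTop ((IsLocalRing.maximalIdeal A).map
      (Scheme.ΓSpecIso (CommRingCat.of A)).inv.hom)).comap f
    have hJ : ∀ W : X.affineOpens, J.ideal W = (IsLocalRing.maximalIdeal A).map (baseFun W.1) := by
      intro W
      rw [show J.ideal W = _ from Groth.Agent.FpqcDescent.ideal_comap_appLE _ f T W le_top,
        Scheme.IdealSheafData.ofIdealTop_ideal]
      simp only [T, homOfLE_refl, op_id, CategoryTheory.Functor.map_id, CommRingCat.hom_id, Ideal.map_id, Ideal.map_map]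
      rfl
    intro W
    refine le_antisymm ?_ (Ideal.map_le_iff_le_comap.2 fun t ht => hle W t ht)
    intro t ht
    rw [← hJ W]
    refine mem_ideal_of_locally J W t fun x hx => ?_
    obtain ⟨i, hi⟩ : ∃ i, x ∈ genOpen I (φ (a i)) := by
      rcases (hcov.ge (show x ∈ (⊤ : X.Opens) from trivial) : x ∈ genOpen I (φ (a 0)) ⊔ genOpen I (φ (a 1)))
        with h | h
      · exact ⟨0, h⟩
      · exact ⟨1, h⟩
    obtain ⟨V, hxV, hVW, -, hV, -⟩ := exists_small_genOpen I hI (φ (a i)) hi hx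
    refine ⟨V, hVW, hxV, ?_⟩
    rw [hJ V]
    have h1 : resO X hVW t ∈ I.ideal V := (I.map_ideal (U := V) (V := W) hVW) ▸ Ideal.mem_map_of_mem _ ht
    rw [hV] at h1
    refine (Ideal.span_singleton_le_iff_mem _).2 ?_ h1
    exact Ideal.mem_map_of_mem (baseFun V.1) (hmema i)
  refine ⟨a 0, a 1, le_antisymm (fun t ht => ?_) (Ideal.span_le.2 ?_), hideal⟩
  · -- a combination modulo the square
    obtain ⟨L, hL⟩ : ∃ L : Γ(ClSub.idealMod I, ⊤), (ClSub.idealModι I).app ⊤ L = φ t :=
      SiteCoh.sections_exact (CohFinite.shortExact_toAb (CurveRR.ideal_shortExact I)) ⊤ (φ t)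
        (show ρ t = 0 by rw [← hkerρ] at ht; exact RingHom.mem_ker.1 ht)
    obtain ⟨u, v, huv⟩ := hlspan (ProjMor.eta s (ClSub.idealMod I) ⊤ L)
    obtain ⟨u', rfl⟩ := hsurj u
    obtain ⟨v', rfl⟩ := hsurj v
    obtain ⟨lu, hlu⟩ := hA.2 u'
    obtain ⟨lv, hlv⟩ := hA.2 v'
    set R := L - (show Γ(X, ⊤) from φ lu) • l 0 - (show Γ(X, ⊤) from φ lv) • l 1 with hR
    have hR0 : ProjMor.eta s (ClSub.idealMod I) ⊤ R = 0 := by
      rw [hR, map_sub, map_sub, ProjMor.eta_smul, ProjMor.eta_smul, hlu, hlv, huv]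
      abel
    have hsq := mem_sq_of_eta_eq_zero hI R hR0
    have h1 : Subsingleton (CohSite.HU (Coh.toAb (Coh.structureModule X)) 1 (⊤ : X.Opens)) :=
      (SiteCoh.huTerminalEquiv (Opens.grothendieckTopology X) isTerminalTop
        (Coh.toAb (Coh.structureModule X)) 1).symm.toEquiv.subsingleton_congr.2 (hvan 0)
    obtain ⟨p, q, hpq⟩ := Ideal.mem_span_pair.1
      (mem_span_pair I hI (φ (a 0)) (φ (a 1)) _ hcov hsq h1)
    obtain ⟨p', rfl⟩ := hA.2 p
    obtain ⟨q', rfl⟩ := hA.2 q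
    refine Ideal.mem_span_pair.2 ⟨p' + lu, q' + lv, hA.1 ?_⟩
    rw [hR, map_sub, map_sub, Scheme.Modules.Hom.app_smul, Scheme.Modules.Hom.app_smul, hL, ← ha 0, ← ha 1] at hpq
    obtain ⟨ψ, hψ⟩ : ∃ ψ : A →+* Γ(X, ⊤), ψ = φ := ⟨φ, rfl⟩
    rw [← hψ] at hpq ⊢
    change ψ p' * ψ (a 0) + ψ q' * ψ (a 1) = ψ t - ψ lu * ψ (a 0) - ψ lv * ψ (a 1) at hpq
    rw [map_add, map_mul, map_mul, map_add, map_add]
    linear_combination hpq
  · rintro x (rfl | rfl) <;> exact hmema _

end Groth.Agent.Castel
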