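import Groth.Agent.Castel.CanonExc
import Groth.Agent.CurveRR.Easy
import Groth.Agent.Castel.NumType

/-!
Invertible modules on curves without `H¹(O)`.
-/

set_option autoImplicit false
set_option backward.isDefEq.respectTransparency false
set_option backward.isDefEq.respectTransparency.types false
set_option linter.style.haveILetI false
set_option linter.unusedSectionVars false

universe u

open CategoryTheory CategoryTheory.Limits AlgebraicGeometry TopologicalSpace Opposite
open Groth.Agent.CohFinite
open Groth.Agent.CurveRR

noncomputable section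

namespace Groth.Agent.Castel

section Curve

variable {k : Type u} [Field k] {X : Scheme.{u}} [X.Over (Spec (CommRingCat.of k))]
  [IsProper (X ↘ Spec (CommRingCat.of k))] [IsIntegral X]

/-- Without `H¹(O)`, degrees at least `-h⁰(O)` have no `H¹`. -/
theorem subsingleton_h1_of_genus_zero (hdim : topologicalKrullDim X ≤ 1)
    (h1 : Subsingleton (Coh.HH X (Coh.structureModule X) 1)) {P : X.Modules} (hP : PicF.IsInvertible P)
    (hdeg : -(h k (Coh.structureModule X) 0 : ℤ) ≤ Curv2.deg k X P 1) : Subsingleton (Coh.HH X P 1) := by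
  have hg : Curv2.genus k X = 0 := Module.finrank_zero_of_subsingleton
  by_cases h0 : h k P 0 = 0
  · haveI := finite_proper k X _ (isCoh_of_inv hP) 1
    refine Module.finrank_zero_iff.1 (?_ : h k P 1 = 0)
    have hO : h k (Coh.structureModule X) 1 = 0 := h_eq_zero h1
    rw [Curv2.deg, euler_eq hdim, euler_eq hdim, h0, hO] at hdeg
    push_cast at hdeg
    omega
  · exact CurveRR.Easy.subsingleton_h1_of_lt (k := k) hdim hP (by omega)

/-- Without `H¹(O)`, degree zero is trivial. -/
theorem nonempty_iso_of_genus_zero (hdim : topologicalKrullDim X ≤ 1)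
    (h1 : Subsingleton (Coh.HH X (Coh.structureModule X) 1)) (h0 : 0 < h k (Coh.structureModule X) 0)
    {P : X.Modules} (hP : PicF.IsInvertible P) (hdeg : Curv2.deg k X P 1 = 0) :
    Nonempty (P ≅ Coh.structureModule X) := by
  have hP1 := subsingleton_h1_of_genus_zero (k := k) hdim h1 hP (by omega)
  have hh : h k P 0 ≠ 0 := by
    have hO : h k (Coh.structureModule X) 1 = 0 := h_eq_zero h1
    have hd := hdeg
    rw [Curv2.deg, euler_eq hdim, euler_eq hdim, hO, h_eq_zero hP1] at hd
    push_cast at hd
    omega
  obtain ⟨s, hs⟩ := exists_section hh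
  exact nonempty_iso_of_section hdim hP s hs hdeg.le

/-- A map from `O` to a degree zero module generating somewhere generates everywhere. -/
theorem genLocus_eq_top_of_deg_zero (hdim : topologicalKrullDim X ≤ 1) {P : X.Modules} (hP : PicF.IsInvertible P)
    (hdeg : Curv2.deg k X P 1 = 0) (s : Coh.structureModule X ⟶ P) {x : X} (hx : x ∈ CohB1.genLocus P s)
    (y : X) : y ∈ CohB1.genLocus P s := by
  by_contra hy
  have hs : s ≠ 0 := fun h0 => by
    rw [h0, TMul.genLocus_zero] at hx
    exact hx
  exact (CurveRR.Easy.deg_pos_of_vanishing (k := k) hdim hP s hs hy).ne' hdeg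

end Curve

variable {R : Type u} [CommRing R] [IsDomain R] [IsDiscreteValuationRing R] {X : Over (Spec (CommRingCat.of R))}

/-- The canonical degree predicted by adjunction. -/
def adjK (E : ArSurf.VertComp R X) : ℤ :=
  -(2 * ((Models.wdeg R X E : ℤ) - Models.h1 R X E) - degI E E.ι.ker)

/-- Adjunction. -/
theorem inter_canonical_eq_adjK (hX : ArSurf.IsArithSurface R X) (E : ArSurf.VertComp R X) {L : X.left.Modules}
    (hL : ClSub.IsInverseOf L (ClSub.idealMod E.ι.ker)) {ω : X.left.Modules} (hω : Canon.IsCanonical X.hom ω) :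
    ArSurf.inter R X ω E = adjK E := by
  haveI := isProper_hom_of_isArithSurface hX
  have h := selfInter_add_canonical hX E hL hω
  rw [inter_eq_neg_degI E (isEffCartierIdeal_ker hX E) hL] at h
  rw [adjK]
  linarith

/-- Negative adjunction number: no `H¹(O)` and degree minus twice the constants. -/
theorem subsingleton_h1_of_adj_neg [IsProper X.hom] (E : ArSurf.VertComp R X)
    (h : -degI E E.ι.ker + adjK E < 0) :
    Subsingleton (Coh.HH E.curve.left (Coh.structureModule E.curve.left) 1) ∧
      -degI E E.ι.ker + adjK E = -2 * (Models.wdeg R X E : ℤ) := by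
  let k := IsLocalRing.ResidueField R
  haveI : IsProper (E.curve.left ↘ Spec (CommRingCat.of k)) := isProper_curve E
  haveI := E.isIntegral
  rw [adjK] at h
  have hd : (Models.wdeg R X E : ℤ) ∣ (Models.h1 R X E : ℤ) := by exact_mod_cast (wdeg_facts E).2.1
  have hh : (Models.h1 R X E : ℤ) < Models.wdeg R X E := by linarith
  have h1 : Models.h1 R X E = 0 := by
    exact_mod_cast Int.eq_zero_of_dvd_of_nonneg_of_lt (Int.natCast_nonneg _) hh hd
  refine ⟨?_, by rw [adjK, h1]; push_cast; ring⟩
  haveI := CurveRR.isNoetherian_of_proper k E.curve.left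
  haveI := finite_proper k E.curve.left _ RefStalk.isCoh_structureModule 1
  exact Module.finrank_zero_iff.1 h1

end Groth.Agent.Castel
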