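import Groth.Agent.Castel.GenusZeroMap
import Groth.Agent.CycPB.BundleSmooth
import Groth.Agent.FibCrit.Props

/-!
Uniqueness and smoothness of minimal models outside the line case.
-/

set_option autoImplicit false
set_option backward.isDefEq.respectTransparency false
set_option backward.isDefEq.respectTransparency.types false
set_option linter.style.haveILetI false

universe u

open CategoryTheory CategoryTheory.Limits AlgebraicGeometry TopologicalSpace Topology

noncomputable section

namespace Groth.Agent.Castel

variable {R : Type u} [CommRing R] [IsDomain R] [IsDiscreteValuationRing R]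
variable {C : Scheme.{u}} {f : C ⟶ Spec (CommRingCat.of (FractionRing R))}

/-- Any minimal model is isomorphic to one whose fibre is not a line. -/
theorem exists_iso_to_nonline (hC : Curve.IsSmoothProperCurve (FractionRing R) C f) (hH0 : IsIso f.appTop)
    {X Y : Scheme.{u}} {p : X ⟶ Spec (CommRingCat.of R)} {q : Y ⟶ Spec (CommRingCat.of R)}
    (hX : Models.IsMinimalModel R X p C f) (hnl : ¬ HasLineFibre R X p) (hY : Models.IsMinimalModel R Y q C f)
    {gX : C ⟶ X} (hgX : IsPullback gX f p (Neron.genPt R)) {gY : C ⟶ Y} (hgY : IsPullback gY f q (Neron.genPt R)) :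
    ∃ e : Y ≅ X, e.hom ≫ p = q ∧ gY ≫ e.hom = gX := by
  have hexc : ∀ {Z : Scheme.{u}} {r : Z ⟶ Spec (CommRingCat.of R)}, Models.IsMinimalModel R Z r C f →
      ∀ (E : Scheme.{u}) (ι : E ⟶ Z) [IsClosedImmersion ι], ¬ Models.IsExcCurve ι := fun {Z r} hZ E ι _ hE => by
    haveI := hZ.1.2.1
    obtain ⟨Γ, hΓ⟩ := exists_vertComp_of_exc r ι hE
    exact hZ.2 Γ hΓ
  obtain ⟨h, hh, hg, hseq⟩ := exists_contraction_to_min₀ hC hH0 p hX.1 hnl (hexc hX) q hY.1 hgX hgY
  cases hseq with
  | iso e => exact ⟨e, hh, hg⟩
  | step ι b r hι hE hb hr => exact absurd hE (@hexc Y q hY _ ι hι)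

/-- A model with line fibre is smooth. -/
theorem smooth_of_hasLineFibre (hC : Curve.IsSmoothProperCurve (FractionRing R) C f) {X : Scheme.{u}}
    {p : X ⟶ Spec (CommRingCat.of R)} (hX : Models.IsRegularProperModel R X p C f) (hl : HasLineFibre R X p) :
    Smooth p := by
  obtain ⟨⟨hfl, -, -, g, hg⟩, hp, -⟩ := hX
  obtain ⟨-, hsC, -, -⟩ := hC
  haveI := hfl; haveI := hp; haveI := hsC
  haveI : IsLocallyNoetherian X := LocallyOfFiniteType.isLocallyNoetherian p
  haveI : LocallyOfFinitePresentation p := inferInstance
  let S := Spec (CommRingCat.of R)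
  refine Smooth.of_smooth_fiberToSpecResidueField p fun t => ?_
  let ψ := Spec.preimage (S.fromSpecResidueField t)
  by_cases ht : t.asIdeal = ⊥
  · have hinj : Function.Injective ψ.hom := by
      rw [RingHom.injective_iff_ker_eq_bot]
      exact (ker_preimage_fromSpec t).trans ht
    let α : CommRingCat.of (FractionRing R) ⟶ S.residueField t := CommRingCat.ofHom (IsFractionRing.lift hinj)
    have hα : Spec.map α ≫ Neron.genPt R = S.fromSpecResidueField t := by
      show Spec.map α ≫ Spec.map (CommRingCat.ofHom (algebraMap R (FractionRing R))) = _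
      rw [← Spec.map_comp, ← Spec.map_preimage (S.fromSpecResidueField t)]
      congr 1
      refine CommRingCat.hom_ext (RingHom.ext fun r => ?_)
      exact IsFractionRing.lift_algebraMap hinj r
    have hbig : IsPullback (p.fiberι t) (p.fiberToSpecResidueField t) p (Spec.map α ≫ Neron.genPt R) := by
      rw [hα]; exact IsPullback.of_hasPullback _ _
    let γ : p.fiber t ⟶ C := hg.lift (p.fiberι t) (p.fiberToSpecResidueField t ≫ Spec.map α)
      (by rw [Category.assoc]; exact hbig.w)
    exact MorphismProperty.of_isPullback (P := @Smooth)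
      (IsPullback.of_right (by rw [hg.lift_fst]; exact hbig) (hg.lift_snd _ _ _) hg :
        IsPullback γ (p.fiberToSpecResidueField t) f (Spec.map α)) inferInstance
  · haveI : Ideal.IsMaximal t.asIdeal := Ideal.IsPrime.isMaximal t.isPrime ht
    have hts : t = IsLocalRing.closedPoint R := PrimeSpectrum.ext (IsLocalRing.eq_maximalIdeal inferInstance)
    let β : CommRingCat.of (IsLocalRing.ResidueField R) ⟶ S.residueField t := CommRingCat.ofHom
      (Ideal.Quotient.lift (IsLocalRing.maximalIdeal R) ψ.hom fun r hr => by
        refine RingHom.mem_ker.1 ((ker_preimage_fromSpec t).ge ?_)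
        rw [hts]
        exact hr)
    let res := Spec.map (CommRingCat.ofHom (algebraMap R (IsLocalRing.ResidueField R)))
    have hβ : Spec.map β ≫ res = S.fromSpecResidueField t := by
      rw [← Spec.map_comp, ← Spec.map_preimage (S.fromSpecResidueField t)]
      rfl
    have hbig : IsPullback (p.fiberι t) (p.fiberToSpecResidueField t) p (Spec.map β ≫ res) := by
      rw [hβ]; exact IsPullback.of_hasPullback _ _
    obtain ⟨e, he⟩ := hl
    haveI : Smooth (pullback.snd p res) := by
      rw [← he]
      haveI := CycPB.smooth_toSpec 1 (IsLocalRing.ResidueField R)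
      infer_instance
    have hgs := IsPullback.of_hasPullback p res
    let γ : p.fiber t ⟶ pullback p res := hgs.lift (p.fiberι t) (p.fiberToSpecResidueField t ≫ Spec.map β)
      (by rw [Category.assoc]; exact hbig.w)
    exact MorphismProperty.of_isPullback (P := @Smooth)
      (IsPullback.of_right (by rw [hgs.lift_fst]; exact hbig) (hgs.lift_snd _ _ _) hgs :
        IsPullback γ (p.fiberToSpecResidueField t) (pullback.snd p res) (Spec.map β)) inferInstance

end Groth.Agent.Castel
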