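import Groth.Agent.Castel.ExcMeeting
import Groth.Agent.Castel.CompList
import Groth.Agent.Castel.ContractInter
import Groth.Agent.Castel.ExcComp
import Groth.Agent.CMFlat.RegImm
import Groth.Agent.SerreReg.Regular
import Groth.Agent.DualGeneric.GenusZeroPt

/-!
Contracting one of two meeting exceptional curves leaves a projective line.
-/

set_option autoImplicit false
set_option backward.isDefEq.respectTransparency false
set_option backward.isDefEq.respectTransparency.types false
set_option linter.style.haveILetI false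

universe u

open CategoryTheory CategoryTheory.Limits AlgebraicGeometry TopologicalSpace Topology

noncomputable section

namespace Groth.Agent.Castel

variable {R : Type u} [CommRing R] [IsDomain R] [IsDiscreteValuationRing R]

/-- Base constants at a point of a vertical prime divisor. -/
theorem stalkHom_comp {X : Over (Spec (CommRingCat.of R))} (Γ : ArSurf.VertComp R X) (c : Γ.curve.left) (r : R) :
    (Γ.ι.stalkMap c).hom (Models.stalkHom R X (Γ.ι c) r) =
      Curv2.stalkMap (IsLocalRing.ResidueField R) Γ.curve.left c (IsLocalRing.residue R r) := by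
  show (Γ.ι.stalkMap c).hom ((X.left.presheaf.germ ⊤ (Γ.ι c) trivial).hom (X.hom.appTop _)) = _
  refine (Scheme.Hom.germ_stalkMap_apply Γ.ι ⊤ c trivial _).trans ?_
  refine congrArg (Γ.curve.left.presheaf.germ ⊤ c trivial).hom ?_
  have h2 := congrArg (fun φ : Γ.curve.left ⟶ Spec (CommRingCat.of R) =>
    φ.appTop.hom ((Scheme.ΓSpecIso (CommRingCat.of R)).inv r)) Γ.w
  simp only [Scheme.Hom.comp_appTop] at h2
  refine h2.trans ?_
  exact congrArg (fun z => Γ.curve.hom.appTop.hom z)
    (ConcreteCategory.congr_hom (Scheme.ΓSpecIso_inv_naturality (CommRingCat.ofHom (IsLocalRing.residue R))) r).symm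

/-- The degree of a point with residue field that of the base. -/
theorem finrank_residue_eq_one {X : Over (Spec (CommRingCat.of R))} (Γ : ArSurf.VertComp R X) (c : Γ.curve.left)
    (h : Function.Surjective ((X.left.residue (Γ.ι c)).hom.comp (Models.stalkHom R X (Γ.ι c)))) :
    letI := Curv2.resAlgebra (IsLocalRing.ResidueField R) Γ.curve.left c
    Module.finrank (IsLocalRing.ResidueField R) (Γ.curve.left.residueField c) = 1 := by
  letI := Curv2.resAlgebra (IsLocalRing.ResidueField R) Γ.curve.left c
  have hb : Function.Bijective (Algebra.linearMap (IsLocalRing.ResidueField R) (Γ.curve.left.residueField c)) := by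
    refine ⟨(Curv2.resMap (IsLocalRing.ResidueField R) Γ.curve.left c).injective, fun a => ?_⟩
    obtain ⟨s, hs⟩ := Γ.curve.left.residue_surjective c a
    obtain ⟨t, ht⟩ := Γ.ι.stalkMap_surjective c s
    obtain ⟨r, hr⟩ := h ((X.left.residue (Γ.ι c)).hom t)
    refine ⟨IsLocalRing.residue R r, ?_⟩
    show (Γ.curve.left.residue c).hom (Curv2.stalkMap _ Γ.curve.left c (IsLocalRing.residue R r)) = a
    rw [← stalkHom_comp, ← hs, ← ht]
    refine ((congrArg (fun φ => φ.hom (Models.stalkHom R X (Γ.ι c) r))
      (Scheme.residue_residueFieldMap Γ.ι c)).symm.trans ?_).trans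
      (congrArg (fun φ => φ.hom t) (Scheme.residue_residueFieldMap Γ.ι c))
    exact congrArg (Γ.ι.residueFieldMap c).hom hr
  rw [← (LinearEquiv.ofBijective _ hb).finrank_eq, Module.finrank_self]

/-- A regular proper model of a genus zero curve with irreducible closed fibre of multiplicity one containing a
rational point where a uniformiser is a parameter: the fibre is a projective line. -/
theorem exists_line_of_one_component {X : Over (Spec (CommRingCat.of R))} (hX : ArSurf.IsArithSurface R X)
    (Δ : ArSurf.VertComp R X) (hfib : fibreIdeal X = Δ.ι.ker) (h1 : Models.h1 R X Δ = 0)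
    (c : Δ.curve.left) (hc : IsClosed ({c} : Set Δ.curve.left))
    (hsq : ¬ (IsLocalRing.maximalIdeal R).map (Models.stalkHom R X (Δ.ι c)) ≤
      IsLocalRing.maximalIdeal (X.left.presheaf.stalk (Δ.ι c)) ^ 2)
    (hrat : Function.Surjective ((X.left.residue (Δ.ι c)).hom.comp (Models.stalkHom R X (Δ.ι c)))) :
    ∃ e : Δ.curve.left ≅ CohB1.ProjSpace 1 (IsLocalRing.ResidueField R),
      e.hom ≫ CohB1.ProjSpace.toSpec 1 (IsLocalRing.ResidueField R) = Δ.curve.hom := by
  haveI := isProper_hom_of_isArithSurface hX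
  let k := IsLocalRing.ResidueField R
  haveI : IsProper (Δ.curve.left ↘ Spec (CommRingCat.of k)) := isProper_curve Δ
  obtain ⟨ϖ, hϖ⟩ := IsDiscreteValuationRing.exists_irreducible R
  set A := X.left.presheaf.stalk (Δ.ι c)
  let π : A := Models.stalkHom R X (Δ.ι c) ϖ
  have hmap : (IsLocalRing.maximalIdeal R).map (Models.stalkHom R X (Δ.ι c)) = Ideal.span {π} := by
    rw [hϖ.maximalIdeal_eq, Ideal.map_span, Set.image_singleton]
  obtain ⟨W, hW, hcW, -⟩ := exists_isAffineOpen_mem_and_subset (show Δ.ι c ∈ (⊤ : X.left.Opens) from trivial)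
  have hker : RingHom.ker (Δ.ι.stalkMap c).hom = Ideal.span {π} := by
    rw [CMFlat.ker_stalkMap_eq Δ.ι c ⟨W, hW⟩ hcW, ← hmap, ← Scheme.Hom.ker_apply Δ.ι ⟨W, hW⟩, ← hfib,
      fibreIdeal_ideal, Ideal.map_map]
    refine congrArg (fun φ => Ideal.map φ (IsLocalRing.maximalIdeal R)) ?_
    refine RingHom.ext fun r => ?_
    exact X.left.presheaf.germ_res_apply (homOfLE (le_top : W ≤ ⊤)) (Δ.ι c) hcW _
  have hπm : π ∈ IsLocalRing.maximalIdeal A := by
    refine (IsLocalRing.le_maximalIdeal ?_) (hker.ge (Ideal.mem_span_singleton_self π))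
    intro htop
    have h := (Ideal.eq_top_iff_one _).1 htop
    rw [RingHom.mem_ker, map_one] at h
    exact one_ne_zero h
  have hπ2 : π ∉ IsLocalRing.maximalIdeal A ^ 2 := fun h =>
    hsq (hmap.le.trans ((Ideal.span_singleton_le_iff_mem _).2 h))
  haveI := hX.1 (Δ.ι c)
  obtain ⟨hq, -⟩ := SerreReg.isRegularLocalRing_quot hπm hπ2
  have hreg : IsRegularLocalRing (Δ.curve.left.presheaf.stalk c) :=
    IsRegularLocalRing.of_ringEquiv (R := A ⧸ Ideal.span {π}) ((Ideal.quotEquivOfEq hker.symm).trans
      (RingHom.quotientKerEquivOfSurjective (Δ.ι.stalkMap_surjective c)))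
  obtain ⟨L, hL, hd⟩ := DualGeneric.exists_deg_point k Δ.dim_eq hc hreg
  refine DualGeneric.exists_iso_of_deg_one k Δ.dim_eq h1 hL ?_
  rw [hd, finrank_residue_eq_one Δ c hrat, Nat.cast_one]

end Groth.Agent.Castel
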