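import Groth.Agent.Castel.GenusZeroModels

/-!
The mapping property of minimal models whose closed fibre is not a projective line.
-/

set_option autoImplicit false
set_option backward.isDefEq.respectTransparency false
set_option backward.isDefEq.respectTransparency.types false
set_option linter.style.haveILetI false

universe u

open CategoryTheory CategoryTheory.Limits AlgebraicGeometry TopologicalSpace Topology

noncomputable section

namespace Groth.Agent.Castel

variable {R : Type u} [CommRing R] [IsDomain R] [IsDiscreteValuationRing R]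
variable {C : Scheme.{u}} {f : C ⟶ Spec (CommRingCat.of (FractionRing R))}

/-- An integral regular proper flat surface over the base. -/
structure IsSurf {Z : Scheme.{u}} (π : Z ⟶ Spec (CommRingCat.of R)) : Prop where
  int : IsIntegral Z
  proper : IsProper π
  flat : Flat π
  reg : ∀ z : Z, IsRegularLocalRing (Z.presheaf.stalk z)
  dim : topologicalKrullDim Z ≤ 2
  noeth : AlgebraicGeometry.IsNoetherian Z

theorem surf_of_regularProper (hC : Curve.IsSmoothProperCurve (FractionRing R) C f) {Z : Scheme.{u}}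
    {π : Z ⟶ Spec (CommRingCat.of R)} (h : Models.IsRegularProperModel R Z π C f) : IsSurf π := by
  obtain ⟨hint, hdim⟩ := surface_of_regularProper hC h
  obtain ⟨⟨hfl, -⟩, hp, hreg⟩ := h
  haveI := hint; haveI := hp
  haveI : IsLocallyNoetherian Z := LocallyOfFiniteType.isLocallyNoetherian π
  haveI : CompactSpace Z := QuasiCompact.compactSpace_of_compactSpace π
  exact ⟨hint, hp, hfl, hreg, hdim, {}⟩

/-- An exceptional curve is sent to a point by a sequence of point blow-ups of a model without exceptional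
curves. -/
theorem exc_const₀ (hC : Curve.IsSmoothProperCurve (FractionRing R) C f) (hH0 : IsIso f.appTop) {W X : Scheme.{u}}
    {q : W ⟶ X} (hq : Models.IsContractionSeq q) :
    ∀ (π : X ⟶ Spec (CommRingCat.of R)), Models.IsRegularProperModel R X π C f → ¬ HasLineFibre R X π →
      (∀ (E : Scheme.{u}) (ι : E ⟶ X) [IsClosedImmersion ι], ¬ Models.IsExcCurve ι) →
      ∀ {E : Scheme.{u}} (ι : E ⟶ W) [IsClosedImmersion ι], Models.IsExcCurve ι →
        ∃ x : X, Set.range ((ι ≫ q).base : E → X) = {x} := by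
  induction hq with
  | @iso W X e =>
    intro π _ _ hexc E ι _ hE
    exfalso
    obtain ⟨hC, k, _, e', ⟨hcon⟩⟩ := hE
    haveI : IsClosedImmersion (ι ≫ e.hom) := inferInstance
    have hk : (ι ≫ e.hom).ker = ι.ker.comap e.inv := AlmostBlow.ker_of_isPullback
      (IsPullback.of_horiz_isIso ⟨by simp⟩ : IsPullback (𝟙 E) (ι ≫ e.hom) ι e.inv)
    obtain ⟨θ⟩ := Nakai.nonempty_pullback_idealMod e.inv hC (BlowUpLib.cartier_comap_flat hC _)
    refine hexc E (ι ≫ e.hom) ⟨hk ▸ BlowUpLib.cartier_comap_flat hC _, k, inferInstance, e', ⟨?_⟩⟩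
    exact (Scheme.Modules.pullback _).mapIso (eqToIso (congrArg ClSub.idealMod hk) ≪≫ θ.symm) ≪≫
      (Scheme.Modules.pullbackComp _ _).app _ ≪≫ (Scheme.Modules.pullbackCongr (by simp)).app _ ≪≫ hcon
  | @step W Z X E₀ ι₀ b r hι₀ hE₀ hb hr ih =>
    intro π hπ hnl hexc E ι _ hE
    have hZ := surf_of_regularProper hC (regularProper_of_seq hC hr π hπ)
    haveI := hZ.int
    haveI := hZ.noeth
    obtain ⟨-, hbp, p, hp, hp₀, hreg, hdim, hbl⟩ := id hb
    haveI := hbp
    have hp' : PtBlow.IsRegPt Z p := ⟨hp, hreg, hdim⟩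
    haveI := PtBlow.isNoetherian_blowUp hp' hbl
    haveI := W7Fib.isIntegral_blowUp (PtBlow.pt_ne_bot hp') hbl
    obtain ⟨hEI, k, _, e, hcon⟩ := id hE
    haveI : IsIntegral (CohB1.ProjSpace 1 k) := Horrocks.isIntegral_projSpace
    by_cases hfib : Set.range ι = b ⁻¹' {p}
    · refine ⟨r p, Set.eq_singleton_iff_unique_mem.2 ⟨?_, ?_⟩⟩
      · refine ⟨e.hom (genericPoint _), ?_⟩
        show r (b (ι (e.hom (genericPoint _)))) = r p
        rw [show b (ι (e.hom (genericPoint _))) = p from hfib.subset ⟨_, rfl⟩]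
      · rintro _ ⟨z, rfl⟩
        show r (b (ι z)) = r p
        rw [show b (ι z) = p from hfib.subset ⟨_, rfl⟩]
    haveI := hι₀
    have hbι₀ : ∀ z, b (ι₀ z) = p := fun z => hp₀.subset ⟨z, rfl⟩
    have hr₀ : Set.range ι₀ = b ⁻¹' {p} := by
      obtain ⟨_, k₀, _, e₀, -⟩ := id hE₀
      exact PtBlow.range_eq_preimage hp' hbl ι₀ e₀ hbι₀
    have hoff : ∀ z, b (ι z) ≠ p := fun z hz => by
      refine hnl (line_of_meeting_stage hC hH0 hr hπ hexc ι₀ b hE₀ hb ι hE (fun e => hfib (e.trans hr₀)) fun hd => ?_)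
      exact Set.disjoint_left.1 hd ⟨z, rfl⟩ (hr₀.symm.subset hz)
    obtain ⟨hci, hexc'⟩ := PtBlow.isExcCurve_comp (hp := hp') ι e hbl hZ.reg hbp hEI hcon hoff
    haveI := hci
    obtain ⟨x, hx⟩ := ih π hπ hnl hexc (ι ≫ b) hexc'
    exact ⟨x, by simpa only [Category.assoc] using hx⟩

/-- A morphism which is an isomorphism over a nonempty open descends along a sequence of contractions, towards a
model without exceptional curves. -/
theorem exists_desc₀ (hC : Curve.IsSmoothProperCurve (FractionRing R) C f) (hH0 : IsIso f.appTop) {X₁ : Scheme.{u}}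
    (π₁ : X₁ ⟶ Spec (CommRingCat.of R)) (M₁ : Models.IsRegularProperModel R X₁ π₁ C f) (hnl : ¬ HasLineFibre R X₁ π₁)
    (hexc : ∀ (E : Scheme.{u}) (ι : E ⟶ X₁) [IsClosedImmersion ι], ¬ Models.IsExcCurve ι)
    {Z X₂ : Scheme.{u}} {q₂ : Z ⟶ X₂} (hq₂ : Models.IsContractionSeq q₂) :
    ∀ (π₂ : X₂ ⟶ Spec (CommRingCat.of R)), Models.IsRegularProperModel R X₂ π₂ C f → ∀ q₁ : Z ⟶ X₁, q₁ ≫ π₁ = q₂ ≫ π₂ →
      (∃ V : X₁.Opens, (V : Set X₁).Nonempty ∧ IsIso (q₁ ∣_ V)) → ∃ h : X₂ ⟶ X₁, q₂ ≫ h = q₁ := by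
  induction hq₂ with
  | @iso Z X₂ e =>
    intro _ _ q₁ _ _
    exact ⟨e.inv ≫ q₁, by simp⟩
  | @step Z W X₂ E ι b r hι hE hb hr ih =>
    intro π₂ h₂ q₁ hq hbir
    have hR := IsDiscreteValuationRing.not_isField R
    have h₁ := surf_of_regularProper hC M₁
    haveI := h₁.int
    haveI := h₁.noeth
    haveI := h₁.proper
    have hW' := regularProper_of_seq hC hr π₂ h₂
    have hW := surf_of_regularProper hC hW'
    haveI := hW.int
    haveI := hW.noeth
    obtain ⟨-, hbp, z, hz, hz₀, hreg, hdim, hbl⟩ := id hb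
    haveI := hbp
    have hz' : PtBlow.IsRegPt W z := ⟨hz, hreg, hdim⟩
    have hZ := surf_of_regularProper hC (regularProper_blowUp hC hW' hz' hbl)
    haveI := hZ.int
    haveI := hZ.noeth
    haveI : IsProper (q₁ ≫ π₁) := by rw [hq, Category.assoc]; exact hZ.proper
    haveI : IsProper q₁ := IsProper.of_comp q₁ π₁
    have hseq := PtBlow.isContractionSeq_of_birational q₁ hZ.reg hZ.dim h₁.reg h₁.dim hbir
    haveI := hι
    obtain ⟨x, hx⟩ := exc_const₀ hC hH0 hseq π₁ M₁ hnl hexc ι hE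
    obtain ⟨q', hq', -⟩ := PtBlow.existsUnique_desc ι hE b hb q₁ x hx
    have hq'' : q' ≫ π₁ = r ≫ π₂ := PtBlow.epi_blowUp hz' hbl (by rw [reassoc_of% hq', hq, Category.assoc])
    obtain ⟨-, k, _, e, -⟩ := id hE
    haveI : IsIntegral (CohB1.ProjSpace 1 k) := Horrocks.isIntegral_projSpace
    let a := e.hom (genericPoint (CohB1.ProjSpace 1 k))
    have hxz : q' z = x := by
      rw [← (show b (ι a) = z from hz₀.subset ⟨_, rfl⟩), ← Scheme.Hom.comp_apply b q', hq']
      exact hx.subset ⟨a, rfl⟩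
    have hxc : IsClosed ({x} : Set X₁) := by
      rw [← hx, Scheme.Hom.comp_base, TopCat.coe_comp, Set.range_comp]
      exact q₁.isClosedMap _ ι.isClosedEmbedding.isClosed_range
    obtain ⟨V, hV, hVi⟩ := hbir
    let V' : X₁.Opens := V ⊓ ⟨({x} : Set X₁)ᶜ, hxc.isOpen_compl⟩
    have hxgen : x ≠ genericPoint X₁ := fun h => by
      have h1 := base_ne_bot_of_closed hR π₁ (h ▸ hxc)
      haveI := h₁.flat
      obtain ⟨w, hw, hw'⟩ := Flat.generalizingMap π₁ (a := genericPoint X₁)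
        ((PrimeSpectrum.le_iff_specializes (⟨⊥, Ideal.isPrime_bot⟩ : PrimeSpectrum R) (π₁ (genericPoint X₁))).mp bot_le)
      rw [(hw.antisymm ((genericPoint_spec X₁).specializes trivial)).eq] at hw'
      exact h1 (congrArg PrimeSpectrum.asIdeal hw')
    have hbir' : IsIso (q' ∣_ V') := by
      haveI hbU : IsIso (b ∣_ q' ⁻¹ᵁ V') := PtBlow.isIso_restrict_le b (V := (PtBlow.pt hz').support.compl)
        (fun v hv => by
          show v ∉ ((PtBlow.pt hz').support : Set W)
          rw [PtBlow.coe_support_pt hz']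
          intro h
          rw [Set.mem_singleton_iff.1 h] at hv
          exact hv.2 hxz) (BlowUpLib.isIso_restrict hbl)
      haveI := hVi
      have h1 : IsIso ((b ≫ q') ∣_ V') := hq'.symm ▸ PtBlow.isIso_restrict_le q₁ (V := V) inf_le_left hVi
      rw [morphismRestrict_comp] at h1
      exact @IsIso.of_isIso_comp_left _ _ _ _ _ (b ∣_ q' ⁻¹ᵁ V') _ hbU h1
    have hne : (V' : Set X₁).Nonempty := ⟨genericPoint X₁,
      ((genericPoint_spec X₁).mem_open_set_iff V.2).2 (by simpa using hV), fun h => hxgen h.symm⟩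
    obtain ⟨h, hh⟩ := ih π₂ h₂ q' hq'' ⟨V', hne, hbir'⟩
    exact ⟨h, by rw [Category.assoc, hh, hq']⟩

/-- The identification of generic fibres extends to a contraction onto a model without exceptional curves. -/
theorem exists_contraction_to_min₀ (hC : Curve.IsSmoothProperCurve (FractionRing R) C f) (hH0 : IsIso f.appTop)
    {X₁ X₂ : Scheme.{u}} (π₁ : X₁ ⟶ Spec (CommRingCat.of R)) (N₁ : Models.IsRegularProperModel R X₁ π₁ C f)
    (hnl : ¬ HasLineFibre R X₁ π₁)
    (hexc : ∀ (E : Scheme.{u}) (ι : E ⟶ X₁) [IsClosedImmersion ι], ¬ Models.IsExcCurve ι)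
    (π₂ : X₂ ⟶ Spec (CommRingCat.of R)) (N₂ : Models.IsRegularProperModel R X₂ π₂ C f) {g₁ : C ⟶ X₁} (hg₁ : IsPullback g₁ f π₁ (Neron.genPt R))
    {g₂ : C ⟶ X₂} (hg₂ : IsPullback g₂ f π₂ (Neron.genPt R)) :
    ∃ h : X₂ ⟶ X₁, h ≫ π₁ = π₂ ∧ g₂ ≫ h = g₁ ∧ Models.IsContractionSeq h := by
  have hR := IsDiscreteValuationRing.not_isField R
  haveI := hC.2.2.1
  have M₁ := surf_of_regularProper hC N₁
  have M₂ := surf_of_regularProper hC N₂
  haveI := M₁.int
  haveI := M₁.proper
  haveI := M₁.flat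
  haveI := M₁.noeth
  haveI := M₂.int
  haveI := M₂.proper
  haveI := M₂.flat
  haveI := M₂.noeth
  let η₀ := genericPoint C
  have hw : g₁ η₀ = genericPoint X₁ :=
    ((genericPoint_of_flat π₁ g₁ hg₁ _).antisymm (genericPoint_specializes _)).eq
  have hw₂ : g₂ η₀ = genericPoint X₂ :=
    ((genericPoint_of_flat π₂ g₂ hg₂ _).antisymm (genericPoint_specializes _)).eq
  haveI := isIso_stalkMap_generic hg₁ η₀
  haveI := isIso_stalkMap_generic hg₂ η₀
  -- the rational map
  let x := g₁ η₀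
  let ψ : Spec (X₁.presheaf.stalk x) ⟶ X₂ := Spec.map (inv (g₁.stalkMap η₀)) ≫ C.fromSpecStalk η₀ ≫ g₂
  have hψ : ψ ≫ π₂ = X₁.fromSpecStalk x ≫ π₁ := by
    simp only [ψ, Category.assoc, hg₂.w, ← hg₁.w]
    rw [← Scheme.SpecMap_stalkMap_fromSpecStalk_assoc, ← Spec.map_comp_assoc, IsIso.hom_inv_id, Spec.map_id,
      Category.id_comp]
  let P := Scheme.PartialMap.ofFromSpecStalk π₁ π₂ ψ hψ
  have hxP : x ∈ P.domain := Scheme.PartialMap.mem_domain_ofFromSpecStalk π₁ π₂ ψ hψ
  have hP : P.domain.fromSpecStalkOfMem x hxP ≫ P.hom = ψ :=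
    Scheme.PartialMap.fromSpecStalkOfMem_ofFromSpecStalk π₁ π₂ ψ hψ
  obtain ⟨Z, g, q, hseq, hqw, hagree⟩ := PtBlow.exists_morphism M₁.reg M₁.dim π₁ π₂ P.domain ⟨x, hxP⟩
    P.hom (Scheme.PartialMap.ofFromSpecStalk_comp π₁ π₂ ψ hψ)
  have MZ := surf_of_regularProper hC (regularProper_of_seq hC hseq.isContractionSeq π₁ N₁)
  haveI := MZ.int
  haveI := MZ.noeth
  obtain ⟨-, -, -, hgp, V, hV, hgV⟩ := PtBlow.props_of_contractionSeq hseq.isContractionSeq M₁.reg
  haveI := hgp
  haveI := hgV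
  have hxV : x ∈ V := by
    show g₁ η₀ ∈ V
    rw [hw]
    exact ((genericPoint_spec X₁).mem_open_set_iff V.2).2 (by simpa using hV)
  obtain ⟨⟨z₀, hz₀V⟩, hz₀'⟩ := (g ∣_ V).surjective ⟨x, hxV⟩
  have hz₀ : g z₀ = x := (morphismRestrict_base_coe g V _).symm.trans (congrArg Subtype.val hz₀')
  have hz₀gen : z₀ = genericPoint Z := by
    have hgV' : g (genericPoint Z) ∈ V :=
      ((genericPoint_specializes z₀).map g.continuous).mem_open V.2 (hz₀.symm ▸ hxV)
    have h1 : g (genericPoint Z) = x := by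
      have := ((genericPoint_specializes z₀).map g.continuous)
      rw [hz₀] at this
      exact (this.antisymm (show x ⤳ g (genericPoint Z) by rw [show x = _ from hw]; exact genericPoint_specializes _)).eq
    have := (g ∣_ V).isOpenEmbedding.injective (a₁ := ⟨z₀, hz₀V⟩) (a₂ := ⟨genericPoint Z, hgV'⟩)
      (Subtype.ext (by rw [morphismRestrict_base_coe, morphismRestrict_base_coe]; exact hz₀.trans h1.symm))
    exact congrArg Subtype.val this
  haveI : IsIso (g.stalkMap z₀) := (MorphismProperty.arrow_mk_iso_iff (MorphismProperty.isomorphisms CommRingCat)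
    (morphismRestrictStalkMap g V ⟨z₀, hz₀V⟩)).1 (inferInstanceAs (IsIso ((g ∣_ V).stalkMap ⟨z₀, hz₀V⟩)))
  obtain ⟨e, he, heg, heq⟩ := exists_lift_stalk g z₀ hz₀ hxP P.hom q hagree
  haveI := he
  rw [hP] at heq
  -- `q` is birational
  have hqz : Z.fromSpecStalk z₀ ≫ q = (inv e ≫ Spec.map (inv (g₁.stalkMap η₀)) ≫ Spec.map (g₂.stalkMap η₀)) ≫
      X₂.fromSpecStalk (g₂ η₀) := by
    simp only [Category.assoc, Scheme.SpecMap_stalkMap_fromSpecStalk]
    rw [IsIso.eq_inv_comp]
    exact heq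
  haveI : IsProper (q ≫ π₂) := by rw [hqw]; exact MZ.proper
  haveI : IsProper q := IsProper.of_comp q π₂
  have hqgen : q (genericPoint Z) = genericPoint X₂ := by
    have h1 : (Z.fromSpecStalk z₀ ≫ q) (IsLocalRing.closedPoint _) = q z₀ := by
      rw [Scheme.Hom.comp_apply, Scheme.fromSpecStalk_closedPoint]
    have h2 := congrArg (fun m : Spec (Z.presheaf.stalk z₀) ⟶ X₂ => m (IsLocalRing.closedPoint _)) hqz
    simp only at h2
    rw [h1, Scheme.Hom.comp_apply] at h2
    set c := (inv e ≫ Spec.map (inv (g₁.stalkMap η₀)) ≫ Spec.map (g₂.stalkMap η₀)) (IsLocalRing.closedPoint _)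
    have h3 : X₂.fromSpecStalk (g₂ η₀) c ∈ Set.range (X₂.fromSpecStalk (g₂ η₀)) := ⟨c, rfl⟩
    rw [Scheme.range_fromSpecStalk, ← h2, hz₀gen, hw₂] at h3
    exact ((show q (genericPoint Z) ⤳ genericPoint X₂ from h3).antisymm (genericPoint_specializes _)).eq
  haveI : IsIso (q.stalkMap (genericPoint Z)) := by
    rw [← hz₀gen]
    exact isIso_stalkMap_of_fromSpecStalk q z₀ (hz₀gen ▸ hqgen.trans hw₂.symm) _ hqz
  have hseq₂ := PtBlow.isContractionSeq_of_birational q MZ.reg MZ.dim M₂.reg M₂.dim (exists_iso_over_open q hqgen)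
  obtain ⟨h, hh'⟩ := exists_desc₀ hC hH0 π₁ N₁ hnl hexc hseq₂ π₂ N₂ g hqw.symm ⟨V, hV, hgV⟩
  have hwh : h ≫ π₁ = π₂ := by
    haveI : IsDominant q := ⟨by
      rw [DenseRange]
      refine Dense.mono ?_ (show Dense ({genericPoint X₂} : Set X₂) from
        dense_iff_closure_eq.2 (genericPoint_closure (α := X₂)))
      exact Set.singleton_subset_iff.2 ⟨genericPoint Z, hqgen⟩⟩
    refine AlgebraicGeometry.ext_of_isDominant q ?_
    rw [← Category.assoc, hh', hqw]
  have hkey : g₂ ≫ h = g₁ := by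
    haveI : IsDominant (C.fromSpecStalk η₀) := ⟨fun v => closure_mono (s := {η₀}) (t := Set.range (C.fromSpecStalk η₀)) (Set.singleton_subset_iff.2
      ⟨IsLocalRing.closedPoint _, Scheme.fromSpecStalk_closedPoint⟩) (genericPoint_specializes v).mem_closure⟩
    refine ext_of_isDominant_of_isSeparated π₁ ?_ (C.fromSpecStalk η₀) ?_
    · rw [Category.assoc, hwh, hg₂.w, hg₁.w]
    · have h1 : C.fromSpecStalk η₀ ≫ g₂ = Spec.map (g₁.stalkMap η₀) ≫ ψ := by
        simp only [ψ]
        rw [← Spec.map_comp_assoc, IsIso.inv_hom_id, Spec.map_id, Category.id_comp]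
      rw [reassoc_of% h1, ← heq, Category.assoc, Category.assoc, hh', heg, Scheme.SpecMap_stalkMap_fromSpecStalk]
  refine ⟨h, hwh, hkey, ?_⟩
  -- `h` is birational
  haveI : IsProper (h ≫ π₁) := by rw [hwh]; exact M₂.proper
  haveI : IsProper h := IsProper.of_comp h π₁
  have hgen : h (genericPoint X₂) = genericPoint X₁ := by
    rw [← hw₂, ← Scheme.Hom.comp_apply, hkey, hw]
  haveI : IsIso (h.stalkMap (genericPoint X₂)) := by
    rw [← hw₂]
    have h1 : IsIso ((g₂ ≫ h).stalkMap η₀) := by rw [hkey]; infer_instance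
    rw [Scheme.Hom.stalkMap_comp] at h1
    exact @IsIso.of_isIso_comp_right _ _ _ _ _ _ (g₂.stalkMap η₀) _ h1
  exact PtBlow.isContractionSeq_of_birational h M₂.reg M₂.dim M₁.reg M₁.dim (exists_iso_over_open h hgen)

end Groth.Agent.Castel
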