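import Groth.Agent.Castel.ProperModel

/-!
Minimal models of curves over a discrete valuation ring: the universal property.
-/

set_option autoImplicit false
set_option backward.isDefEq.respectTransparency false
set_option backward.isDefEq.respectTransparency.types false
set_option linter.style.haveILetI false

universe u

open CategoryTheory CategoryTheory.Limits AlgebraicGeometry TopologicalSpace Topology

noncomputable section

namespace Groth.Agent.Castel

variable {R : Type u} [CommRing R] [IsDomain R] [IsDiscreteValuationRing R]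

/-- The generic fibre inclusion is dominant. -/
theorem isDominant_generic {C Y : Scheme.{u}} [IsIntegral C] {f : C ⟶ Spec (CommRingCat.of (FractionRing R))}
    (q : Y ⟶ Spec (CommRingCat.of R)) [Flat q] {g : C ⟶ Y} (hg : IsPullback g f q (Neron.genPt R)) :
    IsDominant g :=
  ⟨fun y => closure_mono (s := {g (genericPoint C)}) (Set.singleton_subset_iff.2 (Set.mem_range_self _))
    (genericPoint_of_flat q g hg y).mem_closure⟩

/-- Morphisms of models are determined by the generic fibre. -/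
theorem hom_ext_of_generic {C X Y : Scheme.{u}} [IsIntegral C] {f : C ⟶ Spec (CommRingCat.of (FractionRing R))}
    (p : X ⟶ Spec (CommRingCat.of R)) [IsSeparated p] (q : Y ⟶ Spec (CommRingCat.of R)) [Flat q] [IsReduced Y]
    {g : C ⟶ Y} (hg : IsPullback g f q (Neron.genPt R)) {b b' : Y ⟶ X} (hb : b ≫ p = q) (hb' : b' ≫ p = q)
    (h : g ≫ b = g ≫ b') : b = b' :=
  haveI := isDominant_generic q hg
  ext_of_isDominant_of_isSeparated p (hb.trans hb'.symm) g h

/-- The identification of generic fibres extends to a contraction onto a model without exceptional curves. -/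
theorem exists_contraction_to_min {C X₁ X₂ : Scheme.{u}} [IsIntegral C]
    {f : C ⟶ Spec (CommRingCat.of (FractionRing R))} (π₁ : X₁ ⟶ Spec (CommRingCat.of R)) (M₁ : IsModel π₁)
    (hexc : ∀ (E : Scheme.{u}) (ι : E ⟶ X₁) [IsClosedImmersion ι], ¬ Models.IsExcCurve ι)
    (π₂ : X₂ ⟶ Spec (CommRingCat.of R)) (M₂ : IsModel π₂) {g₁ : C ⟶ X₁} (hg₁ : IsPullback g₁ f π₁ (Neron.genPt R))
    {g₂ : C ⟶ X₂} (hg₂ : IsPullback g₂ f π₂ (Neron.genPt R)) :
    ∃ h : X₂ ⟶ X₁, h ≫ π₁ = π₂ ∧ g₂ ≫ h = g₁ ∧ Models.IsContractionSeq h := by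
  have hR := IsDiscreteValuationRing.not_isField R
  haveI := M₁.int
  haveI := M₁.proper
  haveI := M₁.flat
  haveI := M₁.noeth
  haveI := M₂.int
  haveI := M₂.proper
  haveI := M₂.flat
  haveI := M₂.noeth
  let η₀ := genericPoint C
  have hw : g₁ η₀ = genericPoint X₁ :=
    ((genericPoint_of_flat π₁ g₁ hg₁ _).antisymm (genericPoint_specializes _)).eq
  have hw₂ : g₂ η₀ = genericPoint X₂ :=
    ((genericPoint_of_flat π₂ g₂ hg₂ _).antisymm (genericPoint_specializes _)).eq
  haveI := isIso_stalkMap_generic hg₁ η₀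
  haveI := isIso_stalkMap_generic hg₂ η₀
  -- the rational map
  let x := g₁ η₀
  let ψ : Spec (X₁.presheaf.stalk x) ⟶ X₂ := Spec.map (inv (g₁.stalkMap η₀)) ≫ C.fromSpecStalk η₀ ≫ g₂
  have hψ : ψ ≫ π₂ = X₁.fromSpecStalk x ≫ π₁ := by
    simp only [ψ, Category.assoc, hg₂.w, ← hg₁.w]
    rw [← Scheme.SpecMap_stalkMap_fromSpecStalk_assoc, ← Spec.map_comp_assoc, IsIso.hom_inv_id, Spec.map_id,
      Category.id_comp]
  let P := Scheme.PartialMap.ofFromSpecStalk π₁ π₂ ψ hψ
  have hxP : x ∈ P.domain := Scheme.PartialMap.mem_domain_ofFromSpecStalk π₁ π₂ ψ hψ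
  have hP : P.domain.fromSpecStalkOfMem x hxP ≫ P.hom = ψ :=
    Scheme.PartialMap.fromSpecStalkOfMem_ofFromSpecStalk π₁ π₂ ψ hψ
  obtain ⟨Z, g, q, hseq, hqw, hagree⟩ := PtBlow.exists_morphism M₁.reg M₁.dim π₁ π₂ P.domain ⟨x, hxP⟩
    P.hom (Scheme.PartialMap.ofFromSpecStalk_comp π₁ π₂ ψ hψ)
  have MZ := isModel_of_seq hR hseq.isContractionSeq π₁ M₁
  haveI := MZ.int
  haveI := MZ.noeth
  obtain ⟨-, -, -, hgp, V, hV, hgV⟩ := PtBlow.props_of_contractionSeq hseq.isContractionSeq M₁.reg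
  haveI := hgp
  haveI := hgV
  have hxV : x ∈ V := by
    show g₁ η₀ ∈ V
    rw [hw]
    exact ((genericPoint_spec X₁).mem_open_set_iff V.2).2 (by simpa using hV)
  obtain ⟨⟨z₀, hz₀V⟩, hz₀'⟩ := (g ∣_ V).surjective ⟨x, hxV⟩
  have hz₀ : g z₀ = x := (morphismRestrict_base_coe g V _).symm.trans (congrArg Subtype.val hz₀')
  have hz₀gen : z₀ = genericPoint Z := by
    have hgV' : g (genericPoint Z) ∈ V :=
      ((genericPoint_specializes z₀).map g.continuous).mem_open V.2 (hz₀.symm ▸ hxV)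
    have h1 : g (genericPoint Z) = x := by
      have := ((genericPoint_specializes z₀).map g.continuous)
      rw [hz₀] at this
      exact (this.antisymm (show x ⤳ g (genericPoint Z) by rw [show x = _ from hw]; exact genericPoint_specializes _)).eq
    have := (g ∣_ V).isOpenEmbedding.injective (a₁ := ⟨z₀, hz₀V⟩) (a₂ := ⟨genericPoint Z, hgV'⟩)
      (Subtype.ext (by rw [morphismRestrict_base_coe, morphismRestrict_base_coe]; exact hz₀.trans h1.symm))
    exact congrArg Subtype.val this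
  haveI : IsIso (g.stalkMap z₀) := (MorphismProperty.arrow_mk_iso_iff (MorphismProperty.isomorphisms CommRingCat)
    (morphismRestrictStalkMap g V ⟨z₀, hz₀V⟩)).1 (inferInstanceAs (IsIso ((g ∣_ V).stalkMap ⟨z₀, hz₀V⟩)))
  obtain ⟨e, he, heg, heq⟩ := exists_lift_stalk g z₀ hz₀ hxP P.hom q hagree
  haveI := he
  rw [hP] at heq
  -- `q` is birational
  have hqz : Z.fromSpecStalk z₀ ≫ q = (inv e ≫ Spec.map (inv (g₁.stalkMap η₀)) ≫ Spec.map (g₂.stalkMap η₀)) ≫
      X₂.fromSpecStalk (g₂ η₀) := by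
    simp only [Category.assoc, Scheme.SpecMap_stalkMap_fromSpecStalk]
    rw [IsIso.eq_inv_comp]
    exact heq
  haveI : IsProper (q ≫ π₂) := by rw [hqw]; exact MZ.proper
  haveI : IsProper q := IsProper.of_comp q π₂
  have hqgen : q (genericPoint Z) = genericPoint X₂ := by
    have h1 : (Z.fromSpecStalk z₀ ≫ q) (IsLocalRing.closedPoint _) = q z₀ := by
      rw [Scheme.Hom.comp_apply, Scheme.fromSpecStalk_closedPoint]
    have h2 := congrArg (fun m : Spec (Z.presheaf.stalk z₀) ⟶ X₂ => m (IsLocalRing.closedPoint _)) hqz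
    simp only at h2
    rw [h1, Scheme.Hom.comp_apply] at h2
    set c := (inv e ≫ Spec.map (inv (g₁.stalkMap η₀)) ≫ Spec.map (g₂.stalkMap η₀)) (IsLocalRing.closedPoint _)
    have h3 : X₂.fromSpecStalk (g₂ η₀) c ∈ Set.range (X₂.fromSpecStalk (g₂ η₀)) := ⟨c, rfl⟩
    rw [Scheme.range_fromSpecStalk, ← h2, hz₀gen, hw₂] at h3
    exact ((show q (genericPoint Z) ⤳ genericPoint X₂ from h3).antisymm (genericPoint_specializes _)).eq
  haveI : IsIso (q.stalkMap (genericPoint Z)) := by
    rw [← hz₀gen]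
    exact isIso_stalkMap_of_fromSpecStalk q z₀ (hz₀gen ▸ hqgen.trans hw₂.symm) _ hqz
  have hseq₂ := PtBlow.isContractionSeq_of_birational q MZ.reg MZ.dim M₂.reg M₂.dim (exists_iso_over_open q hqgen)
  obtain ⟨h, hh'⟩ := exists_desc hR π₁ M₁ hexc hseq₂ π₂ M₂ g hqw.symm ⟨V, hV, hgV⟩
  have hwh : h ≫ π₁ = π₂ := by
    haveI : IsDominant q := ⟨by
      rw [DenseRange]
      refine Dense.mono ?_ (show Dense ({genericPoint X₂} : Set X₂) from
        dense_iff_closure_eq.2 (genericPoint_closure (α := X₂)))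
      exact Set.singleton_subset_iff.2 ⟨genericPoint Z, hqgen⟩⟩
    refine AlgebraicGeometry.ext_of_isDominant q ?_
    rw [← Category.assoc, hh', hqw]
  have hkey : g₂ ≫ h = g₁ := by
    haveI : IsDominant (C.fromSpecStalk η₀) := ⟨fun v => closure_mono (s := {η₀}) (t := Set.range (C.fromSpecStalk η₀)) (Set.singleton_subset_iff.2
      ⟨IsLocalRing.closedPoint _, Scheme.fromSpecStalk_closedPoint⟩) (genericPoint_specializes v).mem_closure⟩
    refine ext_of_isDominant_of_isSeparated π₁ ?_ (C.fromSpecStalk η₀) ?_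
    · rw [Category.assoc, hwh, hg₂.w, hg₁.w]
    · have h1 : C.fromSpecStalk η₀ ≫ g₂ = Spec.map (g₁.stalkMap η₀) ≫ ψ := by
        simp only [ψ]
        rw [← Spec.map_comp_assoc, IsIso.inv_hom_id, Spec.map_id, Category.id_comp]
      rw [reassoc_of% h1, ← heq, Category.assoc, Category.assoc, hh', heg, Scheme.SpecMap_stalkMap_fromSpecStalk]
  refine ⟨h, hwh, hkey, ?_⟩
  -- `h` is birational
  haveI : IsProper (h ≫ π₁) := by rw [hwh]; exact M₂.proper
  haveI : IsProper h := IsProper.of_comp h π₁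
  have hgen : h (genericPoint X₂) = genericPoint X₁ := by
    rw [← hw₂, ← Scheme.Hom.comp_apply, hkey, hw]
  haveI : IsIso (h.stalkMap (genericPoint X₂)) := by
    rw [← hw₂]
    have h1 : IsIso ((g₂ ≫ h).stalkMap η₀) := by rw [hkey]; infer_instance
    rw [Scheme.Hom.stalkMap_comp] at h1
    exact @IsIso.of_isIso_comp_right _ _ _ _ _ _ (g₂.stalkMap η₀) _ h1
  exact PtBlow.isContractionSeq_of_birational h M₂.reg M₂.dim M₁.reg M₁.dim (exists_iso_over_open h hgen)

/-- The mapping property of minimal models. -/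
theorem exists_contraction_of_minimal {C X Y : Scheme.{u}} {f : C ⟶ Spec (CommRingCat.of (FractionRing R))}
    {p : X ⟶ Spec (CommRingCat.of R)} {q : Y ⟶ Spec (CommRingCat.of R)}
    (hC : Curve.IsSmoothProperCurve (FractionRing R) C f) (hg : 0 < Models.curveGenus (FractionRing R) C f)
    (hX : Models.IsMinimalModel R X p C f) (hY : Models.IsRegularProperModel R Y q C f)
    {gX : C ⟶ X} (hgX : IsPullback gX f p (Neron.genPt R)) {gY : C ⟶ Y} (hgY : IsPullback gY f q (Neron.genPt R)) :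
    ∃ b : Y ⟶ X, (b ≫ p = q ∧ gY ≫ b = gX) ∧ Models.IsContractionSeq b ∧
      ∀ b' : Y ⟶ X, b' ≫ p = q → gY ≫ b' = gX → b' = b := by
  haveI := hC.2.2.1
  have MX := isModel_of_regularProper hC hg hX.1
  have MY := isModel_of_regularProper hC hg hY
  haveI := MX.proper
  obtain ⟨b, h1, h2, h3⟩ := exists_contraction_to_min p MX (fun E ι _ hE => by
    obtain ⟨Γ, hΓ⟩ := exists_vertComp_of_exc p ι hE
    exact hX.2 Γ hΓ) q MY hgX hgY
  haveI := MY.int
  haveI := MY.flat
  exact ⟨b, ⟨h1, h2⟩, h3, fun b' h1' h2' => hom_ext_of_generic p q hgY h1' h1 (h2'.trans h2.symm)⟩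

end Groth.Agent.Castel
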