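import Groth.Agent.Castel.GenusZeroLine
import Groth.Agent.Castel.MinModel

/-!
Minimal models in genus zero: either unique or with closed fibre a projective line.
-/

set_option autoImplicit false
set_option backward.isDefEq.respectTransparency false
set_option backward.isDefEq.respectTransparency.types false
set_option linter.style.haveILetI false

universe u

open CategoryTheory CategoryTheory.Limits AlgebraicGeometry TopologicalSpace Topology

noncomputable section

namespace Groth.Agent.Castel

variable {R : Type u} [CommRing R] [IsDomain R] [IsDiscreteValuationRing R]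
variable {C : Scheme.{u}} {f : C ⟶ Spec (CommRingCat.of (FractionRing R))}

/-- The closed fibre is a projective line. -/
def HasLineFibre (R : Type u) [CommRing R] [IsDomain R] [IsDiscreteValuationRing R] (X : Scheme.{u})
    (p : X ⟶ Spec (CommRingCat.of R)) : Prop :=
  ∃ e : Models.specialFibre R X p ≅ CohB1.ProjSpace 1 (IsLocalRing.ResidueField R),
    e.hom ≫ CohB1.ProjSpace.toSpec 1 (IsLocalRing.ResidueField R) =
      pullback.snd p (Spec.map (CommRingCat.ofHom (algebraMap R (IsLocalRing.ResidueField R))))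

theorem hasLineFibre_of_iso {X Z : Scheme.{u}} {p : X ⟶ Spec (CommRingCat.of R)} {q : Z ⟶ Spec (CommRingCat.of R)}
    (e : X ≅ Z) (he : e.hom ≫ q = p) (h : HasLineFibre R Z q) : HasLineFibre R X p := by
  obtain ⟨e', he'⟩ := h
  let res := Spec.map (CommRingCat.ofHom (algebraMap R (IsLocalRing.ResidueField R)))
  let m : pullback p res ⟶ pullback q res :=
    pullback.map p res q res e.hom (𝟙 _) (𝟙 _) (by rw [Category.comp_id, he]) (by simp)
  haveI : IsIso m := inferInstance
  refine ⟨asIso m ≪≫ e', ?_⟩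
  rw [Iso.trans_hom, Category.assoc, he']
  exact (pullback.lift_snd _ _ _).trans (Category.comp_id _)

/-- A single reduced component isomorphic to a line. -/
theorem hasLineFibre_of_component {Z : Scheme.{u}} {q : Z ⟶ Spec (CommRingCat.of R)}
    (Δ : ArSurf.VertComp R (Over.mk q)) (hfib : fibreIdeal (Over.mk q) = Δ.ι.ker)
    (e : Δ.curve.left ≅ CohB1.ProjSpace 1 (IsLocalRing.ResidueField R))
    (he : e.hom ≫ CohB1.ProjSpace.toSpec 1 (IsLocalRing.ResidueField R) = Δ.curve.hom) :
    HasLineFibre R Z q := by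
  let res := Spec.map (CommRingCat.ofHom (IsLocalRing.residue R))
  haveI : IsClosedImmersion res := IsClosedImmersion.spec_of_surjective _ IsLocalRing.residue_surjective
  have hk : (pullback.fst q res).ker = Δ.ι.ker := (ker_fst_residue (Over.mk q)).trans hfib
  haveI : IsClosedImmersion (pullback.fst q res) := inferInstance
  let a := IsClosedImmersion.lift Δ.ι (pullback.fst q res) hk.ge
  have ha : a ≫ Δ.ι = pullback.fst q res := IsClosedImmersion.lift_fac _ _ _
  haveI : IsIso a := IsClosedImmersion.isIso_of_ker_eq (pullback.fst q res) Δ.ι a ha hk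
  refine ⟨asIso a ≪≫ e, ?_⟩
  show (asIso a ≪≫ e).hom ≫ CohB1.ProjSpace.toSpec 1 (IsLocalRing.ResidueField R) = pullback.snd q res
  rw [Iso.trans_hom, Category.assoc, he, asIso_hom, ← cancel_mono res, Category.assoc, ← Δ.w,
    reassoc_of% ha, ← pullback.condition]
  rfl

/-- Blowing up a regular point of a regular proper model gives a regular proper model. -/
theorem regularProper_blowUp (hC : Curve.IsSmoothProperCurve (FractionRing R) C f) {W Z : Scheme.{u}}
    {q : Z ⟶ Spec (CommRingCat.of R)} (hZ : Models.IsRegularProperModel R Z q C f)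
    {b : W ⟶ Z} {z : Z} (hz : PtBlow.IsRegPt Z z) (hb : BlowUp.IsBlowUp b (PtBlow.pt hz)) :
    Models.IsRegularProperModel R W (b ≫ q) C f := by
  have hR := IsDiscreteValuationRing.not_isField R
  obtain ⟨hint, hdim⟩ := surface_of_regularProper hC hZ
  obtain ⟨⟨hfl, -, -, g, hg⟩, hp, hreg⟩ := hZ
  haveI := hint; haveI := hfl; haveI := hp
  haveI : IsLocallyNoetherian Z := LocallyOfFiniteType.isLocallyNoetherian q
  haveI : CompactSpace Z := QuasiCompact.compactSpace_of_compactSpace q
  haveI : AlgebraicGeometry.IsNoetherian Z := {}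
  haveI := PtBlow.isProper_blowUp hz hb
  haveI := W7Fib.isIntegral_blowUp (PtBlow.pt_ne_bot hz) hb
  let U : Z.Opens := (PtBlow.pt hz).support.compl
  have hUmem : ∀ w, w ∈ U ↔ w ≠ z := fun w => by
    show w ∉ ((PtBlow.pt hz).support : Set Z) ↔ _
    rw [PtBlow.coe_support_pt hz]
    rfl
  haveI hiso : IsIso (b ∣_ U) := BlowUpLib.isIso_restrict hb
  have hηU : genericPoint Z ∈ U := (hUmem _).2 (PtBlow.genericPoint_ne hz)
  have hbη : b (genericPoint W) = genericPoint Z := by
    obtain ⟨v, hv⟩ := (b ∣_ U).surjective ⟨_, hηU⟩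
    have hv' : b v.1 = genericPoint Z := (morphismRestrict_base_coe b U v).symm.trans (congrArg Subtype.val hv)
    exact ((genericPoint_specializes _).antisymm (hv' ▸ (genericPoint_specializes v.1).map b.continuous)).eq.symm
  have hπη : (q (genericPoint Z)).asIdeal = ⊥ := by
    obtain ⟨w, hw, hw'⟩ := Flat.generalizingMap q (a := genericPoint Z)
      ((PrimeSpectrum.le_iff_specializes (⟨⊥, Ideal.isPrime_bot⟩ : PrimeSpectrum R) (q (genericPoint Z))).mp bot_le)
    rw [(hw.antisymm ((genericPoint_spec Z).specializes trivial)).eq] at hw'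
    exact congrArg PrimeSpectrum.asIdeal hw'
  haveI : Flat (b ≫ q) := flat_of_dominant (b ≫ q) (by rw [Scheme.Hom.comp_apply, hbη, hπη])
  let G : Over.mk (b ≫ q) ⟶ Over.mk q := Over.homMk b rfl
  haveI : IsIso (G.left ∣_ U) := hiso
  haveI := isIso_genericFibre_map G U fun w hw => (hUmem w).2 fun e => by
    subst e
    exact base_ne_bot_of_closed hR q hz.closed hw
  haveI : IsIso ((Neron.genericFibre R).map G).left :=
    inferInstanceAs (IsIso ((Over.forget _).map ((Neron.genericFibre R).map G)))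
  let m : pullback (b ≫ q) (Neron.genPt R) ⟶ pullback q (Neron.genPt R) := ((Neron.genericFibre R).map G).left
  haveI : IsIso m := inferInstanceAs (IsIso ((Neron.genericFibre R).map G).left)
  have hg' : IsPullback (hg.isoPullback.hom ≫ inv m ≫ pullback.fst (b ≫ q) (Neron.genPt R)) f (b ≫ q) (Neron.genPt R) := by
    refine IsPullback.of_iso_pullback ⟨?_⟩ (hg.isoPullback ≪≫ (asIso m).symm) ?_ ?_
    · simp only [Category.assoc, pullback.condition]
      rw [show inv m ≫ pullback.snd (b ≫ q) (Neron.genPt R) ≫ Neron.genPt R =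
          pullback.snd q (Neron.genPt R) ≫ Neron.genPt R by
        rw [IsIso.inv_comp_eq, show m ≫ pullback.snd q (Neron.genPt R) ≫ Neron.genPt R =
          (m ≫ pullback.snd q (Neron.genPt R)) ≫ Neron.genPt R from (Category.assoc _ _ _).symm]
        rw [show m ≫ pullback.snd q (Neron.genPt R) = pullback.snd (b ≫ q) (Neron.genPt R) from pullback.lift_snd _ _ _]]
      exact IsPullback.isoPullback_hom_snd_assoc hg (Neron.genPt R)
    · rw [Iso.trans_hom, Iso.symm_hom, asIso_inv, Category.assoc]
    · rw [Iso.trans_hom, Iso.symm_hom, asIso_inv, Category.assoc,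
        show inv m ≫ pullback.snd (b ≫ q) (Neron.genPt R) = pullback.snd q (Neron.genPt R) by
          rw [IsIso.inv_comp_eq]; exact (pullback.lift_snd _ _ _).symm,
        IsPullback.isoPullback_hom_snd]
  exact ⟨⟨inferInstance, inferInstance, inferInstance, _, hg'⟩, inferInstance, PtBlow.isRegular_blowUp hz hb hreg⟩

theorem regularProper_of_seq (hC : Curve.IsSmoothProperCurve (FractionRing R) C f) {W X : Scheme.{u}} {q : W ⟶ X}
    (hq : Models.IsContractionSeq q) :
    ∀ (π : X ⟶ Spec (CommRingCat.of R)), Models.IsRegularProperModel R X π C f →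
      Models.IsRegularProperModel R W (q ≫ π) C f := by
  induction hq with
  | @iso W X e =>
    intro π h
    obtain ⟨⟨hfl, hlft, hqc, g, hg⟩, hp, hreg⟩ := h
    haveI := hfl; haveI := hlft; haveI := hqc; haveI := hp
    refine ⟨⟨inferInstance, inferInstance, inferInstance, g ≫ e.inv,
      IsPullback.of_iso hg (Iso.refl _) e.symm (Iso.refl _) (Iso.refl _) (by simp) (by simp) (by simp) (by simp)⟩,
      inferInstance, fun w => ?_⟩
    haveI := hreg (e.hom w)
    exact IsRegularLocalRing.of_ringEquiv (asIso (e.hom.stalkMap w)).commRingCatIsoToRingEquiv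
  | @step W Z X E ι b r hι hE hb hr ih =>
    intro π h
    obtain ⟨-, -, p, hp, -, hreg, hdim, hbl⟩ := hb
    rw [Category.assoc]
    exact regularProper_blowUp hC (ih π h) (z := p) (⟨hp, hreg, hdim⟩ : PtBlow.IsRegPt Z p) hbl

/-- A stage with two meeting exceptional curves over a minimal model makes its closed fibre a line. -/
theorem line_of_meeting_stage (hC : Curve.IsSmoothProperCurve (FractionRing R) C f) (hH0 : IsIso f.appTop)
    {W Z X : Scheme.{u}} {pX : X ⟶ Spec (CommRingCat.of R)} {r : Z ⟶ X} (hr : Models.IsContractionSeq r)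
    (hX : Models.IsRegularProperModel R X pX C f)
    (hexcX : ∀ (E : Scheme.{u}) (ι : E ⟶ X) [IsClosedImmersion ι], ¬ Models.IsExcCurve ι)
    {E₀ E : Scheme.{u}} (ι₀ : E₀ ⟶ W) [IsClosedImmersion ι₀] (b : W ⟶ Z) (hE₀ : Models.IsExcCurve ι₀)
    (hb : Models.IsContractionOf ι₀ b) (ι : E ⟶ W) [IsClosedImmersion ι] (hE : Models.IsExcCurve ι)
    (hne : Set.range ι ≠ Set.range ι₀) (hmeet : ¬ Disjoint (Set.range ι) (Set.range ι₀)) :
    HasLineFibre R X pX := by
  classical
  have hZ := regularProper_of_seq hC hr pX hX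
  let q : Z ⟶ Spec (CommRingCat.of R) := r ≫ pX
  haveI : IsProper q := hZ.2.1
  obtain ⟨hbn, hbp, z₀, hz₀, hz₀r, hreg₀, hdim₀, hbl₀⟩ := id hb
  haveI := hbp
  have hW : Models.IsRegularProperModel R W (b ≫ q) C f :=
    regularProper_blowUp hC hZ (z := z₀) (⟨hz₀, hreg₀, hdim₀⟩ : PtBlow.IsRegPt Z z₀) hbl₀
  let p : W ⟶ Spec (CommRingCat.of R) := b ≫ q
  have hA := isArithSurface_of_regularProper hC hW
  haveI : IsProper (Over.mk p).hom := hW.2.1
  haveI : IsProper p := hW.2.1
  obtain ⟨n, Γ, hΓ⟩ := exists_componentList hC hH0 hW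
  -- the two curves are components
  have hcomp : ∀ {E : Scheme.{u}} (ι : E ⟶ W) [IsClosedImmersion ι], Models.IsExcCurve ι →
      ∃ i, Models.IsExcCurve (Γ i).ι ∧ Set.range (Γ i).ι = Set.range ι := by
    intro E ι _ hE
    obtain ⟨-, k', _, e', -⟩ := id hE
    haveI : IsIntegral (CohB1.ProjSpace 1 k') := Horrocks.isIntegral_projSpace
    haveI : Nonempty E := ⟨e'.hom (genericPoint (CohB1.ProjSpace 1 k'))⟩
    haveI : IsIntegral E := isIntegral_of_isOpenImmersion e'.inv
    obtain ⟨s, hs, hsp⟩ := exc_base_const (IsDiscreteValuationRing.not_isField R) p (e'.hom ≫ ι)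
    haveI : Ideal.IsMaximal s.asIdeal := Ideal.IsPrime.isMaximal s.isPrime hs
    have hs' : s = IsLocalRing.closedPoint R := PrimeSpectrum.ext (IsLocalRing.eq_maximalIdeal inferInstance)
    have hgen : ι (genericPoint E) ∈ Models.specialFibreSet R (Over.mk p) := by
      obtain ⟨a, ha⟩ := e'.hom.surjective (genericPoint E)
      show p (ι (genericPoint E)) = _
      exact (congrArg p (congrArg ι ha.symm)).trans ((hsp a).trans hs')
    obtain ⟨i, hi⟩ := Set.mem_iUnion.1 (componentList_cover hΓ hgen)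
    have hsub : Set.range ι ⊆ Set.range (Γ i).ι := by
      rintro _ ⟨a, rfl⟩
      exact ((genericPoint_specializes a).map ι.continuous).mem_closed (Γ i).ι.isClosedEmbedding.isClosed_range hi
    have hr : Set.range ι = Set.range (Γ i).ι := by
      refine hsub.antisymm ?_
      obtain ⟨w, hw⟩ := hi
      by_cases hwg : w = genericPoint (Γ i).curve.left
      · rintro _ ⟨v, rfl⟩
        exact ((genericPoint_specializes v).map (Γ i).ι.continuous).mem_closed ι.isClosedEmbedding.isClosed_range
          ⟨_, (hwg ▸ hw).symm⟩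
      · exfalso
        -- a chain of length two in the curve
        obtain ⟨a, ha⟩ : ∃ a : E, a ≠ genericPoint E := by
          obtain ⟨a, ha⟩ : ∃ a : CohB1.ProjSpace 1 k', a ≠ genericPoint (CohB1.ProjSpace 1 k') := by
            by_contra! hall
            haveI : Subsingleton (CohB1.ProjSpace 1 k') := ⟨fun a b => (hall a).trans (hall b).symm⟩
            have h0 : topologicalKrullDim (CohB1.ProjSpace 1 k') ≤ ((0 : ℕ) : WithBot ℕ∞) :=
              Unibranch.topologicalKrullDim_le_natCast fun l d hd => by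
                rcases l with _ | l
                · exact le_rfl
                · exact absurd (Subsingleton.elim _ _) (hd 0).2
            rw [Groth.Agent.S10829.result k' 1] at h0
            exact absurd h0 (by decide)
          refine ⟨e'.hom a, fun h => ha (e'.hom.isOpenEmbedding.injective ?_)⟩
          rw [h, genericPoint_eq_of_isOpenImmersion]
        obtain ⟨v, hv⟩ := hsub ⟨a, rfl⟩
        have h1 : w ⤳ v := (Γ i).ι.isEmbedding.isInducing.specializes_iff.1
          (hw.symm ▸ hv.symm ▸ (genericPoint_specializes a).map ι.continuous)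
        have hwv : w ≠ v := fun e => ha (ι.isClosedEmbedding.injective (by rw [← hv, ← e, hw]))
        have h2 := Unibranch.natCast_le_topologicalKrullDim (α := (Γ i).curve.left) (k := 2)
          ![genericPoint (Γ i).curve.left, w, v] (Fin.forall_fin_two.2
            ⟨⟨genericPoint_specializes _, fun e => hwg e.symm⟩, ⟨h1, hwv⟩⟩)
        rw [(Γ i).dim_eq] at h2
        exact absurd h2 (by decide)
    obtain ⟨hk, e, he⟩ := exists_iso_of_range ι (Γ i).ι hr
    exact ⟨i, isExcCurve_of_iso _ _ e he hk hE, hr.symm⟩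
  obtain ⟨i, hei, hri⟩ := hcomp ι₀ hE₀
  obtain ⟨j, hej, hrj⟩ := hcomp ι hE
  have hij : i ≠ j := fun e => hne (by rw [← hrj, ← e, hri])
  have hmij : ¬ Disjoint (Set.range (Γ i).ι) (Set.range (Γ j).ι) := by
    rw [hri, hrj]; exact fun h => hmeet h.symm
  obtain ⟨hn, hall, hm, hw, hij1, -, hgC⟩ := meeting_numbers hC hH0 hW Γ hΓ i j hij hei hej hmij
  subst hn
  obtain ⟨x, hx, -, hrat⟩ := exists_meet_point hA Γ hΓ.1 i j hij hij1
  let Γ' : Fin (1 + 1) → ArSurf.VertComp R (Over.mk p) := ![Γ j, Γ i]
  have hΓ' : Models.IsComponentList R (Over.mk p) Γ' := by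
    have hne' : Set.range (Γ j).ι ≠ Set.range (Γ i).ι := fun e => hij (hΓ.1 e.symm)
    refine ⟨?_, ?_⟩
    · intro a a' h
      fin_cases a <;> fin_cases a' <;> first | rfl | exact absurd h hne' | exact absurd h hne'.symm
    · rw [← hΓ.2]
      ext S
      constructor
      · rintro ⟨a, h⟩
        fin_cases a
        exacts [⟨j, h⟩, ⟨i, h⟩]
      · rintro ⟨l, h⟩
        rcases hall l with rfl | rfl
        exacts [⟨1, h⟩, ⟨0, h⟩]
  -- contraction facts
  have hb' : Models.IsContractionOf (Γ i).ι b := by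
    refine ⟨hbn, hbp, z₀, hz₀, ?_, hreg₀, hdim₀, hbl₀⟩
    rw [Scheme.Hom.comp_base, TopCat.coe_comp, Set.range_comp] at hz₀r ⊢
    rw [show Set.range (Γ i).ι = Set.range ι₀ from hri]
    exact hz₀r
  obtain ⟨y, F⟩ := exists_contractFacts hA (Γ i) hei b hb' q rfl
  obtain ⟨m, Δ, hΔ⟩ := exists_componentList hC hH0 hZ
  have hcompZ := F.components hA hei Γ' hΓ' rfl
  have hone : ∀ l, Set.range (Δ l).ι = b '' Set.range (Γ j).ι := fun l => by
    have h : Set.range (Δ l).ι ∈ Models.fibreComponents R (Over.mk q) := hΔ.2 ▸ ⟨l, rfl⟩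
    rw [hcompZ] at h
    obtain ⟨l', hl'⟩ := h
    rw [← hl', Subsingleton.elim l' 0]
    rfl
  have hm1 : m = 1 := by
    rcases m with _ | _ | m
    · exfalso
      have h : b '' Set.range (Γ' (Fin.castSucc 0)).ι ∈ Models.fibreComponents R (Over.mk q) := hcompZ ▸ ⟨0, rfl⟩
      rw [← hΔ.2] at h
      exact h.choose.elim0
    · rfl
    · exact absurd (hΔ.1 ((hone 0).trans (hone 1).symm)) (by simp [Fin.ext_iff])
  subst hm1
  have hm1' : Models.mult R (Over.mk q) (Δ 0) = 1 :=
    (F.mult_image (Γ j) (fun e => hij (hΓ.1 e.symm)) (Δ 0) (hone 0)).trans (hm j)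
  have hA' : ArSurf.IsArithSurface R (Over.mk q) := F.arith
  have hfib : fibreIdeal (Over.mk q) = (Δ 0).ι.ker := by
    rw [fibreIdeal_eq_prod hA' Δ hΔ.1 (componentList_cover hΔ), Fin.prod_univ_one, hm1', pow_one]
  have hMz : interMat Δ 0 0 = 0 := by
    haveI : Flat (Over.mk q).hom := hA'.2.2.2.1
    haveI : IsProper (Over.mk q).hom := hZ.2.1
    show - degI (Δ 0) (Δ 0).ι.ker = 0
    rw [← hfib, degI_fibreIdeal, neg_zero]
  have hgen := genus_formula hC hH0 hZ Δ hΔ
  rw [hgC, Fin.sum_univ_one, hm1', hMz] at hgen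
  haveI : IsProper (Over.mk q).hom := hZ.2.1
  obtain ⟨hwpos, ⟨t, ht⟩, -⟩ := wdeg_facts (Δ 0)
  rw [ht] at hgen
  push_cast at hgen
  have ht0 : t = 0 := by
    by_contra h
    have h1 : Models.wdeg R (Over.mk q) (Δ 0) ≤ Models.wdeg R (Over.mk q) (Δ 0) * t :=
      Nat.le_mul_of_pos_right _ (Nat.pos_of_ne_zero h)
    zify at h1
    linarith
  have hh1 : Models.h1 R (Over.mk q) (Δ 0) = 0 := by rw [ht, ht0, mul_zero]
  -- `Z` is minimal, so `r` is an isomorphism
  have hexcZ : ∀ (E : Scheme.{u}) (ι : E ⟶ Z) [IsClosedImmersion ι], ¬ Models.IsExcCurve ι := by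
    intro E ι _ hE
    obtain ⟨G, hG⟩ := exists_vertComp_of_exc q ι hE
    obtain ⟨l, hl⟩ := exists_exc_component Δ hΔ G hG
    obtain ⟨-, k', _, e', ⟨c⟩⟩ := id hl
    have hI := isEffCartierIdeal_ker hA' (Δ l)
    obtain ⟨L, hLi, ⟨d⟩⟩ := W7Hull.exists_tensor_inverse (Intersect.isInvertible_ideal hI)
    have hL : ClSub.IsInverseOf L (ClSub.idealMod (Δ l).ι.ker) := ⟨TMul.commIso _ _ ≪≫ d⟩
    obtain ⟨-, h2⟩ := vert_line_numbers (Δ l) e' hLi hL (m := 1) c
    rw [inter_eq_interMat hA' Δ hL, one_mul, Subsingleton.elim l 0, hMz] at h2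
    omega
  obtain ⟨e, he⟩ : ∃ e : X ≅ Z, e.hom ≫ q = pX := by
    cases hr with
    | iso e => exact ⟨e.symm, by simp [q]⟩
    | step ι b r hι hE hb hr => exact absurd hE (@hexcZ _ ι hι)
  refine hasLineFibre_of_iso e he ?_
  -- the rational point
  have hxi : x ∈ Set.range (Γ i).ι := (hx.ge rfl).1
  have hbx : b x = y := F.fibre.ge hxi
  obtain ⟨c, hc⟩ : y ∈ Set.range (Δ 0).ι := by
    obtain ⟨l, hl⟩ := Set.mem_iUnion.1 (componentList_cover hΔ (show y ∈ Models.specialFibreSet R (Over.mk q) from F.base))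
    rwa [Subsingleton.elim l 0] at hl
  have hcc : IsClosed ({c} : Set (Δ 0).curve.left) := by
    have h := F.closed.preimage (Δ 0).ι.continuous
    rwa [show (Δ 0).ι ⁻¹' {y} = {c} from Set.ext fun v =>
      ⟨fun hv => (Δ 0).ι.isClosedEmbedding.injective (hv.trans hc.symm), fun hv => (congrArg _ hv).trans hc⟩] at h
  have hcomp' : ∀ (v : W) (s : R), (b.stalkMap v).hom (Models.stalkHom R (Over.mk q) (b v) s) =
      Models.stalkHom R (Over.mk p) v s := fun v s => by
    show (b.stalkMap v).hom ((Z.presheaf.germ ⊤ (b v) trivial).hom (q.appTop _)) = _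
    refine (Scheme.Hom.germ_stalkMap_apply b ⊤ v trivial _).trans ?_
    refine congrArg (W.presheaf.germ ⊤ v trivial).hom ?_
    exact congrArg (fun φ : Γ(Spec (CommRingCat.of R), ⊤) ⟶ Γ(W, ⊤) => φ.hom
      ((Scheme.ΓSpecIso (CommRingCat.of R)).inv s)) (Scheme.Hom.comp_appTop b q).symm
  have hsq : ¬ (IsLocalRing.maximalIdeal R).map (Models.stalkHom R (Over.mk q) y) ≤
      IsLocalRing.maximalIdeal (Z.presheaf.stalk y) ^ 2 := by
    let γ := Models.genPtOf R (Over.mk p) (Γ i)
    have hγ : b γ = y := F.fibre.ge ⟨_, rfl⟩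
    intro hle
    rw [← hγ] at hle
    have h1 := Ideal.map_mono (f := (b.stalkMap γ).hom) hle
    rw [Ideal.map_map, show (b.stalkMap γ).hom.comp (Models.stalkHom R (Over.mk q) (b γ)) =
      Models.stalkHom R (Over.mk p) γ from RingHom.ext (hcomp' γ), Ideal.map_pow] at h1
    have h2 : (IsLocalRing.maximalIdeal (Z.presheaf.stalk (b γ))).map (b.stalkMap γ).hom ≤
        IsLocalRing.maximalIdeal (W.presheaf.stalk γ) :=
      ((IsLocalRing.local_hom_TFAE (b.stalkMap γ).hom).out 0 2).1 (inferInstance : IsLocalHom (b.stalkMap γ).hom)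
    have h3 := h1.trans (Ideal.pow_right_mono h2 2)
    have hdim : ringKrullDim (W.presheaf.stalk γ) = 1 := by
      haveI : AlgebraicGeometry.IsIntegral W := hA.2.1
      haveI : IsLocallyNoetherian W := LocallyOfFiniteType.isLocallyNoetherian p
      haveI : CompactSpace W := QuasiCompact.compactSpace_of_compactSpace p
      haveI : AlgebraicGeometry.IsNoetherian W := {}
      refine ringKrullDim_stalk_curve (X := W) hA.2.2.1 ?_
      rw [show closure ({γ} : Set W) = Set.range (Γ i).ι from closure_genPtOf (Γ i),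
        ← (Γ i).ι.isClosedEmbedding.isEmbedding.toHomeomorph.isHomeomorph.topologicalKrullDim_eq, (Γ i).dim_eq]
      rfl
    have hnf : ¬ IsField (W.presheaf.stalk γ) := fun h => by
      rw [ringKrullDim_eq_zero_of_isField h] at hdim
      exact zero_ne_one hdim
    haveI : IsRegularLocalRing (W.presheaf.stalk γ) := hA.1 γ
    haveI : IsDomain (W.presheaf.stalk γ) := Groth.Agent.RegLoc.isDomain _
    haveI : IsDiscreteValuationRing (W.presheaf.stalk γ) :=
      (SepReg.dvr_iff_regular _ hnf hdim.le).2 inferInstance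
    have hlen := Module.length_le_of_surjective (Submodule.factor h3) (Submodule.factor_surjective h3)
    rw [IsDiscreteValuationRing.length_quotient_pow_maximalIdeal] at hlen
    have h4 := hm i
    rw [Models.mult] at h4
    exact absurd (hlen.trans ((ENat.toNat_eq_iff (by norm_num : (1 : ℕ) ≠ 0)).1 h4).le) (by decide)
  have hraty : Function.Surjective ((Z.residue y).hom.comp (Models.stalkHom R (Over.mk q) y)) := by
    subst hbx
    refine Function.Surjective.of_comp_left (f := (b.residueFieldMap x).hom)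
      (g := (Z.residue (b x)).hom.comp (Models.stalkHom R (Over.mk q) (b x))) ?_ (b.residueFieldMap x).hom.injective
    intro a
    obtain ⟨s, hs⟩ := hrat a
    refine ⟨s, (congrArg (fun φ => φ.hom (Models.stalkHom R (Over.mk q) (b x) s))
      (Scheme.residue_residueFieldMap b x)).trans ?_⟩
    show (W.residue x).hom ((b.stalkMap x).hom _) = a
    rw [hcomp']
    exact hs
  subst hc
  obtain ⟨eL, heL⟩ := exists_line_of_one_component hA' (Δ 0) hfib hh1 c hcc hsq hraty
  exact hasLineFibre_of_component (Δ 0) hfib eL heL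

end Groth.Agent.Castel
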