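import Groth.Agent.Castel.ProperModel
import Groth.Agent.Castel.Inter
import Groth.Agent.SepAffine.Main
import Groth.Agent.SpCartier.AffineCompl
import Groth.Agent.CurveRR.Multi2
import Groth.Agent.CurveRR.Cartier
import Groth.Agent.S0054
import Groth.Agent.S2821

/-!
Projectivity of regular proper models over a discrete valuation ring: the complement of an affine open containing
the generic points of the closed fibre is an ample divisor.
-/

set_option autoImplicit false
set_option backward.isDefEq.respectTransparency false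
set_option backward.isDefEq.respectTransparency.types false
set_option linter.style.haveILetI false

universe u

open CategoryTheory CategoryTheory.Limits AlgebraicGeometry TopologicalSpace Topology

noncomputable section

namespace Groth.Agent.Castel

variable {R : Type u} [CommRing R] [IsDomain R] [IsDiscreteValuationRing R]

/-- Positivity of an effective divisor on an integral proper curve meeting it properly. -/
theorem deg_pos_of_meets {k : Type u} [Field k] {Z X : Scheme.{u}} [Z.Over (Spec (CommRingCat.of k))]
    [IsProper (Z ↘ Spec (CommRingCat.of k))] [IsIntegral Z] (hdim : topologicalKrullDim Z ≤ 1) (g : Z ⟶ X)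
    {D : X.IdealSheafData} (hD : BlowUp.IsEffCartierIdeal D) (hgen : g (genericPoint Z) ∉ (D.support : Set X))
    (hmeet : ∃ z, g z ∈ (D.support : Set X)) {L : X.Modules} (hL : ClSub.IsInverseOf L (ClSub.idealMod D)) :
    0 < Curv2.deg k Z ((Scheme.Modules.pullback g).obj L) 1 := by
  have hD' := PtBlow.cartier_comap_generic g hD hgen
  have hLi := isInvertible_of_isInverseOf ((Groth.Agent.S8914.result _).2 hD) hL
  have hL'i := PicLoc.isInvertible_pullback g hLi
  obtain ⟨q⟩ := hL
  obtain ⟨p⟩ := TMul.nonempty_pullTensorIso g L (ClSub.idealMod D)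
  obtain ⟨n⟩ := Nakai.nonempty_pullback_idealMod g hD hD'
  have hinv : ClSub.IsInverseOf ((Scheme.Modules.pullback g).obj L) (ClSub.idealMod (D.comap g)) :=
    ⟨PicGrp.tensorModIso (Iso.refl _) n.symm ≪≫ p ≪≫
      (Scheme.Modules.pullback g).mapIso q ≪≫ PicLoc.pullbackStructureIso g⟩
  have h1 := CurveRR.deg_tensor_cartier (k := k) hdim hD' hL'i hinv
    (n := 1) (E := Coh.structureModule Z) (CurveRR.isFinLocFreeOfRank_one TMul.isInvertible_structureModule)
  rw [CurveRR.deg_structure, add_zero, Nat.cast_one, one_mul] at h1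
  have h2 : Curv2.deg k Z (CohB1.tensorMod (Coh.structureModule Z) ((Scheme.Modules.pullback g).obj L)) 1 =
      Curv2.deg k Z ((Scheme.Modules.pullback g).obj L) 1 := by
    simp only [Curv2.deg]
    rw [CurveRR.euler_eq_of_iso (k := k) (TMul.leftUnitIso ((Scheme.Modules.pullback g).obj L))]
  rw [← h2, h1]
  obtain ⟨z, hz⟩ := hmeet
  have := CurveRR.h0_quotMod_pos (k := k) (D.comap g) ⟨z, by rw [Scheme.IdealSheafData.support_comap]; exact hz⟩
  exact_mod_cast this

/-- A regular proper model over a discrete valuation ring has an ample invertible module. -/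
theorem exists_ample_model {X : Scheme.{u}} (π : X ⟶ Spec (CommRingCat.of R)) [IsIntegral X] [IsProper π] [Flat π]
    (hreg : ∀ x : X, IsRegularLocalRing (X.presheaf.stalk x)) (hdimX : topologicalKrullDim X ≤ 2) :
    ∃ L : X.Modules, CohB1.IsAmple L := by
  haveI : IsLocallyNoetherian X := LocallyOfFiniteType.isLocallyNoetherian π
  haveI : CompactSpace X := QuasiCompact.compactSpace_of_compactSpace π
  haveI : IsNoetherian X := {}
  let s := IsLocalRing.closedPoint R
  let F := π.fiber s
  let j : F ⟶ X := π.fiberι s
  let κ := (Spec (CommRingCat.of R)).residueField s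
  letI : F.Over (Spec (CommRingCat.of κ)) := ⟨π.fiberToSpecResidueField s⟩
  haveI : IsProper (F ↘ Spec (CommRingCat.of κ)) :=
    MorphismProperty.pullback_snd (P := @IsProper) π _ inferInstance
  haveI : IsNoetherian F := CurveRR.isNoetherian_of_proper κ F
  haveI : IsClosedImmersion j := IsClosedImmersion.of_isPreimmersion j (by
    rw [π.range_fiberι]; exact (IsLocalRing.isClosed_singleton_closedPoint R).preimage π.continuous)
  haveI : X.IsSeparated := by
    haveI : IsSeparated (terminal.from X) := by
      rw [← terminal.comp_from π]; infer_instance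
    exact ⟨inferInstance⟩
  let G : Set F := {ξ | (∃ (C : Set F) (hC : C ∈ irreducibleComponents (F : Type u)), hC.1.genericPoint = ξ) ∧
    ¬ IsClosed ({ξ} : Set F)}
  have hGfin : G.Finite := by
    haveI : Finite (irreducibleComponents (F : Type u)) :=
      Set.finite_coe_iff.2 NoetherianSpace.finite_irreducibleComponents
    refine Set.Finite.subset (Set.finite_range fun C : irreducibleComponents (F : Type u) => C.2.1.genericPoint) ?_
    rintro ξ ⟨⟨C, hC, rfl⟩, -⟩
    exact ⟨⟨C, hC⟩, rfl⟩
  obtain ⟨U, hU, hEU⟩ := SepAffine.exists_affine_of_dim_le_one (X := X) (E := insert (genericPoint X) (j '' G))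
    ((hGfin.image j).insert _) (by
      rintro x (rfl | ⟨ξ, ⟨-, hξ⟩, rfl⟩)
      · rw [ringKrullDim_stalk_eq_coheight, Order.coheight_eq_zero.2 fun z _ => genericPoint_specializes z]
        exact zero_le_one
      · by_contra hlt
        refine hξ ?_
        have h2 : ringKrullDim (X.presheaf.stalk (j ξ)) = 2 := by
          refine le_antisymm ((RegDual.ringKrullDim_stalk_le_topologicalKrullDim _).trans hdimX) ?_
          rw [ringKrullDim_stalk_eq_coheight] at hlt ⊢
          generalize Order.coheight (j ξ) = d at hlt ⊢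
          have h1 : (1 : ℕ∞) < d := lt_of_not_ge fun h => hlt (WithBot.coe_le_coe.2 h)
          exact WithBot.coe_le_coe.2 (Order.add_one_le_of_lt h1)
        have h3 := (PtBlow.isClosed_of_dim_two hdimX h2).preimage j.continuous
        rwa [show j ⁻¹' {j ξ} = {ξ} from Set.ext fun w => ⟨fun h => j.isEmbedding.injective h, fun h => by
          rw [Set.mem_singleton_iff.1 h]; rfl⟩] at h3)
  haveI : IsAffine (U : Scheme.{u}) := hU
  haveI : IsAffineHom U.ι := by
    haveI : IsSeparated (terminal.from X) := by rw [← terminal.comp_from π]; infer_instance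
    haveI : IsAffineHom (U.ι ≫ terminal.from X) := by rw [terminal.comp_from]; infer_instance
    exact IsAffineHom.of_comp U.ι (terminal.from X)
  let D := Scheme.IdealSheafData.vanishingIdeal (X := X) ⟨(U : Set X)ᶜ, U.isOpen.isClosed_compl⟩
  have hD : BlowUp.IsEffCartierIdeal D := SpCartier.isEffCartierIdeal_vanishingIdeal X U hU
    (U.2.dense ⟨_, hEU (Set.mem_insert _ _)⟩) fun x _ => by
      haveI := hreg x
      exact Groth.Agent.S2821.result _
  have hsupp : (D.support : Set X) = (U : Set X)ᶜ := by simp [D]
  obtain ⟨L, hLi, ⟨eL⟩⟩ := Groth.Agent.SymAlg.exists_inverse ((Groth.Agent.S8914.result _).2 hD)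
  have hL : ClSub.IsInverseOf L (ClSub.idealMod D) := ⟨TMul.commIso L _ ≪≫ eL⟩
  have hFdim : topologicalKrullDim F ≤ 1 := by
    have h1 : topologicalKrullDim F ≤ ((1 : ℕ) : WithBot ℕ∞) := by
      refine Unibranch.topologicalKrullDim_le_natCast fun l c hc => ?_
      by_contra hl
      have hπ : ∀ w : F, π (j w) = s := fun w => (π.range_fiberι s).le ⟨w, rfl⟩
      have hne : genericPoint X ≠ j (c ⟨0, by omega⟩) := fun e => by
        obtain ⟨w, hw, hw'⟩ := Flat.generalizingMap π (a := genericPoint X)
          ((PrimeSpectrum.le_iff_specializes (⟨⊥, Ideal.isPrime_bot⟩ : PrimeSpectrum R) (π (genericPoint X))).mp bot_le)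
        rw [(hw.antisymm ((genericPoint_spec X).specializes trivial)).eq, e, hπ] at hw'
        exact IsDiscreteValuationRing.not_a_field R (congrArg PrimeSpectrum.asIdeal hw')
      have h0 := hc ⟨0, by omega⟩
      have h1 := hc ⟨1, by omega⟩
      have h3 := Unibranch.natCast_le_topologicalKrullDim (α := X) (k := 3)
        ![genericPoint X, j (c ⟨0, by omega⟩), j (c ⟨1, by omega⟩), j (c ⟨2, by omega⟩)] (fun i => by
          fin_cases i
          · exact ⟨genericPoint_specializes _, hne⟩
          · exact ⟨h0.1.map j.continuous, fun e => h0.2 (j.isEmbedding.injective e)⟩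
          · exact ⟨h1.1.map j.continuous, fun e => h1.2 (j.isEmbedding.injective e)⟩)
      exact absurd (h3.trans hdimX) (by decide)
    exact h1
  refine ⟨L, ?_⟩
  have hample : CohB1.IsAmple ((Scheme.Modules.pullback j).obj L) := by
    rw [CurveRR.Multi.isAmple_iff κ hFdim (PicLoc.isInvertible_pullback j hLi)]
    intro C hC hCd
    let Zc : Closeds F := ⟨C, isClosed_of_mem_irreducibleComponents _ hC⟩
    have hI : (F.irreducibleComponentIdeal C hC).radical = Scheme.IdealSheafData.vanishingIdeal Zc := by
      rw [← Scheme.IdealSheafData.vanishingIdeal_support]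
      exact congrArg _ (Closeds.ext rfl)
    rw [hI]
    let I := Scheme.IdealSheafData.vanishingIdeal Zc
    have hg : (⟨closure {hC.1.genericPoint}, isClosed_closure⟩ : Closeds F) = Zc :=
      Closeds.ext (hC.1.isGenericPoint_genericPoint Zc.isClosed).def
    haveI : IsIntegral I.subscheme := by
      show IsIntegral (Scheme.IdealSheafData.vanishingIdeal Zc).subscheme
      rw [← hg]
      exact Devissage.Zi_isIntegral _
    have hr : Set.range I.subschemeι = C := DvrDom.range_vanishingIdeal_subschemeι Zc
    have hId : topologicalKrullDim I.subscheme = 1 := by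
      rw [(I.subschemeι.isClosedEmbedding.isEmbedding.toHomeomorph).isHomeomorph.topologicalKrullDim_eq, hr]
      exact hCd
    letI : I.subscheme.Over (Spec (CommRingCat.of κ)) := ⟨I.subschemeι ≫ (F ↘ Spec (CommRingCat.of κ))⟩
    haveI : IsProper (I.subscheme ↘ Spec (CommRingCat.of κ)) :=
      inferInstanceAs (IsProper (I.subschemeι ≫ (F ↘ Spec (CommRingCat.of κ))))
    have hgenI : I.subschemeι (genericPoint I.subscheme) = hC.1.genericPoint := by
      refine IsGenericPoint.eq ?_ (hC.1.isGenericPoint_genericPoint Zc.isClosed)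
      show closure {I.subschemeι (genericPoint I.subscheme)} = C
      rw [← Intersect.image_closure I.subschemeι, genericPoint_closure]
      exact Set.image_univ.trans hr
    have hnc : ¬ IsClosed ({hC.1.genericPoint} : Set F) := fun h => by
      have h1 : C = {hC.1.genericPoint} :=
        (hC.1.isGenericPoint_genericPoint Zc.isClosed).def.symm.trans h.closure_eq
      rw [h1] at hCd
      have h0 : topologicalKrullDim ({hC.1.genericPoint} : Set F) ≤ ((0 : ℕ) : WithBot ℕ∞) :=
        Unibranch.topologicalKrullDim_le_natCast fun l c hc => by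
          rcases l with _ | l
          · exact le_rfl
          · exact absurd (Subsingleton.elim _ _) (hc 0).2
      rw [hCd] at h0
      exact absurd h0 (by decide)
    show 0 < Curv2.deg κ I.subscheme ((Scheme.Modules.pullback I.subschemeι).obj ((Scheme.Modules.pullback j).obj L)) 1
    have h2 := deg_pos_of_meets (k := κ) hId.le (I.subschemeι ≫ j) hD ?_ ?_ hL
    · simp only [Curv2.deg] at h2 ⊢
      have e5 : (Scheme.Modules.pullback I.subschemeι).obj ((Scheme.Modules.pullback j).obj L) ≅
          (Scheme.Modules.pullback (I.subschemeι ≫ j)).obj L := (Scheme.Modules.pullbackComp I.subschemeι j).app L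
      rw [CurveRR.euler_eq_of_iso (k := κ) e5]
      exact h2
    · rw [Scheme.Hom.comp_apply, hgenI, hsupp]
      exact fun h => h (hEU (Set.mem_insert_of_mem _ ⟨_, ⟨⟨C, hC, rfl⟩, hnc⟩, rfl⟩))
    · by_contra! hall
      refine CurveRR.not_isAffine_of_dim_one (k := κ) hId ?_
      have h1 : (I.subschemeι ≫ j) ⁻¹ᵁ U = ⊤ := top_le_iff.1 fun z _ => by
        by_contra h
        exact hall z (hsupp.ge h)
      exact h1 ▸ hU.preimage (I.subschemeι ≫ j)
  obtain ⟨V, hsV, hV⟩ := Groth.Agent.S0054.result π L hLi s hample
  have hV' : V = ⊤ := (IsLocalRing.closedPoint_mem_iff _).1 hsV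
  have h := hV ⊤ hV'.ge (isAffineOpen_top _)
  haveI : IsIso (π ⁻¹ᵁ (⊤ : (Spec (CommRingCat.of R)).Opens)).ι := by
    show IsIso (⊤ : X.Opens).ι
    rw [← Scheme.topIso_hom]; infer_instance
  have h4 := TMul.isAmple_pullback (inv (π ⁻¹ᵁ (⊤ : (Spec (CommRingCat.of R)).Opens)).ι)
    (inv (π ⁻¹ᵁ (⊤ : (Spec (CommRingCat.of R)).Opens)).ι).homeomorph.isInducing h
  exact TMul.isAmple_congr ((Scheme.Modules.pullback _).mapIso
    ((Scheme.Modules.restrictFunctorIsoPullback _).app L) ≪≫
    (Scheme.Modules.pullbackComp _ _).app L ≪≫ (Scheme.Modules.pullbackCongr (IsIso.inv_hom_id _)).app L ≪≫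
    (Scheme.Modules.pullbackId X).app L) h4

end Groth.Agent.Castel
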