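import Groth.Agent.Castel.CompListArith
import Groth.Agent.Castel.DivFieldArith
import Groth.Agent.Castel.ModelAmple
import Groth.Agent.LefConn.Basic
import Groth.Agent.CMFlat.RegImm

/-!
Multiplicities of the geometric closed fibre and its ring of constants.
-/

set_option autoImplicit false
set_option backward.isDefEq.respectTransparency false
set_option backward.isDefEq.respectTransparency.types false
set_option linter.style.haveILetI false

universe u

open CategoryTheory CategoryTheory.Limits AlgebraicGeometry TopologicalSpace Opposite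
open scoped TensorProduct

noncomputable section

namespace Groth.Agent.Castel

/-- Lengths of local rings along a flat map. -/
theorem length_stalk_dvd {X Y : Scheme.{u}} (u : X ⟶ Y) [Flat u] (x : X) :
    (Module.length (Y.presheaf.stalk (u x)) (Y.presheaf.stalk (u x))).toNat ∣
      (Module.length (X.presheaf.stalk x) (X.presheaf.stalk x)).toNat := by
  letI := (u.stalkMap x).hom.toAlgebra
  haveI : Module.Flat (Y.presheaf.stalk (u x)) (X.presheaf.stalk x) := Flat.stalkMap u x
  haveI : IsLocalHom (algebraMap (Y.presheaf.stalk (u x)) (X.presheaf.stalk x)) :=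
    inferInstanceAs (IsLocalHom (u.stalkMap x).hom)
  have h := IsLocalRing.length_baseChange (Y.presheaf.stalk (u x)) (X.presheaf.stalk x) (Y.presheaf.stalk (u x))
  rw [(TensorProduct.AlgebraTensorModule.rid (Y.presheaf.stalk (u x)) (X.presheaf.stalk x)
    (X.presheaf.stalk x)).length_eq] at h
  exact ⟨_, (congrArg ENat.toNat h).trans (ENat.toNat_mul _ _)⟩

/-- The image of a maximal point under a flat map is a maximal point. -/
theorem maximal_image {X Y : Scheme.{u}} (u : X ⟶ Y) [Flat u] (x : X) (hx : ∀ y, y ⤳ x → y = x) (y : Y)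
    (hy : y ⤳ u x) : y = u x := by
  obtain ⟨x', hx', rfl⟩ := Flat.generalizingMap u hy
  rw [hx x' hx']

/-- The length of a local finite algebra over an algebraically closed field. -/
theorem length_eq_finrank_of_isAlgClosed (K B : Type u) [Field K] [IsAlgClosed K] [CommRing B] [IsLocalRing B]
    [Algebra K B] [Module.Finite K B] : (Module.length B B).toNat = Module.finrank K B := by
  haveI : IsLocalHom (algebraMap K B) := ⟨fun a h => isUnit_iff_ne_zero.2 fun h0 => not_isUnit_zero (by
    rw [h0, map_zero] at h; exact h)⟩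
  haveI : Module.Finite K (IsLocalRing.ResidueField B) :=
    Module.Finite.of_surjective (Algebra.linearMap B (IsLocalRing.ResidueField B) |>.restrictScalars K)
      IsLocalRing.residue_surjective
  have hs : Function.Surjective (algebraMap (IsLocalRing.ResidueField K) (IsLocalRing.ResidueField B)) := fun z => by
    obtain ⟨a, ha⟩ := (IsAlgClosed.algebraMap_bijective_of_isIntegral (k := K) (K := IsLocalRing.ResidueField B)).2 z
    exact ⟨IsLocalRing.residue K a, ha⟩
  have h := IsLocalRing.length_restrictScalars (A := K) (B := B) (M := B)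
  rw [Module.length_eq_finrank, Module.length_eq_of_surjective hs,
    Module.length_eq_finrank (IsLocalRing.ResidueField B), Module.finrank_self, Nat.cast_one, mul_one] at h
  rw [← h, ENat.toNat_coe]

/-- A localization at the maximal ideal of a local ring changes no length. -/
theorem length_atMaximal {B S : Type u} [CommRing B] [CommRing S] [Algebra B S] (M : Submonoid B) [IsLocalization M S]
    (hu : ∀ y ∈ M, IsUnit y) : Module.length S S = Module.length B B := by
  let e := IsLocalization.atUnits B M (S := S) hu
  rw [← Module.length_eq_of_surjective (S := B) (R := S) (M := S) (fun z => ⟨e.symm z, by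
    rw [← AlgEquiv.commutes e]; exact e.apply_symm_apply z⟩)]
  exact e.toLinearEquiv.length_eq.symm

/-- The local ring of the spectrum of a local artinian ring. -/
theorem length_stalk_spec {B : Type u} [CommRing B] [IsLocalRing B] [Subsingleton (PrimeSpectrum B)]
    (b : PrimeSpectrum B) :
    Module.length ((Spec (CommRingCat.of B)).presheaf.stalk b) ((Spec (CommRingCat.of B)).presheaf.stalk b) =
      Module.length B B :=
  length_atMaximal (S := (Spec.structureSheaf B).presheaf.stalk b) b.asIdeal.primeCompl fun y hy => by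
    by_contra h
    have hb : b = IsLocalRing.closedPoint B := Subsingleton.elim _ _
    exact hy (hb ▸ h)

variable {R : Type u} [CommRing R] [IsDomain R] [IsDiscreteValuationRing R]

/-- The local ring of the closed fibre at a point. -/
theorem length_stalk_fibre {X Y : Scheme.{u}} (f : X ⟶ Spec (CommRingCat.of R)) (ι : Y ⟶ X) [IsClosedImmersion ι]
    (hker : ι.ker = fibreIdeal (Over.mk f)) (z : Y) :
    Module.length (Y.presheaf.stalk z) (Y.presheaf.stalk z) = Module.length (X.presheaf.stalk (ι z))
      (X.presheaf.stalk (ι z) ⧸ (IsLocalRing.maximalIdeal R).map (Models.stalkHom R (Over.mk f) (ι z))) := by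
  obtain ⟨W, hW, hzW, -⟩ := exists_isAffineOpen_mem_and_subset (show ι z ∈ (⊤ : X.Opens) from trivial)
  let W' : X.affineOpens := ⟨W, hW⟩
  have h1 : RingHom.ker (ι.stalkMap z).hom =
      (IsLocalRing.maximalIdeal R).map (Models.stalkHom R (Over.mk f) (ι z)) := by
    rw [CMFlat.ker_stalkMap_eq ι z W' hzW, ← Scheme.Hom.ker_apply, hker]
    refine (congrArg (Ideal.map _) (fibreIdeal_ideal (X := Over.mk f) W')).trans ?_
    rw [Ideal.map_map]
    refine congrArg (fun φ => Ideal.map φ (IsLocalRing.maximalIdeal R)) ?_
    refine RingHom.ext fun r => ?_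
    exact X.presheaf.germ_res_apply (homOfLE (le_top : W'.1 ≤ ⊤)) (ι z) hzW _
  have hπ : Function.Surjective (ι.stalkMap z).hom := ι.stalkMap_surjective z
  letI := (ι.stalkMap z).hom.toAlgebra
  rw [← Module.length_eq_of_surjective (S := X.presheaf.stalk (ι z)) (R := Y.presheaf.stalk z) hπ, ← h1]
  exact ((Ideal.quotientKerAlgEquivOfSurjective
    (f := Algebra.ofId (X.presheaf.stalk (ι z)) (Y.presheaf.stalk z)) hπ).toLinearEquiv).length_eq.symm

/-- Coprime geometric multiplicities make the constants of a geometrically connected closed fibre trivial. -/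
theorem bijective_fibre_of_geom {X : Scheme.{u}} (f : X ⟶ Spec (CommRingCat.of R)) [IsProper f] [Flat f] [IsIntegral X]
    (hreg : ∀ x : X, IsRegularLocalRing (X.presheaf.stalk x)) (hdim : topologicalKrullDim X = 2)
    (K : Type u) [Field K] [IsAlgClosed K] [Algebra (IsLocalRing.ResidueField R) K]
    (hk : ConnectedSpace ↥(pullback f (Spec.map (CommRingCat.ofHom
      ((algebraMap (IsLocalRing.ResidueField R) (IsLocalRing.ResidueField R)).comp (IsLocalRing.residue R))))))
    (hconn : ConnectedSpace ↥(pullback f (Spec.map (CommRingCat.ofHom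
      ((algebraMap (IsLocalRing.ResidueField R) K).comp (IsLocalRing.residue R))))))
    (hd : ∀ ℓ : ℕ, ℓ.Prime → ∃ x : ↥(pullback f (Spec.map (CommRingCat.ofHom
      ((algebraMap (IsLocalRing.ResidueField R) K).comp (IsLocalRing.residue R))))),
      (∀ y, y ⤳ x → y = x) ∧ ¬ (ℓ ∣ (Module.length ((pullback f (Spec.map (CommRingCat.ofHom
        ((algebraMap (IsLocalRing.ResidueField R) K).comp (IsLocalRing.residue R))))).presheaf.stalk x)
        ((pullback f (Spec.map (CommRingCat.ofHom
        ((algebraMap (IsLocalRing.ResidueField R) K).comp (IsLocalRing.residue R))))).presheaf.stalk x)).toNat)) :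
    Function.Bijective (pullback.snd f (Spec.map (CommRingCat.ofHom (IsLocalRing.residue R)))).appTop.hom := by
  classical
  obtain ⟨Lamp, hLamp⟩ := exists_ample_model f hreg hdim.le
  have hA : ArSurf.IsArithSurface R (Over.mk f) :=
    ⟨hreg, ‹IsIntegral X›, hdim, ‹Flat f›, isProjectiveOver_of_ample f hLamp⟩
  let j := Spec.map (CommRingCat.ofHom (IsLocalRing.residue R))
  haveI : IsClosedImmersion j := IsClosedImmersion.spec_of_surjective _ Ideal.Quotient.mk_surjective
  let Xs := pullback f j
  let ι : Xs ⟶ X := pullback.fst f j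
  let sX : Xs ⟶ Spec (CommRingCat.of (IsLocalRing.ResidueField R)) := pullback.snd f j
  have hker : ι.ker = fibreIdeal (Over.mk f) := ker_fst_residue (Over.mk f)
  have hrange : Set.range ι = Models.specialFibreSet R (Over.mk f) := by
    ext x
    rw [← mem_support_fibreIdeal (X := Over.mk f), ← hker, Scheme.Hom.support_ker]
    exact (Set.ext_iff.1 ι.isClosedEmbedding.isClosed_range.closure_eq x).symm
  have hconnX : _root_.IsConnected (Models.specialFibreSet R (Over.mk f)) := by
    haveI : ConnectedSpace Xs := by
      have h := hk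
      rwa [Algebra.algebraMap_self, RingHom.id_comp] at h
    rw [← hrange]
    exact isConnected_range ι.continuous
  obtain ⟨n, Γ, hΓ⟩ := Arith.exists_componentList hA hconnX
  let φK : R →+* K := (algebraMap (IsLocalRing.ResidueField R) K).comp (IsLocalRing.residue R)
  let jK := Spec.map (CommRingCat.ofHom φK)
  let Xb := pullback f jK
  let aK := Spec.map (CommRingCat.ofHom (algebraMap (IsLocalRing.ResidueField R) K))
  have hjK : jK = aK ≫ j := by rw [← Spec.map_comp]; rfl
  let u : Xb ⟶ Xs := pullback.lift (pullback.fst f jK) (pullback.snd f jK ≫ aK)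
    (pullback.condition.trans ((congrArg (pullback.snd f jK ≫ ·) hjK).trans (Category.assoc _ _ _).symm))
  have husq : IsPullback u (pullback.snd f jK) sX aK := by
    refine IsPullback.of_right ?_ (pullback.lift_snd ..) (IsPullback.of_hasPullback f j)
    rw [show u ≫ pullback.fst f j = pullback.fst f jK from pullback.lift_fst .., ← hjK]
    exact IsPullback.of_hasPullback f jK
  haveI : Flat u := MorphismProperty.of_isPullback (P := @Flat) husq.flip inferInstance
  -- the gcd of the multiplicities is one
  have hgcd : Models.multGcd R (Over.mk f) Γ = 1 := by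
    by_contra hne
    obtain ⟨ℓ, hℓ, hdvd⟩ := Nat.exists_prime_and_dvd hne
    obtain ⟨x, hx, hnd⟩ := hd ℓ hℓ
    have hz : ι (u x) ∈ Models.specialFibreSet R (Over.mk f) := hrange.subset ⟨_, rfl⟩
    obtain ⟨i, w, hw⟩ := Set.mem_iUnion.1 (componentList_cover hΓ hz)
    have hgen : Models.genPtOf R (Over.mk f) (Γ i) = ι (u x) := by
      have hs : Models.genPtOf R (Over.mk f) (Γ i) ⤳ ι (u x) := by
        rw [← hw]
        exact (genericPoint_specializes w).map (Γ i).ι.continuous
      obtain ⟨y, hy⟩ := hrange.ge (range_subset_specialFibre (Γ i) ⟨genericPoint (Γ i).curve.left, rfl⟩)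
      have hy' : ι y = Models.genPtOf R (Over.mk f) (Γ i) := hy
      rw [← hy'] at hs ⊢
      rw [maximal_image u x hx y (ι.isEmbedding.isInducing.specializes_iff.1 hs)]
    refine hnd ((hdvd.trans (Finset.gcd_dvd (Finset.mem_univ i))).trans ?_)
    rw [Models.mult, hgen]
    exact (congrArg ENat.toNat (length_stalk_fibre f ι hker (u x))).symm.dvd.trans (length_stalk_dvd u x)
  -- the constants form a finite field extension
  have hgood : GoodH0 (Over.mk f) ι.ker := by
    obtain ⟨s, a, -, hal, -, hag⟩ := Arith.exists_chain hA hconnX Γ hΓ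
    have h := hag (Fin.last s)
    rw [hal] at h
    have he : (Arith.redMult Γ () : Fin n → ℕ) = fun l => Models.mult R (Over.mk f) (Γ l) := funext fun l => by
      simp only [Arith.redMult, hgcd, Nat.div_one]
    rw [he, ← show fibreIdeal (Over.mk f) = divI Γ fun l => Models.mult R (Over.mk f) (Γ l) from
      fibreIdeal_eq_prod hA Γ hΓ.1 (componentList_cover hΓ)] at h
    exact hker ▸ h
  obtain ⟨hF0, hfin0, -⟩ := hgood
  let e : Γ(ι.ker.subscheme, ⊤) ≃+* Γ(Xs, ⊤) := (asIso ι.toImage.appTop).commRingCatIsoToRingEquiv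
  have hF : IsField Γ(Xs, ⊤) := MulEquiv.isField hF0 e.symm.toMulEquiv
  let σ : IsLocalRing.ResidueField R →+* Γ(Xs, ⊤) := Coh.toGlobal sX
  have hcomp : ∀ r, σ (IsLocalRing.residue R r) = e (toΓ (Over.mk f) ι.ker r) := fun r => by
    have hw : ι.toImage ≫ ι.ker.subschemeι ≫ f = sX ≫ j := by
      rw [← pullback.condition, ← Category.assoc]
      congr 1
      exact ι.toImage_imageι
    have h := ConcreteCategory.congr_hom (congrArg Scheme.Hom.appTop hw) ((Scheme.ΓSpecIso (CommRingCat.of R)).inv r)
    simp only [Scheme.Hom.comp_appTop] at h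
    refine Eq.trans ?_ h.symm
    exact congrArg sX.appTop (ConcreteCategory.congr_hom
      (Scheme.ΓSpecIso_inv_naturality (CommRingCat.ofHom (IsLocalRing.residue R))) r)
  have hσfin : σ.Finite := by
    refine RingHom.Finite.of_comp_finite (f := IsLocalRing.residue R) ?_
    rw [show σ.comp (IsLocalRing.residue R) = (e : Γ(ι.ker.subscheme, ⊤) →+* Γ(Xs, ⊤)).comp (toΓ (Over.mk f) ι.ker)
      from RingHom.ext hcomp]
    exact RingHom.Finite.comp (RingHom.Finite.of_surjective _ e.surjective) hfin0
  suffices hσ : Function.Bijective σ by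
    have h : sX.appTop.hom = σ.comp (Scheme.ΓSpecIso (CommRingCat.of (IsLocalRing.ResidueField R))).hom.hom :=
      RingHom.ext fun a => congrArg sX.appTop (Iso.hom_inv_id_apply _ a).symm
    show Function.Bijective sX.appTop.hom
    rw [h, RingHom.coe_comp]
    exact hσ.comp (ConcreteCategory.bijective_of_isIso _)
  letI := hF.toField
  let L := Γ(Xs, ⊤)
  refine ⟨σ.injective, ?_⟩
  letI : Algebra (IsLocalRing.ResidueField R) L := σ.toAlgebra
  haveI : Module.Finite (IsLocalRing.ResidueField R) L := hσfin
  haveI : Nonempty Xs := by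
    by_contra h
    haveI : IsEmpty Xs := not_nonempty_iff.1 h
    exact one_ne_zero (Subsingleton.elim (1 : Γ(Xs, ⊤)) 0)
  let τ : Xs ⟶ Spec (CommRingCat.of L) := Xs.toSpecΓ
  haveI : Surjective τ := ⟨fun p => ⟨Classical.arbitrary Xs, Subsingleton.elim (α := PrimeSpectrum L) _ _⟩⟩
  have hτ : τ ≫ Spec.map (CommRingCat.ofHom (algebraMap (IsLocalRing.ResidueField R) L)) = sX := by
    let k₀ := CommRingCat.of (IsLocalRing.ResidueField R)
    refine Eq.trans ?_ (Category.comp_id sX)
    rw [← (Scheme.isoSpec (Spec k₀)).hom_inv_id, ← Category.assoc]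
    show τ ≫ Spec.map (CommRingCat.ofHom σ) = (sX ≫ (Spec k₀).toSpecΓ) ≫ (Scheme.isoSpec (Spec k₀)).inv
    rw [Scheme.toSpecΓ_naturality, Category.assoc, Scheme.isoSpec_Spec_inv, ← Spec.map_comp]
    rfl
  let B := L ⊗[IsLocalRing.ResidueField R] K
  letI : Algebra K B := Algebra.TensorProduct.rightAlgebra
  haveI : Module.Finite K B := Module.Finite.equiv
    (Algebra.TensorProduct.commRight (IsLocalRing.ResidueField R) K L).toLinearEquiv
  let iL := Spec.map (CommRingCat.ofHom (Algebra.TensorProduct.includeLeftRingHom :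
    L →+* B))
  let iK := Spec.map (CommRingCat.ofHom ((Algebra.TensorProduct.includeRight :
    K →ₐ[IsLocalRing.ResidueField R] B).toRingHom))
  have hQ : IsPullback iL iK (Spec.map (CommRingCat.ofHom (algebraMap (IsLocalRing.ResidueField R) L))) aK :=
    isPullback_SpecMap_of_isPushout _ _ _ _ (CommRingCat.isPushout_tensorProduct (IsLocalRing.ResidueField R) L K)
  let v : Xb ⟶ Spec (CommRingCat.of B) := hQ.lift (u ≫ τ) (pullback.snd f jK) (by
    rw [Category.assoc, hτ]; exact husq.w)
  have hvsq : IsPullback u v τ iL := by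
    refine IsPullback.of_bot ?_ (hQ.lift_fst _ _ _).symm hQ
    rw [hQ.lift_snd, hτ]
    exact husq
  haveI : Flat v := MorphismProperty.of_isPullback (P := @Flat) hvsq inferInstance
  haveI : Surjective v := MorphismProperty.of_isPullback (P := @Surjective) hvsq inferInstance
  haveI : ConnectedSpace Xb := hconn
  haveI : ConnectedSpace ↥(Spec (CommRingCat.of B)) := v.surjective.connectedSpace v.continuous
  haveI : IsArtinianRing B := IsArtinianRing.of_finite K B
  haveI : PreconnectedSpace (PrimeSpectrum B) := inferInstanceAs (PreconnectedSpace ↥(Spec (CommRingCat.of B)))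
  haveI : Subsingleton (PrimeSpectrum B) := PreconnectedSpace.trivial_of_discrete
  haveI : Nontrivial B := PrimeSpectrum.nonempty_iff_nontrivial.1
    (inferInstanceAs (Nonempty ↥(Spec (CommRingCat.of B))))
  haveI : IsLocalRing B := by
    obtain ⟨m, hm⟩ := Ideal.exists_maximal B
    exact IsLocalRing.of_unique_max_ideal ⟨m, hm, fun m' hm' => congrArg PrimeSpectrum.asIdeal
      (Subsingleton.elim (⟨m', hm'.isPrime⟩ : PrimeSpectrum B) ⟨m, hm.isPrime⟩)⟩
  have hn : Module.finrank (IsLocalRing.ResidueField R) L = 1 := by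
    by_contra hne
    obtain ⟨ℓ, hℓ, hdvd⟩ := Nat.exists_prime_and_dvd hne
    obtain ⟨x, hx, hnd⟩ := hd ℓ hℓ
    refine hnd (hdvd.trans ?_)
    have h := length_stalk_dvd v x
    rw [length_stalk_spec, length_eq_finrank_of_isAlgClosed K B,
      ← (Algebra.TensorProduct.commRight (IsLocalRing.ResidueField R) K L).toLinearEquiv.finrank_eq,
      Module.finrank_baseChange] at h
    exact h
  intro z
  obtain ⟨c, hc⟩ := (finrank_eq_one_iff_of_nonzero' (1 : L) one_ne_zero).1 hn z
  exact ⟨c, by rw [← hc, Algebra.smul_def, mul_one]; rfl⟩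

end Groth.Agent.Castel
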