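import Groth.Agent.W7Cube.Pic
import Groth.Agent.Intersect.Apps
import Groth.Agent.Castel.InterForm

/-!
Classes of invertible modules on a surface over a discrete valuation ring: products, pullbacks, degrees.
-/

set_option autoImplicit false
set_option backward.isDefEq.respectTransparency false
set_option backward.isDefEq.respectTransparency.types false
set_option linter.style.haveILetI false

universe u

open CategoryTheory CategoryTheory.Limits AlgebraicGeometry TopologicalSpace Opposite

noncomputable section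

namespace Groth.Agent.Castel

attribute [local instance] W7Cube.law

variable {Y : Scheme.{u}}

theorem cls_tensor {L M : Y.Modules} (hL : PicF.IsInvertible L) (hM : PicF.IsInvertible M) :
    PicGrp.cls (CohB1.tensorMod L M) (TMul.isInvertible_tensorMod hL hM) = PicGrp.cls L hL * PicGrp.cls M hM := rfl

theorem cls_structure :
    PicGrp.cls (Coh.structureModule Y) (PicLoc.isInvertible_structureModule Y) = (1 : PicLoc.PicSet Y) := rfl

theorem cls_tensorPow {L : Y.Modules} (hL : PicF.IsInvertible L) :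
    ∀ n : ℕ, PicGrp.cls (CohB1.tensorPow L n) (TMul.isInvertible_tensorPow hL n) = PicGrp.cls L hL ^ n
  | 0 => by rw [pow_zero]; rfl
  | n + 1 => by
    rw [pow_succ, ← cls_tensorPow hL n]
    rfl

theorem exists_cls_multiTwist {n : ℕ} (L : Fin n → Y.Modules) (hL : ∀ i, PicF.IsInvertible (L i)) (m : Fin n → ℕ) :
    ∃ h : PicF.IsInvertible (FGA.multiTwist L m),
      PicGrp.cls (FGA.multiTwist L m) h = ∏ i, PicGrp.cls (L i) (hL i) ^ m i := by
  have key : ∀ l : List (Fin n), ∃ h : PicF.IsInvertible (FGA.tensorList (l.map fun i => CohB1.tensorPow (L i) (m i))),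
      PicGrp.cls _ h = (l.map fun i => PicGrp.cls (L i) (hL i) ^ m i).prod := by
    intro l
    induction l with
    | nil => exact ⟨PicLoc.isInvertible_structureModule Y, rfl⟩
    | cons i l ih =>
      obtain ⟨h, e⟩ := ih
      refine ⟨TMul.isInvertible_tensorMod (TMul.isInvertible_tensorPow (hL i) (m i)) h, ?_⟩
      exact (cls_tensor (TMul.isInvertible_tensorPow (hL i) (m i)) h).trans
        ((congrArg₂ (· * ·) (cls_tensorPow (hL i) (m i)) e).trans List.prod_cons.symm)
  obtain ⟨h, e⟩ := key (List.finRange n)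
  exact ⟨h, e.trans (Fin.prod_univ_def _).symm⟩

theorem cls_eq_inv {L M : Y.Modules} (hL : PicF.IsInvertible L) (hM : PicF.IsInvertible M)
    (h : ClSub.IsInverseOf L M) : PicGrp.cls L hL = (PicGrp.cls M hM)⁻¹ :=
  eq_inv_of_mul_eq_one_left (((PicGrp.cls_eq_cls_iff (TMul.isInvertible_tensorMod hL hM)
    (PicLoc.isInvertible_structureModule Y)).2 h).trans cls_structure)

theorem pull_cls {X : Scheme.{u}} (g : X ⟶ Y) {L : Y.Modules} (hL : PicF.IsInvertible L) :
    W7Cube.pull g (PicGrp.cls L hL) = PicGrp.cls _ (PicLoc.isInvertible_pullback g hL) :=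
  Subtype.ext rfl

theorem cls_ideal_mul {I J : Y.IdealSheafData} (hI : BlowUp.IsEffCartierIdeal I) (hJ : BlowUp.IsEffCartierIdeal J) :
    PicGrp.cls (ClSub.idealMod (I * J)) ((Groth.Agent.S8914.result _).2 (BlowUpLib.cartier_mul hI hJ)) =
      PicGrp.cls (ClSub.idealMod I) ((Groth.Agent.S8914.result _).2 hI) *
        PicGrp.cls (ClSub.idealMod J) ((Groth.Agent.S8914.result _).2 hJ) :=
  ((PicGrp.cls_eq_cls_iff (TMul.isInvertible_tensorMod ((Groth.Agent.S8914.result _).2 hI)
    ((Groth.Agent.S8914.result _).2 hJ)) ((Groth.Agent.S8914.result _).2 (BlowUpLib.cartier_mul hI hJ))).2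
    (Nakai.nonempty_idealMod_mul hI hJ)).symm

theorem cls_congr {L M : Y.Modules} (h : L = M) (hL : PicF.IsInvertible L) (hM : PicF.IsInvertible M) :
    PicGrp.cls L hL = PicGrp.cls M hM := by
  subst h; rfl

theorem cls_ideal_top :
    PicGrp.cls (ClSub.idealMod (⊤ : Y.IdealSheafData)) ((Groth.Agent.S8914.result _).2 BlowUpLib.cartier_top) = 1 := by
  have h := cls_ideal_mul (Y := Y) BlowUpLib.cartier_top BlowUpLib.cartier_top
  have e : (⊤ : Y.IdealSheafData) * ⊤ = ⊤ := by rw [← Scheme.IdealSheafData.one_eq_top, one_mul]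
  rw [cls_congr (congrArg ClSub.idealMod e) _ ((Groth.Agent.S8914.result _).2 BlowUpLib.cartier_top)] at h
  exact mul_eq_left.1 h.symm

theorem exists_cls_ideal_prod {σ : Type} (s : Finset σ) (I : σ → Y.IdealSheafData)
    (hI : ∀ i, BlowUp.IsEffCartierIdeal (I i)) (a : σ → ℕ) :
    ∃ h : PicF.IsInvertible (ClSub.idealMod (∏ i ∈ s, I i ^ a i)),
      PicGrp.cls _ h = ∏ i ∈ s, PicGrp.cls (ClSub.idealMod (I i)) ((Groth.Agent.S8914.result _).2 (hI i)) ^ a i := by
  classical
  suffices H : BlowUp.IsEffCartierIdeal (∏ i ∈ s, I i ^ a i) ∧ ∀ h : PicF.IsInvertible (ClSub.idealMod (∏ i ∈ s, I i ^ a i)),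
      PicGrp.cls _ h = ∏ i ∈ s, PicGrp.cls (ClSub.idealMod (I i)) ((Groth.Agent.S8914.result _).2 (hI i)) ^ a i from
    ⟨(Groth.Agent.S8914.result _).2 H.1, H.2 _⟩
  have hpow : ∀ i (k : ℕ) (h : PicF.IsInvertible (ClSub.idealMod (I i ^ k))),
      PicGrp.cls _ h = PicGrp.cls (ClSub.idealMod (I i)) ((Groth.Agent.S8914.result _).2 (hI i)) ^ k := by
    intro i k
    induction k with
    | zero =>
      intro h
      exact ((cls_congr (by rw [pow_zero, Scheme.IdealSheafData.one_eq_top]) _ _).trans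
        (cls_ideal_top (Y := Y))).trans (pow_zero _).symm
    | succ k ih =>
      intro h
      refine ((cls_congr (by rw [pow_succ]) _ _).trans
        (cls_ideal_mul (DivPart.cartier_pow (hI i) k) (hI i))).trans (Eq.trans ?_ (pow_succ _ _).symm)
      rw [ih ((Groth.Agent.S8914.result _).2 (DivPart.cartier_pow (hI i) k))]
  induction s using Finset.induction with
  | empty =>
    refine ⟨by rw [Finset.prod_empty, Scheme.IdealSheafData.one_eq_top]; exact BlowUpLib.cartier_top, fun h => ?_⟩
    exact ((cls_congr (by rw [Finset.prod_empty, Scheme.IdealSheafData.one_eq_top]) _ _).trans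
      (cls_ideal_top (Y := Y))).trans Finset.prod_empty.symm
  | insert j t hj ih =>
    refine ⟨by rw [Finset.prod_insert hj]; exact BlowUpLib.cartier_mul (DivPart.cartier_pow (hI j) _) ih.1, fun h => ?_⟩
    exact ((cls_congr (by rw [Finset.prod_insert hj]) _ _).trans
      ((cls_ideal_mul (DivPart.cartier_pow (hI j) _) ih.1).trans (congrArg₂ (· * ·)
        (hpow j (a j) ((Groth.Agent.S8914.result _).2 (DivPart.cartier_pow (hI j) _)))
        (ih.2 ((Groth.Agent.S8914.result _).2 ih.1))))).trans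
      (Finset.prod_insert (f := fun i => PicGrp.cls (ClSub.idealMod (I i))
        ((Groth.Agent.S8914.result _).2 (hI i)) ^ a i) hj).symm

variable {R : Type u} [CommRing R] [IsDomain R] [IsDiscreteValuationRing R] {X : Over (Spec (CommRingCat.of R))}

/-- The degree on a vertical prime divisor of a class. -/
def degP (Γ : ArSurf.VertComp R X) (c : PicLoc.PicSet X.left) : ℤ :=
  ArSurf.inter R X (PicGrp.exists_eq_cls c).choose Γ

theorem degP_cls [IsProper X.hom] (Γ : ArSurf.VertComp R X) {L : X.left.Modules} (hL : PicF.IsInvertible L) :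
    degP Γ (PicGrp.cls L hL) = ArSurf.inter R X L Γ := by
  haveI : IsProper (Γ.curve.left ↘ Spec (CommRingCat.of (IsLocalRing.ResidueField R))) := isProper_curve Γ
  obtain ⟨hL', e⟩ := (PicGrp.exists_eq_cls (PicGrp.cls L hL)).choose_spec
  obtain ⟨i⟩ := (PicGrp.cls_eq_cls_iff hL hL').1 e
  rw [degP, inter_eq_deg, inter_eq_deg, Curv2.deg, Curv2.deg,
    CurveRR.euler_eq_of_iso ((Scheme.Modules.pullback Γ.ι).mapIso i)]

/-- The degree as a homomorphism. -/
def degHom [IsProper X.hom] (Γ : ArSurf.VertComp R X) : PicLoc.PicSet X.left →* Multiplicative ℤ :=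
  MonoidHom.mk' (fun c => Multiplicative.ofAdd (degP Γ c)) fun c d => by
    haveI : IsProper (Γ.curve.left ↘ Spec (CommRingCat.of (IsLocalRing.ResidueField R))) := isProper_curve Γ
    obtain ⟨L, hL, rfl⟩ := PicGrp.exists_eq_cls c
    obtain ⟨M, hM, rfl⟩ := PicGrp.exists_eq_cls d
    rw [← cls_tensor, degP_cls, degP_cls, degP_cls, ← ofAdd_add]
    congr 1
    obtain ⟨p⟩ := TMul.nonempty_pullTensorIso Γ.ι L M
    rw [inter_eq_deg, inter_eq_deg, inter_eq_deg, ← CurveRR.deg_tensor_inv Γ.dim_eq.le
      (PicLoc.isInvertible_pullback Γ.ι hL) (PicLoc.isInvertible_pullback Γ.ι hM), Curv2.deg, Curv2.deg,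
      CurveRR.euler_eq_of_iso p]

theorem degP_mul [IsProper X.hom] (Γ : ArSurf.VertComp R X) (c d : PicLoc.PicSet X.left) :
    degP Γ (c * d) = degP Γ c + degP Γ d :=
  congrArg Multiplicative.toAdd (map_mul (degHom Γ) c d)

theorem degP_one [IsProper X.hom] (Γ : ArSurf.VertComp R X) : degP Γ (1 : PicLoc.PicSet X.left) = 0 :=
  congrArg Multiplicative.toAdd (map_one (degHom Γ))

theorem degP_zpow [IsProper X.hom] (Γ : ArSurf.VertComp R X) (c : PicLoc.PicSet X.left) (k : ℤ) :
    degP Γ (c ^ k) = k * degP Γ c := by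
  have h := congrArg Multiplicative.toAdd (map_zpow (degHom Γ) c k)
  rw [toAdd_zpow, smul_eq_mul] at h
  exact h

theorem degP_inv [IsProper X.hom] (Γ : ArSurf.VertComp R X) (c : PicLoc.PicSet X.left) :
    degP Γ c⁻¹ = - degP Γ c :=
  congrArg Multiplicative.toAdd (map_inv (degHom Γ) c)

theorem degP_prod [IsProper X.hom] (Γ : ArSurf.VertComp R X) {σ : Type} (s : Finset σ)
    (c : σ → PicLoc.PicSet X.left) : degP Γ (∏ i ∈ s, c i) = ∑ i ∈ s, degP Γ (c i) := by
  classical
  induction s using Finset.induction with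
  | empty => rw [Finset.prod_empty, Finset.sum_empty, degP_one]
  | insert j t hj ih => rw [Finset.prod_insert hj, Finset.sum_insert hj, degP_mul, ih]

end Groth.Agent.Castel
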