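import Groth.Agent.Castel.ComapIso
import Groth.Agent.CohFinite.Sequence
import Groth.Agent.S4407
import Groth.Agent.TMul.AmpleCrit

/-!
Powers of a Cartier divisor with affine support are eventually generated by global sections.
-/

set_option autoImplicit false
set_option backward.isDefEq.respectTransparency false
set_option backward.isDefEq.respectTransparency.types false
set_option linter.style.haveILetI false

universe u

open CategoryTheory CategoryTheory.Limits AlgebraicGeometry TopologicalSpace Opposite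
open Groth.Agent.QC (res resO resO_resO app_res res_smul res_self res_res)
open Groth.Agent.CohFinite (tmap tmap_tm shortExact_tmap δH)
open Groth.Agent.W7Rees (hm)
open TMul (tm IsGen homOf val_homOf)

noncomputable section

namespace Groth.Agent.Castel

/-- Global sections lift if the kernel injects on `H¹`. -/
theorem surjective_app_top' {T : TopCat.{u}} {S : ShortComplex (CohTop.Ab T)} (hS : S.ShortExact)
    (h : ∀ x, Sheaf.H.map S.f 1 x = 0 → x = 0) (z : S.X₃.obj.obj (op ⊤)) :
    ∃ w, S.g.hom.app (op (⊤ : Opens T)) w = z := by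
  have hT := isTerminalTop (α := Opens T)
  let x : Sheaf.H S.X₃ 0 := (Sheaf.H.equiv₀ S.X₃ hT).symm z
  have h0 : δH hS 0 x = 0 := h _ ((CohFinite.map_f_eq_zero_iff hS 0 _).2 ⟨x, rfl⟩)
  obtain ⟨y, hy⟩ := (CohFinite.δH_eq_zero_iff hS 0 x).1 h0
  obtain ⟨w, rfl⟩ := (Sheaf.H.equiv₀ S.X₂ hT).symm.surjective y
  refine ⟨w, (Sheaf.H.equiv₀ S.X₃ hT).symm.injective ?_⟩
  exact (Sheaf.H.equiv₀_symm_naturality hT S.g w).symm.trans hy

variable {X : Scheme.{u}} {I : X.IdealSheafData}

/-- A section of the tensor with the ideal generating at a point off the support generates there. -/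
theorem mem_genLocus_idealIncl {G P : X.Modules} (hG : PicF.IsInvertible G)
    (e : CohB1.tensorMod (ClSub.idealMod I) G ≅ P) (t : Γ(P, ⊤)) {x : X} (hx : x ∉ I.support)
    (ht : x ∈ CohB1.genLocus P (homOf t)) :
    x ∈ CohB1.genLocus G (homOf ((CurveRR.idealIncl I G).app ⊤ (e.inv.app ⊤ t))) := by
  obtain ⟨D, g₀, hxD, hg₀⟩ := TMul.exists_isGen hG x
  obtain ⟨W₁, hW₁, hxW₁, -⟩ := exists_isAffineOpen_mem_and_subset (x := x) (U := ⊤) trivial
  rw [Scheme.IdealSheafData.mem_support_iff_of_mem (U := ⟨W₁, hW₁⟩) hxW₁, Scheme.mem_zeroLocus_iff] at hx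
  push_neg at hx
  obtain ⟨s, hs, hxs⟩ := hx
  obtain ⟨W, hW, hxW, hle⟩ := exists_isAffineOpen_mem_and_subset (x := x)
    (U := D ⊓ CohB1.genLocus P (homOf t) ⊓ X.basicOpen s) ⟨⟨hxD, ht⟩, hxs⟩
  have hWD : W ≤ D := fun y hy => (hle hy).1.1
  have hWt : W ≤ CohB1.genLocus P (homOf t) := fun y hy => (hle hy).1.2
  have hWW : W ≤ W₁ := fun y hy => X.basicOpen_le s (hle hy).2
  have hu : IsUnit (resO X hWW s) := by
    have h1 := X.toRingedSpace.isUnit_res_basicOpen s
    have h2 := h1.map (resO X (fun y hy => (hle hy).2 : W ≤ X.basicOpen s))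
    exact (resO_resO _ (X.basicOpen_le s) s) ▸ h2
  have hone : (1 : Γ(X, W)) ∈ I.ideal ⟨W, hW⟩ := by
    obtain ⟨v, hv⟩ := hu.exists_left_inv
    rw [← hv, ← I.map_ideal (U := ⟨W, hW⟩) (V := ⟨W₁, hW₁⟩) hWW]
    exact Ideal.mul_mem_left _ _ (Ideal.mem_map_of_mem _ hs)
  obtain ⟨a, ha⟩ := (Groth.Agent.QC.mem_range_idealModι_affine I ⟨W, hW⟩ 1).2 hone
  have hgt := (TMul.isGen_genLocus (homOf t)).res hWt
  rw [val_homOf, res_res] at hgt
  set g := res G hWD g₀ with hgdef
  obtain ⟨r, hr⟩ := (hgt W le_rfl).2 (e.hom.app W (tm a g))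
  simp only [res_self] at hr
  obtain ⟨c, hc⟩ := ((hg₀.res hWD) W le_rfl).2 (res G le_top ((CurveRR.idealIncl I G).app ⊤ (e.inv.app ⊤ t)))
  simp only [res_self] at hc
  refine (TMul.mem_genLocus_iff_isUnit _ (hg₀.res hWD) (c := c) (by rw [val_homOf]; exact hc.symm) hxW).2 ?_
  have h1 : g = r • res G (le_top : W ≤ ⊤) ((CurveRR.idealIncl I G).app ⊤ (e.inv.app ⊤ t)) := by
    have h2 := congrArg (fun v => (CurveRR.idealIncl I G).app W (e.inv.app W v)) hr
    have hei : e.inv.app W (e.hom.app W (tm a g)) = tm a g :=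
      ConcreteCategory.congr_hom (congrArg (fun ψ => Scheme.Modules.Hom.app ψ W) e.hom_inv_id) _
    have hL : (CurveRR.idealIncl I G).app W (e.inv.app W (r • res P (le_top : W ≤ ⊤) t)) =
        r • res G (le_top : W ≤ ⊤) ((CurveRR.idealIncl I G).app ⊤ (e.inv.app ⊤ t)) := by
      rw [Scheme.Modules.Hom.app_smul, Scheme.Modules.Hom.app_smul, ← app_res e.inv, ← app_res (CurveRR.idealIncl I G)]
    have hR : (CurveRR.idealIncl I G).app W (tm a g) = g := by
      rw [CurveRR.idealIncl_tm, ha, one_smul]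
    exact (hR.symm.trans (congrArg _ hei.symm)).trans (h2.symm.trans hL)
  have h3 : (r * c) • res G le_rfl g = (1 : Γ(X, W)) • res G le_rfl g := by
    rw [res_self, one_smul, mul_smul, hc, ← h1]
  have h4 : r * c = 1 := ((hg₀.res hWD) W le_rfl).1 h3
  exact (IsUnit.of_mul_eq_one_right r h4).map _

/-- Sections on the divisor lift when multiplication by the ideal injects on `H¹`. -/
theorem surjective_eta_of_injective {G : X.Modules} (hG : PicF.IsInvertible G)
    (h : ∀ v, hm (CurveRR.idealIncl I G) 1 v = 0 → v = 0) :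
    Function.Surjective (ProjMor.eta I.subschemeι G ⊤) := by
  haveI := W7Hull.isIso_projMap_of_invertible I.subschemeι (Coh.structureModule I.subscheme) hG
  set s := I.subschemeι with hs
  have hS := (shortExact_tmap hG (CurveRR.ideal_shortExact I)).map_of_exact (CohQC.toAbF X)
  have hinj' : ∀ v, Sheaf.H.map ((CohQC.toAbF X).map (tmap (ClSub.idealModι I) G)) 1 v = 0 → v = 0 :=
    fun v hv => h v (by
      refine (W7Rees.hm_comp (tmap (ClSub.idealModι I) G) (TMul.leftUnitIso G).hom 1 v).trans ?_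
      rw [show hm (tmap (ClSub.idealModι I) G) 1 v = 0 from hv, map_zero])
  intro z
  let y := (inv (CohFinite.projMap s (Coh.structureModule I.subscheme) G)).app ⊤
    (tm (M := Coh.structureModule I.subscheme) (1 : Γ(I.subscheme, ⊤)) z)
  obtain ⟨w, hw⟩ := surjective_app_top' hS hinj' y
  refine ⟨(TMul.leftUnitIso G).hom.app ⊤ w, ?_⟩
  set l := (TMul.leftUnitIso G).hom.app ⊤ w with hl
  have hwl : w = tm (M := Coh.structureModule X) (1 : Γ(X, ⊤)) l := by
    have h1 : (TMul.leftUnitIso G).hom.app ⊤ w =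
        (TMul.leftUnitIso G).hom.app ⊤ (tm (M := Coh.structureModule X) (1 : Γ(X, ⊤)) l) := by
      rw [CurveRR.leftUnitIso_tm, one_smul]
    exact (ConcreteCategory.bijective_of_isIso ((TMul.leftUnitIso G).hom.app ⊤)).1 h1
  have h2 := congrArg ((CohFinite.projMap s (Coh.structureModule I.subscheme) G).app ⊤) hw
  have h3 : (CohFinite.projMap s (Coh.structureModule I.subscheme) G).app ⊤ y =
      tm (M := Coh.structureModule I.subscheme) (1 : Γ(I.subscheme, ⊤)) z :=
    ConcreteCategory.congr_hom (congrArg (fun φ => Scheme.Modules.Hom.app φ ⊤)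
      (IsIso.inv_hom_id (CohFinite.projMap s (Coh.structureModule I.subscheme) G))) _
  rw [hwl] at h2
  have h4 := h2.trans h3
  change (CohFinite.projMap s (Coh.structureModule I.subscheme) G).app ⊤
    ((tmap (ClSub.toSubscheme I) G).app ⊤ (tm (M := Coh.structureModule X) (1 : Γ(X, ⊤)) l)) = _ at h4
  rw [tmap_tm] at h4
  have h5 := (CohFinite.projMap_tm s (Coh.structureModule I.subscheme) G (U := ⊤) _ l).symm.trans h4
  have h6 := congrArg ((TMul.leftUnitIso ((Scheme.Modules.pullback s).obj G)).hom.app (s ⁻¹ᵁ ⊤)) h5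
  erw [CurveRR.leftUnitIso_tm, CurveRR.leftUnitIso_tm] at h6
  rw [one_smul, show (ClSub.toSubscheme I).app ⊤ (1 : Γ(X, ⊤)) = s.app ⊤ 1 from rfl, map_one, one_smul] at h6
  exact h6

/-- Eventually the powers of `O(D)`, `D` affine, are generated by global sections. -/
theorem exists_isGloballyGenerated_pow {A : Type u} [CommRing A] [IsNoetherianRing A]
    [X.Over (Spec (CommRingCat.of A))] [IsProper (X ↘ Spec (CommRingCat.of A))]
    (hI : BlowUp.IsEffCartierIdeal I) [IsAffine I.subscheme] {L : X.Modules}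
    (hL : ClSub.IsInverseOf L (ClSub.idealMod I)) :
    ∃ m₀ : ℕ, 1 ≤ m₀ ∧ ∀ m : ℕ, m₀ ≤ m → Curv2.IsGloballyGenerated (CohB1.tensorPow L m) := by
  haveI : IsLocallyNoetherian X := LocallyOfFiniteType.isLocallyNoetherian (X ↘ Spec (CommRingCat.of A))
  haveI : CompactSpace X := QuasiCompact.compactSpace_of_compactSpace (X ↘ Spec (CommRingCat.of A))
  have hIi := (S8914.result I).2 hI
  have hLi := isInvertible_of_isInverseOf hIi hL
  obtain ⟨l⟩ := id hL
  let G : ℕ → X.Modules := fun m => CohB1.tensorPow L m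
  have hG : ∀ m, PicF.IsInvertible (G m) := fun m => TMul.isInvertible_tensorPow hLi m
  have hstep : ∀ m, Nonempty (CohB1.tensorMod (ClSub.idealMod I) (G (m + 1)) ≅ G m) := fun m =>
    ⟨TMul.commIso _ _ ≪≫ TMul.assocIso (G m) L (ClSub.idealMod I) ≪≫ PicGrp.tensorModIso (Iso.refl _) l ≪≫
      SecTwist.unitorR _⟩
  let e := fun m => (hstep m).some
  have hquot : ∀ m, Subsingleton (Coh.HH X (CohB1.tensorMod (ClSub.quotMod I) (G m)) 1) := fun m => by
    refine subsingleton_h1_quot_of_pullback I (hG m) ?_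
    haveI : Coh.IsQCoh ((Scheme.Modules.pullback I.subschemeι).obj (G m)) :=
      TMul.isQCoh_of_isInvertible (PicLoc.isInvertible_pullback _ (hG m))
    exact (SiteCoh.huTerminalEquiv (Opens.grothendieckTopology I.subscheme) isTerminalTop
      (Coh.toAb ((Scheme.Modules.pullback I.subschemeι).obj (G m))) 1).toEquiv.subsingleton_congr.2
      (CohQC.isAffineOpen_hu_vanish _ (isAffineOpen_top I.subscheme) le_rfl)
  let ι : ∀ m, G m ⟶ G (m + 1) := fun m => (e m).inv ≫ CurveRR.idealIncl I (G (m + 1))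
  have hιs : ∀ m, Function.Surjective (hm (ι m) 1) := fun m x => by
    obtain ⟨y, rfl⟩ := surjective_h1_idealIncl_of_quot (hG (m + 1)) (hquot (m + 1)) x
    refine ⟨hm (e m).hom 1 y, ?_⟩
    refine (W7Rees.hm_comp (e m).hom (ι m) 1 y).symm.trans ?_
    simp only [ι, Iso.hom_inv_id_assoc]
  -- the kernels of the composites stabilise
  let comp : ∀ m, G 0 ⟶ G m := fun m => Nat.recOn (motive := fun m => G 0 ⟶ G m) m (𝟙 _) fun k φ => φ ≫ ι k
  have hcs : ∀ m x, ∃ y, hm (comp m) 1 y = x := fun m => by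
    induction m with
    | zero =>
      exact fun x => ⟨x, (congrArg (fun φ => Sheaf.H.map φ 1 x) (CategoryTheory.Functor.map_id _ _)).trans
        (Sheaf.H.map_id_apply _)⟩
    | succ k ih =>
      intro x
      obtain ⟨y, rfl⟩ := hιs k x
      obtain ⟨w, rfl⟩ := ih y
      exact ⟨w, W7Rees.hm_comp (comp k) (ι k) 1 w⟩
  have hF : Coh.IsCoh (G 0) := ⟨TMul.isQCoh_of_isInvertible (hG 0), TMul.isFT_of_isInvertible (hG 0)⟩
  haveI := CohFinite.finite_proper (A := A) X (G 0) hF 1
  haveI : IsNoetherian A (Coh.HH X (G 0) 1) := isNoetherian_of_isNoetherianRing_of_finite A _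
  let K : ℕ →o Submodule A (Coh.HH X (G 0) 1) :=
    ⟨fun m => LinearMap.ker (CohFinite.hhMap (A := A) (comp m) 1), monotone_nat_of_le_succ fun m x hx => by
      have h : hm (comp m) 1 x = 0 := hx
      show hm (comp m ≫ ι m) 1 x = 0
      rw [W7Rees.hm_comp, h, map_zero]⟩
  obtain ⟨m₀, hm₀⟩ := monotone_stabilizes_iff_noetherian.mpr ‹_› K
  refine ⟨m₀ + 1, by omega, fun m hm' => ?_⟩
  obtain ⟨k, rfl⟩ : ∃ k, m = k + 1 := ⟨m - 1, by omega⟩
  have hinjι : ∀ x, hm (ι k) 1 x = 0 → x = 0 := fun x hx => by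
    obtain ⟨y, rfl⟩ := hcs k x
    have h1 : y ∈ K (k + 1) := (W7Rees.hm_comp (comp k) (ι k) 1 y).trans hx
    rw [← hm₀ (k + 1) (by omega), hm₀ k (by omega)] at h1
    exact h1
  refine CurveRR.isGloballyGenerated_of_closed (hG (k + 1)) fun x _ => ?_
  by_cases hx : x ∈ I.support
  · -- lift a generator from the divisor
    obtain ⟨q, rfl⟩ : x ∈ Set.range I.subschemeι := by rw [I.range_subschemeι]; exact hx
    let M := (Scheme.Modules.pullback I.subschemeι).obj (G (k + 1))
    have hMi : PicF.IsInvertible M := PicLoc.isInvertible_pullback I.subschemeι (hG (k + 1))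
    haveI : I.subscheme.IsQuasiAffine := inferInstance
    obtain ⟨κ, p, hp⟩ := S4407.result I.subscheme M (TMul.isQCoh_of_isInvertible hMi)
    haveI := hp
    obtain ⟨D, g, hqD, hg⟩ := TMul.exists_isGen hMi q
    obtain ⟨z, W, hqW, -, hzW⟩ := TMul.exists_isGen_of_epi_free (κ := κ) p hg hqD
    obtain ⟨t, rfl⟩ := surjective_eta_of_injective (hG (k + 1)) (fun v hv => by
      have h2 : hm (ι k) 1 (hm (e k).hom 1 v) = 0 := by
        refine (W7Rees.hm_comp (e k).hom (ι k) 1 v).symm.trans ?_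
        simp only [ι, Iso.hom_inv_id_assoc]
        exact hv
      have h4 := congrArg (hm (e k).inv 1) (hinjι _ h2)
      rw [map_zero, ← W7Rees.hm_comp, Iso.hom_inv_id] at h4
      exact ((congrArg (fun φ => Sheaf.H.map φ 1 v) (CategoryTheory.Functor.map_id _ _)).trans
        (Sheaf.H.map_id_apply _)).symm.trans h4) z
    refine ⟨t, ?_⟩
    change q ∈ I.subschemeι ⁻¹ᵁ CohB1.genLocus (G (k + 1)) (homOf t)
    rw [← ProjMor.genLocus_pullSec I.subschemeι (hG (k + 1)) t]
    exact TMul.le_genLocus (homOf (L := M) (ProjMor.eta I.subschemeι (G (k + 1)) ⊤ t)) (by rwa [val_homOf]) hqW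
  · -- the canonical section
    have hex : ∀ n, ∃ t : Γ(G n, ⊤), x ∈ CohB1.genLocus (G n) (homOf t) := fun n => by
      induction n with
      | zero =>
        refine ⟨(show Γ(Coh.structureModule X, ⊤) from (1 : Γ(X, ⊤))), ?_⟩
        exact TMul.le_genLocus _ (by rw [val_homOf]; exact (TMul.isGen_one ⊤).res le_top) (U := ⊤) trivial
      | succ n ih =>
        obtain ⟨t, ht⟩ := ih
        exact ⟨_, mem_genLocus_idealIncl (hG (n + 1)) (e n) t hx ht⟩
    exact hex (k + 1)

end Groth.Agent.Castel
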