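import Groth.Agent.Castel.HenselHorizontal
import Groth.Agent.Castel.SemiAmpleDiv
import Groth.Agent.Castel.ModelAmple
import Groth.Agent.Castel.ContractGG
import Groth.Agent.Castel.ArtinPos
import Groth.Agent.Castel.PicClass

/-!
A globally generated module positive exactly off given components, over a henselian base.
-/

set_option autoImplicit false
set_option backward.isDefEq.respectTransparency false
set_option backward.isDefEq.respectTransparency.types false
set_option linter.style.haveILetI false

universe u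

open CategoryTheory CategoryTheory.Limits AlgebraicGeometry TopologicalSpace

noncomputable section

namespace Groth.Agent.Castel

attribute [local instance] W7Cube.law

/-- `O(mD)` is trivial on a scheme missing `D`. -/
theorem nonempty_pullback_pow_trivial {Z Y : Scheme.{u}} (g : Z ⟶ Y) {I : Y.IdealSheafData}
    (hI : BlowUp.IsEffCartierIdeal I) {L : Y.Modules} (hL : ClSub.IsInverseOf L (ClSub.idealMod I))
    (hdis : ∀ z, g z ∉ (I.support : Set Y)) (m : ℕ) :
    Nonempty ((Scheme.Modules.pullback g).obj (CohB1.tensorPow L m) ≅ Coh.structureModule Z) := by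
  have hIi := (Groth.Agent.S8914.result _).2 hI
  have hLi := isInvertible_of_isInverseOf hIi hL
  have htop : I.comap g = ⊤ := BlowUpLib.comap_eq_top I g hdis
  have hc : BlowUp.IsEffCartierIdeal (I.comap g) := htop ▸ BlowUpLib.cartier_top
  obtain ⟨n⟩ := Nakai.nonempty_pullback_idealMod g hI hc
  have h1 : W7Cube.pull g (PicGrp.cls (ClSub.idealMod I) hIi) = 1 := by
    rw [pull_cls g hIi, (PicGrp.cls_eq_cls_iff _ ((Groth.Agent.S8914.result _).2 hc)).2 ⟨n⟩,
      cls_congr (congrArg ClSub.idealMod htop) _ ((Groth.Agent.S8914.result _).2 BlowUpLib.cartier_top), cls_ideal_top]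
  have h2 : W7Cube.pull g (PicGrp.cls L hLi) = 1 := by
    rw [cls_eq_inv hLi hIi hL, map_inv, h1, inv_one]
  refine (PicGrp.cls_eq_cls_iff (PicLoc.isInvertible_pullback g (TMul.isInvertible_tensorPow hLi m))
    (PicLoc.isInvertible_structureModule Z)).1 ?_
  rw [← pull_cls g (TMul.isInvertible_tensorPow hLi m), cls_tensorPow hLi, map_pow, h2, one_pow, cls_structure]

/-- Degrees of powers. -/
theorem deg_pullback_pow {k : Type u} [Field k] {Z Y : Scheme.{u}} [Z.Over (Spec (CommRingCat.of k))]
    [IsProper (Z ↘ Spec (CommRingCat.of k))] [IsIntegral Z] (hdim : topologicalKrullDim Z ≤ 1) (g : Z ⟶ Y) {L : Y.Modules}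
    (hL : PicF.IsInvertible L) : ∀ m : ℕ,
    Curv2.deg k Z ((Scheme.Modules.pullback g).obj (CohB1.tensorPow L m)) 1 =
      (m : ℤ) * Curv2.deg k Z ((Scheme.Modules.pullback g).obj L) 1
  | 0 => by
    rw [Curv2.deg, CurveRR.euler_eq_of_iso (k := k) (show (Scheme.Modules.pullback g).obj (CohB1.tensorPow L 0) ≅ _ from
      PicLoc.pullbackStructureIso g), Nat.cast_zero, zero_mul]
    exact CurveRR.deg_structure (k := k) (X := Z)
  | m + 1 => by
    obtain ⟨p⟩ := TMul.nonempty_pullTensorIso g (CohB1.tensorPow L m) L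
    have h := CurveRR.deg_tensor_inv (k := k) hdim (PicLoc.isInvertible_pullback g (TMul.isInvertible_tensorPow hL m))
      (PicLoc.isInvertible_pullback g hL)
    have he := CurveRR.euler_eq_of_iso (k := k) (p ≪≫ Iso.refl ((Scheme.Modules.pullback g).obj
      (CohB1.tensorPow L (m + 1))))
    have ih := deg_pullback_pow (k := k) hdim g hL m
    simp only [Curv2.deg] at h ih he ⊢
    rw [he] at h
    push_cast at h ih ⊢
    linarith

variable {R : Type u} [CommRing R] [IsDomain R] [IsDiscreteValuationRing R] {X : Over (Spec (CommRingCat.of R))}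
  [IsIntegral X.left] [Flat X.hom] [IsProper X.hom]

/-- A horizontal divisor has positive degree on the generic fibre. -/
theorem curveDeg_generic_pow_pos (hdim : topologicalKrullDim X.left = 2) {I : X.left.IdealSheafData}
    (hI : BlowUp.IsEffCartierIdeal I) (hη : genericPoint X.left ∉ (I.support : Set X.left))
    (hmeet : ∃ q ∈ (I.support : Set X.left), (X.hom q).asIdeal = ⊥) {L : X.left.Modules}
    (hL : ClSub.IsInverseOf L (ClSub.idealMod I)) {m : ℕ} (hm : 0 < m) :
    0 < ArSurf.curveDeg (FractionRing R) ((Neron.genericFibre R).obj X).left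
      ((Scheme.Modules.pullback (pullback.fst X.hom (Neron.genPt R))).obj (CohB1.tensorPow L m)) := by
  haveI := isOpenImmersion_genPt (R := R)
  let C := ((Neron.genericFibre R).obj X).left
  let f : C ⟶ Spec (CommRingCat.of (FractionRing R)) := ((Neron.genericFibre R).obj X).hom
  let g : C ⟶ X.left := pullback.fst X.hom (Neron.genPt R)
  have hgpb : IsPullback g f X.hom (Neron.genPt R) := IsPullback.of_hasPullback X.hom (Neron.genPt R)
  haveI : IsOpenImmersion g := MorphismProperty.of_isPullback (P := @IsOpenImmersion) hgpb.flip inferInstance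
  haveI hfp : IsProper f := MorphismProperty.of_isPullback (P := @IsProper) hgpb inferInstance
  letI : C.Over (Spec (CommRingCat.of (FractionRing R))) := ⟨f⟩
  haveI : IsProper (C ↘ Spec (CommRingCat.of (FractionRing R))) := hfp
  have hrange : ∀ x : X.left, x ∈ Set.range g ↔ (X.hom x).asIdeal = ⊥ := fun x => by
    show x ∈ Set.range (pullback.fst X.hom (Neron.genPt R)) ↔ _
    rw [Scheme.Pullback.range_fst, RelMinSmooth.range_genPt, Set.mem_preimage, Set.mem_singleton_iff]
    exact ⟨fun h => congrArg PrimeSpectrum.asIdeal h, fun h => PrimeSpectrum.ext h⟩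
  obtain ⟨q, hqI, hq⟩ := hmeet
  obtain ⟨q', rfl⟩ := (hrange q).2 hq
  haveI : Nonempty C := ⟨q'⟩
  haveI : IsIntegral C := isIntegral_of_isOpenImmersion g
  have hCdim : topologicalKrullDim C ≤ 1 :=
    show topologicalKrullDim C ≤ ((1 : ℕ) : WithBot ℕ∞) from
      Unibranch.topologicalKrullDim_le_natCast fun l c hc => by
        obtain ⟨w, hw, hw'⟩ := X.hom.isClosedMap.specializingMap (a := g (c (Fin.last l)))
          (b := IsLocalRing.closedPoint R) (IsLocalRing.specializes_closedPoint _)
        have hne : g (c (Fin.last l)) ≠ w := fun e => IsDiscreteValuationRing.not_a_field R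
          ((congrArg PrimeSpectrum.asIdeal hw').symm.trans ((hrange w).1 ⟨_, e⟩))
        have h := (Unibranch.natCast_le_topologicalKrullDim (α := X.left) (k := l + 1)
          (Fin.snoc (fun i => g (c i)) w) fun i => by
            refine Fin.lastCases ?_ (fun j => ?_) i
            · simp only [Fin.succ_last, Fin.snoc_last, Fin.snoc_castSucc]
              exact ⟨hw, hne⟩
            · simp only [← Fin.castSucc_succ, Fin.snoc_castSucc]
              exact ⟨(hc j).1.map g.isEmbedding.continuous,
                fun e => (hc j).2 (g.isEmbedding.injective e)⟩).trans hdim.le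
        have h' : ((l + 1 : ℕ) : WithBot ℕ∞) ≤ ((2 : ℕ) : WithBot ℕ∞) := h
        have := CartierDim.natCast_le_withBot.mp h'
        omega
  have hgen : g (genericPoint C) ∉ (I.support : Set X.left) := by
    rw [genericPoint_eq_of_isOpenImmersion g]; exact hη
  have hpos := deg_pos_of_meets (k := FractionRing R) hCdim g hI hgen ⟨q', hqI⟩ hL
  have hLi := isInvertible_of_isInverseOf ((Groth.Agent.S8914.result _).2 hI) hL
  have h := deg_pullback_pow (k := FractionRing R) hCdim g hLi m
  have : 0 < Curv2.deg (FractionRing R) C ((Scheme.Modules.pullback g).obj (CohB1.tensorPow L m)) 1 := by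
    rw [h]; positivity
  rw [Curv2.deg, CurveRR.euler_eq (k := FractionRing R) hCdim,
    CurveRR.euler_eq (k := FractionRing R) hCdim] at this
  simp only [ArSurf.curveDeg, FGA.eulerCharLE, Finset.sum_range_succ, Finset.sum_range_zero,
    zero_add, pow_zero, one_mul, pow_one]
  simp only [CurveRR.h, Nat.cast_one, one_mul] at this
  push_cast at this ⊢
  linarith

omit [IsProper X.hom] [Flat X.hom] [IsIntegral X.left] in
/-- Two vertical prime divisors through one another's generic points agree. -/
theorem range_eq_closure_genPt (E : ArSurf.VertComp R X) :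
    Set.range E.ι = closure ({E.ι (genericPoint E.curve.left)} : Set X.left) := by
  refine subset_antisymm ?_ (E.ι.isClosedEmbedding.isClosed_range.closure_subset_iff.2
    (Set.singleton_subset_iff.2 ⟨_, rfl⟩))
  rintro _ ⟨z, rfl⟩
  exact specializes_iff_mem_closure.1 ((genericPoint_specializes z).map E.ι.continuous)

/-- The vertical prime divisors have finitely many generic points. -/
theorem finite_genPts (hdim : topologicalKrullDim X.left = 2) :
    {s : X.left | ∃ E : ArSurf.VertComp R X, E.ι (genericPoint E.curve.left) = s}.Finite := by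
  haveI : IsLocallyNoetherian X.left := LocallyOfFiniteType.isLocallyNoetherian X.hom
  haveI : CompactSpace X.left := QuasiCompact.compactSpace_of_compactSpace X.hom
  haveI : AlgebraicGeometry.IsNoetherian X.left := {}
  obtain ⟨S, hSf, hSc, hSi, hS⟩ :=
    NoetherianSpace.exists_finite_set_isClosed_irreducible (Models.isClosed_specialFibreSet R X)
  have hfin : (⋃ t ∈ S, {s : X.left | ∃ h : IsIrreducible t, h.genericPoint = s}).Finite :=
    hSf.biUnion fun t _ => Set.Subsingleton.finite fun a ⟨_, ha⟩ b ⟨_, hb⟩ => ha ▸ hb ▸ rfl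
  refine hfin.subset fun s ⟨E, hE⟩ => ?_
  have hsS : s ∈ Models.specialFibreSet R X := hE ▸ range_subset_specialFibre E ⟨_, rfl⟩
  rw [hS] at hsS
  obtain ⟨t, ht, hst⟩ := hsS
  refine Set.mem_iUnion₂.2 ⟨t, ht, hSi t ht, ?_⟩
  by_contra hne
  set a := (hSi t ht).genericPoint
  have hat : a ∈ t := ((hSi t ht).isGenericPoint_genericPoint (hSc t ht)).mem
  have has : a ⤳ s := ((hSi t ht).isGenericPoint_genericPoint (hSc t ht)).specializes hst
  have haS : a ∈ Models.specialFibreSet R X := by rw [hS]; exact ⟨t, ht, hat⟩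
  haveI := E.isIntegral
  obtain ⟨z, hz⟩ := exists_ne_genericPoint E.dim_eq
  subst hE
  have h3 := (Unibranch.natCast_le_topologicalKrullDim (α := X.left) (k := 3)
    ![genericPoint X.left, a, E.ι (genericPoint E.curve.left), E.ι z] fun i => by
      fin_cases i
      · exact ⟨genericPoint_specializes _, fun (e : genericPoint X.left = a) => genericPoint_notMem_special (X := X) (e.symm ▸ haS)⟩
      · exact ⟨has, hne⟩
      · exact ⟨(genericPoint_specializes z).map E.ι.continuous,
          fun e => hz (E.ι.isClosedEmbedding.injective e).symm⟩).trans hdim.le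
  have h' : ((3 : ℕ) : WithBot ℕ∞) ≤ ((2 : ℕ) : WithBot ℕ∞) := h3
  have := CartierDim.natCast_le_withBot.mp h'
  omega

/-- Over a henselian base there is a globally generated module trivial exactly on given components. -/
theorem exists_gg_trivial_exactly [HenselianLocalRing R] (hdim : topologicalKrullDim X.left = 2) {r : ℕ}
    (Γ : Fin r → ArSurf.VertComp R X) (Γ' : ArSurf.VertComp R X)
    (hΓ' : ∀ i, Set.range Γ'.ι ≠ Set.range (Γ i).ι) :
    ∃ L : X.left.Modules, PicF.IsInvertible L ∧ Curv2.IsGloballyGenerated L ∧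
      0 < ArSurf.curveDeg (FractionRing R) ((Neron.genericFibre R).obj X).left
        ((Scheme.Modules.pullback (pullback.fst X.hom (Neron.genPt R))).obj L) ∧
      ∀ E : ArSurf.VertComp R X,
        Nonempty ((Scheme.Modules.pullback E.ι).obj L ≅ Coh.structureModule E.curve.left) ↔
          ∃ i, Set.range E.ι = Set.range (Γ i).ι := by
  classical
  let S : Set X.left := ⋃ i, Set.range (Γ i).ι
  have hS : IsClosed S := isClosed_iUnion_of_finite fun i => (Γ i).ι.isClosedEmbedding.isClosed_range
  -- a closed point on every further component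
  let good : Set X.left := {g | (∃ E : ArSurf.VertComp R X, E.ι (genericPoint E.curve.left) = g) ∧ g ∉ S}
  have hgood : good.Finite := (finite_genPts hdim).subset fun g hg => hg.1
  have hoff : ∀ E : ArSurf.VertComp R X, (¬ ∃ i, Set.range E.ι = Set.range (Γ i).ι) →
      E.ι (genericPoint E.curve.left) ∈ good := fun E hE => by
    refine ⟨⟨E, rfl⟩, fun h => ?_⟩
    obtain ⟨i, hi⟩ := Set.mem_iUnion.1 h
    refine genPt_notMem (fun e => hE ⟨i, e⟩) ?_
    rw [Scheme.Hom.support_ker]
    exact subset_closure hi
  have hpt : ∀ g ∈ good, ∃ x : X.left, g ⤳ x ∧ IsClosed ({x} : Set X.left) ∧ x ∉ S ∧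
      X.hom x = IsLocalRing.closedPoint R := by
    rintro g ⟨⟨E, rfl⟩, hgS⟩
    haveI : IsProper E.curve.hom := isProper_curve E
    haveI : JacobsonSpace E.curve.left := LocallyOfFiniteType.jacobsonSpace E.curve.hom
    obtain ⟨z, hzS, hz⟩ := nonempty_inter_closedPoints (Z := E.ι ⁻¹' Sᶜ) ⟨genericPoint _, hgS⟩
      (hS.isOpen_compl.preimage E.ι.continuous).isLocallyClosed
    refine ⟨E.ι z, (genericPoint_specializes z).map E.ι.continuous, ?_, hzS, range_subset_specialFibre E ⟨z, rfl⟩⟩
    simpa using E.ι.isClosedEmbedding.isClosedMap _ hz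
  choose x hgx hxc hxS hxs using hpt
  choose D d hd hcart hhor hfinD hrange using fun g : good =>
    exists_horizontal_divisor X.hom hdim (hxc g.1 g.2) (hxs g.1 g.2)
  haveI := hgood.fintype
  let I : X.left.IdealSheafData := ∏ g : good, (d g).ker
  have hI : BlowUp.IsEffCartierIdeal I := Finset.prod_induction _ _ (fun a b => BlowUpLib.cartier_mul)
    (by rw [Scheme.IdealSheafData.one_eq_top]; exact BlowUpLib.cartier_top) fun g _ => hcart g
  have hsupp : ∀ y, y ∈ (I.support : Set X.left) ↔ ∃ g, y ∈ Set.range (d g) := by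
    have key : ∀ s : Finset good, ∀ y, y ∈ ((∏ g ∈ s, (d g).ker).support : Set X.left) ↔ ∃ g ∈ s, y ∈ Set.range (d g) := by
      intro s
      induction s using Finset.induction_on with
      | empty => intro y; simp [Scheme.IdealSheafData.one_eq_top]
      | insert a s ha ih =>
        intro y
        haveI := hd a
        rw [Finset.prod_insert ha, Scheme.IdealSheafData.support_mul, TopologicalSpace.Closeds.coe_sup,
          Set.mem_union, ih, Scheme.Hom.support_ker, (d a).isClosedEmbedding.isClosed_range.closure_eq]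
        simp
    exact fun y => (key _ y).trans (by simp)
  have hsfib : ∀ y ∈ (I.support : Set X.left), y ∈ Models.specialFibreSet R X →
      ∃ g : good, y = x g.1 g.2 := fun y hy hys => by
    obtain ⟨g, hg⟩ := (hsupp y).1 hy
    exact ⟨g, (hrange g).le ⟨hg, hys⟩⟩
  have hgenE : ∀ E : ArSurf.VertComp R X, E.ι (genericPoint E.curve.left) ∉ (I.support : Set X.left) := fun E h => by
    obtain ⟨g, hg⟩ := hsfib _ h (range_subset_specialFibre E ⟨_, rfl⟩)
    haveI := E.isIntegral
    obtain ⟨z, hz⟩ := exists_ne_genericPoint E.dim_eq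
    have h1 : E.ι z ∈ ({x g.1 g.2} : Set X.left) :=
      ((genericPoint_specializes z).map E.ι.continuous).mem_closed (hxc g.1 g.2) hg
    exact hz (E.ι.isClosedEmbedding.injective (h1.trans hg.symm))
  obtain ⟨L, -, ⟨eL⟩⟩ := Groth.Agent.SymAlg.exists_inverse ((Groth.Agent.S8914.result _).2 hI)
  have hL : ClSub.IsInverseOf L (ClSub.idealMod I) := ⟨TMul.commIso L _ ≪≫ eL⟩
  have hLi := isInvertible_of_isInverseOf ((Groth.Agent.S8914.result _).2 hI) hL
  -- the divisor is finite over the base
  haveI : Finite I.subscheme := by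
    have hfin : (⋃ g : good, Set.range (d g)).Finite := Set.finite_iUnion fun g => by
      haveI := hfinD g
      haveI := hd g
      haveI : LocallyQuasiFinite (d g ≫ X.hom) := inferInstance
      haveI : Finite (PrimeSpectrum R) := Finite.of_surjective
        (fun b : Bool => if b then IsLocalRing.closedPoint R else ⟨⊥, Ideal.isPrime_bot⟩) fun y => by
          by_cases hy : y.asIdeal = ⊥
          · exact ⟨false, PrimeSpectrum.ext hy.symm⟩
          · exact ⟨true, PrimeSpectrum.ext
              (IsLocalRing.eq_maximalIdeal (Ideal.IsPrime.isMaximal y.isPrime hy)).symm⟩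
      haveI : Finite (Spec (CommRingCat.of R)) := ‹Finite (PrimeSpectrum R)›
      haveI : Finite (D g) := Set.finite_univ_iff.1 <| by
        refine (Set.finite_iUnion fun y => (d g ≫ X.hom).finite_preimage_singleton y).subset ?_
        exact fun z _ => Set.mem_iUnion.2 ⟨(d g ≫ X.hom) z, rfl⟩
      exact Set.finite_range _
    haveI := hfin.to_subtype
    exact Finite.of_injective (fun z => (⟨I.subschemeι z, Set.mem_iUnion.2
      ((hsupp _).1 (I.range_subschemeι.le ⟨z, rfl⟩))⟩ : (⋃ g : good, Set.range (d g) : Set X.left)))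
      fun a b h => by
        have h2 := h
        simp only [Subtype.mk.injEq] at h2
        exact I.subschemeι.isClosedEmbedding.injective h2
  haveI : LocallyQuasiFinite (I.subschemeι ≫ X.hom) :=
    LocallyQuasiFinite.of_finite_preimage_singleton _ fun y => Set.toFinite _
  haveI : IsFinite (I.subschemeι ≫ X.hom) := IsFinite.of_isProper_of_locallyQuasiFinite _
  haveI : IsAffine I.subscheme := isAffine_of_isAffineHom (I.subschemeι ≫ X.hom)
  letI : X.left.Over (Spec (CommRingCat.of R)) := ⟨X.hom⟩
  haveI : IsProper (X.left ↘ Spec (CommRingCat.of R)) := ‹IsProper X.hom›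
  obtain ⟨m, hm, hgg⟩ := exists_isGloballyGenerated_pow (A := R) hI hL
  obtain ⟨g', hg'⟩ : ∃ g : good, g.1 = Γ'.ι (genericPoint Γ'.curve.left) :=
    ⟨⟨_, hoff Γ' fun ⟨i, e⟩ => hΓ' i e⟩, rfl⟩
  have hη : genericPoint X.left ∉ (I.support : Set X.left) := fun h => by
    refine hgenE Γ' ((genericPoint_specializes _).mem_closed I.support.isClosed h)
  refine ⟨CohB1.tensorPow L m, TMul.isInvertible_tensorPow hLi m, hgg m le_rfl, ?_, fun E => ⟨fun hE => ?_, ?_⟩⟩
  · refine curveDeg_generic_pow_pos hdim hI hη ?_ hL hm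
    obtain ⟨z, -⟩ : ∃ z : D g', (d g') z = x g'.1 g'.2 := ((hrange g').ge rfl).1
    obtain ⟨q, -, hq⟩ := hhor g' z
    exact ⟨d g' q, (hsupp _).2 ⟨g', q, rfl⟩, hq⟩
  · by_contra hno
    haveI : IsProper (E.curve.left ↘ Spec (CommRingCat.of (IsLocalRing.ResidueField R))) := isProper_curve E
    obtain ⟨e⟩ := hE
    let g₀ : good := ⟨_, hoff E hno⟩
    have hx : x g₀.1 g₀.2 ∈ Set.range E.ι := by
      rw [range_eq_closure_genPt E]
      exact specializes_iff_mem_closure.1 (hgx g₀.1 g₀.2)
    obtain ⟨z, hz⟩ := hx
    have hp := deg_pos_of_meets (k := IsLocalRing.ResidueField R) E.dim_eq.le E.ι hI (hgenE E)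
      ⟨z, by rw [hz]; exact (hsupp _).2 ⟨g₀, ((hrange g₀).ge rfl).1⟩⟩ hL
    have h := deg_pullback_pow (k := IsLocalRing.ResidueField R) E.dim_eq.le E.ι hLi m
    rw [Curv2.deg, CurveRR.euler_eq_of_iso (k := IsLocalRing.ResidueField R) e] at h
    simp only [Nat.cast_one, one_mul, sub_self] at h
    nlinarith
  · rintro ⟨i, hi⟩
    refine nonempty_pullback_pow_trivial E.ι hI hL (fun z hz => ?_) m
    obtain ⟨g, hg⟩ := hsfib _ hz (range_subset_specialFibre E ⟨z, rfl⟩)
    exact hxS g.1 g.2 (hg ▸ Set.mem_iUnion.2 ⟨i, hi ▸ ⟨z, rfl⟩⟩)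

end Groth.Agent.Castel
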