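import Groth.Agent.Castel.HorizontalAffine
import Groth.Agent.Castel.CanonDim
import Groth.Agent.Castel.ArtinPos
import Groth.Agent.TwConst.FinitePart
import Groth.Agent.BlowUpLib.Cartier
import Groth.Prelude.Def_BlowUp2

/-!
Horizontal Cartier divisors through a closed point over a henselian base.
-/

set_option autoImplicit false
set_option backward.isDefEq.respectTransparency false
set_option backward.isDefEq.respectTransparency.types false
set_option linter.style.haveILetI false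

universe u

open CategoryTheory CategoryTheory.Limits AlgebraicGeometry TopologicalSpace
open Groth.Agent.QC (resO resO_resO resO_self)

noncomputable section

namespace Groth.Agent.Castel

variable {R : Type u} [CommRing R] [IsDomain R] [IsDiscreteValuationRing R] {X : Scheme.{u}}
  (p : X ⟶ Spec (CommRingCat.of R)) [IsIntegral X]

/-- A zero of a function away from which it generalises to the generic fibre. -/
def IsHorizZero {W : X.Opens} (f : Γ(X, W)) : Prop :=
  ∀ y ∈ W, y ∉ X.basicOpen f → ∃ q, q ⤳ y ∧ q ∉ X.basicOpen f ∧ (p q).asIdeal = ⊥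

theorem IsHorizZero.res {W W' : X.Opens} {f : Γ(X, W)} (hf : IsHorizZero p f) (h : W' ≤ W) :
    IsHorizZero p (resO X h f) := fun y hy hyf => by
  have hyf' : y ∉ X.basicOpen f := fun h' => hyf (by rw [resO, Scheme.basicOpen_res]; exact ⟨hy, h'⟩)
  obtain ⟨q, hqy, hqf, hq⟩ := hf y (h hy) hyf'
  exact ⟨q, hqy, fun h' => hqf (X.basicOpen_res f (homOfLE h).op ▸ h' : _).2, hq⟩

/-- No two zeros of a horizontal function in one fibre specialise to each other. -/
theorem eq_of_specializes_horiz [IsProper p] (hdim : topologicalKrullDim X = 2) {W : X.Opens} {f : Γ(X, W)}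
    (hf : IsHorizZero p f) (hne : f ≠ 0) {a b : X} (ha : a ∈ W) (hb : b ∈ W) (haf : a ∉ X.basicOpen f)
    (hab : a ⤳ b) (hEq : p a = p b) : a = b := by
  have hgen : ∀ z ∈ W, z ∉ X.basicOpen f → z ≠ genericPoint X := fun z hz hzf h => by
    subst h
    refine hzf (((genericPoint_spec X).mem_open_set_iff (X.basicOpen f).2).2 ?_)
    rw [Set.univ_inter]
    exact Set.nonempty_iff_ne_empty.2 fun h => hne ((basicOpen_eq_bot_iff f).1 (Opens.ext h))
  obtain ⟨M, hM, hMne⟩ : ∃ M : Ideal R, M.IsMaximal ∧ M ≠ ⊥ :=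
    ⟨IsLocalRing.maximalIdeal R, inferInstance, IsDiscreteValuationRing.not_a_field R⟩
  haveI := hM
  by_contra hne'
  have hbf : b ∉ X.basicOpen f := fun h => haf (hab.mem_open (X.basicOpen f).2 h)
  obtain ⟨c₂, c₁, c₀, h₂₁, h₁₀, n₂₁, n₁₀, hc₂, hc₂f, hc₁, hc₁f⟩ : ∃ c₂ c₁ c₀ : X,
      c₂ ⤳ c₁ ∧ c₁ ⤳ c₀ ∧ c₂ ≠ c₁ ∧ c₁ ≠ c₀ ∧ c₂ ∈ W ∧ c₂ ∉ X.basicOpen f ∧ c₁ ∈ W ∧ c₁ ∉ X.basicOpen f := by
    by_cases hbot : (p a).asIdeal = ⊥
    · have hb' : p b ⤳ (⟨M, hM.isPrime⟩ : PrimeSpectrum R) := by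
        refine (PrimeSpectrum.le_iff_specializes _ (⟨M, hM.isPrime⟩ : PrimeSpectrum R)).1 ?_
        show (p b).asIdeal ≤ M
        rw [← hEq, hbot]
        exact bot_le
      have hcl : IsClosed (p '' closure {b}) := p.isClosedMap _ isClosed_closure
      obtain ⟨c, hc, hc'⟩ := hb'.mem_closed hcl ⟨b, subset_closure rfl, rfl⟩
      refine ⟨a, b, c, hab, specializes_iff_mem_closure.2 hc, hne', fun h => ?_, ha, haf, hb, hbf⟩
      rw [← h, ← hEq] at hc'
      exact hMne ((congrArg PrimeSpectrum.asIdeal hc').symm.trans hbot)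
    · obtain ⟨g, hga, hgf, hg⟩ := hf a ha haf
      exact ⟨g, a, b, hga, hab, fun h => hbot (by rw [← h]; exact hg), hne', hga.mem_open W.2 ha, hgf, ha, haf⟩
  have key : ∀ {u v : X}, u ⤳ v → v ≠ u → ∀ {w : X}, v ⤳ w → w ≠ u :=
    fun {u v} huv hne {w} hvw e => hne (huv.antisymm (e ▸ hvw)).eq.symm
  have s₂ : genericPoint X ⤳ c₂ := genericPoint_specializes _
  have g₁ : c₁ ≠ genericPoint X := hgen c₁ hc₁ hc₁f
  have g₀ : c₀ ≠ genericPoint X := fun e =>
    g₁ ((h₁₀.antisymm (e ▸ genericPoint_specializes c₁)).eq.trans e)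
  have h3 : ((3 : ℕ) : WithBot ℕ∞) ≤ topologicalKrullDim X := by
    refine Intersect.le_dim_of_chain (n := 3) ![c₀, c₁, c₂, genericPoint X] fun i j hij => ?_
    fin_cases i <;> fin_cases j <;>
      first
      | exact absurd hij (by decide)
      | exact ⟨h₁₀, n₁₀.symm⟩
      | exact ⟨h₂₁, n₂₁.symm⟩
      | exact ⟨s₂, hgen c₂ hc₂ hc₂f⟩
      | exact ⟨h₂₁.trans h₁₀, key h₂₁ n₂₁.symm h₁₀⟩
      | exact ⟨s₂.trans h₂₁, g₁⟩
      | exact ⟨s₂.trans (h₂₁.trans h₁₀), g₀⟩
  rw [hdim] at h3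
  exact absurd h3 (by decide)

/-- Near a closed point of the closed fibre there is a horizontal nonzero function vanishing at it. -/
theorem exists_horiz_zero [IsProper p] [Flat p] (hdim : topologicalKrullDim X = 2) {x : X}
    (hx : IsClosed ({x} : Set X)) :
    ∃ (W : X.Opens) (f : Γ(X, W)), IsAffineOpen W ∧ x ∈ W ∧ x ∉ X.basicOpen f ∧ f ≠ 0 ∧ IsHorizZero p f := by
  classical
  haveI : IsLocallyNoetherian X := LocallyOfFiniteType.isLocallyNoetherian p
  obtain ⟨ϖ, hϖ⟩ := IsDiscreteValuationRing.exists_irreducible R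
  obtain ⟨W, hW, hxW, -⟩ := exists_isAffineOpen_mem_and_subset (x := x) (U := ⊤) trivial
  haveI : Nonempty W.toScheme := ⟨⟨x, hxW⟩⟩
  let B := Γ(X, W)
  haveI : IsNoetherianRing B := IsLocallyNoetherian.component_noetherian ⟨W, hW⟩
  let ψ := Spec.preimage (hW.fromSpec ≫ p)
  have hψ : ∀ z : PrimeSpectrum B, (p (hW.fromSpec z)).asIdeal = z.asIdeal.comap ψ.hom := fun z => by
    rw [← Scheme.Hom.comp_apply, ← Spec.map_preimage (hW.fromSpec ≫ p)]
    rfl
  have hover : ∀ z : PrimeSpectrum B, (p (hW.fromSpec z)).asIdeal = ⊥ ↔ ψ.hom ϖ ∉ z.asIdeal := fun z => by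
    rw [hψ]
    refine ⟨fun h hm => hϖ.ne_zero ((Submodule.mem_bot R).1 (h ▸ (Ideal.mem_comap.2 hm : ϖ ∈ z.asIdeal.comap ψ.hom))),
      fun h => ?_⟩
    by_contra hne
    have hmax : z.asIdeal.comap ψ.hom = IsLocalRing.maximalIdeal R :=
      IsLocalRing.eq_maximalIdeal (Ideal.IsPrime.isMaximal (Ideal.comap_isPrime ψ.hom z.asIdeal) hne)
    exact h (Ideal.mem_comap.1 (hmax ▸ (IsLocalRing.mem_maximalIdeal ϖ).2 hϖ.not_isUnit))
  haveI hBd : IsDomain B := inferInstance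
  have hϖ0 : ψ.hom ϖ ≠ 0 := by
    intro h0
    let z : PrimeSpectrum B := ⟨⊥, Ideal.isPrime_bot⟩
    have h1 : hW.fromSpec z = genericPoint X := by
      have h2 := hW.fromSpec_primeIdealOf ⟨genericPoint X, (genericPoint_spec X).mem_open_set_iff W.2 |>.2
        (by simpa using ⟨x, hxW⟩)⟩
      rw [hW.primeIdealOf_genericPoint, genericPoint_eq_bot_of_affine] at h2
      exact h2
    haveI : IsIntegral (Over.mk p).left := ‹IsIntegral X›
    haveI : Flat (Over.mk p).hom := ‹Flat p›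
    refine genericPoint_notMem_special (X := Over.mk p) ?_
    refine PrimeSpectrum.ext ?_
    show (p (genericPoint X)).asIdeal = IsLocalRing.maximalIdeal R
    rw [← h1, hψ]
    refine IsLocalRing.eq_maximalIdeal (Ideal.IsPrime.isMaximal (Ideal.comap_isPrime ψ.hom _) fun hb => ?_)
    exact hϖ.ne_zero ((Submodule.mem_bot R).1 (hb ▸ (Ideal.mem_comap.2 (by rw [h0]; exact zero_mem _) :
      ϖ ∈ z.asIdeal.comap ψ.hom)))
  let q := hW.primeIdealOf ⟨x, hxW⟩
  have hqx : hW.fromSpec q = x := hW.fromSpec_primeIdealOf ⟨x, hxW⟩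
  have hht : q.asIdeal.height = 2 := by
    letI := TopCat.Presheaf.algebra_section_stalk X.presheaf (⟨x, hxW⟩ : W)
    haveI := hW.isLocalization_stalk ⟨x, hxW⟩
    have h := IsLocalization.AtPrime.ringKrullDim_eq_height q.asIdeal (X.presheaf.stalk x)
    rw [ringKrullDim_closed_eq_two p hdim hx] at h
    exact WithBot.coe_inj.mp (h.symm.trans rfl)
  let Q := (Ideal.span {ψ.hom ϖ}).minimalPrimes
  have hQ : Q.Finite := Ideal.finite_minimalPrimes_of_isNoetherianRing B _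
  have hnot : ∀ P ∈ Q, ¬ q.asIdeal ≤ P := fun P hP hle => by
    have h1 := Ideal.height_le_one_of_isPrincipal_of_mem_minimalPrimes _ P hP
    have h2 := (Ideal.height_mono hle).trans h1
    rw [hht] at h2
    exact absurd h2 (by decide)
  have hq0 : q.asIdeal ≠ ⊥ := fun h => by rw [h, Ideal.height_bot] at hht; exact absurd hht (by decide)
  obtain ⟨f, hfq, hfQ⟩ : ∃ f ∈ q.asIdeal, f ∉ ⋃ P ∈ (insert ⊥ hQ.toFinset : Finset (Ideal B)), (P : Set B) := by
    by_contra! hc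
    have hsub : (q.asIdeal : Set B) ⊆ ⋃ P ∈ ((insert ⊥ hQ.toFinset : Finset (Ideal B)) : Set (Ideal B)), (P : Set B) :=
      fun t ht => by simpa using hc t ht
    obtain ⟨P, hP, hle⟩ := (Ideal.subset_union_prime (f := id) (⊥ : Ideal B) (⊥ : Ideal B)
      (fun P hP _ _ => (Finset.mem_insert.1 hP).elim (fun h => h ▸ Ideal.isPrime_bot)
        fun h => ((hQ.mem_toFinset.1 h).1.1))).1 hsub
    rcases Finset.mem_insert.1 hP with rfl | h
    · exact hq0 (le_bot_iff.1 hle)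
    · exact hnot P (hQ.mem_toFinset.1 h) hle
  simp only [Set.mem_iUnion, not_exists, SetLike.mem_coe] at hfQ
  have hf0 : f ≠ 0 := fun h => hfQ ⊥ (Finset.mem_insert_self _ _) ((Submodule.mem_bot B).2 h)
  have hbo : ∀ z : PrimeSpectrum B, hW.fromSpec z ∉ X.basicOpen f ↔ f ∈ z.asIdeal := fun z => by
    change z ∉ hW.fromSpec ⁻¹ᵁ X.basicOpen f ↔ _
    rw [hW.fromSpec_preimage_basicOpen]
    exact not_not
  refine ⟨W, f, hW, hxW, hqx ▸ (hbo q).2 hfq, hf0, fun y hy hyf => ?_⟩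
  obtain ⟨z, rfl⟩ : y ∈ Set.range hW.fromSpec := by rw [hW.range_fromSpec]; exact hy
  obtain ⟨P, hP, hPz⟩ := Ideal.exists_minimalPrimes_le
    ((Ideal.span_singleton_le_iff_mem _).2 ((hbo z).1 hyf))
  haveI := hP.1.1
  have hfP : f ∈ P := hP.1.2 (Ideal.mem_span_singleton_self f)
  refine ⟨hW.fromSpec ⟨P, hP.1.1⟩,
    ((PrimeSpectrum.le_iff_specializes (⟨P, hP.1.1⟩ : PrimeSpectrum B) z).1 hPz).map hW.fromSpec.continuous,
    (hbo ⟨P, hP.1.1⟩).2 hfP, (hover ⟨P, hP.1.1⟩).2 fun hϖP => ?_⟩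
  obtain ⟨P', hP', hle⟩ := Ideal.exists_minimalPrimes_le ((Ideal.span_singleton_le_iff_mem _).2 hϖP)
  haveI := hP'.1.1
  rcases eq_or_lt_of_le hle with he | hlt
  · exact hfQ P' (Finset.mem_insert_of_mem (hQ.mem_toFinset.2 hP')) (he ▸ hfP)
  · have hb : (⊥ : Ideal B) < P' := bot_lt_iff_ne_bot.2 fun h =>
      hϖ0 ((Submodule.mem_bot B).1 (h ▸ hP'.1.2 (Ideal.mem_span_singleton_self _)))
    have h1 := Ideal.height_le_one_of_isPrincipal_of_mem_minimalPrimes _ P hP
    have hP'0 : P'.height < P.height := Ideal.height_strict_mono_of_isPrime hlt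
    have hb' : (⊥ : Ideal B).height < P'.height := Ideal.height_strict_mono_of_isPrime hb
    have h3 : P'.height = 0 := by
      have := lt_of_lt_of_le hP'0 h1
      exact ENat.lt_one_iff_eq_zero.1 this
    rw [h3] at hb'
    exact not_lt_bot hb'

omit [IsIntegral X] in
/-- The zero set of a function on an affine open, as primes. -/
theorem fromSpec_notMem_basicOpen {W : X.Opens} (hW : IsAffineOpen W) (f : Γ(X, W)) (z : PrimeSpectrum Γ(X, W)) :
    hW.fromSpec z ∉ X.basicOpen f ↔ f ∈ z.asIdeal := by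
  change z ∉ hW.fromSpec ⁻¹ᵁ X.basicOpen f ↔ _
  rw [hW.fromSpec_preimage_basicOpen]
  exact not_not

/-- A horizontal function has finitely many zeros. -/
theorem finite_horiz_zeros [IsProper p] (hdim : topologicalKrullDim X = 2) {W : X.Opens} (hW : IsAffineOpen W)
    {f : Γ(X, W)} (hf : IsHorizZero p f) (hne : f ≠ 0) :
    {y : X | y ∈ W ∧ y ∉ X.basicOpen f}.Finite := by
  classical
  haveI : IsLocallyNoetherian X := LocallyOfFiniteType.isLocallyNoetherian p
  haveI : IsNoetherianRing Γ(X, W) := IsLocallyNoetherian.component_noetherian ⟨W, hW⟩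
  let ψ := Spec.preimage (hW.fromSpec ≫ p)
  have hψ : ∀ z : PrimeSpectrum Γ(X, W), (p (hW.fromSpec z)).asIdeal = z.asIdeal.comap ψ.hom := fun z => by
    rw [← Scheme.Hom.comp_apply, ← Spec.map_preimage (hW.fromSpec ≫ p)]
    rfl
  let M := IsLocalRing.maximalIdeal R
  have hmin : ∀ z r : PrimeSpectrum Γ(X, W), f ∈ r.asIdeal → r.asIdeal ≤ z.asIdeal →
      r.asIdeal.comap ψ.hom = z.asIdeal.comap ψ.hom → z.asIdeal ≤ r.asIdeal := fun z r hfr hrz he => by
    have hmem : ∀ w, hW.fromSpec w ∈ W := fun w => hW.range_fromSpec.le ⟨w, rfl⟩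
    have := eq_of_specializes_horiz p hdim hf hne (hmem r) (hmem z) ((fromSpec_notMem_basicOpen hW f r).2 hfr)
      (((PrimeSpectrum.le_iff_specializes r z).1 hrz).map hW.fromSpec.continuous)
      (PrimeSpectrum.ext (by rw [hψ, hψ, he]))
    rw [hW.fromSpec.isOpenEmbedding.injective this]
  let S : Set (Ideal Γ(X, W)) :=
    (Ideal.span {f}).minimalPrimes ∪ (Ideal.span {f} ⊔ M.map ψ.hom).minimalPrimes
  have hS : S.Finite := (Ideal.finite_minimalPrimes_of_isNoetherianRing _ _).union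
    (Ideal.finite_minimalPrimes_of_isNoetherianRing _ _)
  refine ((hS.preimage (f := PrimeSpectrum.asIdeal) fun a _ b _ h => PrimeSpectrum.ext h).image hW.fromSpec).subset
    fun y ⟨hy, hyf⟩ => ?_
  obtain ⟨z, rfl⟩ : y ∈ Set.range hW.fromSpec := by rw [hW.range_fromSpec]; exact hy
  refine ⟨z, ?_, rfl⟩
  have hfz := (fromSpec_notMem_basicOpen hW f z).1 hyf
  by_cases hbot : z.asIdeal.comap ψ.hom = ⊥
  · refine Or.inl ⟨⟨z.isPrime, (Ideal.span_singleton_le_iff_mem _).2 hfz⟩, fun I hI hle => ?_⟩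
    exact hmin z ⟨I, hI.1⟩ ((Ideal.span_singleton_le_iff_mem _).1 hI.2) hle
      ((le_bot_iff.1 (hbot ▸ Ideal.comap_mono hle)).trans hbot.symm)
  · have hz : z.asIdeal.comap ψ.hom = M :=
      IsLocalRing.eq_maximalIdeal (Ideal.IsPrime.isMaximal (Ideal.comap_isPrime ψ.hom _) hbot)
    refine Or.inr ⟨⟨z.isPrime, sup_le ((Ideal.span_singleton_le_iff_mem _).2 hfz)
      (Ideal.map_le_iff_le_comap.2 hz.ge)⟩, fun I hI hle => ?_⟩
    exact hmin z ⟨I, hI.1⟩ ((Ideal.span_singleton_le_iff_mem _).1 (le_sup_left.trans hI.2)) hle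
      (le_antisymm (Ideal.comap_mono hle) (hz.le.trans (Ideal.map_le_iff_le_comap.1 (le_sup_right.trans hI.2))))

omit [IsDiscreteValuationRing R] [IsIntegral X] in
/-- Over a henselian base, an affine scheme whose points all generalise one point of the closed fibre is finite. -/
theorem isFinite_of_generalizations [HenselianLocalRing R] {Z : Scheme.{u}} (φ : Z ⟶ Spec (CommRingCat.of R))
    [IsSeparated φ] [LocallyQuasiFinite φ] [LocallyOfFiniteType φ] (z₀ : Z)
    (h₀ : φ z₀ = IsLocalRing.closedPoint R) (h : ∀ z : Z, z ⤳ z₀) : IsFinite φ := by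
  obtain ⟨P, ⟨-, hP⟩, hz₀⟩ := TwConst.exists_finitePiece φ z₀ h₀
  obtain rfl : P = ⊤ := top_unique fun z _ => (h z).mem_open P.2 hz₀
  have : IsFinite ((⊤ : Z.Opens).ι ≫ φ) := hP
  rw [← Scheme.topIso_hom] at this
  exact (MorphismProperty.cancel_left_of_respectsIso @IsFinite Z.topIso.hom φ).1 this

omit [IsDomain R] [IsDiscreteValuationRing R] [IsIntegral X] in
/-- The kernel of the zero scheme of a function on an affine open. -/
theorem ker_zeroScheme {W : X.Opens} (hW : IsAffineOpen W) (f : Γ(X, W))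
    (d : Spec (CommRingCat.of (Γ(X, W) ⧸ Ideal.span {f})) ⟶ X)
    (hd : d = Spec.map (CommRingCat.ofHom (Ideal.Quotient.mk (Ideal.span {f}))) ≫ hW.fromSpec)
    [QuasiCompact d] : d.ker.ideal ⟨W, hW⟩ = Ideal.span {f} := by
  subst hd
  let π := CommRingCat.ofHom (Ideal.Quotient.mk (Ideal.span {f}))
  let e := (eqToHom (hW.fromSpec_preimage_self)).op
  let res := (Spec (CommRingCat.of (Γ(X, W) ⧸ Ideal.span {f}))).presheaf.map
    (((Opens.map (Spec.map π).base).map (eqToHom hW.fromSpec_preimage_self)).op)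
  haveI : IsIso res := inferInstance
  have key : (Spec.map π ≫ hW.fromSpec).app W = π ≫ (Scheme.ΓSpecIso _).inv ≫ res := by
    rw [Scheme.Hom.comp_app, hW.fromSpec_app_self, Category.assoc, Scheme.Hom.naturality,
      ← Category.assoc π, Scheme.ΓSpecIso_inv_naturality, Category.assoc]
    rfl
  rw [Scheme.Hom.ker_apply]
  ext b
  rw [RingHom.mem_ker]
  change (Spec.map π ≫ hW.fromSpec).app W b = 0 ↔ _
  rw [key, ← Ideal.Quotient.eq_zero_iff_mem]
  exact map_eq_zero_iff _ (ConcreteCategory.bijective_of_isIso ((Scheme.ΓSpecIso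
    (CommRingCat.of (Γ(X, W) ⧸ Ideal.span {f}))).inv ≫ res)).1

/-- A horizontal effective Cartier divisor through a given closed point of the closed fibre only. -/
theorem exists_horizontal_divisor [HenselianLocalRing R] [IsProper p] [Flat p]
    (hdim : topologicalKrullDim X = 2) {x : X} (hx : IsClosed ({x} : Set X))
    (hxs : p x = IsLocalRing.closedPoint R) :
    ∃ (D : Scheme.{u}) (d : D ⟶ X), IsClosedImmersion d ∧ BlowUp.IsEffCartierIdeal d.ker ∧
      (∀ z : D, ∃ q : D, q ⤳ z ∧ (p (d q)).asIdeal = ⊥) ∧ IsFinite (d ≫ p) ∧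
      Set.range d ∩ p ⁻¹' {IsLocalRing.closedPoint R} = {x} := by
  classical
  obtain ⟨W₀, f₀, hW₀, hxW₀, hxf₀, hf₀, hh₀⟩ := exists_horiz_zero p hdim hx
  let T : Set X := {y | (y ∈ W₀ ∧ y ∉ X.basicOpen f₀) ∧ ¬ y ⤳ x}
  have hT : T.Finite := (finite_horiz_zeros p hdim hW₀ hh₀ hf₀).subset fun y hy => hy.1
  have hTc : IsClosed (⋃ y ∈ T, closure ({y} : Set X)) := hT.isClosed_biUnion fun _ _ => isClosed_closure
  let U : X.Opens := ⟨W₀ \ ⋃ y ∈ T, closure ({y} : Set X), W₀.2.sdiff hTc⟩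
  have hxU : x ∈ U := ⟨hxW₀, fun h => by
    obtain ⟨y, hy, hy'⟩ := Set.mem_iUnion₂.1 h
    exact hy.2 (specializes_iff_mem_closure.2 hy')⟩
  obtain ⟨W, hW, hxW, hWU⟩ := exists_isAffineOpen_mem_and_subset hxU
  have hW₁ : W ≤ W₀ := fun y hy => (hWU hy).1
  haveI : Nonempty W.toScheme := ⟨⟨x, hxW⟩⟩
  let f := resO X hW₁ f₀
  have hb : ∀ {y : X}, y ∈ W → (y ∉ X.basicOpen f ↔ y ∉ X.basicOpen f₀) := fun {y} hy => not_congr <| by
    simp only [f, resO, Scheme.basicOpen_res]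
    exact ⟨fun h => h.2, fun h => ⟨hy, h⟩⟩
  have hgz : ∀ y ∈ W, y ∉ X.basicOpen f → y ⤳ x := fun y hy hyf => by
    by_contra h
    exact (hWU hy).2 (Set.mem_iUnion₂.2 ⟨y, ⟨⟨hW₁ hy, (hb hy).1 hyf⟩, h⟩, subset_closure rfl⟩)
  have hf : IsHorizZero p f := hh₀.res p hW₁
  have hxf : x ∉ X.basicOpen f := (hb hxW).2 hxf₀
  have hf0 : f ≠ 0 := fun h => hf₀ ((map_eq_zero_iff _
    (map_injective_of_isIntegral X (homOfLE hW₁))).1 h)
  haveI : IsLocallyNoetherian X := LocallyOfFiniteType.isLocallyNoetherian p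
  let π := CommRingCat.ofHom (Ideal.Quotient.mk (Ideal.span {f}))
  haveI : IsClosedImmersion (Spec.map π) := IsClosedImmersion.spec_of_surjective π Ideal.Quotient.mk_surjective
  let d := Spec.map π ≫ hW.fromSpec
  have hrange : ∀ y, y ∈ Set.range d ↔ y ∈ W ∧ y ∉ X.basicOpen f := fun y => by
    constructor
    · rintro ⟨z, rfl⟩
      refine ⟨hW.range_fromSpec.le ⟨_, rfl⟩, ?_⟩
      refine (fromSpec_notMem_basicOpen hW f (Spec.map π z)).2 ?_
      show π.hom f ∈ z.asIdeal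
      have : π.hom f = 0 := Ideal.Quotient.eq_zero_iff_mem.2 (Ideal.mem_span_singleton_self f)
      rw [this]
      exact zero_mem _
    · rintro ⟨hy, hyf⟩
      obtain ⟨z, rfl⟩ : y ∈ Set.range hW.fromSpec := by rw [hW.range_fromSpec]; exact hy
      have hz : z ∈ Set.range (PrimeSpectrum.comap (Ideal.Quotient.mk (Ideal.span {f}))) := by
        rw [range_comap_of_surjective _ _ Ideal.Quotient.mk_surjective, Ideal.mk_ker,
          PrimeSpectrum.mem_zeroLocus, SetLike.coe_subset_coe, Ideal.span_singleton_le_iff_mem]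
        exact (fromSpec_notMem_basicOpen hW f z).1 hyf
      obtain ⟨w, rfl⟩ := hz
      exact ⟨w, rfl⟩
  have hinj : Function.Injective d :=
    hW.fromSpec.isOpenEmbedding.injective.comp (Spec.map π).isClosedEmbedding.injective
  haveI : LocallyOfFiniteType (d ≫ p) := by
    haveI : IsNoetherianRing Γ(X, W) := IsLocallyNoetherian.component_noetherian ⟨W, hW⟩
    infer_instance
  haveI : Finite ↥(Spec (CommRingCat.of (Γ(X, W) ⧸ Ideal.span {f}))) := by
    have hfin := finite_horiz_zeros p hdim hW hf hf0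
    haveI := hfin.to_subtype
    exact Finite.of_injective (fun z => (⟨d z, (hrange _).1 ⟨z, rfl⟩⟩ : {y : X | y ∈ W ∧ y ∉ X.basicOpen f}))
      fun a b h => @hinj a b (Subtype.ext_iff.1 h :)
  haveI : LocallyQuasiFinite (d ≫ p) :=
    LocallyQuasiFinite.of_finite_preimage_singleton _ fun y => Set.toFinite _
  obtain ⟨z₀, hz₀⟩ := (hrange x).2 ⟨hxW, hxf⟩
  have hemb : Topology.IsInducing d :=
    hW.fromSpec.isOpenEmbedding.isInducing.comp (Spec.map π).isClosedEmbedding.isInducing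
  have hfinite : IsFinite (d ≫ p) := isFinite_of_generalizations (d ≫ p) z₀
    (by rw [Scheme.Hom.comp_apply, hz₀, hxs]) fun z => hemb.specializes_iff.1 <| by
      rw [hz₀]
      exact hgz _ ((hrange _).1 ⟨z, rfl⟩).1 ((hrange _).1 ⟨z, rfl⟩).2
  haveI := hfinite
  haveI : IsFinite d := IsFinite.of_comp d p
  haveI : IsClosedImmersion d := IsClosedImmersion.of_isPreimmersion d d.isClosedMap.isClosed_range
  refine ⟨_, d, inferInstance, fun y => ?_, fun z => ?_, hfinite, ?_⟩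
  · by_cases hy : y ∈ Set.range d
    · refine ⟨⟨W, hW⟩, ((hrange y).1 hy).1, f, mem_nonZeroDivisors_of_ne_zero hf0, ker_zeroScheme hW f d rfl⟩
    · obtain ⟨V, hV, hyV, hVd⟩ := exists_isAffineOpen_mem_and_subset
        (U := (⟨(Set.range d)ᶜ, d.isClosedMap.isClosed_range.isOpen_compl⟩ : X.Opens)) hy
      refine ⟨⟨V, hV⟩, hyV, 1, one_mem _, ?_⟩
      rw [Ideal.span_singleton_one, Scheme.Hom.ker_apply]
      haveI : Subsingleton Γ(Spec _, d ⁻¹ᵁ V) := by
        rw [show d ⁻¹ᵁ V = ⊥ from Opens.ext (Set.eq_empty_of_forall_notMem fun z hz => hVd hz ⟨z, rfl⟩)]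
        infer_instance
      exact eq_top_iff.2 fun b _ => RingHom.mem_ker.2 (Subsingleton.elim _ _)
  · obtain ⟨hzW, hzf⟩ := (hrange _).1 ⟨z, rfl⟩
    obtain ⟨q, hq, hqf, hq0⟩ := hf _ hzW hzf
    obtain ⟨q', rfl⟩ := (hrange q).2 ⟨hq.mem_open W.2 hzW, hqf⟩
    exact ⟨q', hemb.specializes_iff.1 hq, hq0⟩
  · refine Set.eq_singleton_iff_unique_mem.2 ⟨⟨⟨z₀, hz₀⟩, hxs⟩, fun y hy => ?_⟩
    obtain ⟨hyW, hyf⟩ := (hrange y).1 hy.1
    exact eq_of_specializes_horiz p hdim hf hf0 hyW hxW hyf (hgz y hyW hyf) (hy.2.trans hxs.symm)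

end Groth.Agent.Castel
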