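import Mathlib

/-!
The Herbrand quotient of multiplication on a module over a finite extension of a DVR.
-/

set_option autoImplicit false
set_option linter.style.haveILetI false

universe u

noncomputable section

namespace Groth.Agent.Castel.Herbrand

variable {R : Type u} [CommRing R]

/-- Lengths in a tower of submodules. -/
theorem length_quot_add {M : Type u} [AddCommGroup M] [Module R M] {P Q : Submodule R M} (h : P ≤ Q) :
    Module.length R (M ⧸ P) = Module.length R (M ⧸ Q) + Module.length R (Q.map P.mkQ) := by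
  rw [← (Submodule.quotientQuotientEquivQuotient P Q h).length_eq, add_comm]
  exact Module.length_eq_add_of_exact (Q.map P.mkQ).subtype (Q.map P.mkQ).mkQ (Submodule.injective_subtype _)
    (Submodule.mkQ_surjective _) (LinearMap.exact_subtype_mkQ _)

/-- The image of `Q` modulo `P` is `Q/(P ∩ Q)`. -/
theorem length_map_mkQ {M N : Type u} [AddCommGroup M] [Module R M] [AddCommGroup N] [Module R N]
    (g : N →ₗ[R] M) (P : Submodule R M) :
    Module.length R ((LinearMap.range g).map P.mkQ) = Module.length R (N ⧸ P.comap g) := by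
  have e : (LinearMap.range g).map P.mkQ = LinearMap.range (P.mkQ ∘ₗ g) := (LinearMap.range_comp _ _).symm
  rw [e, ← (P.mkQ ∘ₗ g).quotKerEquivRange.length_eq]
  refine (Submodule.quotEquivOfEq _ _ ?_).length_eq
  rw [LinearMap.ker_comp, Submodule.ker_mkQ]

variable [IsDomain R] [IsDiscreteValuationRing R]

/-- A finite module killed by a nonzero element has finite length. -/
theorem length_ne_top_of_torsion {M : Type u} [AddCommGroup M] [Module R M] [Module.Finite R M]
    (h : ∀ x : M, ∃ c : R, c ≠ 0 ∧ c • x = 0) : Module.length R M ≠ ⊤ := by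
  classical
  obtain ⟨s, hs⟩ := (Module.finite_def (R := R) (M := M)).1 inferInstance
  choose c hc0 hc using h
  let C := ∏ x ∈ s, c x
  have hC0 : C ≠ 0 := Finset.prod_ne_zero_iff.2 fun x _ => hc0 x
  have hC : ∀ x : M, C • x = 0 := by
    have hle : (⊤ : Submodule R M) ≤ LinearMap.ker (LinearMap.lsmul R M C) := by
      rw [← hs, Submodule.span_le]
      intro x hx
      simp only [SetLike.mem_coe, LinearMap.mem_ker, LinearMap.lsmul_apply, C]
      rw [← Finset.prod_erase_mul s c hx, mul_smul, hc, smul_zero]
    exact fun x => hle Submodule.mem_top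
  let I : Ideal R := Ideal.span {C}
  have hI : Module.IsTorsionBySet R M I := fun x a => by
    obtain ⟨b, hb⟩ := Ideal.mem_span_singleton'.1 a.2
    show (a : R) • x = 0
    rw [← hb, mul_smul, hC, smul_zero]
  letI := hI.module
  haveI : IsArtinian R (R ⧸ I) := (isFiniteLength_iff_isNoetherian_isArtinian.1
    (isFiniteLength_quotient_span_singleton R (mem_nonZeroDivisors_of_ne_zero hC0))).2
  haveI : IsArtinianRing (R ⧸ I) := isArtinian_of_tower R inferInstance
  haveI : IsScalarTower R (R ⧸ I) M := hI.isScalarTower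
  haveI : Module.Finite (R ⧸ I) M := Module.Finite.of_restrictScalars_finite R (R ⧸ I) M
  haveI : IsArtinian R M := isArtinian_of_surjective_algebraMap (R := R ⧸ I) (S := R) Ideal.Quotient.mk_surjective
  haveI : IsNoetherian R M := inferInstance
  exact Module.length_ne_top

variable {A : Type u} [CommRing A] [IsDomain A] [Algebra R A] [Module.Finite R A]

/-- A nonzero element of a finite extension divides a nonzero base element. -/
theorem exists_dvd_algebraMap (a : A) (ha : a ≠ 0) : ∃ c : R, c ≠ 0 ∧ a ∣ algebraMap R A c := by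
  have hint : IsIntegral R a := Algebra.IsIntegral.isIntegral a
  have h := Ideal.comap_ne_bot_of_root_mem (I := Ideal.span {a}) (R := R) (p := minpoly R a) ha
    (Ideal.mem_span_singleton_self a) (minpoly.ne_zero hint) (minpoly.aeval R a)
  obtain ⟨c, hc, hc0⟩ := Submodule.exists_mem_ne_zero_of_ne_bot h
  exact ⟨c, hc0, Ideal.mem_span_singleton.1 hc⟩

variable {M : Type u} [AddCommGroup M] [Module R M] [Module A M] [IsScalarTower R A M] [Module.Finite R M]

/-- The Herbrand quotient of multiplication by `a` is a fixed multiple of the length of `A/a`. -/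
theorem exists_herbrand (R A M : Type u) [CommRing R] [IsDomain R] [IsDiscreteValuationRing R]
    [CommRing A] [IsDomain A] [Algebra R A] [Module.Finite R A]
    [AddCommGroup M] [Module R M] [Module A M] [IsScalarTower R A M] [Module.Finite R M] :
    ∃ r : ℕ, ∀ a : A, a ≠ 0 →
      Module.length R (A ⧸ LinearMap.range (DistribSMul.toLinearMap R A a)) ≠ ⊤ ∧
      Module.length R (M ⧸ LinearMap.range (DistribSMul.toLinearMap R M a)) ≠ ⊤ ∧
      Module.length R (LinearMap.ker (DistribSMul.toLinearMap R M a)) ≠ ⊤ ∧
      ((Module.length R (M ⧸ LinearMap.range (DistribSMul.toLinearMap R M a))).toNat : ℤ) -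
        (Module.length R (LinearMap.ker (DistribSMul.toLinearMap R M a))).toNat =
        r * (Module.length R (A ⧸ LinearMap.range (DistribSMul.toLinearMap R A a))).toNat := by
  classical
  haveI : IsNoetherianRing R := inferInstance
  haveI : Module.Finite A M := Module.Finite.of_restrictScalars_finite R A M
  obtain ⟨k, v, hv⟩ := Module.Finite.exists_fin (R := A) (M := M)
  obtain ⟨s, hs, hmax⟩ := exists_maximal_linearIndepOn A v
  let j₀ : (s → A) →ₗ[A] M := Fintype.linearCombination A (fun i : s => v i)
  have hinj : Function.Injective j₀ := by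
    rw [← LinearMap.ker_eq_bot]
    exact linearIndependent_iff'.mp hs |> fun h => by
      rw [Submodule.eq_bot_iff]
      intro c hc
      funext i
      exact h Finset.univ c (by simpa [j₀, Fintype.linearCombination_apply] using hc) i (Finset.mem_univ i)
  have htor : ∀ x : M, ∃ b : A, b ≠ 0 ∧ b • x ∈ LinearMap.range j₀ := by
    have hspan : Submodule.span A (v '' s) ≤ LinearMap.range j₀ := by
      rw [Submodule.span_le]
      rintro _ ⟨i, hi, rfl⟩
      exact ⟨Pi.single ⟨i, hi⟩ 1, by simp [j₀, Fintype.linearCombination_apply_single]⟩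
    intro x
    have hx : x ∈ Submodule.span A (Set.range v) := hv ▸ Submodule.mem_top
    induction hx using Submodule.span_induction with
    | mem x hx =>
      obtain ⟨i, rfl⟩ := hx
      by_cases hi : i ∈ s
      · exact ⟨1, one_ne_zero, hspan (Submodule.smul_mem _ _ (Submodule.subset_span ⟨i, hi, rfl⟩))⟩
      · obtain ⟨b, hb, hb'⟩ := hmax i hi
        exact ⟨b, hb, hspan hb'⟩
    | zero => exact ⟨1, one_ne_zero, by simp⟩
    | add x y _ _ hx hy =>
      obtain ⟨b, hb, hb'⟩ := hx
      obtain ⟨c, hc, hc'⟩ := hy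
      refine ⟨b * c, mul_ne_zero hb hc, ?_⟩
      rw [smul_add]
      refine Submodule.add_mem _ ?_ ?_
      · rw [mul_comm, mul_smul]; exact Submodule.smul_mem _ _ hb'
      · rw [mul_smul]; exact Submodule.smul_mem _ _ hc'
    | smul c x _ hx =>
      obtain ⟨b, hb, hb'⟩ := hx
      exact ⟨b, hb, by rw [smul_comm]; exact Submodule.smul_mem _ _ hb'⟩
  let j : (s → A) →ₗ[R] M := j₀.restrictScalars R
  let N : Submodule R M := LinearMap.range j
  have hC : Module.length R (M ⧸ N) ≠ ⊤ := length_ne_top_of_torsion fun x => by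
    obtain ⟨x, rfl⟩ := Submodule.mkQ_surjective N x
    obtain ⟨b, hb, y, hy⟩ := htor x
    obtain ⟨c, hc, d, hd⟩ := exists_dvd_algebraMap (R := R) b hb
    refine ⟨c, hc, ?_⟩
    rw [← map_smul, Submodule.mkQ_apply, Submodule.Quotient.mk_eq_zero]
    refine ⟨d • y, ?_⟩
    rw [LinearMap.restrictScalars_apply, map_smul, hy, smul_smul, mul_comm, ← hd, algebraMap_smul]
  refine ⟨Fintype.card s, fun a ha => ?_⟩
  let fA := DistribSMul.toLinearMap R A a
  let f := DistribSMul.toLinearMap R M a
  have hL : Module.length R (A ⧸ LinearMap.range fA) ≠ ⊤ := length_ne_top_of_torsion fun x => by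
    obtain ⟨x, rfl⟩ := Submodule.mkQ_surjective _ x
    obtain ⟨c, hc, d, hd⟩ := exists_dvd_algebraMap (R := R) a ha
    refine ⟨c, hc, ?_⟩
    rw [← map_smul, Submodule.mkQ_apply, Submodule.Quotient.mk_eq_zero]
    exact ⟨d * x, by simp [fA, Algebra.smul_def, hd, mul_assoc]⟩
  -- the free part
  have hker0 : ∀ y, f (j y) = 0 → y = 0 := fun y hy => by
    have h : j₀ (a • y) = 0 := (map_smul j₀ a y).trans hy
    exact (smul_eq_zero.1 (hinj (h.trans (map_zero j₀).symm))).resolve_left ha
  let P : Submodule R M := N.map f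
  have hP1 : P ≤ N := by
    rintro _ ⟨_, ⟨y, rfl⟩, rfl⟩
    exact ⟨a • y, map_smul j₀ a y⟩
  have hP2 : P ≤ LinearMap.range f := LinearMap.map_le_range
  have h1 := length_quot_add hP1
  have h2 := length_quot_add hP2
  rw [length_map_mkQ] at h1 h2
  -- the free part is `(A/a)^s`
  let π : (s → A) →ₗ[R] s → A ⧸ LinearMap.range fA :=
    LinearMap.pi fun i => (LinearMap.range fA).mkQ ∘ₗ LinearMap.proj i
  have hπ : Function.Surjective π := fun w => by
    choose y hy using fun i => Submodule.mkQ_surjective (LinearMap.range fA) (w i)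
    exact ⟨y, funext hy⟩
  have hπk : P.comap j = LinearMap.ker π := by
    ext y
    simp only [P, N, Submodule.mem_comap, LinearMap.mem_ker, π, funext_iff, LinearMap.pi_apply,
      LinearMap.comp_apply, LinearMap.proj_apply, Submodule.mkQ_apply, Pi.zero_apply,
      Submodule.Quotient.mk_eq_zero, LinearMap.mem_range]
    constructor
    · rintro ⟨_, ⟨z, rfl⟩, hz⟩ i
      refine ⟨z i, ?_⟩
      have h : j₀ (a • z) = j₀ y := (map_smul j₀ a z).trans hz
      exact congrFun (hinj h) i
    · intro hy
      choose z hz using hy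
      exact ⟨j z, ⟨z, rfl⟩, (map_smul j₀ a z).symm.trans (congrArg j₀ (funext hz))⟩
  rw [(Submodule.quotEquivOfEq _ _ hπk).length_eq, (π.quotKerEquivOfSurjective hπ).length_eq,
    Module.length_pi_of_fintype, Finset.sum_const, Finset.card_univ] at h1
  -- the image of the torsion part
  have hK : P.comap f = N ⊔ LinearMap.ker f := Submodule.comap_map_eq f N
  rw [hK] at h2
  have h3 := length_quot_add (show N ≤ N ⊔ LinearMap.ker f from le_sup_left)
  rw [Submodule.map_sup, Submodule.mkQ_map_self, bot_sup_eq,
    ← LinearMap.range_domRestrict, show (N.mkQ).domRestrict (LinearMap.ker f) = N.mkQ ∘ₗ (LinearMap.ker f).subtype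
      from rfl] at h3
  have hinjK : Function.Injective (N.mkQ ∘ₗ (LinearMap.ker f).subtype) := by
    rw [← LinearMap.ker_eq_bot, Submodule.eq_bot_iff]
    rintro ⟨x, hx⟩ hx'
    obtain ⟨y, rfl⟩ := (Submodule.Quotient.mk_eq_zero N).1 hx'
    refine Subtype.ext ?_
    show j y = 0
    rw [hker0 y hx, map_zero]
  rw [← (LinearEquiv.ofInjective _ hinjK).length_eq] at h3
  generalize Module.length R (M ⧸ N) = C, Module.length R (M ⧸ P) = T, Module.length R (M ⧸ (N ⊔ LinearMap.ker f)) = Y,
    Module.length R (LinearMap.ker f) = K, Module.length R (M ⧸ LinearMap.range f) = Z,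
    Module.length R (A ⧸ LinearMap.range fA) = L at hC hL h1 h2 h3 ⊢
  subst h3 h1
  simp only [ne_eq, ENat.add_eq_top, not_or] at hC
  lift Y to ℕ using hC.1
  lift K to ℕ using hC.2
  lift L to ℕ using hL
  lift Z to ℕ using fun h => by
    subst h
    simp only [nsmul_eq_mul, top_add] at h2
    norm_cast at h2
  simp only [nsmul_eq_mul] at h2
  norm_cast at h2
  refine ⟨ENat.natCast_ne_top L, ENat.natCast_ne_top Z, ENat.natCast_ne_top K, ?_⟩
  simp only [ENat.toNat_natCast]
  zify at h2
  linarith

end Groth.Agent.Castel.Herbrand
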