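import Groth.Agent.W7Fib.Birat
import Groth.Agent.Intersect.Pos
import Groth.Agent.CurveDiv.Basic
import Mathlib.AlgebraicGeometry.ZariskisMainTheorem

/-!
Horizontal divisors on a fibred surface are finite over the base.
-/

set_option autoImplicit false
set_option backward.isDefEq.respectTransparency false
set_option backward.isDefEq.respectTransparency.types false
set_option linter.style.haveILetI false

universe u

open CategoryTheory CategoryTheory.Limits AlgebraicGeometry TopologicalSpace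

noncomputable section

namespace Groth.Agent.Castel

/-- A horizontal Cartier divisor is finite over the base. -/
theorem isFinite_of_horizontal {R : Type u} [CommRing R] [IsDedekindDomain R] (hR : ¬ IsField R) {X : Scheme.{u}}
    (p : X ⟶ Spec (CommRingCat.of R)) [IsIntegral X] [IsProper p] (hdim : topologicalKrullDim X = 2)
    {D : Scheme.{u}} (d : D ⟶ X) [IsClosedImmersion d] (hne : d.ker ≠ ⊥)
    (hhor : ∀ z : D, ∃ q : D, q ⤳ z ∧ ((d ≫ p).base q).asIdeal = ⊥) : IsFinite (d ≫ p) := by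
  haveI : IsLocallyNoetherian X := LocallyOfFiniteType.isLocallyNoetherian p
  haveI : IsProper (d ≫ p) := inferInstance
  haveI : IsLocallyNoetherian D := LocallyOfFiniteType.isLocallyNoetherian (d ≫ p)
  have hgen : ∀ a : D, d a ≠ genericPoint X := fun a h => W7Fib.genericPoint_notMem_support hne
    (h ▸ (by rw [← SetLike.mem_coe, Scheme.Hom.support_ker]; exact subset_closure ⟨a, rfl⟩))
  obtain ⟨M, hM, hMne⟩ : ∃ M : Ideal R, M.IsMaximal ∧ M ≠ ⊥ := by
    obtain ⟨M, hM⟩ := Ideal.exists_maximal R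
    exact ⟨M, hM, Ring.ne_bot_of_isMaximal_of_not_isField hM hR⟩
  haveI := hM
  have key : ∀ a b : D, a ⤳ b → (d ≫ p) a = (d ≫ p) b → a = b := by
    intro a b hab hEq
    by_contra hne'
    -- a chain of three points of `D`
    obtain ⟨c₂, c₁, c₀, h₂₁, h₁₀, n₂₁, n₁₀⟩ : ∃ c₂ c₁ c₀ : D, c₂ ⤳ c₁ ∧ c₁ ⤳ c₀ ∧ c₂ ≠ c₁ ∧ c₁ ≠ c₀ := by
      by_cases hbot : ((d ≫ p) a).asIdeal = ⊥
      · have hb : (d ≫ p) b ⤳ (⟨M, hM.isPrime⟩ : PrimeSpectrum R) := by
          refine (PrimeSpectrum.le_iff_specializes _ (⟨M, hM.isPrime⟩ : PrimeSpectrum R)).1 ?_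
          show ((d ≫ p) b).asIdeal ≤ M
          rw [← hEq, hbot]
          exact bot_le
        have hcl : IsClosed ((d ≫ p) '' closure {b}) := (d ≫ p).isClosedMap _ isClosed_closure
        obtain ⟨c, hc, hc'⟩ := hb.mem_closed hcl ⟨b, subset_closure rfl, rfl⟩
        refine ⟨a, b, c, hab, specializes_iff_mem_closure.2 hc, hne', fun h => ?_⟩
        rw [← h, ← hEq] at hc'
        exact hMne ((congrArg PrimeSpectrum.asIdeal hc').symm.trans hbot)
      · obtain ⟨g, hga, hg⟩ := hhor a
        exact ⟨g, a, b, hga, hab, fun h => hbot (by rw [← h]; exact hg), hne'⟩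
    have hinjd := d.isClosedEmbedding.injective
    have key : ∀ {u v : X}, u ⤳ v → v ≠ u → ∀ {w : X}, v ⤳ w → w ≠ u :=
      fun {u v} huv hne {w} hvw e => hne (huv.antisymm (e ▸ hvw)).eq.symm
    have s₂ : genericPoint X ⤳ d c₂ := genericPoint_specializes _
    have s₁ : d c₂ ⤳ d c₁ := h₂₁.map d.continuous
    have s₀ : d c₁ ⤳ d c₀ := h₁₀.map d.continuous
    have m₁ : d c₁ ≠ d c₂ := fun h => n₂₁ (hinjd h).symm
    have m₀ : d c₀ ≠ d c₁ := fun h => n₁₀ (hinjd h).symm
    have h3 : ((3 : ℕ) : WithBot ℕ∞) ≤ topologicalKrullDim X := by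
      refine Intersect.le_dim_of_chain (n := 3) ![d c₀, d c₁, d c₂, genericPoint X] fun i j hij => ?_
      fin_cases i <;> fin_cases j <;>
        first
        | exact absurd hij (by decide)
        | exact ⟨s₀, m₀⟩
        | exact ⟨s₁, m₁⟩
        | exact ⟨s₂, hgen c₂⟩
        | exact ⟨s₁.trans s₀, key s₁ m₁ s₀⟩
        | exact ⟨s₂.trans s₁, hgen c₁⟩
        | exact ⟨s₂.trans (s₁.trans s₀), hgen c₀⟩
    rw [hdim] at h3
    exact absurd h3 (by decide)
  haveI : LocallyQuasiFinite (d ≫ p) := by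
    refine .of_finite_preimage_singleton _ fun s => ?_
    haveI : IsNoetherian ((d ≫ p).fiber s) := by
      haveI : IsLocallyNoetherian ((d ≫ p).fiber s) :=
        LocallyOfFiniteType.isLocallyNoetherian ((d ≫ p).fiberToSpecResidueField s)
      haveI : CompactSpace ((d ≫ p).fiber s) :=
        QuasiCompact.compactSpace_of_compactSpace ((d ≫ p).fiberToSpecResidueField s)
      exact {}
    have hfin : {z : (d ≫ p).fiber s | z ∈ (⊤ : ((d ≫ p).fiber s).Opens) ∧ z ∉ (⊥ : ((d ≫ p).fiber s).Opens)}.Finite :=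
      CurveDiv.finite_of_forall_isClosed _ _ fun z _ _ => by
        refine isClosed_of_closure_subset fun w hw => ?_
        have h1 : (d ≫ p).fiberι s z ⤳ (d ≫ p).fiberι s w :=
          (specializes_iff_mem_closure.2 hw).map ((d ≫ p).fiberι s).continuous
        have hz : (d ≫ p) ((d ≫ p).fiberι s z) = s := ((d ≫ p).range_fiberι s).le ⟨z, rfl⟩
        have hw' : (d ≫ p) ((d ≫ p).fiberι s w) = s := ((d ≫ p).range_fiberι s).le ⟨w, rfl⟩
        exact ((d ≫ p).fiberι s).isEmbedding.injective (key _ _ h1 (hz.trans hw'.symm)).symm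
    rw [← (d ≫ p).range_fiberι s, ← Set.image_univ]
    refine Set.Finite.image _ (hfin.subset fun z _ => ⟨trivial, fun h => h⟩)
  exact IsFinite.of_isProper_of_locallyQuasiFinite _

end Groth.Agent.Castel
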