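import Groth.Agent.Castel.PrincipalDiv
import Groth.Agent.Castel.CanonApps
import Groth.Agent.SteinGen.Factor

/-!
Vertical curves with self-intersection zero.
-/

set_option autoImplicit false
set_option backward.isDefEq.respectTransparency false
set_option backward.isDefEq.respectTransparency.types false
set_option linter.style.haveILetI false

universe u

open CategoryTheory CategoryTheory.Limits AlgebraicGeometry TopologicalSpace Opposite

noncomputable section

namespace Groth.Agent.Castel

variable {R : Type u} [CommRing R] [IsDomain R] [IsDiscreteValuationRing R] {X : Over (Spec (CommRingCat.of R))}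

/-- Global functions of an arithmetic surface are finite over the base. -/
theorem finite_gamma (hX : ArSurf.IsArithSurface R X) :
    RingHom.Finite (A := R) (B := Γ(X.left, ⊤)) (Coh.toGlobal X.hom) := by
  haveI := isProper_hom_of_isArithSurface hX
  letI : X.left.Over (Spec (CommRingCat.of R)) := ⟨X.hom⟩
  haveI : IsProper (X.left ↘ Spec (CommRingCat.of R)) := ‹IsProper X.hom›
  haveI : IsLocallyNoetherian X.left := LocallyOfFiniteType.isLocallyNoetherian X.hom
  let O := Coh.structureModule X.left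
  letI alg : Algebra R Γ(X.left, ⊤) := RingHom.toAlgebra (Coh.toGlobal X.hom : R →+* Γ(X.left, ⊤))
  haveI : Module.Finite R (Coh.HH X.left O 0) :=
    CohFinite.finite_proper R X.left O RefStalk.isCoh_structureModule 0
  let e : Γ(X.left, ⊤) ≃ₗ[R] Coh.HH X.left O 0 :=
    { (Sheaf.H.equiv₀ (Coh.toAb O) (Limits.isTerminalTop (α := X.left.Opens))).symm with
      map_smul' := fun a x => by
        refine Eq.trans (congrArg (W7Cech.gsH0 R O) ?_) (Sheaf.H.equiv₀_symm_naturality (Limits.isTerminalTop
          (α := X.left.Opens)) (Coh.smulAb O (Coh.toGlobal X.hom a)) x).symm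
        rw [Coh.smulAb_app]
        show (show Γ(X.left, ⊤) from Coh.toGlobal X.hom a) * (show Γ(X.left, ⊤) from x) =
          (X.left.presheaf.map _).hom (Coh.toGlobal X.hom a) * (show Γ(X.left, ⊤) from x)
        exact congrArg (· * (show Γ(X.left, ⊤) from x)) (Groth.Agent.QC.resO_self (X := X.left) le_rfl _).symm }
  exact Module.Finite.equiv e.symm

/-- A component which is open in the closed fibre carries a divisor with trivial line bundle. -/
theorem exists_trivial_pow (hX : ArSurf.IsArithSurface R X) (E : ArSurf.VertComp R X) (U : X.left.Opens)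
    (hU : (U : Set X.left) ∩ Models.specialFibreSet R X = Set.range E.ι) :
    ∃ b : ℕ, 0 < b ∧ Nonempty (Coh.structureModule X.left ≅ ClSub.idealMod (E.ι.ker ^ b)) := by
  classical
  obtain ⟨-, hXi, -, hfl, -⟩ := id hX
  haveI := hXi
  haveI := hfl
  haveI := isProper_hom_of_isArithSurface hX
  haveI : IsLocallyNoetherian X.left := LocallyOfFiniteType.isLocallyNoetherian X.hom
  haveI : CompactSpace X.left := QuasiCompact.compactSpace_of_compactSpace X.hom
  haveI : IsNoetherian X.left := {}
  haveI : IsDomain Γ(X.left, ⊤) := inferInstance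
  let ψ : R →+* Γ(X.left, ⊤) := Coh.toGlobal X.hom
  letI : Algebra R Γ(X.left, ⊤) := ψ.toAlgebra
  haveI : Module.Finite R Γ(X.left, ⊤) := finite_gamma hX
  let q := X.left.toSpecΓ
  have hq : q ≫ Spec.map (CommRingCat.ofHom ψ) = X.hom := by
    show X.left.toSpecΓ ≫ Spec.map ((Scheme.ΓSpecIso (CommRingCat.of R)).inv ≫ X.hom.appTop) = _
    rw [Spec.map_comp, ← Scheme.toSpecΓ_naturality_assoc, ← SpecMap_ΓSpecIso_hom, ← Spec.map_comp,
      Iso.inv_hom_id, Spec.map_id, Category.comp_id]
  let ξ := E.ι (genericPoint E.curve.left)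
  let p₀ : PrimeSpectrum Γ(X.left, ⊤) := q ξ
  have hE : ∀ z, q (E.ι z) = p₀ := fun z => by
    let k := IsLocalRing.ResidueField R
    haveI := E.isIntegral
    haveI : IsProper (E.curve.left ↘ Spec (CommRingCat.of k)) := isProper_curve E
    letI := (DualGeneric.isField_gamma k (X := E.curve.left)).toField
    have h : ∀ w, q (E.ι w) = Spec.map E.ι.appTop (E.curve.left.toSpecΓ w) := fun w => by
      rw [← Scheme.Hom.comp_apply, ← Scheme.Hom.comp_apply, ← Scheme.toSpecΓ_naturality]
    show q (E.ι z) = q ξ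
    rw [h, h]
    exact congrArg _ (Subsingleton.elim (α := PrimeSpectrum Γ(E.curve.left, ⊤)) _ _)
  have hclosed : ∀ x : X.left, x ∈ Models.specialFibreSet R X ↔ (q x).asIdeal.comap ψ = IsLocalRing.maximalIdeal R :=
    fun x => by
      have h : X.hom x = Spec.map (CommRingCat.ofHom ψ) (q x) := congr($hq.symm x)
      constructor
      · intro hx
        have hx' : Spec.map (CommRingCat.ofHom ψ) (q x) = IsLocalRing.closedPoint R := h.symm.trans hx
        exact congrArg PrimeSpectrum.asIdeal hx'
      · intro hx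
        show X.hom x = IsLocalRing.closedPoint R
        rw [h]
        exact PrimeSpectrum.ext hx
  have hp₀ : p₀.asIdeal.IsMaximal := by
    haveI : Algebra.IsIntegral R Γ(X.left, ⊤) := inferInstance
    refine Ideal.isMaximal_of_isIntegral_of_isMaximal_comap (R := R) p₀.asIdeal ?_
    rw [show p₀.asIdeal.comap (algebraMap R Γ(X.left, ⊤)) = IsLocalRing.maximalIdeal R from
      (hclosed ξ).1 (range_subset_specialFibre E ⟨_, rfl⟩)]
    infer_instance
  -- the fibre through `E`
  have hfib : ∀ x, q x = p₀ → x ∈ Set.range E.ι := by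
    intro x hx
    let N := X.hom.normalization
    haveI : IsAffine N := isAffine_of_isAffineHom X.hom.fromNormalization
    let n := X.hom.toNormalization
    let S : Set X.left := n ⁻¹' {n ξ}
    haveI : GeometricallyConnected n := inferInstance
    have hconn : _root_.IsConnected S := n.isConnected_preimage_singleton (n ξ)
    have hxS : x ∈ S := by
      show n x = n ξ
      refine (ConcreteCategory.bijective_of_isIso (N.toSpecΓ.base)).1 ?_
      show N.toSpecΓ (n x) = N.toSpecΓ (n ξ)
      rw [← Scheme.Hom.comp_apply, ← Scheme.Hom.comp_apply, Scheme.toSpecΓ_naturality, Scheme.Hom.comp_apply,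
        Scheme.Hom.comp_apply]
      exact congrArg _ hx
    have hSs : S ⊆ Models.specialFibreSet R X := fun y hy => by
      have hy' : n y = n ξ := hy
      show X.hom y = IsLocalRing.closedPoint R
      have h : ∀ w, X.hom w = X.hom.fromNormalization (n w) := fun w => by
        rw [← Scheme.Hom.comp_apply, X.hom.toNormalization_fromNormalization]
      rw [h, hy', ← h]
      exact range_subset_specialFibre E ⟨_, rfl⟩
    rcases isPreconnected_iff_subset_of_disjoint_closed.1 hconn.isPreconnected (Set.range E.ι) (U : Set X.left)ᶜ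
      E.ι.isClosedEmbedding.isClosed_range U.2.isClosed_compl
      (fun y hy => by
        by_cases hyU : y ∈ (U : Set X.left)
        · exact Or.inl (hU.subset ⟨hyU, hSs hy⟩)
        · exact Or.inr hyU)
      (Set.eq_empty_iff_forall_notMem.2 fun y hy => hy.2.2 (hU.ge hy.2.1).1) with h | h
    · exact h hxS
    · exact absurd (hU.ge ⟨genericPoint E.curve.left, rfl⟩).1 (h (show ξ ∈ S from rfl))
  -- a function vanishing only at `p₀`
  let M : Set (Ideal Γ(X.left, ⊤)) := (IsLocalRing.maximalIdeal R).primesOver Γ(X.left, ⊤) \ {p₀.asIdeal}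
  have hM : M.Finite := (Algebra.QuasiFinite.finite_primesOver _).sdiff
  have hMmax : ∀ m ∈ M, m.IsMaximal := fun m hm => by
    haveI := hm.1.1
    haveI := hm.1.2
    exact Ideal.IsMaximal.of_liesOver_isMaximal m (IsLocalRing.maximalIdeal R)
  obtain ⟨y, hy, hy'⟩ : ∃ y, y ∈ ∏ m ∈ hM.toFinset, m ∧ y ∉ p₀.asIdeal := by
    refine SetLike.not_le_iff_exists.1 fun hle => ?_
    obtain ⟨m, hm, hm'⟩ := (Ideal.IsPrime.prod_le p₀.isPrime).1 hle
    rw [Set.Finite.mem_toFinset] at hm
    exact hm.2 ((hMmax m hm).eq_of_le p₀.isPrime.ne_top hm')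
  obtain ⟨c, i, hi, hci⟩ := hp₀.exists_inv hy'
  have hiM : ∀ m ∈ M, i ∉ m := fun m hm him => by
    refine (hMmax m hm).ne_top ((Ideal.eq_top_iff_one m).2 ?_)
    rw [← hci]
    exact m.add_mem (m.mul_mem_left _ (Ideal.le_of_dvd (Finset.dvd_prod_of_mem _ (hM.mem_toFinset.2 hm)) hy)) him
  obtain ⟨a, ha, hap, haM⟩ : ∃ a, a ≠ 0 ∧ a ∈ p₀.asIdeal ∧ ∀ m ∈ M, a ∉ m := by
    by_cases h0 : i = 0
    · obtain ⟨ϖ, hϖ⟩ := IsDiscreteValuationRing.exists_irreducible R
      refine ⟨ψ ϖ, fun h => ?_, ?_, fun m hm => absurd (h0 ▸ m.zero_mem) (hiM m hm)⟩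
      · have hη : X.hom (genericPoint X.left) = IsLocalRing.closedPoint R := by
          refine (hclosed _).2 (IsLocalRing.eq_maximalIdeal (Ideal.IsPrime.isMaximal (Ideal.IsPrime.comap ψ) fun h' => ?_))
          have hmem : ϖ ∈ (q (genericPoint X.left)).asIdeal.comap ψ := by
            refine Ideal.mem_comap.2 ?_
            rw [h]; exact Submodule.zero_mem _
          rw [h', Ideal.mem_bot] at hmem
          exact hϖ.ne_zero hmem
        obtain ⟨w, hw, hw'⟩ := Flat.generalizingMap X.hom (a := genericPoint X.left)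
          ((PrimeSpectrum.le_iff_specializes (⟨⊥, Ideal.isPrime_bot⟩ : PrimeSpectrum R) (X.hom (genericPoint X.left))).mp bot_le)
        rw [(hw.antisymm ((genericPoint_spec X.left).specializes trivial)).eq, hη] at hw'
        exact IsDiscreteValuationRing.not_a_field R (congrArg PrimeSpectrum.asIdeal hw')
      · show ϖ ∈ p₀.asIdeal.comap ψ
        rw [(hclosed ξ).1 (range_subset_specialFibre E ⟨_, rfl⟩)]
        exact hϖ.maximalIdeal_eq ▸ Ideal.mem_span_singleton_self ϖ
    · exact ⟨i, h0, hi, hiM⟩
  obtain ⟨J, hJ, ⟨eJ⟩, hsupp⟩ := exists_principal_divisor a ha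
  have hsupp' : (J.support : Set X.left) = Set.range E.ι := by
    rw [hsupp]
    ext x
    rw [Set.mem_compl_iff, ← Scheme.toSpecΓ_preimage_basicOpen]
    show ¬ (a ∉ (q x).asIdeal) ↔ _
    rw [not_not]
    refine ⟨fun hx => hfib x ?_, fun ⟨z, hz⟩ => by rw [← hz, hE]; exact hap⟩
    obtain ⟨r, hr, hdvd⟩ := Herbrand.exists_dvd_algebraMap (R := R) a ha
    have hne : (q x).asIdeal.comap ψ ≠ ⊥ := fun h => hr (by
      have hmem : r ∈ (q x).asIdeal.comap ψ := by
        refine Ideal.mem_comap.2 ?_
        exact Ideal.mem_of_dvd _ hdvd hx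
      rw [h, Ideal.mem_bot] at hmem
      exact hmem)
    haveI : ((q x).asIdeal.comap ψ).IsPrime := Ideal.IsPrime.comap ψ
    have hmax : (q x).asIdeal.comap ψ = IsLocalRing.maximalIdeal R :=
      IsLocalRing.eq_maximalIdeal (Ideal.IsPrime.isMaximal inferInstance hne)
    by_contra hne'
    refine haM _ ⟨⟨(q x).isPrime, ⟨hmax.symm⟩⟩, fun h => hne' (PrimeSpectrum.ext h)⟩ hx
  haveI : IsIso E.ι.toImage := inferInstance
  haveI : Nonempty E.ι.ker.subscheme := ⟨E.ι.toImage (genericPoint E.curve.left)⟩
  haveI := E.isIntegral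
  have hint : IsIntegral E.ι.ker.subscheme := isIntegral_of_isOpenImmersion (inv E.ι.toImage)
  obtain ⟨b, hb⟩ := DivPart.exists_eq_prod J hJ 1 (fun _ => E.ι.ker) (fun _ => isEffCartierIdeal_ker hX E)
    (fun _ => hint) (fun x hx => Set.mem_iUnion.2 ⟨0, by
      rw [Scheme.Hom.support_ker, E.ι.isClosedEmbedding.isClosed_range.closure_eq]
      exact hsupp'.le hx⟩)
  rw [Fin.prod_univ_one] at hb
  refine ⟨b 0, Nat.pos_of_ne_zero fun h => ?_, ⟨eJ ≪≫ eqToIso (by rw [hb])⟩⟩
  have hm := hsupp'.ge ⟨genericPoint E.curve.left, rfl⟩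
  rw [hb, h, pow_zero, Scheme.IdealSheafData.one_eq_top, Scheme.IdealSheafData.support_top] at hm
  exact hm

end Groth.Agent.Castel
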