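import Groth.Agent.PlaneCurve.Hyp
import Groth.Agent.CurveRR.Zero
import Groth.Agent.ProjMor.ProjSpaceBase
import Groth.Agent.TMul.AmpleBasis
import Groth.Agent.Horrocks.Main

/-!
Two sections of `O(1)` on the projective line generate it and span its sections.
-/

set_option autoImplicit false
set_option backward.isDefEq.respectTransparency false
set_option backward.isDefEq.respectTransparency.types false
set_option linter.style.haveILetI false

universe u

open CategoryTheory CategoryTheory.Limits AlgebraicGeometry TopologicalSpace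

noncomputable section

namespace Groth.Agent.Castel

theorem exists_two_gens (k : Type u) [Field k] :
    ∃ s t : Γ(Twist.twistProjSpace 1 k 1, ⊤),
      (∀ x, x ∈ CohB1.genLocus _ (TMul.homOf s) ∨ x ∈ CohB1.genLocus _ (TMul.homOf t)) ∧
      ∀ c : Γ(Twist.twistProjSpace 1 k 1, ⊤), ∃ l m : Γ(CohB1.ProjSpace 1 k, ⊤), c = l • s + m • t := by
  letI : (CohB1.ProjSpace 1 k).Over (Spec (CommRingCat.of k)) := ⟨CohB1.ProjSpace.toSpec 1 k⟩
  let L := Twist.twistProjSpace 1 k 1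
  letI := CurveRR.secMod k L ⊤
  obtain ⟨e₀⟩ := ProjCech.zero_equiv (R := k) 1 1
  let e : Γ(L, ⊤) ≃ₗ[k] ↥(MvPolynomial.homogeneousSubmodule (Fin 2) k 1) := (CurveRR.secH0 (k := k) L).trans e₀
  let g : Fin 2 → Γ(L, ⊤) := fun i => e.symm ⟨MvPolynomial.X i, MvPolynomial.isHomogeneous_X k i⟩
  have hspan : ∀ c : Γ(L, ⊤), ∃ l m : Γ(CohB1.ProjSpace 1 k, ⊤), c = l • g 0 + m • g 1 := by
    intro c
    have h1 : ((e c : ↥(MvPolynomial.homogeneousSubmodule (Fin 2) k 1)) : MvPolynomial (Fin 2) k) ∈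
        Submodule.span k (Set.range (MvPolynomial.X : Fin 2 → MvPolynomial (Fin 2) k)) := by
      rw [← MvPolynomial.homogeneousSubmodule_one_eq_span_X]
      exact (e c).2
    obtain ⟨a, ha⟩ := (Submodule.mem_span_range_iff_exists_fun k).1 h1
    refine ⟨CurveRR.cst k _ ⊤ (a 0), CurveRR.cst k _ ⊤ (a 1), e.injective (Subtype.ext ?_)⟩
    rw [← CurveRR.smul_def, ← CurveRR.smul_def, map_add, map_smul, map_smul]
    simp only [g, LinearEquiv.apply_symm_apply]
    rw [← ha, Fin.sum_univ_two]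
    rfl
  refine ⟨g 0, g 1, fun x => ?_, hspan⟩
  obtain ⟨i, hi⟩ := PicPn.exists_mem_ch (k := k) (n := 1) x
  let G : LefPen.Form 1 k 1 := ⟨MvPolynomial.X i, MvPolynomial.isHomogeneous_X k i⟩
  let σ : Γ(L, ⊤) := TMul.val (PlaneCurve.sigma G) ⊤
  obtain ⟨l, m, hlm⟩ := hspan σ
  obtain ⟨e₁, he₁, hval⟩ := PlaneCurve.exists_coeff G i
  have hσ : Groth.Agent.QC.res L (le_top : PicPn.ch (k := k) i ≤ ⊤) σ =
      GrT.deh (CohB1.polyGrading 1 k) (PicPn.X_mem i) G.1 • e₁ := by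
    rw [← hval]
    exact TMul.res_val _ _
  have hunit : IsUnit ((CohB1.ProjSpace 1 k).presheaf.germ (PicPn.ch (k := k) i) x hi
      (GrT.deh (CohB1.polyGrading 1 k) (PicPn.X_mem i) G.1)) := by
    rw [show GrT.deh (CohB1.polyGrading 1 k) (PicPn.X_mem i) G.1 = 1 from GrT.deh_self _ _, map_one]
    exact isUnit_one
  obtain ⟨c₀, hc₀⟩ := (he₁ (PicPn.ch i) le_rfl).2 (Groth.Agent.QC.res L le_top (g 0))
  obtain ⟨c₁, hc₁⟩ := (he₁ (PicPn.ch i) le_rfl).2 (Groth.Agent.QC.res L le_top (g 1))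
  simp only [Groth.Agent.QC.res_self] at hc₀ hc₁
  have hsum : GrT.deh (CohB1.polyGrading 1 k) (PicPn.X_mem i) G.1 =
      Groth.Agent.QC.resO _ le_top l * c₀ + Groth.Agent.QC.resO _ le_top m * c₁ := by
    refine (he₁ (PicPn.ch i) le_rfl).1 ?_
    simp only [Groth.Agent.QC.res_self]
    rw [← hσ, hlm, map_add, Groth.Agent.QC.res_smul, Groth.Agent.QC.res_smul, ← hc₀, ← hc₁, add_smul, mul_smul, mul_smul]
  rw [hsum, map_add, map_mul, map_mul] at hunit
  rcases IsLocalRing.isUnit_or_isUnit_of_isUnit_add hunit with h | h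
  · left
    refine (TMul.mem_genLocus_iff_isUnit (TMul.homOf (g 0)) he₁ (c := c₀) ?_ hi).2 (isUnit_of_mul_isUnit_right h)
    rw [TMul.val_homOf]; exact hc₀.symm
  · right
    refine (TMul.mem_genLocus_iff_isUnit (TMul.homOf (g 1)) he₁ (c := c₁) ?_ hi).2 (isUnit_of_mul_isUnit_right h)
    rw [TMul.val_homOf]; exact hc₁.symm

/-- Vanishing of `H¹` of nonnegative twists. -/
theorem subsingleton_h1_twist (k : Type u) [Field k] (d : ℤ) (hd : -1 ≤ d) :
    Subsingleton (Coh.HH (CohB1.ProjSpace 1 k) (Twist.twistProjSpace 1 k d) 1) :=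
  ProjCech.twist_vanish (R := k) 1 d 1 (by omega) (by omega)

end Groth.Agent.Castel
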