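import Groth.Agent.Castel.Twist
import Groth.Agent.Castel.SemiAmpleDiv
import Groth.Agent.Castel.VertLine
import Groth.Agent.Castel.Inter
import Groth.Agent.S1664

/-!
Twisting a module by multiples of a vertical projective line of negative self-intersection.
-/

set_option autoImplicit false
set_option backward.isDefEq.respectTransparency false
set_option backward.isDefEq.respectTransparency.types false
set_option linter.style.haveILetI false

universe u

open CategoryTheory CategoryTheory.Limits AlgebraicGeometry TopologicalSpace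

noncomputable section

namespace Groth.Agent.Castel

variable {R : Type u} [CommRing R] [IsDomain R] [IsDiscreteValuationRing R] {X : Over (Spec (CommRingCat.of R))}

/-- Intersection numbers with a vertical line read off from the twist. -/
theorem inter_of_twist (E : ArSurf.VertComp R X) {k : Type u} [Field k] (e : CohB1.ProjSpace 1 k ≅ E.curve.left)
    {L : X.left.Modules} (hLi : PicF.IsInvertible L) {h : ℤ}
    (c : (Scheme.Modules.pullback (e.hom ≫ E.ι)).obj L ≅ Twist.twistProjSpace 1 k h) :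
    ArSurf.inter R X L E = h * (Models.wdeg R X E : ℤ) := by
  obtain ⟨φ, hφ⟩ := exists_factor_projLine (e.hom ≫ E.curve.hom)
  letI := φ.toAlgebra
  have hd : topologicalKrullDim (CohB1.ProjSpace 1 k) ≤ 1 := (Groth.Agent.S10829.result k 1).le
  haveI : IsProper (CohB1.ProjSpace 1 k ↘ Spec (CommRingCat.of k)) := ProjMor.isProper_toSpec 1 k
  obtain ⟨o⟩ := Horrocks.Om_zero (k := k) (d := 1)
  have hOi : PicF.IsInvertible (Coh.structureModule E.curve.left) := TMul.isInvertible_structureModule
  have key : ∀ (F : E.curve.left.Modules), PicF.IsInvertible F → ∀ G : (CohB1.ProjSpace 1 k).Modules,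
      ((Scheme.Modules.pullback e.hom).obj F ≅ G) → ∀ i,
      Module.finrank (IsLocalRing.ResidueField R) (Coh.HH E.curve.left F i) =
        Module.finrank (IsLocalRing.ResidueField R) k * CurveRR.h k G i := fun F hF G j i =>
    (finrank_hh_iso E.curve.hom e hF i).trans ((finrank_hh_tower (CohB1.ProjSpace.toSpec 1 k) _ hφ _ i).trans
      (congrArg (_ * ·) (CurveRR.h_eq_of_iso (k := k) j i)))
  have hO0 : CurveRR.h k (Twist.twistProjSpace 1 k 0) 1 = 0 := CurveRR.h_eq_zero (subsingleton_h1_twist k 0 (by omega))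
  have e0 := euler_twist_line k 0
  have e1 := euler_twist_line k h
  rw [CurveRR.euler_eq hd] at e0 e1
  have j0 := DerPerf.pullUnitIso e.hom ≪≫ o.symm
  have hw : Models.wdeg R X E = Module.finrank (IsLocalRing.ResidueField R) k := by
    rw [Models.wdeg, key _ hOi _ j0 0]
    have : CurveRR.h k (Twist.twistProjSpace 1 k 0) 0 = 1 := by omega
    rw [this, mul_one]
  have hLp := key _ (PicLoc.isInvertible_pullback E.ι hLi) _ ((Scheme.Modules.pullbackComp e.hom E.ι).app L ≪≫ c)
  rw [ArSurf.inter, ArSurf.curveDeg, FGA.eulerCharLE, FGA.eulerCharLE, Finset.sum_range_succ, Finset.sum_range_one,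
    Finset.sum_range_succ, Finset.sum_range_one, hLp 0, hLp 1, key _ hOi _ j0 0, key _ hOi _ j0 1, hw]
  push_cast
  linear_combination (Module.finrank (IsLocalRing.ResidueField R) k : ℤ) * e1 -
    (Module.finrank (IsLocalRing.ResidueField R) k : ℤ) * e0

/-- Twisting down along a vertical line keeps `H¹ = 0`, and base-point freeness at the critical multiple. -/
theorem twist_down [IsLocallyNoetherian X.left] [IsProper X.hom] (E : ArSurf.VertComp R X) {k : Type u} [Field k]
    (e : CohB1.ProjSpace 1 k ≅ E.curve.left) (hIE : BlowUp.IsEffCartierIdeal E.ι.ker)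
    {LE : X.left.Modules} (hLE : ClSub.IsInverseOf LE (ClSub.idealMod E.ι.ker)) (hneg : ArSurf.inter R X LE E < 0)
    {L : X.left.Modules} (hL : PicF.IsInvertible L) (h1 : Subsingleton (Coh.HH X.left L 1)) :
    (∀ i : ℕ, (i : ℤ) * (-ArSurf.inter R X LE E) ≤ ArSurf.inter R X L E →
      Subsingleton (Coh.HH X.left (CohB1.tensorMod L (CohB1.tensorPow LE i)) 1)) ∧
    ∀ r : ℕ, Curv2.IsGloballyGenerated L → ArSurf.inter R X L E = (r : ℤ) * (-ArSurf.inter R X LE E) →
      Nonempty ((Scheme.Modules.pullback E.ι).obj (CohB1.tensorMod L (CohB1.tensorPow LE r)) ≅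
        Coh.structureModule E.curve.left) ∧
      Curv2.IsGloballyGenerated (CohB1.tensorMod L (CohB1.tensorPow LE r)) := by
  let ι₀ := e.hom ≫ E.ι
  have hker : ι₀.ker = E.ι.ker := Scheme.Hom.ker_comp_of_isIso e.hom E.ι
  have hIi := (Groth.Agent.S8914.result _).2 hIE
  have hEi := isInvertible_of_isInverseOf hIi hLE
  obtain ⟨a, ⟨ca⟩⟩ := (PicPn.existsUnique_iso (K := k) le_rfl _ (PicLoc.isInvertible_pullback ι₀ hEi)).exists
  obtain ⟨b, ⟨cb⟩⟩ := (PicPn.existsUnique_iso (K := k) le_rfl _ (PicLoc.isInvertible_pullback ι₀ hL)).exists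
  have hEa := inter_of_twist E e hEi ca
  have hLb := inter_of_twist E e hL cb
  have hw : (0 : ℤ) < Models.wdeg R X E := by
    rcases Nat.eq_zero_or_pos (Models.wdeg R X E) with h | h
    · rw [hEa, h] at hneg; simp at hneg
    · exact_mod_cast h
  have ha : a < 0 := by
    by_contra hc
    rw [hEa] at hneg
    nlinarith
  let G : ℕ → X.left.Modules := fun j => CohB1.tensorMod L (CohB1.tensorPow LE j)
  have hGi : ∀ j, PicF.IsInvertible (G j) := fun j =>
    TMul.isInvertible_tensorMod hL (TMul.isInvertible_tensorPow hEi j)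
  have hdeg : ∀ j : ℕ, Nonempty ((Scheme.Modules.pullback ι₀).obj (G j) ≅
      Twist.twistProjSpace 1 k (b + a * j)) := fun j => by
    obtain ⟨ej⟩ := nonempty_pullback_pow ι₀ ca j
    exact nonempty_pullback_tensor ι₀ cb ej rfl
  have hvan : ∀ j : ℕ, 0 ≤ b + a * j → Subsingleton (Coh.HH X.left (G j) 1) := by
    intro j
    induction j with
    | zero => exact fun _ => CohQC.hh_subsingleton_of_iso (SecTwist.unitorR _).symm 1 h1
    | succ j ih =>
      intro hj
      obtain ⟨q⟩ := nonempty_ideal_tensor (A := L) hLE j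
      obtain ⟨ej⟩ := hdeg (j + 1)
      have h3 := subsingleton_h1_quot_of_iso ι₀ hker (hGi (j + 1)) (a := b + a * ((j + 1 : ℕ) : ℤ)) (by linarith) ej
      refine CohQC.hh_subsingleton_of_iso (TMul.leftUnitIso _) 1 ?_
      exact W7Hull.hh_subsingleton_middle (CohFinite.shortExact_tmap (hGi (j + 1)) (CurveRR.ideal_shortExact E.ι.ker)) 1
        (CohQC.hh_subsingleton_of_iso q.symm 1 (ih (by push_cast at hj; linarith))) h3
  refine ⟨fun i hi => hvan i ?_, fun r hgg hr => ?_⟩
  · rw [hEa, hLb] at hi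
    nlinarith
  have hr0 : b + a * r = 0 := by
    rw [hEa, hLb] at hr
    have : (b + a * r) * (Models.wdeg R X E : ℤ) = 0 := by linarith
    exact (mul_eq_zero.1 this).resolve_right hw.ne'
  obtain ⟨er⟩ := hdeg r
  obtain ⟨o⟩ := Horrocks.Om_zero (k := k) (d := 1)
  have e0 : (Scheme.Modules.pullback ι₀).obj (G r) ≅ Twist.twistProjSpace 1 k 0 := er ≪≫ eqToIso (by rw [hr0])
  refine ⟨⟨(Scheme.Modules.pullbackCongr (show E.ι = e.inv ≫ ι₀ by simp [ι₀])).app _ ≪≫
    ((Scheme.Modules.pullbackComp e.inv ι₀).app _).symm ≪≫ (Scheme.Modules.pullback e.inv).mapIso (e0 ≪≫ o) ≪≫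
      PicLoc.pullbackStructureIso e.inv⟩, ?_⟩
  have hoff : ∀ x : X.left, x ∉ E.ι.ker.support → ∀ j : ℕ,
      ∃ t : Γ(G j, ⊤), x ∈ CohB1.genLocus (G j) (TMul.homOf t) := fun x hx j => by
    induction j with
    | zero =>
      obtain ⟨σ, hσ⟩ := Groth.Agent.S1664.gen_of_globallyGenerated hL hgg x
      refine ⟨(SecTwist.unitorR L).inv.app ⊤ (TMul.val σ ⊤), ?_⟩
      erw [ProjMor.homOf_app, TMul.genLocus_comp, CohFinite.homOf_val]
      exact hσ
    | succ j ih =>
      obtain ⟨t, ht⟩ := ih
      obtain ⟨q⟩ := nonempty_ideal_tensor (A := L) hLE j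
      exact ⟨_, mem_genLocus_idealIncl (hGi (j + 1)) q t hx ht⟩
  letI : X.left.Over (Spec (CommRingCat.of R)) := ⟨X.hom⟩
  haveI : IsProper (X.left ↘ Spec (CommRingCat.of R)) := ‹IsProper X.hom›
  haveI : CompactSpace X.left := QuasiCompact.compactSpace_of_compactSpace X.hom
  refine CurveRR.isGloballyGenerated_of_closed (hGi r) fun x _ => ?_
  by_cases hx : x ∈ E.ι.ker.support
  swap
  · exact hoff x hx r
  rcases r with _ | r
  · obtain ⟨σ, hσ⟩ := Groth.Agent.S1664.gen_of_globallyGenerated hL hgg x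
    refine ⟨(SecTwist.unitorR L).inv.app ⊤ (TMul.val σ ⊤), ?_⟩
    erw [ProjMor.homOf_app, TMul.genLocus_comp, CohFinite.homOf_val]
    exact hσ
  · obtain ⟨q⟩ := nonempty_ideal_tensor (A := L) hLE r
    obtain ⟨σ, hσ⟩ := exists_gen_along ι₀ hker (hGi (r + 1)) e0
      (CohQC.hh_subsingleton_of_iso q.symm 1 (hvan r (by push_cast at hr0; linarith)))
    refine ⟨σ, hσ ?_⟩
    have hx' : x ∈ (ι₀.ker.support : Set X.left) := by rw [hker]; exact hx
    rwa [Scheme.Hom.support_ker, ι₀.isClosedEmbedding.isClosed_range.closure_eq] at hx'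

end Groth.Agent.Castel
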