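import Groth.Agent.Castel.Global
import Groth.Agent.S1297
import Groth.Agent.SteinGen.Basic
import Groth.Agent.SteinGen.GeomConn
import Groth.Prelude.Def_ClSub2

/-!
Stein factorisation of a morphism contracting an exceptional curve.
-/

set_option autoImplicit false
set_option backward.isDefEq.respectTransparency false
set_option backward.isDefEq.respectTransparency.types false
set_option linter.style.haveILetI false

universe u

open CategoryTheory CategoryTheory.Limits AlgebraicGeometry TopologicalSpace Opposite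

noncomputable section

namespace Groth.Agent.Castel

/-- Specialisations inside a fibre at a quasi-finite point are trivial. -/
theorem eq_of_specializes_qf {X Y : Scheme.{u}} (f : X ⟶ Y) [LocallyOfFiniteType f] {x x' : X}
    (hx : f.QuasiFiniteAt x) (h : f x' = f x) (hs : x ⤳ x') : x' = x := by
  have hc := hx.isClopen_singleton_asFiber.1
  have hcl : IsClosed ({(⟨x, rfl⟩ : f ⁻¹' {f x})} : Set (f ⁻¹' {f x})) := by
    have := (f.fiberHomeo (f x)).isClosedMap _ hc
    simpa [Scheme.Hom.asFiber] using this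
  have h2 : (⟨x, rfl⟩ : f ⁻¹' {f x}) ⤳ ⟨x', h⟩ := (subtype_specializes_iff _ _).2 hs
  exact congrArg Subtype.val (h2.mem_closed hcl (Set.mem_singleton _) : (⟨x', h⟩ : f ⁻¹' {f x}) = ⟨x, rfl⟩)

/-- The first Stein factor contracts an irreducible closed subscheme over a point. -/
theorem exists_stein_contract {E X Y : Scheme.{u}} [IsNoetherian X] [IsNoetherian Y] [IrreducibleSpace E] (ι : E ⟶ X)
    [IsClosedImmersion ι] (f : X ⟶ Y) [IsProper f] (y : Y)
    (hy : Set.range ((ι ≫ f).base : E → Y) = {y})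
    (hqf : LocallyQuasiFinite (Scheme.Opens.ι (X := X) ι.ker.support.compl ≫ f)) :
    ∃ (X' : Scheme.{u}) (b : X ⟶ X') (g : X' ⟶ Y) (y₀ : X'), b ≫ g = f ∧ IsFinite g ∧
      IsProper b ∧ IsClosed ({y₀} : Set X') ∧ b ⁻¹' {y₀} = Set.range ι ∧
      (∀ V : X'.Opens, Function.Bijective (b.app V)) ∧
      (∀ V : X'.Opens, y₀ ∉ V → IsIso (b ∣_ V)) := by
  set g := f.fromNormalization with hg
  set b := f.toNormalization with hb
  have hbg : b ≫ g = f := f.toNormalization_fromNormalization
  haveI : IsFinite g := S1297.result f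
  haveI : IsProper (b ≫ g) := by rw [hbg]; infer_instance
  haveI : IsProper b := IsProper.of_comp b g
  haveI : IsLocallyNoetherian f.normalization := LocallyOfFiniteType.isLocallyNoetherian g
  haveI : CompactSpace f.normalization := QuasiCompact.compactSpace_of_compactSpace g
  haveI : IsNoetherian f.normalization := {}
  have hbapp : ∀ V : f.normalization.Opens, Function.Bijective (b.app V) := fun V =>
    haveI := SteinGen.isIso_toNormalization_app f V
    ConcreteCategory.bijective_of_isIso _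
  haveI : GeometricallyConnected b :=
    SteinGen.geometricallyConnected_of_isIso_app b fun V => SteinGen.isIso_toNormalization_app f V
  have hsupp : ∀ x : X, x ∈ ι.ker.support ↔ x ∈ Set.range ι := fun x => by
    rw [← SetLike.mem_coe, Scheme.Hom.support_ker, ι.isClosedMap.isClosed_range.closure_eq]
  set U : X.Opens := ι.ker.support.compl with hU
  have hUmem : ∀ x, x ∈ U ↔ x ∉ Set.range ι := fun x => not_congr (hsupp x)
  let η : E := genericPoint E
  set y₀ := b (ι η) with hy₀
  have hfy : ∀ z : E, f (ι z) = y := fun z => hy.le ⟨z, rfl⟩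
  have hgy : ∀ z : E, g (b (ι z)) = y := fun z => by
    rw [← Scheme.Hom.comp_apply, hbg]; exact hfy z
  have hconst : ∀ z : E, b (ι z) = y₀ := fun z => by
    have hs : y₀ ⤳ b (ι z) :=
      ((genericPoint_specializes z).map ι.continuous).map b.continuous
    exact eq_of_specializes_qf g (g.quasiFiniteAt _) ((hgy _).trans (hgy _).symm) hs
  have himage : b '' Set.range ι = {y₀} := subset_antisymm
    (by rintro _ ⟨_, ⟨z, rfl⟩, rfl⟩; exact hconst z) (by rintro _ rfl; exact ⟨_, ⟨η, rfl⟩, rfl⟩)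
  have hy₀c : IsClosed ({y₀} : Set f.normalization) := himage ▸ b.isClosedMap _ ι.isClosedMap.isClosed_range
  have hyc : IsClosed ({y} : Set Y) := by
    have h1 := g.isClosedMap _ hy₀c
    rwa [Set.image_singleton, hgy η] at h1
  haveI := hqf
  haveI : LocallyOfFiniteType (U.ι ≫ f) := inferInstance
  have hqfat : ∀ x (hx : x ∈ U), f.QuasiFiniteAt x := fun x hx =>
    (Scheme.Hom.quasiFiniteAt_comp_iff_of_isOpenImmersion (f := U.ι) (g := f) (x := ⟨x, hx⟩)).1
      ((U.ι ≫ f).quasiFiniteAt _)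
  have hpt : ∀ x, x ∈ U → f x = y → IsClosed ({x} : Set X) := fun x hx hfx => by
    have hc := (hqfat x hx).isClopen_singleton_asFiber.1
    have h1 := (f.fiberHomeo (f x)).isClosedMap _ hc
    have h2 : IsClosed (f ⁻¹' {f x}) := (hfx ▸ hyc : IsClosed ({f x} : Set Y)).preimage f.continuous
    have h3 := h2.isClosedEmbedding_subtypeVal.isClosedMap _ h1
    simpa [Scheme.Hom.asFiber] using h3
  have hfib : b ⁻¹' {y₀} = Set.range ι := by
    refine subset_antisymm (fun x hx => ?_) (fun _ ⟨z, hz⟩ => hz ▸ hconst z)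
    by_contra hxE
    have hT := b.isConnected_preimage_singleton y₀
    have hsub : b ⁻¹' {y₀} \ Set.range ι ⊆ U.ι '' ((U.ι ≫ f) ⁻¹' {y}) := by
      rintro z ⟨hz, hzE⟩
      refine ⟨⟨z, (hUmem z).2 hzE⟩, ?_, rfl⟩
      show (U.ι ≫ f) _ = y
      rw [Scheme.Hom.comp_apply]
      show f z = y
      rw [← hbg, Scheme.Hom.comp_apply, show b z = y₀ from hz, hgy η]
    have hfin : (b ⁻¹' {y₀} \ Set.range ι).Finite :=
      (((U.ι ≫ f).finite_preimage_singleton y).image _).subset hsub
    have hC : IsClosed (b ⁻¹' {y₀} \ Set.range ι) := by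
      have h1 : b ⁻¹' {y₀} \ Set.range ι = ⋃ z ∈ b ⁻¹' {y₀} \ Set.range ι, {z} := (Set.biUnion_of_singleton _).symm
      rw [h1]
      refine hfin.isClosed_biUnion fun z hz => hpt z ((hUmem z).2 hz.2) ?_
      rw [← hbg, Scheme.Hom.comp_apply, show b z = y₀ from hz.1, hgy η]
    obtain ⟨w, -, hwE, hwC⟩ := (isPreconnected_closed_iff.1 hT.isPreconnected) (Set.range ι)
      (b ⁻¹' {y₀} \ Set.range ι) ι.isClosedMap.isClosed_range hC
      (fun z hz => (em (z ∈ Set.range ι)).imp id fun h => ⟨hz, h⟩)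
      ⟨ι η, rfl, η, rfl⟩ ⟨x, hx, hx, hxE⟩
    exact hwC.2 hwE
  set V : f.normalization.Opens := (Scheme.IdealSheafData.vanishingIdeal (X := f.normalization) ⟨{y₀}, hy₀c⟩).support.compl with hV
  have hVmem : ∀ z, z ∈ V ↔ z ≠ y₀ := fun z => by
    show z ∉ (((Scheme.IdealSheafData.vanishingIdeal (X := f.normalization) ⟨{y₀}, hy₀c⟩).support :
      Closeds f.normalization) : Set f.normalization) ↔ _
    rw [Scheme.IdealSheafData.coe_support_vanishingIdeal]
    rfl
  have hpre : b ⁻¹ᵁ V = U := by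
    ext x
    show b x ∈ V ↔ x ∈ U
    rw [hVmem, hUmem, ← hfib]
    rfl
  haveI : LocallyQuasiFinite ((U.ι ≫ b) ≫ g) := by
    rw [Category.assoc, hbg]
    exact hqf
  haveI : LocallyQuasiFinite (U.ι ≫ b) := LocallyQuasiFinite.of_comp (U.ι ≫ b) g
  haveI : LocallyQuasiFinite ((b ∣_ V) ≫ V.ι) := by
    rw [morphismRestrict_ι]
    have e : (b ⁻¹ᵁ V).ι = (X.isoOfEq hpre).hom ≫ U.ι := (X.isoOfEq_hom_ι hpre).symm
    rw [e, Category.assoc]
    infer_instance
  haveI : LocallyQuasiFinite (b ∣_ V) := LocallyQuasiFinite.of_comp (b ∣_ V) V.ι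
  haveI : IsFinite (b ∣_ V) := IsFinite.of_isProper_of_locallyQuasiFinite (b ∣_ V)
  have hiso : IsIso (b ∣_ V) := BiratCodimTwo.isIso_restrict_of_isAffineHom b hbapp V
  refine ⟨f.normalization, b, g, y₀, hbg, inferInstance, inferInstance, hy₀c, hfib, hbapp, fun W hW => ?_⟩
  have hle : W ≤ V := fun z hz => (hVmem z).2 fun h => hW (h ▸ hz)
  exact PtBlow.isIso_restrict_le b hle hiso

/-- Contraction of an exceptional curve by the first Stein factor, with its fibre. -/
theorem exists_contraction' {E X Y : Scheme.{u}} [IsNoetherian X] [IsNoetherian Y] (ι : E ⟶ X)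
    [IsClosedImmersion ι] (hE : Models.IsExcCurve ι) (f : X ⟶ Y) [IsProper f] (y : Y)
    (hy : Set.range ((ι ≫ f).base : E → Y) = {y})
    (hqf : LocallyQuasiFinite (Scheme.Opens.ι (X := X) ι.ker.support.compl ≫ f)) :
    ∃ (X' : Scheme.{u}) (b : X ⟶ X') (g : X' ⟶ Y) (y₀ : X'), Models.IsContractionOf ι b ∧ b ≫ g = f ∧ IsFinite g ∧
      IsIso (ClSub.unitToPush b) ∧ IsProper b ∧ IsClosed ({y₀} : Set X') ∧ b ⁻¹' {y₀} = Set.range ι ∧
      (∀ V : X'.Opens, Function.Bijective (b.app V)) ∧
      (∀ V : X'.Opens, y₀ ∉ V → IsIso (b ∣_ V)) := by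
  obtain ⟨-, k, _, eP, -⟩ := id hE
  haveI : IsIntegral (CohB1.ProjSpace 1 k) := Horrocks.isIntegral_projSpace
  haveI : IrreducibleSpace E := eP.hom.surjective.irreducibleSpace eP.hom.continuous
  obtain ⟨X', b, g, y₀, hbg, hg, hb, hc, hfib, happ, hoff⟩ := exists_stein_contract ι f y hy hqf
  haveI := hg
  haveI := hb
  haveI : IsLocallyNoetherian X' := LocallyOfFiniteType.isLocallyNoetherian g
  haveI : CompactSpace X' := QuasiCompact.compactSpace_of_compactSpace g
  haveI : IsNoetherian X' := {}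
  refine ⟨X', b, g, y₀, isContractionOf ι hE b happ y₀ hc hfib (hoff ⟨{y₀}ᶜ, hc.isOpen_compl⟩ fun h => h rfl),
    hbg, hg, ?_, hb, hc, hfib, happ, hoff⟩
  rw [Scheme.Modules.Hom.isIso_iff_isIso_app]
  intro W
  rw [ConcreteCategory.isIso_iff_bijective]
  exact happ W

/-- Contraction of an exceptional curve by the first Stein factor. -/
theorem exists_contraction {E X Y : Scheme.{u}} [IsNoetherian X] [IsNoetherian Y] (ι : E ⟶ X)
    [IsClosedImmersion ι] (hE : Models.IsExcCurve ι) (f : X ⟶ Y) [IsProper f] (y : Y)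
    (hy : Set.range ((ι ≫ f).base : E → Y) = {y})
    (hqf : LocallyQuasiFinite (Scheme.Opens.ι (X := X) ι.ker.support.compl ≫ f)) :
    ∃ (X' : Scheme.{u}) (b : X ⟶ X') (g : X' ⟶ Y), Models.IsContractionOf ι b ∧ b ≫ g = f ∧ IsFinite g ∧
      IsIso (ClSub.unitToPush b) := by
  obtain ⟨X', b, g, -, h1, h2, h3, h4, -⟩ := exists_contraction' ι hE f y hy hqf
  exact ⟨X', b, g, h1, h2, h3, h4⟩

end Groth.Agent.Castel
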