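import Groth.Agent.Castel.ArithY
import Groth.Agent.Castel.Inter
import Groth.Agent.Castel.Global
import Groth.Agent.Castel.Stein
import Groth.Agent.PtBlow.LineSign
import Groth.Agent.S0065
import Groth.Agent.EtMV.NormalIrr
import Mathlib.RingTheory.Smooth.Flat

/-!
Arithmetic surfaces under localisation and étale base change of the base.
-/

set_option autoImplicit false
set_option backward.isDefEq.respectTransparency false
set_option backward.isDefEq.respectTransparency.types false
set_option linter.style.haveILetI false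

universe u

open CategoryTheory CategoryTheory.Limits AlgebraicGeometry TopologicalSpace

noncomputable section

namespace Groth.Agent.Castel

/-- A closed subscheme in the image of a flat preimmersion factors through it, cartesianly. -/
theorem exists_factor_of_range {E X Y : Scheme.{u}} (ι : E ⟶ X) [IsClosedImmersion ι] (j : Y ⟶ X) [Flat j]
    [IsPreimmersion j] (h : Set.range ι ⊆ Set.range j) :
    ∃ ι₁ : E ⟶ Y, ι₁ ≫ j = ι ∧ IsClosedImmersion ι₁ ∧ ι₁.ker = ι.ker.comap j := by
  let a := pullback.fst ι j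
  haveI : Flat a := MorphismProperty.pullback_fst (P := @Flat) ι j inferInstance
  haveI : IsPreimmersion a := MorphismProperty.pullback_fst (P := @IsPreimmersion) ι j inferInstance
  have hsurj : Function.Surjective a := fun e => by
    have : e ∈ Set.range a := by
      rw [Scheme.Pullback.range_fst]
      exact h ⟨e, rfl⟩
    exact this
  haveI : ∀ p, IsIso (a.stalkMap p) := fun p => isIso_stalkMap_of_flat a p
  haveI : IsOpenImmersion a := IsOpenImmersion.iff_isIso_stalkMap.2
    ⟨{ toIsEmbedding := a.isEmbedding, isOpen_range := by rw [hsurj.range_eq]; exact isOpen_univ }, inferInstance⟩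
  haveI : Surjective a := ⟨hsurj⟩
  haveI : IsIso a := (isIso_iff_isOpenImmersion_and_epi_base _).2 ⟨inferInstance,
    (TopCat.epi_iff_surjective _).2 hsurj⟩
  refine ⟨inv a ≫ pullback.snd ι j, by rw [Category.assoc, IsIso.inv_comp_eq, pullback.condition], ?_, ?_⟩
  · haveI : IsClosedImmersion (pullback.snd ι j) :=
      MorphismProperty.pullback_snd (P := @IsClosedImmersion) ι j inferInstance
    infer_instance
  · rw [Scheme.Hom.ker_comp_of_isIso, ← pullbackSymmetry_hom_comp_fst, Scheme.Hom.ker_comp_of_isIso,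
      Scheme.IdealSheafData.ker_fst_of_isClosedImmersion]

/-- Exceptional curves stay exceptional along flat preimmersions, both ways. -/
theorem isExcCurve_factor {E X Y : Scheme.{u}} (ι : E ⟶ X) [IsClosedImmersion ι] (j : Y ⟶ X) [Flat j]
    (ι₁ : E ⟶ Y) (hι : ι₁ ≫ j = ι) (hker : ι₁.ker = ι.ker.comap j) (hI : BlowUp.IsEffCartierIdeal ι.ker) :
    Models.IsExcCurve ι ↔ Models.IsExcCurve ι₁ := by
  subst hι
  have hI₁ : BlowUp.IsEffCartierIdeal ι₁.ker := hker ▸ BlowUpLib.cartier_comap_flat hI j
  obtain ⟨n⟩ := Nakai.nonempty_pullback_idealMod j hI (hker ▸ hI₁)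
  have key : ∀ {k : Type u} [Field k] (e : CohB1.ProjSpace 1 k ≅ E),
      Nonempty ((Scheme.Modules.pullback (e.hom ≫ ι₁)).obj (ClSub.idealMod ι₁.ker) ≅
        (Scheme.Modules.pullback (e.hom ≫ ι₁ ≫ j)).obj (ClSub.idealMod (ι₁ ≫ j).ker)) := fun {k} _ e => by
    rw [hker]
    exact ⟨(Scheme.Modules.pullback (e.hom ≫ ι₁)).mapIso n.symm ≪≫
      (Scheme.Modules.pullbackComp (e.hom ≫ ι₁) j).app _ ≪≫
      (Scheme.Modules.pullbackCongr (Category.assoc e.hom ι₁ j)).app _⟩
  constructor
  · rintro ⟨-, k, hk, e, ⟨c⟩⟩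
    letI := hk
    obtain ⟨q⟩ := key e
    exact ⟨hI₁, k, hk, e, ⟨q ≪≫ c⟩⟩
  · rintro ⟨-, k, hk, e, ⟨c⟩⟩
    letI := hk
    obtain ⟨q⟩ := key e
    exact ⟨hI, k, hk, e, ⟨q.symm ≪≫ c⟩⟩

variable {R R₁ : Type u} [CommRing R] [IsDedekindDomain R] [CommRing R₁] [IsDedekindDomain R₁]
  [Algebra R R₁]

/-- The base change of an arithmetic surface is one, if it is regular, integral, two-dimensional. -/
theorem isArith_baseChange_of_facts [Module.Flat R R₁] (X : Over (Spec (CommRingCat.of R)))
    (hX : ArSurf.IsArithSurface R X)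
    [IsIntegral ((Over.pullback (Spec.map (CommRingCat.ofHom (algebraMap R R₁)))).obj X).left]
    (hreg : ∀ x, IsRegularLocalRing
      (((Over.pullback (Spec.map (CommRingCat.ofHom (algebraMap R R₁)))).obj X).left.presheaf.stalk x))
    (hdim : topologicalKrullDim ((Over.pullback (Spec.map (CommRingCat.ofHom (algebraMap R R₁)))).obj X).left = 2) :
    ArSurf.IsArithSurface R₁ ((Over.pullback (Spec.map (CommRingCat.ofHom (algebraMap R R₁)))).obj X) := by
  haveI := hX.2.2.2.1
  haveI := PtBlow.isProper_of_isProjectiveOver (Z := X) hX.2.2.2.2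
  obtain ⟨L, hL⟩ := exists_ample_of_proj hX.2.2.2.2
  let j := Spec.map (CommRingCat.ofHom (algebraMap R R₁))
  haveI : IsAffineHom (pullback.fst X.hom j) := MorphismProperty.pullback_fst (P := @IsAffineHom) _ _ inferInstance
  haveI : IsProper (pullback.snd X.hom j) := MorphismProperty.pullback_snd (P := @IsProper) _ _ inferInstance
  haveI : Flat (pullback.snd X.hom j) := MorphismProperty.pullback_snd (P := @Flat) _ _ inferInstance
  exact ⟨hreg, ‹_›, hdim, inferInstanceAs (Flat (pullback.snd X.hom j)),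
    isProjectiveOver_of_ample (pullback.snd X.hom j) (TMul.isAmple_pullback_of_isAffineHom (pullback.fst X.hom j) hL)⟩

/-- A chain of three points makes a space of dimension at most two two-dimensional. -/
theorem dim_eq_two_of_chain {Y : Scheme.{u}} (hle : topologicalKrullDim Y ≤ 2) {η z x : Y} (h₁ : η ⤳ z) (n₁ : η ≠ z)
    (h₂ : z ⤳ x) (n₂ : z ≠ x) : topologicalKrullDim Y = 2 := by
  refine hle.antisymm (show ((2 : ℕ) : WithBot ℕ∞) ≤ _ from
    Unibranch.natCast_le_topologicalKrullDim (α := Y) (k := 2) ![η, z, x] fun i => ?_)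
  fin_cases i
  · exact ⟨h₁, n₁⟩
  · exact ⟨h₂, n₂⟩

omit [IsDedekindDomain R₁] in
/-- The range of the localisation at a maximal ideal of a Dedekind domain. -/
theorem range_localization (p : Ideal R) [p.IsMaximal] [IsLocalization.AtPrime R₁ p] (q : PrimeSpectrum R) :
    q ∈ Set.range (Spec.map (CommRingCat.ofHom (algebraMap R R₁))) ↔ q.asIdeal = ⊥ ∨ q.asIdeal = p := by
  show q ∈ Set.range (PrimeSpectrum.comap (algebraMap R R₁)) ↔ _
  rw [PrimeSpectrum.localization_comap_range R₁ p.primeCompl, Set.mem_setOf_eq]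
  constructor
  · intro hd
    have hle : q.asIdeal ≤ p := fun t ht => by
      by_contra hc
      exact Set.disjoint_left.1 hd hc ht
    by_cases hq : q.asIdeal = ⊥
    · exact Or.inl hq
    · haveI := Ideal.IsPrime.isMaximal q.isPrime hq
      exact Or.inr (Ideal.IsMaximal.eq_of_le inferInstance (Ideal.IsMaximal.ne_top ‹_›) hle)
  · rintro (h | h) <;> refine Set.disjoint_left.2 fun t ht ht' => ?_
    · rw [h] at ht'
      exact ht ((Submodule.mem_bot R).1 ht' ▸ p.zero_mem)
    · exact ht (h ▸ ht' : t ∈ p)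

/-- The localisation of an arithmetic surface at a closed point of the base under a vertical curve. -/
theorem isArith_localize (p : Ideal R) [p.IsMaximal] [IsLocalization.AtPrime R₁ p] (hp : p ≠ ⊥)
    (X : Over (Spec (CommRingCat.of R))) (hX : ArSurf.IsArithSurface R X) {z x : X.left} (hzx : z ⤳ x) (hne : z ≠ x)
    (hz : (X.hom z).asIdeal = p) :
    ArSurf.IsArithSurface R₁ ((Over.pullback (Spec.map (CommRingCat.ofHom (algebraMap R R₁)))).obj X) := by
  haveI := hX.2.2.2.1
  haveI := hX.2.1
  haveI : Module.Flat R R₁ := IsLocalization.flat R₁ p.primeCompl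
  let j := Spec.map (CommRingCat.ofHom (algebraMap R R₁))
  haveI : Flat j := Flat.SpecMap_iff.2 (RingHom.flat_algebraMap_iff.2 inferInstance)
  haveI : IsPreimmersion j := IsPreimmersion.of_isLocalization p.primeCompl
  let X₁ := (Over.pullback j).obj X
  let f : X₁.left ⟶ X.left := pullback.fst X.hom j
  haveI : Flat f := MorphismProperty.pullback_fst (P := @Flat) _ _ inferInstance
  haveI : IsPreimmersion f := MorphismProperty.pullback_fst (P := @IsPreimmersion) _ _ inferInstance
  have hrange : ∀ v : X.left, v ∈ Set.range f ↔ (X.hom v).asIdeal = ⊥ ∨ (X.hom v).asIdeal = p := fun v => by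
    show v ∈ Set.range (pullback.fst X.hom j) ↔ _
    rw [Scheme.Pullback.range_fst, Set.mem_preimage]
    exact range_localization p _
  have hηb : (X.hom (genericPoint X.left)).asIdeal = ⊥ := by
    obtain ⟨w, hw, hw'⟩ := Flat.generalizingMap X.hom (a := genericPoint X.left)
      ((PrimeSpectrum.le_iff_specializes (⟨⊥, Ideal.isPrime_bot⟩ : PrimeSpectrum R) (X.hom (genericPoint X.left))).mp
        bot_le)
    rw [(hw.antisymm (genericPoint_specializes w)).eq] at hw'
    rw [hw']
  have hxp : (X.hom x).asIdeal = p := by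
    have h := (PrimeSpectrum.le_iff_specializes (X.hom z) (X.hom x)).2 (hzx.map X.hom.continuous)
    exact (Ideal.IsMaximal.eq_of_le ‹p.IsMaximal› (X.hom x).isPrime.ne_top (hz ▸ h)).symm
  obtain ⟨η', hη'⟩ := (hrange _).2 (Or.inl hηb)
  obtain ⟨z', hz'⟩ := (hrange _).2 (Or.inr hz)
  obtain ⟨x', hx'⟩ := (hrange _).2 (Or.inr hxp)
  haveI : ∀ v, IsIso (f.stalkMap v) := fun v => isIso_stalkMap_of_flat f v
  have hgen : ∀ v, η' ⤳ v := fun v => f.isEmbedding.isInducing.specializes_iff.1 (hη' ▸ genericPoint_specializes _)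
  have hreg : ∀ v, IsRegularLocalRing (X₁.left.presheaf.stalk v) := fun v => by
    haveI := hX.1 (f v)
    exact IsRegularLocalRing.of_ringEquiv (asIso (f.stalkMap v)).commRingCatIsoToRingEquiv
  haveI : IsReduced X₁.left := by
    haveI : ∀ v, _root_.IsReduced (X₁.left.presheaf.stalk v) := fun v => by
      haveI := hreg v
      haveI : IsDomain (X₁.left.presheaf.stalk v) := (Groth.Agent.S2821.result _).1
      infer_instance
    exact isReduced_of_isReduced_stalk _
  haveI : IrreducibleSpace X₁.left :=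
    { isPreirreducible_univ := by
        have : closure ({η'} : Set X₁.left) = Set.univ :=
          Set.eq_univ_of_forall fun v => specializes_iff_mem_closure.1 (hgen v)
        exact this ▸ isIrreducible_singleton.closure.2
      toNonempty := ⟨η'⟩ }
  haveI : IsIntegral X₁.left := isIntegral_of_irreducibleSpace_of_isReduced _
  refine isArith_baseChange_of_facts X hX hreg (dim_eq_two_of_chain
    (((f.isEmbedding.isInducing.topologicalKrullDim_le).trans hX.2.2.1.le))
    (η := η') (z := z') (x := x') (hgen z') ?_ (f.isEmbedding.isInducing.specializes_iff.1 (by rw [hz', hx']; exact hzx))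
    fun e => hne (by rw [← hz', ← hx', e]))
  intro e
  exact hp (hz.symm.trans (by rw [← hz', ← e, hη']; exact hηb))

/-- Étale base change of arithmetic surfaces. -/
theorem isArith_etale [Algebra.Etale R R₁] (hsurj : Function.Surjective (PrimeSpectrum.comap (algebraMap R R₁)))
    (X : Over (Spec (CommRingCat.of R))) (hX : ArSurf.IsArithSurface R X)
    [IsIntegral ((Over.pullback (Spec.map (CommRingCat.ofHom (algebraMap R R₁)))).obj X).left] :
    ArSurf.IsArithSurface R₁ ((Over.pullback (Spec.map (CommRingCat.ofHom (algebraMap R R₁)))).obj X) := by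
  haveI := hX.2.1
  haveI : Module.Flat R R₁ := inferInstance
  haveI := PtBlow.isProper_of_isProjectiveOver (Z := X) hX.2.2.2.2
  haveI : IsLocallyNoetherian X.left := LocallyOfFiniteType.isLocallyNoetherian X.hom
  let j := Spec.map (CommRingCat.ofHom (algebraMap R R₁))
  haveI : Etale j := HasRingHomProperty.Spec_iff.2 (RingHom.etale_algebraMap.2 ‹_›)
  haveI : Surjective j := ⟨hsurj⟩
  let f : ((Over.pullback j).obj X).left ⟶ X.left := pullback.fst X.hom j
  haveI : Etale f := MorphismProperty.pullback_fst (P := @Etale) _ _ inferInstance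
  haveI : Surjective f := MorphismProperty.pullback_fst (P := @Surjective) _ _ inferInstance
  haveI : LocallyQuasiFinite f := EtMV.lqf_of_etale f
  have hqf : ∀ {a b}, a ⤳ b → f a = f b → b = a := fun {a b} h e =>
    eq_of_specializes_qf f (f.quasiFiniteAt _) e.symm h
  refine isArith_baseChange_of_facts X hX (fun v => (Groth.Agent.S0065.result f v).2 (hX.1 _)) ?_
  have hle : topologicalKrullDim ((Over.pullback j).obj X).left ≤ ((2 : ℕ) : WithBot ℕ∞) :=
    Unibranch.topologicalKrullDim_le_natCast fun l c hc => by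
      have h := (Unibranch.natCast_le_topologicalKrullDim (α := X.left) (k := l) (fun i => f (c i)) fun i =>
        ⟨(hc i).1.map f.continuous, fun e => (hc i).2 (hqf (hc i).1 e).symm⟩).trans hX.2.2.1.le
      exact CartierDim.natCast_le_withBot.mp (show ((l : ℕ) : WithBot ℕ∞) ≤ ((2 : ℕ) : WithBot ℕ∞) from h)
  obtain ⟨c, hc⟩ := Unibranch.exists_chain_of_le_topologicalKrullDim (α := X.left) (k := 2) hX.2.2.1.ge
  obtain ⟨b, hb⟩ := f.surjective (c 2)
  obtain ⟨a, hab, ha⟩ := Flat.generalizingMap f (a := b) (show c 1 ⤳ f b by rw [hb]; exact (hc 1).1)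
  obtain ⟨o, hoa, ho⟩ := Flat.generalizingMap f (a := a) (show c 0 ⤳ f a by rw [ha]; exact (hc 0).1)
  exact dim_eq_two_of_chain hle hoa (fun e => (hc 0).2 (show c 0 = c 1 by rw [← ho, ← ha, e]))
    hab fun e => (hc 1).2 (show c 1 = c 2 by rw [← ha, ← hb, e])

end Groth.Agent.Castel
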