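import Groth.Agent.Castel.Gens
import Groth.Agent.PtBlow.Contraction
import Groth.Agent.PtBlow.Rational
import Groth.Agent.PtBlow.Universal
import Groth.Agent.BiratCodimTwo.Basic
import Groth.Agent.DimFormula.Scheme
import Groth.Agent.S10829
import Groth.Agent.RatBlow.Base
import Groth.Agent.RZExt.Consequences
import Mathlib.AlgebraicGeometry.ZariskisMainTheorem

/-!
Castelnuovo's criterion over a local base.
-/

set_option autoImplicit false
set_option backward.isDefEq.respectTransparency false
set_option backward.isDefEq.respectTransparency.types false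
set_option linter.style.haveILetI false

universe u

open CategoryTheory CategoryTheory.Limits AlgebraicGeometry TopologicalSpace Opposite
open Groth.Agent.QC (res resO resO_resO resO_self app_res res_smul res_self res_res)
open TMul (IsGen val homOf val_homOf)

noncomputable section

namespace Groth.Agent.Castel

/-- A line bundle with a global generator is trivial. -/
theorem nonempty_iso_of_isGen {X : Scheme.{u}} {L : X.Modules} {g : Γ(L, ⊤)} (hg : IsGen g) :
    Nonempty (Coh.structureModule X ≅ L) := by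
  haveI : IsIso (homOf g) := by
    rw [Scheme.Modules.Hom.isIso_iff_isIso_app]
    intro U
    rw [ConcreteCategory.isIso_iff_bijective]
    refine Eq.mpr (congrArg _ (funext fun c => ?_)) (hg U le_top)
    rw [TMul.app_eq_smul, val_homOf]
  exact ⟨asIso (homOf g)⟩

theorem subsingleton_chain_projLine {k : Type u} [Field k] (x' x : CohB1.ProjSpace 1 k)
    [IrreducibleSpace (CohB1.ProjSpace 1 k)] (h : x' ⤳ x) (hne : x' ≠ x) :
    x' = genericPoint (CohB1.ProjSpace 1 k) := by
  by_contra hgen
  have h2 := Unibranch.natCast_le_topologicalKrullDim (α := CohB1.ProjSpace 1 k) (k := 2)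
    ![genericPoint (CohB1.ProjSpace 1 k), x', x] (Fin.forall_fin_two.2
      ⟨⟨genericPoint_specializes _, fun e => hgen e.symm⟩, ⟨h, hne⟩⟩)
  have h3 := h2.trans (Groth.Agent.S10829.result k 1).le
  exact absurd h3 (by decide)

theorem le_one_or_two_le (d : WithBot ℕ∞) : d ≤ 1 ∨ 2 ≤ d := by
  rcases d with _ | (_ | n)
  · exact Or.inl bot_le
  · exact Or.inr (WithBot.coe_le_coe.2 le_top)
  · rcases Nat.lt_or_ge n 2 with h | h
    · exact Or.inl (WithBot.coe_le_coe.2 (WithTop.coe_le_coe.2 (Nat.lt_succ_iff.1 h)))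
    · exact Or.inr (WithBot.coe_le_coe.2 (WithTop.coe_le_coe.2 h))

theorem isIso_of_isIso_restrict_top {X Y : Scheme.{u}} (f : X ⟶ Y) [IsIso (f ∣_ ⊤)] : IsIso f := by
  rw [← MorphismProperty.isomorphisms.iff, IsZariskiLocalAtTarget.iff_of_iSup_eq_top
    (P := MorphismProperty.isomorphisms Scheme) (fun _ : PUnit.{1} => (⊤ : Y.Opens)) (iSup_const)]
  exact fun _ => MorphismProperty.isomorphisms.iff _ |>.2 inferInstance

/-- A generator of an invertible ideal on an open. -/
theorem exists_isGen_ideal {X : Scheme.{u}} {I : X.IdealSheafData} (hI : BlowUp.IsEffCartierIdeal I) {O : X.Opens}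
    (t : Γ(X, O)) (h : ∀ W : X.affineOpens, (hW : W.1 ≤ O) → I.ideal W = Ideal.span {resO X hW t}) :
    ∃ γ : Γ(ClSub.idealMod I, O), IsGen γ := by
  obtain ⟨γ, hγ⟩ : ∃ γ : Γ(ClSub.idealMod I, O), (ClSub.idealModι I).app O γ = t := by
    refine SiteCoh.sections_exact (CohFinite.shortExact_toAb (CurveRR.ideal_shortExact I)) O t
      (Groth.Agent.QC.section_eq_of_locally fun x hx => ?_)
    obtain ⟨W, hW, hxW, hWO⟩ := exists_isAffineOpen_mem_and_subset hx
    obtain ⟨a, ha⟩ := (Groth.Agent.QC.mem_range_idealModι_affine I ⟨W, hW⟩ (resO X hWO t)).2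
      (h ⟨W, hW⟩ hWO ▸ Ideal.mem_span_singleton_self _)
    refine ⟨W, hWO, hxW, ?_⟩
    change res (ClSub.quotMod I) hWO ((ClSub.toSubscheme I).app O t) = res (ClSub.quotMod I) hWO 0
    rw [map_zero]
    refine (app_res (ClSub.toSubscheme I) hWO t).trans ?_
    rw [show res (Coh.structureModule X) hWO t = (ClSub.idealModι I).app W a from ha.symm]
    exact ConcreteCategory.congr_hom (congrArg (fun φ => Scheme.Modules.Hom.app φ W)
      (kernel.condition (ClSub.toSubscheme I))) a
  refine ⟨γ, MeroLib.isGen_of_locally γ fun x hx => ?_⟩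
  obtain ⟨W, hxW, hWO, g, hg, hge⟩ := BlowUpLib.exists_small_generator hI (O := O) (x := x) hx
  refine ⟨W.1, hWO, hxW, PtBlow.isGen_of_ideal hI (f := resO X hWO t) ?_ ?_ (h W hWO)⟩
  · rw [← hγ]
    exact app_res (ClSub.idealModι I) hWO γ
  · rw [h W hWO] at hge
    obtain ⟨r, hr⟩ := Ideal.mem_span_singleton'.1 (hge.ge (Ideal.mem_span_singleton_self g))
    refine mem_nonZeroDivisors_iff_right.2 fun z hz => ?_
    refine (mul_right_mem_nonZeroDivisors_eq_zero_iff hg).1 ?_
    rw [← hr, show z * (r * resO X hWO t) = r * (z * resO X hWO t) by ring, hz, mul_zero]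

/-- An integral open with complement in a Cartier divisor forces integrality. -/
theorem isIntegral_of_dense {X : Scheme.{u}} {I : X.IdealSheafData} (hI : BlowUp.IsEffCartierIdeal I) (U : X.Opens)
    [IsIntegral U.toScheme] (h : ∀ x, x ∉ I.support → x ∈ U) : IsIntegral X := by
  haveI : IsReduced X := by
    haveI : ∀ V : X.Opens, _root_.IsReduced Γ(X, V) := fun V => ⟨fun s hs => by
      refine TopCat.Presheaf.section_ext X.sheaf V _ _ fun x hx => ?_
      obtain ⟨W, hxW, hWV, g, hg, hge⟩ := BlowUpLib.exists_small_generator hI (O := V) (x := x) hx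
      have h0 : resO X hWV s = 0 := by
        refine BlowUpLib.eq_zero_of_germ hg _ fun y hy => ?_
        have hyU : y ∈ U := h y fun hm =>
          ((BlowUpLib.mem_basicOpen_of_notMem_support (I := I) hge (X.basicOpen_le g hy)).2 hy) hm
        haveI : _root_.IsReduced (X.presheaf.stalk y) :=
          isReduced_of_injective (U.stalkIso ⟨y, hyU⟩).inv.hom
            (ConcreteCategory.bijective_of_isIso (U.stalkIso ⟨y, hyU⟩).inv).1
        exact (hs.map ((X.presheaf.germ W.1 y (X.basicOpen_le g hy)).hom.comp (resO X hWV))).eq_zero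
      refine Eq.trans ?_ (map_zero _).symm
      refine ((X.presheaf.germ_res_apply (homOfLE hWV) x hxW s).symm.trans ?_)
      exact (congrArg _ h0).trans (map_zero _)⟩
    exact ⟨this⟩
  haveI : Nonempty X := (inferInstance : Nonempty U.toScheme).map U.ι
  haveI : IrreducibleSpace X := by
    have hd : closure (U : Set X) = Set.univ := Set.eq_univ_of_forall fun x => by
      let Z := irreducibleComponent x
      have hZ := irreducibleComponent_mem_irreducibleComponents x
      have hxZ : x ∈ Z := mem_irreducibleComponent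
      obtain ⟨ζ, hζ⟩ := QuasiSober.sober hZ.1 (isClosed_of_mem_irreducibleComponents Z hZ)
      have hζU : ζ ∈ U := h ζ (BlowUpLib.notMem_support_of_maximalPt hI fun y hy => by
        have h1 : Z ⊆ closure {y} := by
          rw [show Z = closure {ζ} from hζ.def.symm]
          exact isClosed_closure.closure_subset_iff.2 (Set.singleton_subset_iff.2 (specializes_iff_mem_closure.1 hy))
        exact IsGenericPoint.eq (show IsGenericPoint y Z from
          subset_antisymm (hZ.2 (isIrreducible_singleton.closure) h1) h1) hζ)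
      exact closure_mono (Set.singleton_subset_iff.2 hζU) ((hζ.specializes hxZ).mem_closure)
    have hirr : IsIrreducible (U : Set X) := by
      rw [← Scheme.Opens.range_ι U, ← Set.image_univ]
      exact (IrreducibleSpace.isIrreducible_univ U.toScheme).image _ U.ι.continuous.continuousOn
    refine (irreducibleSpace_def X).2 ?_
    rw [Set.top_eq_univ, ← hd]
    exact hirr.closure
  exact isIntegral_of_irreducibleSpace_of_isReduced X

variable {A : Type u} [CommRing A] [IsLocalRing A]

/-- the stalk at the closed point -/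
theorem exists_stalkEquiv (A : Type u) [CommRing A] [IsLocalRing A] :
    Nonempty (A ≃+* (Spec (CommRingCat.of A)).presheaf.stalk (IsLocalRing.closedPoint A)) := by
  have hu : ∀ x ∈ (IsLocalRing.closedPoint A).asIdeal.primeCompl, IsUnit x := fun x hx =>
    IsLocalRing.notMem_maximalIdeal.1 hx
  exact ⟨(IsLocalization.atUnits A (IsLocalRing.closedPoint A).asIdeal.primeCompl hu
    (S := (Spec.structureSheaf A).presheaf.stalk (IsLocalRing.closedPoint A))).toRingEquiv⟩

/-- the ideal of the closed point -/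
def ptIdeal (A : Type u) [CommRing A] [IsLocalRing A] : (Spec (CommRingCat.of A)).IdealSheafData :=
  Scheme.IdealSheafData.ofIdealTop ((IsLocalRing.maximalIdeal A).map (Scheme.ΓSpecIso (CommRingCat.of A)).inv.hom)

theorem ptIdeal_eq (h : IsClosed ({IsLocalRing.closedPoint A} : Set (Spec (CommRingCat.of A)))) :
    Scheme.IdealSheafData.vanishingIdeal ⟨_, h⟩ = ptIdeal A := by
  let V := Scheme.IdealSheafData.vanishingIdeal (X := Spec (CommRingCat.of A)) ⟨_, h⟩
  let T : (Spec (CommRingCat.of A)).affineOpens := ⟨⊤, isAffineOpen_top _⟩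
  have hJ : (ptIdeal A).ideal T =
      (IsLocalRing.maximalIdeal A).map (Scheme.ΓSpecIso (CommRingCat.of A)).inv.hom := by
    rw [ptIdeal, Scheme.IdealSheafData.ofIdealTop_ideal]
    simp only [T, homOfLE_refl, op_id, CategoryTheory.Functor.map_id, CommRingCat.hom_id, Ideal.map_id]
  have hmax : ((ptIdeal A).ideal T).IsMaximal := by
    rw [hJ]
    exact Ideal.map_isMaximal_of_equiv (Scheme.ΓSpecIso (CommRingCat.of A)).symm.commRingCatIsoToRingEquiv
  have hne : V.ideal T ≠ ⊤ := fun e => by
    have h1 : IsLocalRing.closedPoint A ∈ (V.support : Set (Spec (CommRingCat.of A))) := by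
      rw [Scheme.IdealSheafData.coe_support_vanishingIdeal]
      rfl
    rw [SetLike.mem_coe, Scheme.IdealSheafData.mem_support_iff_of_mem (U := T) trivial] at h1
    rw [e] at h1
    rw [Scheme.mem_zeroLocus_iff] at h1
    exact h1 1 trivial (by rw [Scheme.basicOpen_of_isUnit _ isUnit_one]; trivial)
  have hle : ptIdeal A ≤ V := by
    refine Scheme.IdealSheafData.le_support_iff_le_vanishingIdeal.1 ?_
    rintro z (rfl : z = IsLocalRing.closedPoint A)
    rw [Scheme.IdealSheafData.mem_support_iff_of_mem (U := T) trivial, Scheme.mem_zeroLocus_iff]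
    intro s hs hzs
    rw [Scheme.mem_basicOpen _ _ _ (show IsLocalRing.closedPoint A ∈ T.1 from trivial)] at hzs
    rw [hJ] at hs
    obtain ⟨a, ha, rfl⟩ := (Ideal.mem_map_iff_of_surjective _
      (Scheme.ΓSpecIso (CommRingCat.of A)).symm.commRingCatIsoToRingEquiv.surjective).1 hs
    have h2 : IsLocalRing.closedPoint A ∈ (Spec (CommRingCat.of A)).basicOpen
        ((Scheme.ΓSpecIso (CommRingCat.of A)).inv.hom a) := (Scheme.mem_basicOpen _ _ _ (show IsLocalRing.closedPoint A ∈ T.1 from trivial)).2 hzs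
    rw [basicOpen_eq_of_affine] at h2
    exact h2 ha
  refine le_antisymm (Scheme.IdealSheafData.le_of_isAffine ?_) hle
  exact ((Ideal.isMaximal_def.1 hmax).le_iff.1 (hle T)).resolve_left hne |>.le

variable {X : Scheme.{u}} [X.Over (Spec (CommRingCat.of A))]

theorem comap_ptIdeal (W : X.affineOpens) :
    ((ptIdeal A).comap (X ↘ Spec (CommRingCat.of A))).ideal W = (IsLocalRing.maximalIdeal A).map (baseFun W.1) := by
  let T : (Spec (CommRingCat.of A)).affineOpens := ⟨⊤, isAffineOpen_top _⟩
  rw [show ((ptIdeal A).comap (X ↘ Spec (CommRingCat.of A))).ideal W = _ from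
      Groth.Agent.FpqcDescent.ideal_comap_appLE _ (X ↘ Spec (CommRingCat.of A)) T W le_top,
    ptIdeal, Scheme.IdealSheafData.ofIdealTop_ideal]
  simp only [T, homOfLE_refl, op_id, CategoryTheory.Functor.map_id, CommRingCat.hom_id, Ideal.map_id, Ideal.map_map]
  rfl

theorem exists_pow_le [IsNoetherian X] (I J : X.IdealSheafData)
    (h : (J.support : Set X) ⊆ I.support) : ∃ c : ℕ, ∀ W : X.affineOpens, I.ideal W ^ c ≤ J.ideal W := by
  have loc : ∀ W : X.affineOpens, ∃ c : ℕ, I.ideal W ^ c ≤ J.ideal W := fun W => by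
    haveI : IsNoetherianRing Γ(X, W.1) := IsLocallyNoetherian.component_noetherian W
    refine Ideal.exists_pow_le_of_le_radical_of_fg ?_ (IsNoetherian.noetherian _)
    intro t ht
    rw [Ideal.radical_eq_sInf, Submodule.mem_sInf]
    rintro p ⟨hp, hpp⟩
    haveI := hpp
    have h1 : W.2.fromSpec ⟨p, hpp⟩ ∈ (J.support : Set X) := by
      have h3 : W.2.fromSpec ⟨p, hpp⟩ ∈ W.1 := by
        have := W.2.range_fromSpec
        exact this.subset ⟨_, rfl⟩
      rw [SetLike.mem_coe, Scheme.IdealSheafData.mem_support_iff_of_mem h3, Scheme.mem_zeroLocus_iff]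
      intro s hs hmem
      have : (⟨p, hpp⟩ : PrimeSpectrum Γ(X, W.1)) ∈ W.2.fromSpec ⁻¹ᵁ X.basicOpen s := hmem
      rw [W.2.fromSpec_preimage_basicOpen] at this
      exact this (hp hs)
    have h2 := h h1
    have h3 : W.2.fromSpec ⟨p, hpp⟩ ∈ W.1 := W.2.range_fromSpec.subset ⟨_, rfl⟩
    rw [SetLike.mem_coe, Scheme.IdealSheafData.mem_support_iff_of_mem h3, Scheme.mem_zeroLocus_iff] at h2
    by_contra htp
    refine h2 t ht ?_
    have : (⟨p, hpp⟩ : PrimeSpectrum Γ(X, W.1)) ∈ W.2.fromSpec ⁻¹ᵁ X.basicOpen t := by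
      rw [W.2.fromSpec_preimage_basicOpen]
      exact htp
    exact this
  choose c hc using loc
  obtain ⟨s, hs⟩ := (isCompact_univ : IsCompact (Set.univ : Set X)).elim_finite_subcover
    (fun W : X.affineOpens => (W.1 : Set X)) (fun W => W.1.2) (fun x _ => by
      obtain ⟨W, hW, hxW, -⟩ := exists_isAffineOpen_mem_and_subset (x := x) (U := ⊤) trivial
      exact Set.mem_iUnion.2 ⟨⟨W, hW⟩, hxW⟩)
  refine ⟨s.sup c, fun W => ?_⟩
  have hcc : I ^ (s.sup c) ≤ J := by
    refine Scheme.IdealSheafData.le_of_iSup_eq_top (fun W : s => W.1) (eq_top_iff.2 fun x _ => ?_) fun W => ?_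
    · obtain ⟨W, hW, hxW⟩ := Set.mem_iUnion₂.1 (hs (Set.mem_univ x))
      exact Opens.mem_iSup.2 ⟨⟨W, hW⟩, hxW⟩
    · rw [Scheme.IdealSheafData.ideal_pow]
      exact (Ideal.pow_le_pow_right (Finset.le_sup W.2)).trans (hc W.1)
  have := hcc W
  rwa [Scheme.IdealSheafData.ideal_pow] at this

variable [IsNoetherianRing A] [IsProper (X ↘ Spec (CommRingCat.of A))] {k : Type u} [Field k]
  {I : X.IdealSheafData}

/-- the punctured spectrum -/
def punct (A : Type u) [CommRing A] [IsLocalRing A] : (Spec (CommRingCat.of A)).Opens :=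
  (ptIdeal A).support.compl

theorem mem_support_ptIdeal (z : Spec (CommRingCat.of A)) :
    z ∈ (ptIdeal A).support ↔ z = IsLocalRing.closedPoint A := by
  have h : IsClosed ({IsLocalRing.closedPoint A} : Set (Spec (CommRingCat.of A))) :=
    IsLocalRing.isClosed_singleton_closedPoint A
  rw [← ptIdeal_eq h, ← SetLike.mem_coe, Scheme.IdealSheafData.coe_support_vanishingIdeal]
  rfl

/-- Castelnuovo over a local base: the base is regular of dimension two and `X` is its blow-up. -/
theorem local_blowUp (hA : Function.Bijective (Coh.toGlobal (X ↘ Spec (CommRingCat.of A))))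
    (hI : BlowUp.IsEffCartierIdeal I)
    (ι₀ : CohB1.ProjSpace 1 k ⟶ X) [IsClosedImmersion ι₀] (hker : ι₀.ker = I)
    (e : (Scheme.Modules.pullback ι₀).obj (ClSub.idealMod I) ≅ Twist.twistProjSpace 1 k 1)
    (hfib : ∀ x : X, (X ↘ Spec (CommRingCat.of A)) x = IsLocalRing.closedPoint A ↔ x ∈ I.support)
    (hiso : IsIso ((X ↘ Spec (CommRingCat.of A)) ∣_ punct A)) :
    IsRegularLocalRing A ∧ ringKrullDim A = 2 ∧
      BlowUp.IsBlowUp (X ↘ Spec (CommRingCat.of A)) (ptIdeal A) ∧
      (ptIdeal A).comap (X ↘ Spec (CommRingCat.of A)) = I := by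
  haveI : IsLocallyNoetherian X := LocallyOfFiniteType.isLocallyNoetherian (X ↘ Spec (CommRingCat.of A))
  haveI : CompactSpace X := QuasiCompact.compactSpace_of_compactSpace (X ↘ Spec (CommRingCat.of A))
  haveI : IsNoetherian X := {}
  set f := X ↘ Spec (CommRingCat.of A) with hf
  haveI : IsIntegral (CohB1.ProjSpace 1 k) := Horrocks.isIntegral_projSpace
  have hrange : (I.support : Set X) = Set.range ι₀ := by
    rw [← hker, Scheme.Hom.support_ker, ι₀.isClosedMap.isClosed_range.closure_eq]
  have hsupp : (((ptIdeal A).comap f).support : Set X) = I.support := by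
    ext x
    rw [Scheme.IdealSheafData.support_comap]
    exact (mem_support_ptIdeal (f x)).trans (hfib x)
  obtain ⟨c, hc⟩ := exists_pow_le I ((ptIdeal A).comap f) hsupp.subset
  obtain ⟨a, b, hab, hideal⟩ := exists_gens hA hI ι₀ hker e (fun x hx => (hfib x).1 hx)
    (fun W => (hc W).trans (comap_ptIdeal W).le)
  have hcomap : (ptIdeal A).comap f = I := by
    ext W : 2
    rw [comap_ptIdeal, hideal]
  have hinj : ∀ x x' : X, f x = f x' → f x ≠ IsLocalRing.closedPoint A → x = x' := by
    intro x x' h hne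
    have hx : f x ∈ punct A := fun hm => hne ((mem_support_ptIdeal _).1 hm)
    have := (f ∣_ punct A).isOpenEmbedding.injective (a₁ := ⟨x, hx⟩) (a₂ := ⟨x', show f x' ∈ punct A from h ▸ hx⟩)
      (Subtype.ext (by rw [morphismRestrict_base_coe, morphismRestrict_base_coe]; exact h))
    exact congrArg Subtype.val this
  let η : X := ι₀ (genericPoint (CohB1.ProjSpace 1 k))
  have hηI : η ∈ (I.support : Set X) := hrange ▸ ⟨_, rfl⟩
  have hfη : f η = IsLocalRing.closedPoint A := (hfib η).2 hηI
  -- a maximal point above the curve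
  obtain ⟨ζ, hζη, hζI⟩ : ∃ ζ : X, ζ ⤳ η ∧ ζ ∉ I.support := by
    let Z := irreducibleComponent η
    have hZ := irreducibleComponent_mem_irreducibleComponents η
    have hηZ : η ∈ Z := mem_irreducibleComponent
    obtain ⟨ζ, hζ⟩ := QuasiSober.sober hZ.1 (isClosed_of_mem_irreducibleComponents Z hZ)
    refine ⟨ζ, hζ.specializes hηZ, BlowUpLib.notMem_support_of_maximalPt hI fun y hy => ?_⟩
    have h1 : Z ⊆ closure {y} := by
      rw [show Z = closure {ζ} from hζ.def.symm]
      exact isClosed_closure.closure_subset_iff.2 (Set.singleton_subset_iff.2 (specializes_iff_mem_closure.1 hy))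
    have h2 : closure {y} = Z :=
      subset_antisymm ((hZ.2 (isIrreducible_singleton.closure) h1)) h1
    exact (IsGenericPoint.eq (show IsGenericPoint y Z from h2) hζ)
  have hfζ : f ζ ≠ IsLocalRing.closedPoint A := fun h => hζI ((hfib ζ).1 h)
  have hdim : (2 : WithBot ℕ∞) ≤ ringKrullDim A := by
    by_contra hlt
    have hle : ringKrullDim A ≤ 1 := by
      rcases Groth.Agent.Castel.le_one_or_two_le (ringKrullDim A) with h | h
      · exact h
      · exact absurd h hlt
    have hY : topologicalKrullDim (Spec (CommRingCat.of A)) ≤ ((1 : ℕ) : WithBot ℕ∞) := by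
      have : topologicalKrullDim (PrimeSpectrum A) = ringKrullDim A := PrimeSpectrum.topologicalKrullDim_eq_ringKrullDim A
      exact this.trans_le hle
    obtain ⟨p₀, hp₀⟩ : ∃ p₀ : CohB1.ProjSpace 1 k, p₀ ≠ genericPoint (CohB1.ProjSpace 1 k) := by
      by_contra! hall
      haveI : Subsingleton (CohB1.ProjSpace 1 k) := ⟨fun p q => (hall p).trans (hall q).symm⟩
      have h0 : topologicalKrullDim (CohB1.ProjSpace 1 k) ≤ ((0 : ℕ) : WithBot ℕ∞) :=
        Unibranch.topologicalKrullDim_le_natCast fun l c hc => by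
          rcases l with _ | l
          · exact le_rfl
          · exact absurd (Subsingleton.elim _ _) (hc 0).2
      rw [Groth.Agent.S10829.result k 1] at h0
      exact absurd h0 (by decide)
    have hchain : f η = f (ι₀ p₀) := hfη.trans ((hfib _).2 (hrange.symm.subset ⟨_, rfl⟩)).symm
    have key := DimFormula.dimension_inequality f (ζ := ζ) (x := η) hζη (a := 1) (c := 1) (d := 1) (e := 0)
      ⟨![ζ, η], fun i => by fin_cases i; exact ⟨hζη, fun h => hζI (by rw [show ζ = η from h]; exact hηI)⟩, specializes_rfl, rfl⟩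
      (fun m c' h1 _ _ => by
        have := (Unibranch.natCast_le_topologicalKrullDim c' h1).trans hY
        exact_mod_cast this)
      ⟨![η, ι₀ p₀], fun i => by
        fin_cases i
        · exact ⟨subset_closure rfl, rfl⟩
        · exact ⟨specializes_iff_mem_closure.1 ((genericPoint_specializes p₀).map ι₀.continuous), hchain.symm⟩,
        fun i => by
          fin_cases i
          exact ⟨(genericPoint_specializes p₀).map ι₀.continuous,
            fun h => hp₀ (ι₀.isClosedEmbedding.injective h).symm⟩⟩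
      (fun m c' h1 h2 => by
        rcases m with _ | m
        · exact le_rfl
        exact absurd ((hinj _ _ ((h1 0).2.symm ▸ rfl) ((h1 0).2.symm ▸ hfζ)).trans
          (hinj ζ _ ((h1 1).2.symm) hfζ) ) (h2 0).2)
    omega
  haveI : IsRegularLocalRing A := by
    refine IsRegularLocalRing.of_spanFinrank_maximalIdeal_le A (le_trans ?_ hdim)
    have h1 : (IsLocalRing.maximalIdeal A).spanFinrank ≤ 2 := by
      rw [hab]
      refine (Submodule.spanFinrank_span_le_ncard_of_finite (Set.toFinite _)).trans ?_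
      exact (Set.ncard_insert_le _ _).trans (by rw [Set.ncard_singleton])
    exact_mod_cast h1
  have hdim2 : ringKrullDim A = 2 := by
    refine le_antisymm ?_ hdim
    refine (ringKrullDim_le_spanFinrank_maximalIdeal A).trans ?_
    have h1 : (IsLocalRing.maximalIdeal A).spanFinrank ≤ 2 := by
      rw [hab]
      refine (Submodule.spanFinrank_span_le_ncard_of_finite (Set.toFinite _)).trans ?_
      exact (Set.ncard_insert_le _ _).trans (by rw [Set.ncard_singleton])
    exact_mod_cast h1
  refine ⟨inferInstance, hdim2, ?_, hcomap⟩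
  -- the base
  haveI : IsDomain A := (PtBlow.isNormal_of_regular (R := A)).1
  haveI : IsIntegrallyClosed A := (PtBlow.isNormal_of_regular (R := A)).2
  haveI : IsIntegral (Spec (CommRingCat.of A)) := inferInstance
  have hclosed : IsClosed ({IsLocalRing.closedPoint A} : Set (Spec (CommRingCat.of A))) :=
    IsLocalRing.isClosed_singleton_closedPoint A
  obtain ⟨φ'⟩ := exists_stalkEquiv A
  let φ := φ'.symm
  have hy : PtBlow.IsRegPt (Spec (CommRingCat.of A)) (IsLocalRing.closedPoint A) :=
    ⟨hclosed, IsRegularLocalRing.of_ringEquiv φ.symm, (ringKrullDim_eq_of_ringEquiv φ).trans hdim2⟩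
  haveI : IsAffine (Spec (CommRingCat.of A)) := inferInstance
  obtain ⟨P, g, hg⟩ := PtBlow.exists_blowUp hy
  haveI : IsProper g := PtBlow.isProper_blowUp hy hg
  haveI : IsNoetherian P := PtBlow.isNoetherian_blowUp hy hg
  haveI : (Coh.structureModule (Spec (CommRingCat.of A))).IsQuasicoherent := Groth.Agent.QC.isQCoh_unit _
  have hnS : Pi1.IsNormalScheme (Spec (CommRingCat.of A)) := RatBlow.isNormal_spec
  obtain ⟨hPi, hPn, -⟩ := PtBlow.Seq.normal_h1 (PtBlow.Seq.single hy hg) inferInstance hnS
    (PtBlow.subsingleton_hh_of_isAffine _)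
  haveI := hPi
  have hpt : PtBlow.pt hy = ptIdeal A := ptIdeal_eq _
  obtain ⟨h, hh, -⟩ := hg.2 X f (by rw [hpt, hcomap]; exact hI)
  haveI : IsProper (h ≫ g) := by rw [hh]; infer_instance
  haveI : IsProper h := IsProper.of_comp h g
  have hgiso : IsIso (g ∣_ punct A) := by
    have := BlowUpLib.isIso_restrict hg
    rwa [hpt] at this
  have hhiso : IsIso (h ∣_ g ⁻¹ᵁ punct A) := by
    haveI := hgiso
    haveI : IsIso ((h ≫ g) ∣_ punct A) := by rw [hh]; exact hiso
    rw [morphismRestrict_comp] at *
    exact IsIso.of_isIso_comp_right (h ∣_ g ⁻¹ᵁ punct A) (g ∣_ punct A)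
  -- the curve is not contracted
  have hsep : ∀ p : P, ¬ ∀ z, h (ι₀ z) = p := by
    intro p hp
    obtain ⟨V, hpV, t, ht, hte⟩ := hg.1 p
    have hIJ : ((PtBlow.pt hy).comap g).comap h = I := by
      rw [← Scheme.IdealSheafData.comap_comp, hh, hpt, hcomap]
    let t' : Γ(X, h ⁻¹ᵁ V.1) := h.app V.1 t
    have hgen : ∀ W : X.affineOpens, (hW : W.1 ≤ h ⁻¹ᵁ V.1) →
        I.ideal W = Ideal.span {resO X hW t'} := fun W hW => by
      rw [← hIJ, show (((PtBlow.pt hy).comap g).comap h).ideal W = _ from
        Groth.Agent.FpqcDescent.ideal_comap_appLE _ h V W hW]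
      change Ideal.map _ (((PtBlow.pt hy).comap g).ideal V) = _
      rw [show ((PtBlow.pt hy).comap g).ideal V = Ideal.span {t} from hte, Ideal.map_span, Set.image_singleton]
      rfl
    obtain ⟨γ, hγ⟩ := exists_isGen_ideal hI t' hgen
    have hM : PicF.IsInvertible (Twist.twistProjSpace 1 k 1) := CohFinite.isInvertible_twist 1 k 1
    have hgenT := SymAlg.isGen_pullθ ι₀ e.symm hM (TMul.isQCoh_of_isInvertible ((S8914.result I).2 hI)) γ hγ
    have htop : (⊤ : (CohB1.ProjSpace 1 k).Opens) ≤ ι₀ ⁻¹ᵁ (h ⁻¹ᵁ V.1) := fun z _ => by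
      show h (ι₀ z) ∈ V.1
      rw [hp z]
      exact hpV
    obtain ⟨u⟩ := nonempty_iso_of_isGen (hgenT.res htop)
    obtain ⟨v⟩ := Horrocks.Om_zero (k := k) (d := 1)
    exact absurd (PtBlow.Line.eq_of_iso (v ≪≫ u)) (by norm_num)
  haveI : LocallyQuasiFinite h := by
    refine LocallyQuasiFinite.of_finite_preimage_singleton h fun p => ?_
    refine BiratCodimTwo.finite_of_no_specializations h p fun x x' hx hx' hspec => ?_
    by_contra hne
    by_cases hxE : x' ∈ (I.support : Set X)
    · obtain ⟨z', rfl⟩ := hrange.subset hxE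
      obtain ⟨z, rfl⟩ := hrange.subset (hspec.mem_closed I.support.isClosed hxE)
      have hz' := subsingleton_chain_projLine z' z (ι₀.isClosedEmbedding.toIsInducing.specializes_iff.1 hspec)
        fun e => hne (congrArg ι₀ e)
      -- the generic point goes to a closed point
      have hcl : IsClosed ({p} : Set P) := by
        have h1 : IsClosed (h '' closure {ι₀ z}) := h.isClosedMap _ isClosed_closure
        have hzcl : IsClosed ({z} : Set (CohB1.ProjSpace 1 k)) := by
          rw [← closure_eq_iff_isClosed]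
          refine subset_antisymm (fun w hw => ?_) subset_closure
          by_contra hwz
          have := subsingleton_chain_projLine z w (specializes_iff_mem_closure.2 hw) fun e => hwz e.symm
          exact hne (congrArg ι₀ (hz'.trans this.symm))
        rw [(ι₀.isClosedMap _ hzcl |> fun h2 => by simpa using h2 : IsClosed {ι₀ z}).closure_eq,
          Set.image_singleton, hx] at h1
        exact h1
      refine hsep p fun w => ?_
      have h1 : h (ι₀ w) ∈ closure {p} := by
        rw [← hx', hz']
        exact specializes_iff_mem_closure.1 (((genericPoint_specializes w).map ι₀.continuous).map h.continuous)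
      rwa [hcl.closure_eq] at h1
    · have hne' : f x' ≠ IsLocalRing.closedPoint A := fun h1 => hxE ((hfib x').1 h1)
      refine hne (hinj x' x ?_ hne')
      rw [← hh, Scheme.Hom.comp_apply, Scheme.Hom.comp_apply, hx, hx']
  haveI : IsFinite h := IsFinite.of_isProper_of_locallyQuasiFinite h
  -- integrality
  have hpne : ((punct A : (Spec (CommRingCat.of A)).Opens) : Set (Spec (CommRingCat.of A))).Nonempty :=
    ⟨f ζ, fun hm => hfζ ((mem_support_ptIdeal _).1 hm)⟩
  haveI : Nonempty (punct A).toScheme := hpne.to_subtype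
  haveI : IsIntegral (punct A).toScheme := isIntegral_of_isOpenImmersion (punct A).ι
  haveI := hiso
  haveI : Nonempty (f ⁻¹ᵁ punct A).toScheme := ⟨⟨ζ, fun hm => hfζ ((mem_support_ptIdeal _).1 hm)⟩⟩
  haveI : IsIntegral (f ⁻¹ᵁ punct A).toScheme := isIntegral_of_isOpenImmersion (f ∣_ punct A)
  haveI : IsIntegral X := isIntegral_of_dense hI (f ⁻¹ᵁ punct A)
    (fun x hx => fun hm => hx ((hfib x).1 ((mem_support_ptIdeal _).1 hm)))
  have hPne : ((g ⁻¹ᵁ punct A : P.Opens) : Set P).Nonempty :=
    ⟨h ζ, show g (h ζ) ∈ punct A by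
      rw [← Scheme.Hom.comp_apply, hh]; exact fun hm => hfζ ((mem_support_ptIdeal _).1 hm)⟩
  haveI := hhiso
  haveI : IsAffineHom (h ∣_ (⊤ : P.Opens)) := inferInstance
  haveI : IsIso (h ∣_ (⊤ : P.Opens)) := BiratCodimTwo.isIso_restrict_of_isAffineHom h
    (PtBlow.bijective_app_of_birational h hPn (g ⁻¹ᵁ punct A) hPne) ⊤
  haveI : IsIso h := isIso_of_isIso_restrict_top h
  rw [← hh]
  exact RZExt.isBlowUp_iso_comp (hpt ▸ hg) h

end Groth.Agent.Castel
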