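import Groth.Agent.Castel.Gens
import Groth.Agent.Castel.EulerAdd
import Groth.Agent.RatBlow.Sections

/-!
Powers of an invertible ideal over a local base: vanishing of `H¹` and the two generator trick.
-/

set_option autoImplicit false
set_option backward.isDefEq.respectTransparency false
set_option backward.isDefEq.respectTransparency.types false
set_option linter.style.haveILetI false
set_option linter.unusedSectionVars false

universe u

open CategoryTheory CategoryTheory.Limits AlgebraicGeometry TopologicalSpace Opposite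
open Groth.Agent.QC (res resO resO_resO resO_self app_res res_smul res_self res_res)
open Groth.Agent.CohFinite (tmap tmap_tm shortExact_tmap)
open Groth.Agent.W7Rees (hm qπ)
open TMul (tm)

noncomputable section

namespace Groth.Agent.Castel

variable {X : Scheme.{u}}

/-- Multiplying by the ideal is surjective on `H¹` when the graded piece has none. -/
theorem surjective_h1_idealIncl_of_quot [IsLocallyNoetherian X] {I : X.IdealSheafData} {G : X.Modules}
    (hG : PicF.IsInvertible G) (h3 : Subsingleton (Coh.HH X (CohB1.tensorMod (ClSub.quotMod I) G) 1)) :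
    Function.Surjective (hm (CurveRR.idealIncl I G) 1) := by
  intro x
  have hS := shortExact_tmap hG (CurveRR.ideal_shortExact I)
  have hT := hS.map_of_exact (CohQC.toAbF X)
  let u := TMul.leftUnitIso G
  obtain ⟨y, hy⟩ := (CohFinite.map_g_eq_zero_iff hT 1 (hm u.inv 1 x)).1 (@Subsingleton.elim _ h3 _ _)
  refine ⟨y, (W7Rees.hm_comp (tmap (ClSub.idealModι I) G) u.hom 1 y).trans ?_⟩
  rw [show hm (tmap (ClSub.idealModι I) G) 1 y = hm u.inv 1 x from hy]
  refine (W7Rees.hm_comp u.inv u.hom 1 x).symm.trans ?_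
  rw [u.inv_hom_id]
  exact (congrArg (fun φ => Sheaf.H.map φ 1 x) (CategoryTheory.Functor.map_id _ _)).trans (Sheaf.H.map_id_apply _)

/-- The first cohomology of every power vanishes over a local base when the graded pieces have none. -/
theorem subsingleton_h1_ipow' {A : Type u} [CommRing A] [X.Over (Spec (CommRingCat.of A))] [IsNoetherianRing A]
    [IsLocalRing A] [IsProper (X ↘ Spec (CommRingCat.of A))]
    {I : X.IdealSheafData} (hI : BlowUp.IsEffCartierIdeal I)
    (hgr : ∀ n, Subsingleton (Coh.HH X (CohB1.tensorMod (ClSub.quotMod I) (ipow I n)) 1))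
    {c : ℕ} (hc : ∀ W : X.affineOpens, I.ideal W ^ c ≤ (IsLocalRing.maximalIdeal A).map (baseFun W.1))
    (n : ℕ) : Subsingleton (Coh.HH X (ipow I n) 1) := by
  haveI : IsLocallyNoetherian X := LocallyOfFiniteType.isLocallyNoetherian (X ↘ Spec (CommRingCat.of A))
  set 𝔪 := IsLocalRing.maximalIdeal A with hmdef
  have hF : Coh.IsCoh (ipow I n) := ⟨TMul.isQCoh_of_isInvertible (isInvertible_ipow hI n),
    TMul.isFT_of_isInvertible (isInvertible_ipow hI n)⟩
  haveI := CohFinite.finite_proper (A := A) X (ipow I n) hF 1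
  have hsurj : ∀ j, Function.Surjective (hm (incl I n j) 1) := by
    intro j
    induction j with
    | zero =>
      exact fun x => ⟨x, (congrArg (fun φ => Sheaf.H.map φ 1 x) (CategoryTheory.Functor.map_id _ _)).trans
        (Sheaf.H.map_id_apply _)⟩
    | succ j ih =>
      intro x
      obtain ⟨y, rfl⟩ := ih x
      obtain ⟨z, rfl⟩ := surjective_h1_idealIncl_of_quot (isInvertible_ipow hI (n + j)) (hgr (n + j)) y
      exact ⟨z, (W7Rees.hm_comp _ _ 1 z).symm.symm⟩
  obtain ⟨d, hd⟩ := W7Rees.exists_ker_le_pow 𝔪 hF 1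
  have htop : (⊤ : Submodule A (Coh.HH X (ipow I n) 1)) ≤ 𝔪 • ⊤ := by
    intro x _
    obtain ⟨y, rfl⟩ := hsurj (c * (1 + d)) x
    have h0 : hm (qπ (ipow I n) (𝔪 ^ (1 + d))) 1 (hm (incl I n (c * (1 + d))) 1 y) = 0 := by
      refine (W7Rees.hm_comp _ _ 1 y).symm.trans ?_
      rw [incl_comp_qπ hI n (c * (1 + d)) (𝔪 ^ (1 + d)) fun W => by
        rw [Ideal.map_pow, pow_mul]; exact Ideal.pow_right_mono (hc W) _]
      refine (congrArg (fun φ => Sheaf.H.map φ 1 y) (Functor.map_zero _ _ _)).trans ?_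
      change Abelian.Ext.comp y (Abelian.Ext.mk₀ 0) (add_zero 1) = 0
      rw [Abelian.Ext.mk₀_zero, Abelian.Ext.comp_zero]
    have h1 := hd _ _ h0
    rwa [show 1 + d - d = 1 by omega, pow_one] at h1
  have hbot : (⊤ : Submodule A (Coh.HH X (ipow I n) 1)) = ⊥ :=
    Submodule.eq_bot_of_le_smul_of_le_jacobson_bot 𝔪 ⊤ Module.Finite.fg_top htop
      (IsLocalRing.maximalIdeal_le_jacobson ⊥)
  exact ⟨fun a b => ((Submodule.eq_bot_iff _).1 hbot a trivial).trans ((Submodule.eq_bot_iff _).1 hbot b trivial).symm⟩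

/-- Effective Cartier powers. -/
theorem cartier_pow {I : X.IdealSheafData} (hI : BlowUp.IsEffCartierIdeal I) (n : ℕ) :
    BlowUp.IsEffCartierIdeal (I ^ n) := by
  induction n with
  | zero => rw [pow_zero, Scheme.IdealSheafData.one_eq_top]; exact BlowUpLib.cartier_top
  | succ n ih => rw [pow_succ']; exact BlowUpLib.cartier_mul hI ih

/-- The tensor powers are the powers. -/
theorem nonempty_ipow_iso {I : X.IdealSheafData} (hI : BlowUp.IsEffCartierIdeal I) :
    ∀ n, Nonempty (ipow I n ≅ ClSub.idealMod (I ^ n))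
  | 0 => by
    obtain ⟨e⟩ := RatBlow.nonempty_idealMod_top (X := X)
    exact ⟨e.symm ≪≫ eqToIso (by rw [pow_zero, Scheme.IdealSheafData.one_eq_top])⟩
  | n + 1 => by
    obtain ⟨e⟩ := nonempty_ipow_iso hI n
    obtain ⟨q, -⟩ := exists_idealMod_mul hI (cartier_pow hI n)
    exact ⟨PicGrp.tensorModIso (Iso.refl _) e ≪≫ q ≪≫ eqToIso (by rw [← pow_succ'])⟩

/-- A function lying in an ideal sheaf on every affine open. -/
def InId (K : X.IdealSheafData) {U : X.Opens} (s : Γ(X, U)) : Prop :=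
  ∀ (W : X.affineOpens) (hW : W.1 ≤ U), resO X hW s ∈ K.ideal W

theorem inId_of_locally {K : X.IdealSheafData} {U : X.Opens} {s : Γ(X, U)}
    (h : ∀ x ∈ U, ∀ (O : X.Opens), x ∈ O → ∃ (V : X.affineOpens) (hV : V.1 ≤ U), x ∈ V.1 ∧ V.1 ≤ O ∧
      resO X hV s ∈ K.ideal V) : InId K s := fun W hW => by
  refine mem_ideal_of_locally K W _ fun x hx => ?_
  obtain ⟨V, hV, hxV, hVW, hmem⟩ := h x (hW hx) W.1 hx
  exact ⟨V, hVW, hxV, by rwa [resO_resO]⟩

theorem InId.res {K : X.IdealSheafData} {U V : X.Opens} {s : Γ(X, U)} (hs : InId K s) (h : V ≤ U) :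
    InId K (resO X h s) := fun W hW => by
  rw [resO_resO]; exact hs W (hW.trans h)

theorem InId.add {K : X.IdealSheafData} {U : X.Opens} {s t : Γ(X, U)} (hs : InId K s) (ht : InId K t) :
    InId K (s + t) := fun W hW => by rw [map_add]; exact add_mem (hs W hW) (ht W hW)

theorem InId.mul {K L : X.IdealSheafData} {U : X.Opens} {s t : Γ(X, U)} (hs : InId K s) (ht : InId L t) :
    InId (K * L) (s * t) := fun W hW => by
  rw [map_mul, Scheme.IdealSheafData.ideal_mul]; exact Ideal.mul_mem_mul (hs W hW) (ht W hW)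

theorem inId_iff_mem_range (K : X.IdealSheafData) {U : X.Opens} (s : Γ(X, U)) :
    InId K s ↔ ∃ g : Γ(ClSub.idealMod K, U), (ClSub.idealModι K).app U g = s := by
  refine ⟨fun h => ?_, ?_⟩
  · refine SiteCoh.sections_exact (CohFinite.shortExact_toAb (CurveRR.ideal_shortExact K)) U s
      (Groth.Agent.QC.section_eq_of_locally fun x hx => ?_)
    obtain ⟨W, hW, hxW, hWU⟩ := exists_isAffineOpen_mem_and_subset hx
    obtain ⟨a, ha⟩ := (Groth.Agent.QC.mem_range_idealModι_affine K ⟨W, hW⟩ (resO X hWU s)).2 (h ⟨W, hW⟩ hWU)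
    refine ⟨W, hWU, hxW, ?_⟩
    change res (ClSub.quotMod K) hWU ((ClSub.toSubscheme K).app U s) = res (ClSub.quotMod K) hWU 0
    rw [map_zero]
    refine (app_res (ClSub.toSubscheme K) hWU s).trans ?_
    rw [show res (Coh.structureModule X) hWU s = (ClSub.idealModι K).app W a from ha.symm]
    exact ConcreteCategory.congr_hom (congrArg (fun φ => Scheme.Modules.Hom.app φ W)
      (kernel.condition (ClSub.toSubscheme K))) a
  · rintro ⟨g, rfl⟩ W hW
    exact (Groth.Agent.QC.mem_range_idealModι_affine K W _).1 ⟨res (ClSub.idealMod K) hW g, (app_res _ _ _).symm⟩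

theorem inId_iff_app_eq_zero (K : X.IdealSheafData) (s : Γ(X, ⊤)) :
    InId K s ↔ K.subschemeι.app ⊤ s = 0 := by
  rw [inId_iff_mem_range]
  exact ⟨fun ⟨g, hg⟩ => by
    rw [← hg]
    exact ConcreteCategory.congr_hom (congrArg (fun ψ => Scheme.Modules.Hom.app ψ ⊤)
      (kernel.condition (ClSub.toSubscheme K))) g,
    fun h => SiteCoh.sections_exact (CohFinite.shortExact_toAb (CurveRR.ideal_shortExact K)) ⊤ s h⟩

/-- A function in a power of an invertible ideal with two generators is a combination with coefficients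
in the previous power. -/
theorem exists_pair_of_mem_pow (J : X.IdealSheafData) (hJ : BlowUp.IsEffCartierIdeal J) (a b c : Γ(X, ⊤))
    (m : ℕ) (hcov : genOpen J a ⊔ genOpen J b = ⊤) (hJa : InId J a) (hJb : InId J b) (hc : InId (J ^ (m + 2)) c)
    (h1 : Subsingleton (Coh.HH X (ClSub.idealMod (J ^ m)) 1)) :
    ∃ u v : Γ(X, ⊤), InId (J ^ (m + 1)) u ∧ InId (J ^ (m + 1)) v ∧ c = u * a + v * b := by
  set Da := genOpen J a with hDa
  set Db := genOpen J b with hDb
  have hideal : ∀ (W : X.affineOpens) (k : ℕ), (J ^ k).ideal W = J.ideal W ^ k := fun W k => by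
    rw [Scheme.IdealSheafData.ideal_pow]; rfl
  have la : ∀ {O : X.Opens}, O ≤ Da → LocNzd (resO X (le_top : O ≤ ⊤) a) := fun h => locNzd_genOpen J hJ a h
  have lb : ∀ {O : X.Opens}, O ≤ Db → LocNzd (resO X (le_top : O ≤ ⊤) b) := fun h => locNzd_genOpen J hJ b h
  -- division by one generator
  have key : ∀ g : Γ(X, ⊤), ∃ q : Γ(X, genOpen J g),
      resO X (le_top : genOpen J g ≤ ⊤) g * q = resO X le_top c ∧ InId (J ^ (m + 1)) q := fun g => by
    obtain ⟨q, hq⟩ := exists_div_section (locNzd_genOpen J hJ g le_rfl) (resO X (le_top : genOpen J g ≤ ⊤) c)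
      fun x hx => by
        obtain ⟨W, hxW, -, hWg, he, -⟩ := exists_small_genOpen J hJ g hx (O := ⊤) trivial
        refine ⟨W.1, hWg, hxW, ?_⟩
        rw [resO_resO, resO_resO, ← he]
        have h4 : resO X le_top c ∈ (J ^ (m + 2)).ideal W := hc W le_top
        rw [hideal] at h4
        exact Ideal.pow_le_self (Nat.succ_ne_zero (m + 1)) h4
    refine ⟨q, hq, inId_of_locally fun x hx O hxO => ?_⟩
    obtain ⟨W, hxW, hWO, hWg, he, hnz⟩ := exists_small_genOpen J hJ g hx hxO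
    refine ⟨W, hWg, hxW, hWO, ?_⟩
    have h2 := hc W le_top
    rw [hideal, he, Ideal.span_singleton_pow] at h2
    obtain ⟨t, ht⟩ := Ideal.mem_span_singleton'.1 h2
    have h3 : resO X le_top g * resO X hWg q = resO X le_top c := by
      have := congrArg (resO X hWg) hq
      rwa [map_mul, resO_resO, resO_resO] at this
    rw [hideal, he, Ideal.span_singleton_pow]
    refine Ideal.mem_span_singleton'.2 ⟨t, (mul_cancel_left_mem_nonZeroDivisors hnz).1 ?_⟩
    rw [h3, ← ht]; ring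
  obtain ⟨ua, hua, hua'⟩ := key a
  obtain ⟨vb, hvb, hvb'⟩ := key b
  have hab : LocNzd (resO X (le_top : Da ⊓ Db ≤ ⊤) a * resO X (le_top : Da ⊓ Db ≤ ⊤) b) := fun x hx => by
    obtain ⟨W₁, hx₁, h₁O, -, -, hn₁⟩ := exists_small_genOpen J hJ a hx.1 (O := Da ⊓ Db) hx
    obtain ⟨W, hxW, hle, -, -, hn⟩ := exists_small_genOpen J hJ b hx.2 (O := W₁.1) hx₁
    refine ⟨W, hle.trans h₁O, hxW, ?_⟩
    rw [map_mul, resO_resO, resO_resO]
    refine mul_mem ?_ hn
    have := BlowUpLib.mem_nonZeroDivisors_map_of_flat _ (BlowUpLib.flat_res W₁.2 W.2 hle) hn₁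
    have heq : resO X hle (resO X (le_top : W₁.1 ≤ ⊤) a) = resO X le_top a := resO_resO _ _ _
    rw [← heq]
    exact this
  have small : ∀ x ∈ Da ⊓ Db, ∀ (O : X.Opens), x ∈ O → ∃ (W : X.affineOpens) (_ : W.1 ≤ Da ⊓ Db), x ∈ W.1 ∧
      W.1 ≤ O ∧ resO X le_top a * resO X le_top b ∈ nonZeroDivisors Γ(X, W.1) ∧
      ∃ r ∈ (J ^ m).ideal W, resO X le_top c = resO X le_top a * resO X le_top b * r := fun x hx O hxO => by
    obtain ⟨W₁, hx₁, h₁O, h₁a, he₁, hn₁⟩ := exists_small_genOpen J hJ a hx.1 (O := (Da ⊓ Db) ⊓ O) ⟨hx, hxO⟩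
    obtain ⟨W, hxW, hle, -, he, hn⟩ := exists_small_genOpen J hJ b hx.2 (O := W₁.1) hx₁
    have hn' : resO X le_top a ∈ nonZeroDivisors Γ(X, W.1) := by
      have := BlowUpLib.mem_nonZeroDivisors_map_of_flat _ (BlowUpLib.flat_res W₁.2 W.2 hle) hn₁
      have heq : resO X hle (resO X (le_top : W₁.1 ≤ ⊤) a) = resO X le_top a := resO_resO _ _ _
      rw [← heq]
      exact this
    have hea : J.ideal W = Ideal.span {resO X le_top a} := by
      rw [← J.map_ideal (U := W) (V := W₁) hle, he₁, Ideal.map_span, Set.image_singleton]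
      exact congrArg (fun t => Ideal.span {t}) (resO_resO hle le_top a)
    refine ⟨W, fun y hy => (h₁O (hle hy)).1, hxW, fun y hy => (h₁O (hle hy)).2, mul_mem hn' hn, ?_⟩
    have h2 := hc W le_top
    rw [hideal, pow_succ', pow_succ', ← mul_assoc] at h2
    nth_rewrite 1 [hea] at h2
    nth_rewrite 1 [he] at h2
    rw [Ideal.span_singleton_mul_span_singleton, Ideal.mem_span_singleton_mul] at h2
    obtain ⟨r, hr, hrc⟩ := h2
    exact ⟨r, hideal W m ▸ hr, hrc.symm⟩
  obtain ⟨w, hw⟩ := exists_div_section hab (resO X (le_top : Da ⊓ Db ≤ ⊤) c) fun x hx => by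
    obtain ⟨W, hW, hxW, -, -, r, -, hr⟩ := small x hx ⊤ trivial
    refine ⟨W.1, hW, hxW, Ideal.mem_span_singleton'.2 ⟨r, ?_⟩⟩
    rw [map_mul, resO_resO, resO_resO, resO_resO, hr]; ring
  have hw' : InId (J ^ m) w := inId_of_locally fun x hx O hxO => by
    obtain ⟨W, hW, hxW, hWO, hnz, r, hrm, hr⟩ := small x hx O hxO
    refine ⟨W, hW, hxW, hWO, ?_⟩
    have h3 := congrArg (resO X hW) hw
    rw [map_mul, map_mul, resO_resO, resO_resO, resO_resO, hr] at h3
    rw [(mul_cancel_left_mem_nonZeroDivisors hnz).1 h3]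
    exact hrm
  -- split on the overlap
  obtain ⟨w₀, hw₀⟩ := (inId_iff_mem_range (J ^ m) w).1 hw'
  have h1' : Subsingleton (CohSite.HU (Coh.toAb (ClSub.idealMod (J ^ m))) 1 (Da ⊔ Db)) := by
    rw [hcov]
    exact (SiteCoh.huTerminalEquiv (Opens.grothendieckTopology X) isTerminalTop
      (Coh.toAb (ClSub.idealMod (J ^ m))) 1).symm.toEquiv.subsingleton_congr.2 h1
  obtain ⟨a₀', b₀', hsp⟩ := exists_split (Coh.toAb (ClSub.idealMod (J ^ m))) Da Db h1' w₀
  obtain ⟨a₀, b₀, hsp'⟩ : ∃ (a₀ : Γ(ClSub.idealMod (J ^ m), Da)) (b₀ : Γ(ClSub.idealMod (J ^ m), Db)),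
      res (ClSub.idealMod (J ^ m)) inf_le_left a₀ + res (ClSub.idealMod (J ^ m)) inf_le_right b₀ = w₀ :=
    ⟨a₀', b₀', hsp⟩
  obtain ⟨wa, hwa'⟩ : ∃ wa : Γ(X, Da), wa = (ClSub.idealModι (J ^ m)).app Da a₀ := ⟨_, rfl⟩
  obtain ⟨wb, hwb'⟩ : ∃ wb : Γ(X, Db), wb = (ClSub.idealModι (J ^ m)).app Db b₀ := ⟨_, rfl⟩
  have hwa : InId (J ^ m) wa := (inId_iff_mem_range _ _).2 ⟨a₀, hwa'.symm⟩
  have hwb : InId (J ^ m) wb := (inId_iff_mem_range _ _).2 ⟨b₀, hwb'.symm⟩
  have hsplit : resO X inf_le_left wa + resO X inf_le_right wb = w := by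
    rw [← hw₀, ← hsp', map_add, hwa', hwb']
    exact congrArg₂ (· + ·) (app_res (ClSub.idealModι (J ^ m)) (inf_le_left : Da ⊓ Db ≤ Da) a₀)
      (app_res (ClSub.idealModι (J ^ m)) (inf_le_right : Da ⊓ Db ≤ Db) b₀)
  have hcovU : ∀ x : X, x ∈ (⊤ : X.Opens) → x ∈ ⨆ i : ULift.{u} Bool, (bif i.down then Da else Db) := fun x hx => by
    rcases (hcov.ge hx : x ∈ Da ⊔ Db) with h | h
    · exact Opens.mem_iSup.2 ⟨⟨true⟩, h⟩
    · exact Opens.mem_iSup.2 ⟨⟨false⟩, h⟩
  have glue : ∀ (p : Γ(X, Da)) (q : Γ(X, Db)),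
      resO X (inf_le_left : Da ⊓ Db ≤ Da) p = resO X (inf_le_right : Da ⊓ Db ≤ Db) q →
      InId (J ^ (m + 1)) p → InId (J ^ (m + 1)) q →
      ∃ r : Γ(X, ⊤), InId (J ^ (m + 1)) r ∧ resO X (le_top : Da ≤ ⊤) r = p ∧ resO X (le_top : Db ≤ ⊤) r = q := by
    intro p q hpq hp hq
    obtain ⟨r, hr, -⟩ := TopCat.Sheaf.existsUnique_gluing' X.sheaf
      (fun i : ULift.{u} Bool => bif i.down then Da else Db) ⊤ (fun i => homOfLE le_top) hcovU
      (fun i => match i with
        | ⟨true⟩ => p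
        | ⟨false⟩ => q) (by
      rintro ⟨_ | _⟩ ⟨_ | _⟩
      · rfl
      · change resO X inf_le_left q = resO X inf_le_right p
        have := congrArg (resO X (le_inf inf_le_right inf_le_left : Db ⊓ Da ≤ Da ⊓ Db)) hpq
        rw [resO_resO, resO_resO] at this
        exact this.symm
      · exact hpq
      · rfl)
    have hrp : resO X (le_top : Da ≤ ⊤) r = p := hr ⟨true⟩
    have hrq : resO X (le_top : Db ≤ ⊤) r = q := hr ⟨false⟩
    refine ⟨r, inId_of_locally fun x _ O hxO => ?_, hrp, hrq⟩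
    rcases (hcov.ge trivial : x ∈ Da ⊔ Db) with h | h
    · obtain ⟨W, hW, hxW, hle⟩ := exists_isAffineOpen_mem_and_subset (show x ∈ Da ⊓ O from ⟨h, hxO⟩)
      refine ⟨⟨W, hW⟩, le_top, hxW, fun y hy => (hle hy).2, ?_⟩
      have h2 := hp ⟨W, hW⟩ fun y hy => (hle hy).1
      rwa [← hrp, resO_resO] at h2
    · obtain ⟨W, hW, hxW, hle⟩ := exists_isAffineOpen_mem_and_subset (show x ∈ Db ⊓ O from ⟨h, hxO⟩)
      refine ⟨⟨W, hW⟩, le_top, hxW, fun y hy => (hle hy).2, ?_⟩
      have h2 := hq ⟨W, hW⟩ fun y hy => (hle hy).1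
      rwa [← hrq, resO_resO] at h2
  have hca : resO X (inf_le_left : Da ⊓ Db ≤ Da) ua = resO X le_top b * w := by
    refine sub_eq_zero.1 ((la (O := Da ⊓ Db) inf_le_left).eq_zero le_rfl ?_)
    have h := congrArg (resO X (inf_le_left : Da ⊓ Db ≤ Da)) hua
    rw [map_mul, resO_resO, resO_resO] at h
    rw [resO_self, mul_sub, h, ← mul_assoc, hw, sub_self]
  have hcb : resO X (inf_le_right : Da ⊓ Db ≤ Db) vb = resO X le_top a * w := by
    refine sub_eq_zero.1 ((lb (O := Da ⊓ Db) inf_le_right).eq_zero le_rfl ?_)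
    have h := congrArg (resO X (inf_le_right : Da ⊓ Db ≤ Db)) hvb
    rw [map_mul, resO_resO, resO_resO] at h
    rw [resO_self, mul_sub, h, ← mul_assoc, mul_comm (resO X le_top b) (resO X le_top a), hw, sub_self]
  have hmul : ∀ {U : X.Opens} (g : Γ(X, ⊤)) (t : Γ(X, U)), InId J g → InId (J ^ m) t →
      InId (J ^ (m + 1)) (resO X le_top g * t) := fun g t hg ht => by
    rw [pow_succ']; exact InId.mul (hg.res _) ht
  have hsub : ∀ {U : X.Opens} {s t : Γ(X, U)}, InId (J ^ (m + 1)) s → InId (J ^ (m + 1)) t →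
      InId (J ^ (m + 1)) (s - t) := fun hs ht W hW => by rw [map_sub]; exact sub_mem (hs W hW) (ht W hW)
  obtain ⟨u, hu, hu₁, hu₂⟩ := glue (ua - resO X le_top b * wa) (resO X le_top b * wb) (by
    rw [map_sub, map_mul, map_mul, resO_resO, resO_resO, hca, ← hsplit]; ring)
    (hsub hua' (hmul b wa hJb hwa)) (hmul b wb hJb hwb)
  obtain ⟨v, hv, hv₁, hv₂⟩ := glue (resO X le_top a * wa) (vb - resO X le_top a * wb) (by
    rw [map_sub, map_mul, map_mul, resO_resO, resO_resO, hcb, ← hsplit]; ring)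
    (hmul a wa hJa hwa) (hsub hvb' (hmul a wb hJa hwb))
  refine ⟨u, v, hu, hv, TopCat.Sheaf.eq_of_locally_eq' X.sheaf
    (fun i : ULift.{u} Bool => bif i.down then Da else Db) ⊤ (fun i => homOfLE le_top) hcovU _ _ ?_⟩
  rintro ⟨_ | _⟩
  · change resO X (le_top : Db ≤ ⊤) c = resO X le_top (u * a + v * b)
    rw [map_add, map_mul, map_mul, hu₂, hv₂, ← hvb]; ring
  · change resO X (le_top : Da ≤ ⊤) c = resO X le_top (u * a + v * b)
    rw [map_add, map_mul, map_mul, hu₁, hv₁, ← hua]; ring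

end Groth.Agent.Castel
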