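import Groth.Agent.Castel.MinModel
import Groth.Agent.Castel.ModelAmple
import Groth.Agent.Castel.MinDesing

/-!
Contracting a regular proper model to a minimal one.
-/

set_option autoImplicit false
set_option backward.isDefEq.respectTransparency false
set_option backward.isDefEq.respectTransparency.types false
set_option linter.style.haveILetI false

universe u

open CategoryTheory CategoryTheory.Limits AlgebraicGeometry TopologicalSpace Topology

noncomputable section

namespace Groth.Agent.Castel

variable {R : Type u} [CommRing R] [IsDomain R] [IsDiscreteValuationRing R]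

/-- The non-closed points of the closed fibre. -/
def vertPts {X : Scheme.{u}} (π : X ⟶ Spec (CommRingCat.of R)) : Set X :=
  {x | π x = IsLocalRing.closedPoint R ∧ ¬ IsClosed ({x} : Set X)}

/-- There are finitely many non-closed points in the closed fibre of a surface. -/
theorem finite_vertPts {X : Scheme.{u}} [IsIntegral X] [IsNoetherian X] (hdim : topologicalKrullDim X ≤ 2)
    (π : X ⟶ Spec (CommRingCat.of R)) [Flat π] : (vertPts π).Finite := by
  let T : Set X := π ⁻¹' {IsLocalRing.closedPoint R}
  have hT : IsClosed T := (IsLocalRing.isClosed_singleton_closedPoint R).preimage π.continuous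
  obtain ⟨S, hSf, hScl, hSirr, hST⟩ := NoetherianSpace.exists_finite_set_isClosed_irreducible hT
  haveI : Finite S := Set.finite_coe_iff.2 hSf
  refine Set.Finite.subset (Set.finite_range fun t : S => (hSirr t.1 t.2).genericPoint) ?_
  rintro x ⟨hx, hxc⟩
  obtain ⟨t, ht, hxt⟩ : ∃ t ∈ S, x ∈ t := Set.mem_sUnion.1 (hST ▸ (show x ∈ T from hx))
  refine ⟨⟨t, ht⟩, ?_⟩
  have hgen := (hSirr t ht).isGenericPoint_genericPoint (hScl t ht)
  set w := (hSirr t ht).genericPoint
  show w = x
  by_contra hne
  have hwT : π w = IsLocalRing.closedPoint R := (hST.symm ▸ ⟨t, ht, hgen.mem⟩ : w ∈ T)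
  have hgne : genericPoint X ≠ w := fun e => by
    obtain ⟨v, hv, hv'⟩ := Flat.generalizingMap π (a := genericPoint X)
      ((PrimeSpectrum.le_iff_specializes (⟨⊥, Ideal.isPrime_bot⟩ : PrimeSpectrum R) (π (genericPoint X))).mp bot_le)
    rw [(hv.antisymm ((genericPoint_spec X).specializes trivial)).eq, e, hwT] at hv'
    exact IsDiscreteValuationRing.not_a_field R (congrArg PrimeSpectrum.asIdeal hv')
  obtain ⟨c, hc, hcx⟩ : ∃ c, x ⤳ c ∧ x ≠ c := by
    by_contra! h
    exact hxc (closure_subset_iff_isClosed.1 fun z hz => (h z (specializes_iff_mem_closure.2 hz)).symm)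
  have h3 := Unibranch.natCast_le_topologicalKrullDim (α := X) (k := 3) ![genericPoint X, w, x, c] (fun i => by
    fin_cases i
    · exact ⟨genericPoint_specializes _, hgne⟩
    · exact ⟨hgen.specializes hxt, hne⟩
    · exact ⟨hc, hcx⟩)
  exact absurd (h3.trans hdim) (by decide)

/-- Contract until no exceptional curve remains. -/
theorem exists_min_of_model {C : Scheme.{u}} {f : C ⟶ Spec (CommRingCat.of (FractionRing R))} :
    ∀ (n : ℕ) (X : Scheme.{u}) (π : X ⟶ Spec (CommRingCat.of R)) (g : C ⟶ X) (L : X.Modules),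
      IsIntegral X → IsProper π → Flat π → (∀ x : X, IsRegularLocalRing (X.presheaf.stalk x)) →
      topologicalKrullDim X ≤ 2 → IsPullback g f π (Neron.genPt R) → CohB1.IsAmple L → (vertPts π).ncard ≤ n →
      ∃ (Z : Scheme.{u}) (p : Z ⟶ Spec (CommRingCat.of R)) (gZ : C ⟶ Z) (b : X ⟶ Z),
        Models.IsMinimalModel R Z p C f ∧ IsPullback gZ f p (Neron.genPt R) ∧
        b ≫ p = π ∧ g ≫ b = gZ ∧ Models.IsContractionSeq b := by
  intro n
  induction n using Nat.strong_induction_on with
  | _ n ih =>
  intro X π g L hXi hπ hfl hreg hdim hg hL hn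
  haveI := hXi; haveI := hπ; haveI := hfl
  haveI : IsLocallyNoetherian X := LocallyOfFiniteType.isLocallyNoetherian π
  haveI : CompactSpace X := QuasiCompact.compactSpace_of_compactSpace π
  haveI : IsNoetherian X := {}
  by_cases hexc : ∀ Γ : ArSurf.VertComp R (Over.mk π), ¬ Models.IsExcCurve Γ.ι
  · exact ⟨X, π, g, 𝟙 X, ⟨⟨⟨hfl, inferInstance, inferInstance, g, hg⟩, hπ, hreg⟩, hexc⟩, hg, Category.id_comp π,
      Category.comp_id g, Models.IsContractionSeq.iso (Iso.refl X)⟩
  push Not at hexc
  obtain ⟨Γ, hE⟩ := hexc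
  let ι : Γ.curve.left ⟶ X := Γ.ι
  haveI : IsClosedImmersion ι := Γ.isClosedImmersion
  have hR := IsDiscreteValuationRing.not_isField R
  obtain ⟨hI, k, _, eP, -⟩ := id hE
  obtain ⟨M, hMi, ⟨dM⟩⟩ := W7Hull.exists_tensor_inverse (Intersect.isInvertible_ideal hI)
  have hM : ClSub.IsInverseOf M (ClSub.idealMod ι.ker) := ⟨TMul.commIso _ _ ≪≫ dM⟩
  obtain ⟨Z, b, p, y₀, hb, hbf, hp, hbp, hfib, happ, hoff, -, L', hL', -⟩ :=
    exists_ample_contraction π L hL ι hE M hM hMi
  haveI := hp
  haveI := hbp
  obtain ⟨hZn, -, y₁, hy₁, hyr, hyreg, hydim, -⟩ := id hb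
  haveI := hZn
  haveI : IsIntegral (CohB1.ProjSpace 1 k) := Horrocks.isIntegral_projSpace
  let η : X := ι (eP.hom (genericPoint (CohB1.ProjSpace 1 k)))
  have hyy : y₁ = y₀ := by
    have h1 : b η = y₁ := hyr.subset ⟨_, rfl⟩
    have h2 : b η = y₀ := hfib.ge ⟨_, rfl⟩
    exact h1.symm.trans h2
  subst hyy
  haveI : IsReduced Z := isReduced_of_app_injective b fun V => (happ V).1
  let V : Z.Opens := ⟨({y₁} : Set Z)ᶜ, hy₁.isOpen_compl⟩
  haveI := hoff V fun h => h rfl
  have hsurj : Function.Surjective b := fun z => by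
    by_cases hz : z = y₁
    · exact ⟨η, (hfib.ge ⟨_, rfl⟩ : b η = y₁).trans hz.symm⟩
    · obtain ⟨x, hx⟩ := (b ∣_ V).surjective ⟨z, hz⟩
      exact ⟨x.1, (morphismRestrict_base_coe b V x).symm.trans (congrArg Subtype.val hx)⟩
  haveI : IrreducibleSpace Z := hsurj.irreducibleSpace b.continuous
  haveI : IsIntegral Z := isIntegral_of_irreducibleSpace_of_isReduced Z
  have hflat : Flat p := flat_of_dominant p (by
    have hπη : (π (genericPoint X)).asIdeal = ⊥ := by
      obtain ⟨w, hw, hw'⟩ := Flat.generalizingMap π (a := genericPoint X)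
        ((PrimeSpectrum.le_iff_specializes (⟨⊥, Ideal.isPrime_bot⟩ : PrimeSpectrum R) (π (genericPoint X))).mp bot_le)
      rw [(hw.antisymm ((genericPoint_spec X).specializes trivial)).eq] at hw'
      exact congrArg PrimeSpectrum.asIdeal hw'
    obtain ⟨x, hx⟩ := hsurj (genericPoint Z)
    have h1 : b (genericPoint X) = genericPoint Z :=
      (((genericPoint_specializes x).map b.continuous).trans (specializes_of_eq hx) |>.antisymm
        (genericPoint_specializes _)).eq
    rw [← h1, ← Scheme.Hom.comp_apply, hbf, hπη])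
  let G : Over.mk π ⟶ Over.mk p := Over.homMk b hbf
  haveI : IsIso (G.left ∣_ V) := hoff V fun h => h rfl
  haveI := isIso_genericFibre_map G V fun v hv hvy => by
    rw [Set.mem_singleton_iff.1 hvy] at hv
    exact base_ne_bot_of_closed hR p hy₁ hv
  haveI : IsIso ((Neron.genericFibre R).map G).left :=
    inferInstanceAs (IsIso ((Over.forget _).map ((Neron.genericFibre R).map G)))
  let m : pullback π (Neron.genPt R) ⟶ pullback p (Neron.genPt R) := ((Neron.genericFibre R).map G).left
  haveI : IsIso m := inferInstanceAs (IsIso ((Neron.genericFibre R).map G).left)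
  have hgZ : IsPullback (g ≫ b) f p (Neron.genPt R) := by
    refine IsPullback.of_iso_pullback ⟨by rw [Category.assoc, hbf, hg.w]⟩ (hg.isoPullback ≪≫ asIso m) ?_ ?_
    · rw [Iso.trans_hom, asIso_hom, Category.assoc,
        show m ≫ pullback.fst p (Neron.genPt R) = pullback.fst π (Neron.genPt R) ≫ b from pullback.lift_fst _ _ _,
        IsPullback.isoPullback_hom_fst_assoc]
    · rw [Iso.trans_hom, asIso_hom, Category.assoc,
        show m ≫ pullback.snd p (Neron.genPt R) = pullback.snd π (Neron.genPt R) from pullback.lift_snd _ _ _,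
        IsPullback.isoPullback_hom_snd]
  have hlt : (vertPts p).ncard < n := by
    choose s hs using hsurj
    have hmaps : ∀ z ∈ vertPts p, s z ∈ vertPts π := fun z hz => by
      refine ⟨by rw [← hbf, Scheme.Hom.comp_apply, hs z]; exact hz.1, fun h => hz.2 ?_⟩
      have := b.isClosedMap _ h
      rwa [Set.image_singleton, hs z] at this
    have hη : η ∈ vertPts π := by
      obtain ⟨t, ht, ht'⟩ := exc_base_const hR π (eP.hom ≫ ι)
      haveI : Ideal.IsMaximal t.asIdeal := Ideal.IsPrime.isMaximal t.isPrime ht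
      refine ⟨(ht' _).trans (PrimeSpectrum.ext (IsLocalRing.eq_maximalIdeal inferInstance)), fun h => ?_⟩
      haveI : Subsingleton (CohB1.ProjSpace 1 k) := ⟨fun q q' => by
        have hall : ∀ r : CohB1.ProjSpace 1 k, ι (eP.hom r) = η := fun r =>
          ((((genericPoint_specializes r).map eP.hom.continuous).map ι.continuous).mem_closed h rfl)
        exact eP.hom.homeomorph.injective (ι.isClosedEmbedding.injective ((hall q).trans (hall q').symm))⟩
      exact not_finite_projLine k Finite.of_subsingleton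
    have hsub : s '' vertPts p ⊂ vertPts π := by
      refine (Set.ssubset_iff_of_subset (by rintro _ ⟨z, hz, rfl⟩; exact hmaps z hz)).2 ⟨η, hη, ?_⟩
      rintro ⟨z, hz, hzη⟩
      refine hz.2 ?_
      have hz1 : z = y₁ := by rw [← hs z, hzη]; exact hfib.ge ⟨_, rfl⟩
      exact hz1 ▸ hy₁
    have hinj : Function.Injective s := fun z z' h => by rw [← hs z, ← hs z', h]
    refine lt_of_lt_of_le ?_ hn
    rw [← Set.ncard_image_of_injective _ hinj]
    exact Set.ncard_lt_ncard hsub (finite_vertPts hdim π)
  obtain ⟨W, q, gW, c, hW, hgW, hc, hgc, hseq⟩ := ih _ hlt Z p (g ≫ b) L' inferInstance hp hflat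
    (fun z => by
      by_cases hz : z = y₁
      · exact hz ▸ hyreg
      · exact isRegular_of_iso_restrict b V hreg hz)
    (dim_le_of_closedMap b hsurj b.isClosedMap (n := 2) hdim) hgZ hL' le_rfl
  exact ⟨W, q, gW, b ≫ c, hW, hgW, by rw [Category.assoc, hc, hbf], by rw [← Category.assoc, hgc],
    Models.IsContractionSeq.step ι b c ‹_› hE hb hseq⟩

end Groth.Agent.Castel
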