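import Groth.Agent.Castel.PicModel

/-!
The reduced closed fibre is the sum of the components, each counted once.
-/

set_option autoImplicit false
set_option backward.isDefEq.respectTransparency false
set_option backward.isDefEq.respectTransparency.types false
set_option linter.style.haveILetI false

universe u

open CategoryTheory CategoryTheory.Limits AlgebraicGeometry TopologicalSpace Opposite
open Groth.Agent.DivPart (stI pr)

noncomputable section

namespace Groth.Agent.Castel

/-- A product of incomparable principal primes is a radical ideal. -/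
theorem radical_prod_le {A : Type u} [CommRing A] {σ : Type} (s : Finset σ) (P : σ → Ideal A) (g : σ → A)
    (hg : ∀ j, P j = Ideal.span {g j}) (hp : ∀ j, P j = ⊤ ∨ (P j).IsPrime)
    (hinc : ∀ i j, i ≠ j → P i ≠ ⊤ → ¬ P j ≤ P i) :
    (∏ j ∈ s, P j).radical ≤ ∏ j ∈ s, P j := by
  classical
  induction s using Finset.induction with
  | empty => rw [Finset.prod_empty, Ideal.one_eq_top]; exact le_top
  | insert j t hj ih =>
    rw [Finset.prod_insert hj, Ideal.radical_mul]
    intro a ha
    have haQ : a ∈ ∏ l ∈ t, P l := ih ha.2
    rcases hp j with htop | hprime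
    · rw [htop, Ideal.top_mul]; exact haQ
    haveI := hprime
    have haP : a ∈ P j := hprime.radical ▸ ha.1
    have hQ : ∏ l ∈ t, P l = Ideal.span {∏ l ∈ t, g l} := by
      rw [Finset.prod_congr rfl fun l _ => hg l, Ideal.prod_span_singleton]
    rw [hQ, Ideal.mem_span_singleton'] at haQ
    obtain ⟨c, rfl⟩ := haQ
    refine Ideal.mul_mem_mul ((hprime.mem_or_mem haP).resolve_right fun hf => ?_)
      (hQ ▸ Ideal.mem_span_singleton_self _)
    obtain ⟨l, hl, hlg⟩ := hprime.prod_mem_iff.1 hf
    exact hinc j l (fun e => hj (e ▸ hl)) hprime.ne_top (by rw [hg l, Ideal.span_le, Set.singleton_subset_iff]; exact hlg)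

variable {R : Type u} [CommRing R] [IsDomain R] [IsDiscreteValuationRing R] {X : Over (Spec (CommRingCat.of R))}

/-- The reduced closed fibre is `Σ Γ_i`. -/
theorem redFibreIdeal_eq (hA : ArSurf.IsArithSurface R X) {n : ℕ} (Γ : Fin n → ArSurf.VertComp R X)
    (hΓ : Models.IsComponentList R X Γ) : Models.redFibreIdeal R X = divI Γ fun _ => 1 := by
  classical
  have hA' := hA
  obtain ⟨-, hXi, -, hXf, -⟩ := hA'
  haveI := hXi
  haveI := hXf
  haveI := isProper_hom_of_isArithSurface hA
  haveI : IsLocallyNoetherian X.left := LocallyOfFiniteType.isLocallyNoetherian X.hom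
  haveI : CompactSpace X.left := QuasiCompact.compactSpace_of_compactSpace X.hom
  haveI : IsNoetherian X.left := {}
  let D := divI Γ fun _ => 1
  have hc := fun j => isEffCartierIdeal_ker hA (Γ j)
  have hint : ∀ j, IsIntegral (Γ j).ι.ker.subscheme := fun j => by
    haveI : IsIso (Γ j).ι.toImage := inferInstance
    haveI : Nonempty (Γ j).ι.ker.subscheme := ⟨(Γ j).ι.toImage (genericPoint (Γ j).curve.left)⟩
    exact isIntegral_of_isOpenImmersion (inv (Γ j).ι.toImage)
  have hrad : D.radical = D := by
    refine le_antisymm (fun W => ?_) (Scheme.IdealSheafData.le_radical (I := D))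
    refine DivPart.ideal_le_of_stI D D.radical W fun x hx => ⟨W, hx, ?_⟩
    let P : Fin n → Ideal (X.left.presheaf.stalk x) := fun j => stI (Γ j).ι.ker W hx
    have hD : stI D W hx = ∏ j, P j := by
      have key : ∀ s : Finset (Fin n), stI (∏ j ∈ s, (Γ j).ι.ker ^ 1) W hx = ∏ j ∈ s, P j := by
        intro s
        induction s using Finset.induction with
        | empty =>
          rw [Finset.prod_empty, Finset.prod_empty, Scheme.IdealSheafData.one_eq_top, Ideal.one_eq_top]
          simp [stI, Ideal.map_top]
        | insert j s hj ih =>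
          rw [Finset.prod_insert hj, Finset.prod_insert hj, ← ih]
          simp only [P, stI, pow_one, Scheme.IdealSheafData.ideal_mul, Pi.mul_apply, Ideal.map_mul]
      exact key Finset.univ
    choose g _ hg hgu using fun j => DivPart.exists_generator (Γ j).ι.ker (hc j) W hx
    have hp : ∀ j, P j = ⊤ ∨ (P j).IsPrime := fun j => by
      by_cases hs : x ∈ (Γ j).ι.ker.support
      · exact Or.inr (DivPart.stI_isPrime (Γ j).ι.ker (hint j) W hx hs).1
      · exact Or.inl (by rw [show P j = Ideal.span {g j} from hg j, Ideal.span_singleton_eq_top]; exact hgu j hs)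
    have hinc : ∀ i j, i ≠ j → P i ≠ ⊤ → ¬ P j ≤ P i := fun i j hij hi hle => by
      have hxi : x ∈ (Γ i).ι.ker.support := by
        by_contra hs
        exact hi (by rw [show P i = Ideal.span {g i} from hg i, Ideal.span_singleton_eq_top]; exact hgu i hs)
      have hxj : x ∈ (Γ j).ι.ker.support := by
        by_contra hs
        refine hi (top_le_iff.1 (le_trans (le_of_eq ?_) hle))
        exact (by rw [show P j = Ideal.span {g j} from hg j, Ideal.span_singleton_eq_top]; exact hgu j hs : P j = ⊤).symm
      have hW : (Γ j).ι.ker.ideal W ≤ (Γ i).ι.ker.ideal W := by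
        rw [← (DivPart.stI_isPrime (Γ i).ι.ker (hint i) W hx hxi).2,
          ← (DivPart.stI_isPrime (Γ j).ι.ker (hint j) W hx hxj).2]
        exact Ideal.comap_mono hle
      have hξ : Models.genPtOf R X (Γ i) ∈ W.1 := by
        have hx' := hxi
        rw [← SetLike.mem_coe, Scheme.Hom.support_ker,
          (Γ i).ι.isClosedEmbedding.isClosed_range.closure_eq] at hx'
        obtain ⟨z, rfl⟩ := hx'
        exact ((genericPoint_specializes z).map (Γ i).ι.continuous).mem_open W.1.2 hx
      have h1 : Models.genPtOf R X (Γ i) ∈ (Γ i).ι.ker.support := by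
        rw [← SetLike.mem_coe, Scheme.Hom.support_ker]
        exact subset_closure ⟨_, rfl⟩
      rw [Scheme.IdealSheafData.mem_support_iff_of_mem hξ] at h1
      refine genPt_notMem (fun e => hij (hΓ.1 e)) (?_ : Models.genPtOf R X (Γ i) ∈ (Γ j).ι.ker.support)
      rw [Scheme.IdealSheafData.mem_support_iff_of_mem hξ]
      exact Scheme.zeroLocus_mono _ hW h1
    show (D.radical.ideal W).map (X.left.presheaf.germ W.1 x hx).hom ≤ stI D W hx
    rw [Scheme.IdealSheafData.radical_ideal]
    refine (Ideal.map_radical_le _).trans ?_
    show (stI D W hx).radical ≤ stI D W hx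
    rw [hD]
    exact radical_prod_le Finset.univ P g hg hp hinc
  have hsupp : (D.support : Set X.left) = Models.specialFibreSet R X := by
    refine subset_antisymm (fun x hx => ?_) (fun x hx => ?_)
    · by_contra hns
      have hle : fibreIdeal X ≤ D := by
        rw [fibreIdeal_eq_prod hA Γ hΓ.1 (componentList_cover hΓ)]
        intro W
        have key : ∀ s : Finset (Fin n), (∏ j ∈ s, (Γ j).ι.ker ^ Models.mult R X (Γ j)).ideal W ≤
            (∏ j ∈ s, (Γ j).ι.ker ^ 1).ideal W := by
          intro s
          induction s using Finset.induction with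
          | empty => exact le_rfl
          | insert j s hj ih =>
            rw [Finset.prod_insert hj, Finset.prod_insert hj]
            simp only [Scheme.IdealSheafData.ideal_mul, PtBlow.ideal_pow', Pi.mul_apply, pow_one]
            refine Ideal.mul_mono (Ideal.pow_le_self ?_) (by simpa [pow_one] using ih)
            obtain ⟨-, -, J, -, hrow⟩ := interMat_facts hA Γ hΓ.1
            exact (hrow j).1.ne'
        exact key Finset.univ
      exact hns ((mem_support_fibreIdeal x).1 (Scheme.IdealSheafData.support_antitone hle hx))
    · obtain ⟨i, hi⟩ := Set.mem_iUnion.1 (componentList_cover hΓ hx)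
      have hle : D ≤ (Γ i).ι.ker := fun W => by
        show (divI Γ fun _ => 1).ideal W ≤ _
        rw [divI, ← Finset.mul_prod_erase _ _ (Finset.mem_univ i)]
        simp only [pow_one, Scheme.IdealSheafData.ideal_mul, Pi.mul_apply]
        exact Ideal.mul_le_left
      refine Scheme.IdealSheafData.support_antitone hle ?_
      show x ∈ ((Γ i).ι.ker.support : Set X.left)
      rw [Scheme.Hom.support_ker]
      exact subset_closure hi
  show _ = D
  rw [Models.redFibreIdeal, ← hrad, ← Scheme.IdealSheafData.vanishingIdeal_support]
  exact congrArg _ (Closeds.ext hsupp.symm)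

end Groth.Agent.Castel
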