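import Groth.Agent.Castel.RatPoint
import Groth.Agent.Castel.RedFibre

/-!
`h¹` of the reduced closed fibre of a minimal model.
-/

set_option autoImplicit false
set_option backward.isDefEq.respectTransparency false
set_option backward.isDefEq.respectTransparency.types false
set_option linter.style.haveILetI false
set_option linter.unusedSectionVars false

universe u

open CategoryTheory CategoryTheory.Limits AlgebraicGeometry TopologicalSpace Opposite

noncomputable section

namespace Groth.Agent.Castel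

variable {R : Type u} [CommRing R] [IsDomain R] [IsDiscreteValuationRing R]
  {C X : Scheme.{u}} {f : C ⟶ Spec (CommRingCat.of (FractionRing R))}
  {p : X ⟶ Spec (CommRingCat.of R)}
  (hC : Curve.IsSmoothProperCurve (FractionRing R) C f) (hH0 : IsIso f.appTop)
  {n : ℕ} (Γ : Fin n → ArSurf.VertComp R (Over.mk p))
  (hX : Models.IsRegularProperModel R X p C f) (hΓ : Models.IsComponentList R (Over.mk p) Γ)
include hC hH0 hX hΓ

/-- The divisor `m/d` for `d = 1` is the closed fibre. -/
theorem divI_redMult_eq (hgcd : Models.multGcd R (Over.mk p) Γ = 1) :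
    divI Γ (redMult Γ ()) = fibreIdeal (Over.mk p) := by
  rw [fibreIdeal_eq_prod (isArithSurface_of_regularProper hC hX) Γ hΓ.1 (componentList_cover hΓ), divI]
  refine Finset.prod_congr rfl fun j _ => ?_
  simp [redMult, hgcd]

/-- `h⁰ ≥ 1` on a divisor with field of constants. -/
theorem one_le_lengthH_zero (b : Fin n → ℕ) (hb : GoodH0 (Over.mk p) (divI Γ b)) :
    1 ≤ Models.lengthH R (Over.mk p) (ClSub.quotMod (divI Γ b)) 0 := by
  have hA := isArithSurface_of_regularProper hC hX
  have hfin := ((chiL_divI hA Γ hΓ.1 b).1 0).1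
  rw [Nat.one_le_iff_ne_zero]
  intro h0
  have h1 := h0
  rw [lengthH_quot_zero] at h1
  letI := (toΓ (Over.mk p) (divI Γ b)).toAlgebra
  have h2 : Module.length R Γ((divI Γ b).subscheme, ⊤) = 0 := by
    rcases ENat.toNat_eq_zero.1 h1 with h | h
    · exact h
    · exfalso
      obtain ⟨hF, hf, hk⟩ := hb
      haveI : Module.Finite R Γ((divI Γ b).subscheme, ⊤) := hf
      have : Module.length R Γ((divI Γ b).subscheme, ⊤) ≠ ⊤ := by
        let I := IsLocalRing.maximalIdeal R
        letI : Module (R ⧸ I) Γ((divI Γ b).subscheme, ⊤) := Module.IsTorsionBySet.module (fun x r => by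
          show algebraMap R _ (r : R) * x = 0
          rw [show algebraMap R Γ((divI Γ b).subscheme, ⊤) r = 0 from hk r r.2, zero_mul])
        haveI : IsScalarTower R (R ⧸ I) Γ((divI Γ b).subscheme, ⊤) := Module.IsTorsionBySet.isScalarTower _
        rw [Module.length_eq_of_surjective (R := R ⧸ I) Ideal.Quotient.mk_surjective]
        haveI : Module.Finite (R ⧸ I) Γ((divI Γ b).subscheme, ⊤) := Module.Finite.of_restrictScalars_finite R _ _
        letI : Field (R ⧸ I) := Ideal.Quotient.field I
        exact Module.length_ne_top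
      exact this h
  haveI := hb.1.nontrivial
  exact (Module.length_pos (R := R) (M := Γ((divI Γ b).subscheme, ⊤))).ne' h2

/-- A last step below `m`: the component added last is not exceptional, so `h¹` grows. -/
theorem step_strict (hmin : ∀ Δ : ArSurf.VertComp R (Over.mk p), ¬ Models.IsExcCurve Δ.ι) {b : Fin n → ℕ} {i : Fin n}
    (hb : b + Pi.single i 1 = fun j => Models.mult R (Over.mk p) (Γ j)) (hpos : 0 < ∑ j, (b j : ℤ) * interMat Γ i j) :
    0 < ∑ j, (b j : ℤ) * interMat Γ i j + ((Models.h1 R (Over.mk p) (Γ i) : ℤ) - Models.wdeg R (Over.mk p) (Γ i)) := by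
  classical
  have hA := isArithSurface_of_regularProper hC hX
  haveI : IsProper (Over.mk p).hom := hX.2.1
  obtain ⟨T, hm, ha, hw, -, -⟩ := exists_numType hC hH0 hX Γ hΓ
  have hsum : ∑ j, (b j : ℤ) * interMat Γ i j = - interMat Γ i i := by
    have h : ∀ j, (b j : ℤ) = T.m j - (if j = i then 1 else 0) := fun j => by
      have := congrFun hb j
      rw [hm, ← this]
      by_cases h : j = i
      · subst h; simp
      · simp [h]
    simp only [h, sub_mul, Finset.sum_sub_distrib, ite_mul, one_mul, zero_mul, Finset.sum_ite_eq', Finset.mem_univ,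
      if_true]
    rw [← ha i i, Finset.sum_congr rfl fun j _ => show T.m j * interMat Γ i j = T.a i j * T.m j by rw [ha, mul_comm],
      show ∑ j, T.a i j * T.m j = 0 from congrFun T.mulVec_m i, zero_sub, ha]
  rw [hsum] at hpos ⊢
  obtain ⟨hwpos, hwdvd, hwdeg⟩ := wdeg_facts (Γ i)
  have hwM : (Models.wdeg R (Over.mk p) (Γ i) : ℤ) ∣ - interMat Γ i i := by
    rw [interMat, neg_neg]; exact hwdeg _
  have hge : (Models.wdeg R (Over.mk p) (Γ i) : ℤ) ≤ - interMat Γ i i := Int.le_of_dvd hpos hwM
  rcases lt_or_eq_of_le hge with h | h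
  · have : (0 : ℤ) ≤ Models.h1 R (Over.mk p) (Γ i) := Int.natCast_nonneg _
    linarith
  · by_contra hle
    push Not at hle
    have h1 : Models.h1 R (Over.mk p) (Γ i) = 0 := by omega
    obtain ⟨L, -, hL⟩ := exists_inverse_module ((Groth.Agent.S8914.result _).2 (isEffCartierIdeal_ker hA (Γ i)))
    refine hmin (Γ i) (isExcCurve_of_numbers hA (Γ i) hL h1 ?_)
    rw [inter_eq_interMat hA Γ hL]
    omega

/-- `h¹` of the reduced fibre is at most that of the fibre, less for non-reduced minimal models. -/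
theorem h1_red_facts (hgcd : Models.multGcd R (Over.mk p) Γ = 1)
    (hH0k : Models.lengthH R (Over.mk p) (ClSub.quotMod (Models.redFibreIdeal R (Over.mk p))) 0 = 1) :
    Models.lengthH R (Over.mk p) (ClSub.quotMod (Models.redFibreIdeal R (Over.mk p))) 1 ≤
        Models.lengthH R (Over.mk p) (ClSub.quotMod (fibreIdeal (Over.mk p))) 1 ∧
      Models.lengthH R (Over.mk p) (ClSub.quotMod (fibreIdeal (Over.mk p))) 0 = 1 ∧
      ((∀ Δ : ArSurf.VertComp R (Over.mk p), ¬ Models.IsExcCurve Δ.ι) →
        fibreIdeal (Over.mk p) ≠ Models.redFibreIdeal R (Over.mk p) →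
        Models.lengthH R (Over.mk p) (ClSub.quotMod (Models.redFibreIdeal R (Over.mk p))) 1 <
          Models.lengthH R (Over.mk p) (ClSub.quotMod (fibreIdeal (Over.mk p))) 1) := by
  have hA := isArithSurface_of_regularProper hC hX
  obtain ⟨s, a, ha0, hal, hstep, hgood⟩ := exists_chain hC hH0 hX Γ hΓ
  rw [redFibreIdeal_eq hA Γ hΓ] at hH0k ⊢
  rw [← divI_redMult_eq hC hH0 Γ hX hΓ hgcd, ← hal]
  rw [← ha0] at hH0k ⊢
  let l0 : Fin (s + 1) → ℕ := fun j => Models.lengthH R (Over.mk p) (ClSub.quotMod (divI Γ (a j))) 0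
  let l1 : Fin (s + 1) → ℕ := fun j => Models.lengthH R (Over.mk p) (ClSub.quotMod (divI Γ (a j))) 1
  have hone : ∀ j, l0 j = 1 ∧ l1 0 ≤ l1 j := fun j => by
    induction j using Fin.induction with
    | zero => exact ⟨hH0k, le_rfl⟩
    | succ j ih =>
      obtain ⟨-, h0, h1, -⟩ := isStep_facts hC hH0 hX Γ hΓ (hstep j) (hgood j.castSucc)
      refine ⟨le_antisymm (h0.trans ih.1.le) (one_le_lengthH_zero hC hH0 Γ hX hΓ _ (hgood j.succ)), ih.2.trans h1⟩
  refine ⟨(hone _).2, (hone _).1, fun hmin hne => ?_⟩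
  obtain ⟨s', rfl⟩ : ∃ s', s = s' + 1 := by
    refine Nat.exists_eq_succ_of_ne_zero fun hs => hne ?_
    subst hs
    rfl
  have hl : (Fin.last s').succ = Fin.last (s' + 1) := Fin.succ_last s'
  obtain ⟨-, -, -, i, hbi, hΔ⟩ := isStep_facts hC hH0 hX Γ hΓ (hstep (Fin.last s')) (hgood (Fin.last s').castSucc)
  obtain ⟨i', hbi', hpos⟩ := hstep (Fin.last s')
  have hii : i = i' := by
    classical
    have h := congrFun (hbi.symm.trans hbi') i
    simp only [Pi.add_apply, Pi.single_eq_same, add_right_inj] at h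
    by_contra hne'
    rw [Pi.single_eq_of_ne hne'] at h
    exact one_ne_zero h
  subst hii
  rw [hl] at hbi hΔ
  have hstrict := step_strict hC hH0 Γ hX hΓ hmin (b := a (Fin.last s').castSucc) (i := i) (by
    rw [← hbi, hal]
    funext j
    simp [redMult, hgcd]) hpos
  have h0eq : l0 (Fin.last (s' + 1)) = l0 (Fin.last s').castSucc := (hone _).1.trans (hone _).1.symm
  have h1le := (hone (Fin.last s').castSucc).2
  simp only [l0, l1] at h0eq h1le
  rw [h0eq] at hΔ
  omega

end Groth.Agent.Castel
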