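import Groth.Agent.Castel.Twist
import Groth.Agent.Castel.Local
import Groth.Agent.Castel.Descend
import Groth.Agent.SymAlg.CanonImm
import Groth.Agent.TMul.CounitGen

/-!
Modules trivial on a contracted line are generated by one section near the image point.
-/

set_option autoImplicit false
set_option backward.isDefEq.respectTransparency false
set_option backward.isDefEq.respectTransparency.types false
set_option linter.style.haveILetI false

universe u

open CategoryTheory CategoryTheory.Limits AlgebraicGeometry TopologicalSpace Opposite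
open Groth.Agent.QC (res resO resO_resO resO_self app_res res_smul res_self res_res)
open Groth.Agent.CohFinite (tmap tmap_tm shortExact_tmap)
open Groth.Agent.W7Rees (hm qπ)
open TMul (tm IsGen val homOf val_homOf)

noncomputable section

namespace Groth.Agent.Castel

variable {X : Scheme.{u}}

/-- The powers of an ideal sheaf times a module. -/
def gpow (I : X.IdealSheafData) (G : X.Modules) : ℕ → X.Modules
  | 0 => G
  | n + 1 => CohB1.tensorMod (ClSub.idealMod I) (gpow I G n)

theorem isInvertible_gpow {I : X.IdealSheafData} (hI : BlowUp.IsEffCartierIdeal I) {G : X.Modules}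
    (hG : PicF.IsInvertible G) : ∀ n, PicF.IsInvertible (gpow I G n)
  | 0 => hG
  | n + 1 => TMul.isInvertible_tensorMod ((S8914.result I).2 hI) (isInvertible_gpow hI hG n)

/-- The inclusion of higher into lower twisted powers. -/
def gincl (I : X.IdealSheafData) (G : X.Modules) (n : ℕ) : ∀ j, gpow I G (n + j) ⟶ gpow I G n
  | 0 => 𝟙 _
  | j + 1 => CurveRR.idealIncl I (gpow I G (n + j)) ≫ gincl I G n j

variable {k : Type u} [Field k]

theorem pullback_gpow (ι₀ : CohB1.ProjSpace 1 k ⟶ X) {I : X.IdealSheafData} {G : X.Modules} {m d : ℤ}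
    (e : (Scheme.Modules.pullback ι₀).obj (ClSub.idealMod I) ≅ Twist.twistProjSpace 1 k m)
    (eG : (Scheme.Modules.pullback ι₀).obj G ≅ Twist.twistProjSpace 1 k d) :
    ∀ n : ℕ, Nonempty ((Scheme.Modules.pullback ι₀).obj (gpow I G n) ≅ Twist.twistProjSpace 1 k (m * n + d))
  | 0 => ⟨eG ≪≫ eqToIso (by simp)⟩
  | n + 1 => by
    obtain ⟨e'⟩ := pullback_gpow ι₀ e eG n
    exact nonempty_pullback_tensor ι₀ e e' (by push_cast; ring)

variable {A : Type u} [CommRing A] [X.Over (Spec (CommRingCat.of A))]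

theorem gincl_comp_qπ {I : X.IdealSheafData} (hI : BlowUp.IsEffCartierIdeal I) {G : X.Modules} (hG : PicF.IsInvertible G) (n : ℕ) :
    ∀ (j : ℕ) (J : Ideal A), (∀ W : X.affineOpens, I.ideal W ^ j ≤ J.map (baseFun W.1)) →
      gincl I G n j ≫ qπ (gpow I G n) J = 0 := by
  intro j
  have key : ∀ (U : X.Opens) (s : Γ(gpow I G (n + j), U)), ∀ x ∈ U, ∃ (W : X.affineOpens) (hW : W.1 ≤ U),
      x ∈ W.1 ∧ res (gpow I G n) hW ((gincl I G n j).app U s) ∈ (I.ideal W ^ j) • (⊤ : Submodule Γ(X, W.1) Γ(gpow I G n, W.1)) := by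
    induction j with
    | zero =>
      intro U s x hx
      obtain ⟨W, hW, hxW, hle⟩ := exists_isAffineOpen_mem_and_subset hx
      exact ⟨⟨W, hW⟩, hle, hxW, by rw [pow_zero, one_smul]; trivial⟩
    | succ j ih =>
      intro U s x hx
      obtain ⟨V, hV, e, hxV, he⟩ := CohFinite.exists_gen_le (isInvertible_gpow hI hG (n + j)) hx
      obtain ⟨a, ha⟩ := (TMul.tm_bijective (M := ClSub.idealMod I) he V le_rfl).2
        (res (gpow I G (n + j + 1)) hV s)
      simp only [res_self] at ha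
      obtain ⟨W, hWV, hxW, hmem⟩ := ih V e x hxV
      refine ⟨W, hWV.trans hV, hxW, ?_⟩
      have hval : res (gpow I G n) (hWV.trans hV) ((gincl I G n (j + 1)).app U s) =
          HSMul.hSMul (α := Γ(X, W.1)) (resO X hWV ((ClSub.idealModι I).app V a))
            (res (gpow I G n) hWV ((gincl I G n j).app V e)) := by
        have h4 : (gincl I G n (j + 1)).app V (res (gpow I G (n + j + 1)) hV s) =
            HSMul.hSMul (α := Γ(X, V)) ((ClSub.idealModι I).app V a) ((gincl I G n j).app V e) := by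
          rw [← ha]
          exact (congrArg ((gincl I G n j).app V) (CurveRR.idealIncl_tm I a e)).trans
            (Scheme.Modules.Hom.app_smul _ _ _)
        rw [← res_smul, ← h4, ← res_res _ hWV hV]
        exact congrArg _ (app_res (gincl I G n (j + 1)) hV s)
      rw [hval, pow_succ', Submodule.mul_smul]
      refine Submodule.smul_mem_smul ?_ hmem
      exact (Groth.Agent.QC.mem_range_idealModι_affine I W _).1
        ⟨res (ClSub.idealMod I) hWV a, (app_res _ _ _).symm⟩
  intro J hJ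
  refine Scheme.Modules.hom_ext _ _ fun U => ?_
  ext s
  refine Groth.Agent.QC.section_eq_of_locally fun x hx => ?_
  obtain ⟨W, hW, hxW, hmem⟩ := key U s x hx
  refine ⟨W.1, hW, hxW, Eq.trans ?_ (map_zero (res _ hW)).symm⟩
  refine (app_res (qπ (gpow I G n) J) hW _).trans ?_
  refine Submodule.smul_induction_on (p := fun t => (qπ (gpow I G n) J).app W.1 t = 0) hmem
    (fun a ha t _ => smul_mem_ker _ J W.1 t (hJ W ha)) fun a b ha hb => ?_
  rw [map_add, ha, hb, add_zero]


/-- The first cohomology of the twisted ideal is killed by a function equal to one on the fibre. -/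
theorem exists_kill_h1 [IsNoetherianRing A] [IsProper (X ↘ Spec (CommRingCat.of A))] (𝔪 : Ideal A)
    {I : X.IdealSheafData} (hI : BlowUp.IsEffCartierIdeal I)
    (ι₀ : CohB1.ProjSpace 1 k ⟶ X) [IsClosedImmersion ι₀] (hker : ι₀.ker = I)
    {G : X.Modules} (hG : PicF.IsInvertible G) {m d : ℤ} (hm0 : 0 ≤ m) (hd : -1 ≤ d)
    (e : (Scheme.Modules.pullback ι₀).obj (ClSub.idealMod I) ≅ Twist.twistProjSpace 1 k m)
    (eG : (Scheme.Modules.pullback ι₀).obj G ≅ Twist.twistProjSpace 1 k d)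
    {c : ℕ} (hc : ∀ W : X.affineOpens, I.ideal W ^ c ≤ 𝔪.map (baseFun W.1)) (n : ℕ) :
    ∃ a : A, a - 1 ∈ 𝔪 ∧ ∀ x : Coh.HH X (gpow I G n) 1, a • x = 0 := by
  haveI : IsLocallyNoetherian X := LocallyOfFiniteType.isLocallyNoetherian (X ↘ Spec (CommRingCat.of A))
  have hF : Coh.IsCoh (gpow I G n) := ⟨TMul.isQCoh_of_isInvertible (isInvertible_gpow hI hG n),
    TMul.isFT_of_isInvertible (isInvertible_gpow hI hG n)⟩
  haveI := CohFinite.finite_proper (A := A) X (gpow I G n) hF 1
  have hstep : ∀ j, Function.Surjective (hm (CurveRR.idealIncl I (gpow I G j)) 1) := fun j x => by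
    have hS := shortExact_tmap (isInvertible_gpow hI hG j) (CurveRR.ideal_shortExact I)
    have hT := hS.map_of_exact (CohQC.toAbF X)
    obtain ⟨e'⟩ := pullback_gpow ι₀ e eG j
    have h3 := subsingleton_h1_quot_of_iso ι₀ hker (isInvertible_gpow hI hG j)
      (hd.trans (le_add_of_nonneg_left (mul_nonneg hm0 (Int.natCast_nonneg j)))) e'
    let u := TMul.leftUnitIso (gpow I G j)
    obtain ⟨y, hy⟩ := (CohFinite.map_g_eq_zero_iff hT 1 (hm u.inv 1 x)).1 (@Subsingleton.elim _ h3 _ _)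
    refine ⟨y, (W7Rees.hm_comp (tmap (ClSub.idealModι I) (gpow I G j)) u.hom 1 y).trans ?_⟩
    rw [show hm (tmap (ClSub.idealModι I) (gpow I G j)) 1 y = hm u.inv 1 x from hy]
    refine (W7Rees.hm_comp u.inv u.hom 1 x).symm.trans ?_
    rw [u.inv_hom_id]
    exact (congrArg (fun φ => Sheaf.H.map φ 1 x) (CategoryTheory.Functor.map_id _ _)).trans
      (Sheaf.H.map_id_apply _)
  have hsurj : ∀ j, Function.Surjective (hm (gincl I G n j) 1) := by
    intro j
    induction j with
    | zero =>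
      exact fun x => ⟨x, (congrArg (fun φ => Sheaf.H.map φ 1 x) (CategoryTheory.Functor.map_id _ _)).trans
        (Sheaf.H.map_id_apply _)⟩
    | succ j ih =>
      intro x
      obtain ⟨y, rfl⟩ := ih x
      obtain ⟨z, rfl⟩ := hstep (n + j) y
      exact ⟨z, W7Rees.hm_comp _ _ 1 z⟩
  obtain ⟨d', hd'⟩ := W7Rees.exists_ker_le_pow 𝔪 hF 1
  have htop : (⊤ : Submodule A (Coh.HH X (gpow I G n) 1)) ≤ 𝔪 • ⊤ := by
    intro x _
    obtain ⟨y, rfl⟩ := hsurj (c * (1 + d')) x
    have h0 : hm (qπ (gpow I G n) (𝔪 ^ (1 + d'))) 1 (hm (gincl I G n (c * (1 + d'))) 1 y) = 0 := by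
      refine (W7Rees.hm_comp _ _ 1 y).symm.trans ?_
      rw [gincl_comp_qπ hI hG n (c * (1 + d')) (𝔪 ^ (1 + d')) fun W => by
        rw [Ideal.map_pow, pow_mul]; exact Ideal.pow_right_mono (hc W) _]
      refine (congrArg (fun φ => Sheaf.H.map φ 1 y) (Functor.map_zero _ _ _)).trans ?_
      change Abelian.Ext.comp y (Abelian.Ext.mk₀ 0) (add_zero 1) = 0
      rw [Abelian.Ext.mk₀_zero, Abelian.Ext.comp_zero]
    have h1 := hd' _ _ h0
    rwa [show 1 + d' - d' = 1 by omega, pow_one] at h1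
  obtain ⟨a, ha, ha0⟩ := Submodule.exists_sub_one_mem_and_smul_eq_zero_of_fg_of_le_smul 𝔪 ⊤
    Module.Finite.fg_top htop
  exact ⟨a, ha, fun x => ha0 x trivial⟩

/-- Multiplication by a scalar commutes with module maps. -/
theorem smulMod_comm {M N : X.Modules} (φ : M ⟶ N) (a : A) :
    Formal.smulMod A M a ≫ φ = φ ≫ Formal.smulMod A N a := by
  refine Scheme.Modules.hom_ext _ _ fun U => ?_
  ext t
  exact Scheme.Modules.Hom.app_smul φ _ t

/-- A section of the quotient fixed by a scalar killing the first cohomology of the submodule lifts. -/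
theorem exists_lift_of_smul {S : ShortComplex X.Modules} (hT : S.ShortExact) (a : A)
    (h : ∀ x : Coh.HH X S.X₁ 1, a • x = 0) (y : Γ(S.X₃, ⊤))
    (hy : Scheme.Modules.Hom.app (Formal.smulMod A S.X₃ a) ⊤ y = y) :
    ∃ w, S.g.app ⊤ w = y := by
  have hS := hT.map_of_exact (CohQC.toAbF X)
  let τ := (CohQC.toAbF X).mapShortComplex.map (ShortComplex.homMk (S₁ := S) (S₂ := S)
    (Formal.smulMod A _ a) (Formal.smulMod A _ a) (Formal.smulMod A _ a)
    (smulMod_comm _ a) (smulMod_comm _ a))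
  let H := Sheaf.H.equiv₀ ((CohQC.toAbF X).obj S.X₃) (isTerminalTop (α := X.Opens))
  let H₂ := Sheaf.H.equiv₀ ((CohQC.toAbF X).obj S.X₂) (isTerminalTop (α := X.Opens))
  have h0 : CohFinite.δH hS 0 (H.symm y) = 0 := by
    have h1 := CohFinite.δH_natural hS hS τ 0 (H.symm y)
    have h2 : Sheaf.H.map τ.τ₃ 0 (H.symm y) = H.symm y :=
      (Sheaf.H.equiv₀_symm_naturality (isTerminalTop (α := X.Opens)) τ.τ₃ y).trans (congrArg H.symm hy)
    exact (congrArg (CohFinite.δH hS 0) h2.symm).trans (h1.trans (h _))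
  obtain ⟨x, hx⟩ := (CohFinite.δH_eq_zero_iff hS 0 _).1 h0
  have h3 := Sheaf.H.equiv₀_naturality (isTerminalTop (α := X.Opens)) ((CohQC.toAbF X).map S.g) x
  exact ⟨H₂ x, h3.trans ((congrArg H hx).trans (H.apply_symm_apply y))⟩

/-- Sections on the subscheme lift when a function equal to one there kills the obstructions. -/
theorem surjective_eta_of_smul {I : X.IdealSheafData} {G : X.Modules} (hG : PicF.IsInvertible G) (a : A)
    (ha : I.subschemeι.app ⊤ (Coh.toGlobal (X ↘ Spec (CommRingCat.of A)) a) = 1)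
    (h : ∀ x : Coh.HH X (CohB1.tensorMod (ClSub.idealMod I) G) 1, a • x = 0) :
    Function.Surjective (ProjMor.eta I.subschemeι G ⊤) := by
  haveI := W7Hull.isIso_projMap_of_invertible I.subschemeι (Coh.structureModule I.subscheme) hG
  set s := I.subschemeι with hs
  have hT := shortExact_tmap hG (CurveRR.ideal_shortExact I)
  have hlift : ∀ y : Γ(CohB1.tensorMod (ClSub.quotMod I) G, ⊤),
      ∃ w, (tmap (ClSub.toSubscheme I) G).app ⊤ w = y := by
    intro y
    have hy : Scheme.Modules.Hom.app (Formal.smulMod A (CohB1.tensorMod (ClSub.quotMod I) G) a) ⊤ y = y := by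
      let p := CohFinite.projMap s (Coh.structureModule I.subscheme) G
      apply (ConcreteCategory.bijective_of_isIso (p.app ⊤)).1
      refine (Scheme.Modules.Hom.app_smul p _ y).trans ?_
      change HSMul.hSMul (α := Γ(I.subscheme, s ⁻¹ᵁ ⊤))
        (s.app ⊤ (resO X (le_top : (⊤ : X.Opens) ≤ ⊤) (Coh.toGlobal (X ↘ Spec (CommRingCat.of A)) a)))
        (show Γ(CohB1.tensorMod (Coh.structureModule I.subscheme) ((Scheme.Modules.pullback s).obj G), s ⁻¹ᵁ ⊤) from
          p.app ⊤ y) = _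
      rw [resO_self]
      erw [ha, one_smul]
    exact exists_lift_of_smul hT a h y hy
  intro z
  let y := (inv (CohFinite.projMap s (Coh.structureModule I.subscheme) G)).app ⊤
    (tm (M := Coh.structureModule I.subscheme) (1 : Γ(I.subscheme, ⊤)) z)
  obtain ⟨w, hw⟩ := hlift y
  refine ⟨(TMul.leftUnitIso G).hom.app ⊤ w, ?_⟩
  set l := (TMul.leftUnitIso G).hom.app ⊤ w with hl
  have hwl : w = tm (M := Coh.structureModule X) (1 : Γ(X, ⊤)) l := by
    have h1 : (TMul.leftUnitIso G).hom.app ⊤ w =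
        (TMul.leftUnitIso G).hom.app ⊤ (tm (M := Coh.structureModule X) (1 : Γ(X, ⊤)) l) := by
      rw [CurveRR.leftUnitIso_tm, one_smul]
    exact (ConcreteCategory.bijective_of_isIso ((TMul.leftUnitIso G).hom.app ⊤)).1 h1
  have h2 := congrArg ((CohFinite.projMap s (Coh.structureModule I.subscheme) G).app ⊤) hw
  have h3 : (CohFinite.projMap s (Coh.structureModule I.subscheme) G).app ⊤ y =
      tm (M := Coh.structureModule I.subscheme) (1 : Γ(I.subscheme, ⊤)) z :=
    ConcreteCategory.congr_hom (congrArg (fun φ => Scheme.Modules.Hom.app φ ⊤)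
      (IsIso.inv_hom_id (CohFinite.projMap s (Coh.structureModule I.subscheme) G))) _
  rw [hwl] at h2
  have h4 := h2.trans h3
  change (CohFinite.projMap s (Coh.structureModule I.subscheme) G).app ⊤
    ((tmap (ClSub.toSubscheme I) G).app ⊤ (tm (M := Coh.structureModule X) (1 : Γ(X, ⊤)) l)) = _ at h4
  rw [tmap_tm] at h4
  have h5 := (CohFinite.projMap_tm s (Coh.structureModule I.subscheme) G (U := ⊤) _ l).symm.trans h4
  have h6 := congrArg ((TMul.leftUnitIso ((Scheme.Modules.pullback s).obj G)).hom.app (s ⁻¹ᵁ ⊤)) h5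
  erw [CurveRR.leftUnitIso_tm, CurveRR.leftUnitIso_tm] at h6
  rw [one_smul, show (ClSub.toSubscheme I).app ⊤ (1 : Γ(X, ⊤)) = s.app ⊤ 1 from rfl, map_one, one_smul] at h6
  exact h6

/-- A module trivial on the line has a section generating along it. -/
theorem exists_gen_along_smul {I : X.IdealSheafData} (ι₀ : CohB1.ProjSpace 1 k ⟶ X) [IsClosedImmersion ι₀]
    (hker : ι₀.ker = I) {G : X.Modules} (hG : PicF.IsInvertible G) (a : A)
    (ha : I.subschemeι.app ⊤ (Coh.toGlobal (X ↘ Spec (CommRingCat.of A)) a) = 1)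
    (e' : (Scheme.Modules.pullback ι₀).obj G ≅ Twist.twistProjSpace 1 k 0)
    (h : ∀ x : Coh.HH X (CohB1.tensorMod (ClSub.idealMod I) G) 1, a • x = 0) :
    ∃ σ : Γ(G, ⊤), Set.range ι₀ ⊆ (CohB1.genLocus G (homOf σ) : Set X) := by
  subst hker
  haveI : IsIso ι₀.toImage := inferInstance
  set s := ι₀.ker.subschemeι
  obtain ⟨t⟩ := Horrocks.Om_zero (k := k) (d := 1)
  let one : Γ(Twist.twistProjSpace 1 k 0, ⊤) := t.inv.app ⊤ (1 : Γ(CohB1.ProjSpace 1 k, ⊤))
  have hfac : inv ι₀.toImage ≫ ι₀ = s := (IsIso.inv_comp_eq _).2 ι₀.toImage_imageι.symm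
  let β := inv ι₀.toImage
  let ψ : (Scheme.Modules.pullback s).obj G ≅ (Scheme.Modules.pullback β).obj (Twist.twistProjSpace 1 k 0) :=
    (Scheme.Modules.pullbackCongr hfac.symm).app G ≪≫
      ((Scheme.Modules.pullbackComp β ι₀).app G).symm ≪≫ (Scheme.Modules.pullback β).mapIso e'
  obtain ⟨σ, hσ⟩ := surjective_eta_of_smul hG a ha h (ψ.inv.app _ (ProjMor.eta β _ ⊤ one))
  refine ⟨σ, ?_⟩
  rintro _ ⟨z, rfl⟩
  have hz : s (ι₀.toImage z) = ι₀ z := by
    rw [← Scheme.Hom.comp_apply, ι₀.toImage_imageι]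
  rw [← hz]
  change ι₀.toImage z ∈ s ⁻¹ᵁ CohB1.genLocus G (homOf σ)
  rw [← ProjMor.genLocus_pullSec s hG σ]
  change ι₀.toImage z ∈ CohB1.genLocus _ (homOf (L := (Scheme.Modules.pullback s).obj G) (ProjMor.eta s G ⊤ σ))
  rw [hσ]
  erw [ProjMor.homOf_app, TMul.genLocus_comp]
  refine (ProjMor.genLocus_pullSec β (CohFinite.isInvertible_twist 1 k 0) one).ge ?_
  change _ ∈ CohB1.genLocus _ (homOf (t.inv.app ⊤ (1 : Γ(CohB1.ProjSpace 1 k, ⊤))))
  erw [ProjMor.homOf_app, TMul.genLocus_comp]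
  refine (TMul.mem_genLocus_iff_isUnit (homOf (L := Coh.structureModule (CohB1.ProjSpace 1 k))
    (show Γ(Coh.structureModule (CohB1.ProjSpace 1 k), ⊤) from (1 : Γ(CohB1.ProjSpace 1 k, ⊤))))
    (TMul.isGen_one ⊤) (c := 1) ?_ trivial).2 ?_
  · rw [val_homOf, one_smul]
    exact res_self _ _ _
  · rw [map_one]
    exact isUnit_one

/-- A module trivial on a contracted line has a generator over a neighbourhood of the image point. -/
theorem exists_gen_fibre [IsNoetherianRing A] [IsProper (X ↘ Spec (CommRingCat.of A))]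
    (pt : Spec (CommRingCat.of A)) (hpt : IsClosed ({pt} : Set (Spec (CommRingCat.of A))))
    {I : X.IdealSheafData} (hI : BlowUp.IsEffCartierIdeal I)
    (ι₀ : CohB1.ProjSpace 1 k ⟶ X) [IsClosedImmersion ι₀] (hker : ι₀.ker = I)
    (hfib : ∀ x : X, (X ↘ Spec (CommRingCat.of A)) x = pt ↔ x ∈ Set.range ι₀)
    {G : X.Modules} (hG : PicF.IsInvertible G) {m : ℤ} (hm0 : 0 ≤ m)
    (e : (Scheme.Modules.pullback ι₀).obj (ClSub.idealMod I) ≅ Twist.twistProjSpace 1 k m)
    (eG : (Scheme.Modules.pullback ι₀).obj G ≅ Twist.twistProjSpace 1 k 0) :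
    ∃ V : (Spec (CommRingCat.of A)).Opens, pt ∈ V ∧
      ∃ g : Γ(G, (X ↘ Spec (CommRingCat.of A)) ⁻¹ᵁ V), IsGen g := by
  set f := X ↘ Spec (CommRingCat.of A) with hf
  haveI : IsLocallyNoetherian X := LocallyOfFiniteType.isLocallyNoetherian f
  haveI : CompactSpace X := QuasiCompact.compactSpace_of_compactSpace f
  haveI : IsNoetherian X := {}
  haveI : IsIntegral (CohB1.ProjSpace 1 k) := Horrocks.isIntegral_projSpace
  haveI hmax : pt.asIdeal.IsMaximal := (PrimeSpectrum.isClosed_singleton_iff_isMaximal pt).1 hpt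
  let J : (Spec (CommRingCat.of A)).IdealSheafData :=
    Scheme.IdealSheafData.ofIdealTop (pt.asIdeal.map (Scheme.ΓSpecIso (CommRingCat.of A)).inv.hom)
  have hJ : ((J.comap f).support : Set X) ⊆ I.support := by
    intro x hx
    rw [← hker, Scheme.Hom.support_ker, ι₀.isClosedMap.isClosed_range.closure_eq, ← hfib]
    rw [Scheme.IdealSheafData.support_comap] at hx
    have hz : f x ∈ (J.support : Set (Spec (CommRingCat.of A))) := hx
    rw [Scheme.IdealSheafData.coe_support_ofIdealTop] at hz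
    refine PrimeSpectrum.ext (hmax.eq_of_le (f x).isPrime.ne_top fun b hb => ?_).symm
    by_contra hbx
    refine (Scheme.mem_zeroLocus_iff _ _ _).1 hz _ (Ideal.mem_map_of_mem _ hb) ?_
    rw [basicOpen_eq_of_affine]
    exact hbx
  obtain ⟨c, hc⟩ := exists_pow_le I (J.comap f) hJ
  have hJW : ∀ W : X.affineOpens, (J.comap f).ideal W = pt.asIdeal.map (baseFun W.1) := fun W => by
    let T : (Spec (CommRingCat.of A)).affineOpens := ⟨⊤, isAffineOpen_top _⟩
    rw [show (J.comap f).ideal W = _ from Groth.Agent.FpqcDescent.ideal_comap_appLE _ f T W le_top,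
      Scheme.IdealSheafData.ofIdealTop_ideal]
    simp only [T, homOfLE_refl, op_id, CategoryTheory.Functor.map_id, CommRingCat.hom_id, 
      Ideal.map_map]
    rfl
  obtain ⟨a, ha, ha0⟩ := exists_kill_h1 pt.asIdeal hI ι₀ hker hG hm0 (by norm_num : (-1 : ℤ) ≤ 0) e eG
    (fun W => (hc W).trans (hJW W).le) 1
  have hvan : ∀ b ∈ pt.asIdeal, ι₀.app ⊤ (Coh.toGlobal f b) = 0 := fun b hb => by
    refine AlgebraicGeometry.eq_zero_of_basicOpen_eq_bot _ (eq_bot_iff.2 fun z hz => ?_)
    rw [← Scheme.preimage_basicOpen ι₀] at hz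
    change ι₀ z ∈ X.basicOpen (f.app ⊤ ((Scheme.ΓSpecIso (CommRingCat.of A)).inv b)) at hz
    rw [← Scheme.preimage_basicOpen f, basicOpen_eq_of_affine] at hz
    have hz' : b ∉ (f (ι₀ z)).asIdeal := hz
    rw [(hfib _).2 ⟨z, rfl⟩] at hz'
    exact hz' hb
  have ha1 : I.subschemeι.app ⊤ (Coh.toGlobal f a) = 1 := by
    subst hker
    haveI : IsIso ι₀.toImage := inferInstance
    have h1 : ι₀.app ⊤ (Coh.toGlobal f a) = 1 := by
      have := hvan _ ha
      rwa [map_sub, map_sub, map_one, map_one, sub_eq_zero] at this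
    rw [show ι₀.ker.subschemeι = inv ι₀.toImage ≫ ι₀ from ((IsIso.inv_comp_eq _).2 ι₀.toImage_imageι.symm).symm]
    rw [Scheme.Hom.comp_app]
    exact (congrArg ((inv ι₀.toImage).app (ι₀ ⁻¹ᵁ ⊤)) h1).trans (map_one ((inv ι₀.toImage).app (ι₀ ⁻¹ᵁ ⊤)).hom)
  obtain ⟨σ, hσ⟩ := exists_gen_along_smul ι₀ hker hG a ha1 eG ha0
  have hcl : IsClosed (f '' (↑(CohB1.genLocus G (homOf σ)) : Set X)ᶜ) :=
    f.isClosedMap _ (CohB1.genLocus G (homOf σ)).isOpen.isClosed_compl
  refine ⟨⟨_, hcl.isOpen_compl⟩, ?_, res G le_top (val (homOf σ) ⊤), ?_⟩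
  · rintro ⟨x, hx, hxp⟩
    exact hx (hσ ((hfib x).1 hxp))
  · rw [TMul.res_val]
    intro W hW
    have hle : W ≤ CohB1.genLocus G (homOf σ) := fun x hx => by
      by_contra h'
      exact hW hx ⟨x, h', rfl⟩
    have := TMul.isGen_genLocus (homOf σ) W hle
    rw [TMul.res_val] at this ⊢
    exact this

end Groth.Agent.Castel
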