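import Groth.Agent.Castel.EulerTrivial

/-!
Divisors of global functions.
-/

set_option autoImplicit false
set_option backward.isDefEq.respectTransparency false
set_option backward.isDefEq.respectTransparency.types false
set_option linter.style.haveILetI false

universe u

open CategoryTheory CategoryTheory.Limits AlgebraicGeometry TopologicalSpace Opposite

noncomputable section

namespace Groth.Agent.Castel

/-- The divisor of a nonzero global function on an integral scheme. -/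
theorem exists_principal_divisor {X : Scheme.{u}} [IsIntegral X] (a : Γ(X, ⊤)) (ha : a ≠ 0) :
    ∃ J : X.IdealSheafData, BlowUp.IsEffCartierIdeal J ∧
      Nonempty (Coh.structureModule X ≅ ClSub.idealMod J) ∧ (J.support : Set X) = (X.basicOpen a : Set X)ᶜ := by
  obtain ⟨A, hA⟩ : ∃ A : CommRingCat.{u}, A = Γ(X, ⊤) := ⟨_, rfl⟩
  subst hA
  haveI : IsDomain Γ(X, ⊤) := inferInstance
  let Y := Spec Γ(X, ⊤)
  let s : Γ(Y, ⊤) := (Scheme.ΓSpecIso Γ(X, ⊤)).inv a
  let T : Y.affineOpens := ⟨⊤, isAffineOpen_top _⟩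
  let I₀ : Y.IdealSheafData := Scheme.IdealSheafData.ofIdealTop (Ideal.span {s})
  have hid : I₀.ideal T = Ideal.span {s} := by
    rw [Scheme.IdealSheafData.ofIdealTop_ideal]
    simp [T]
  have hs : s ∈ nonZeroDivisors Γ(Y, ⊤) := mem_nonZeroDivisors_of_ne_zero fun h => ha
    ((ConcreteCategory.bijective_of_isIso (Scheme.ΓSpecIso Γ(X, ⊤)).inv).1 (h.trans (map_zero _).symm))
  have hI₀ : BlowUp.IsEffCartierIdeal I₀ := fun x => ⟨T, trivial, s, hs, hid⟩
  obtain ⟨t, ht⟩ := (Groth.Agent.QC.mem_range_idealModι_affine I₀ T s).2 (hid ▸ Ideal.mem_span_singleton_self s)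
  have hgen : TMul.IsGen t := PtBlow.isGen_of_ideal hI₀ (D := T) ht.symm hs hid
  obtain ⟨e₀⟩ := nonempty_iso_of_isGen hgen
  let J : X.IdealSheafData := I₀.comap X.toSpecΓ
  have hJid : ∀ W : X.affineOpens, J.ideal W = Ideal.span {QC.resO X (le_top : W.1 ≤ ⊤) a} := fun W => by
    have h := Groth.Agent.FpqcDescent.ideal_comap_appLE I₀ X.toSpecΓ T W le_top
    refine h.trans ?_
    rw [hid, Ideal.map_span, Set.image_singleton]
    congr 2
    show X.presheaf.map _ (X.toSpecΓ.appTop s) = _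
    rw [Scheme.toSpecΓ_appTop]
    exact congrArg (fun z => X.presheaf.map (homOfLE (le_top : W.1 ≤ ⊤)).op z)
      (Iso.inv_hom_id_apply (Scheme.ΓSpecIso Γ(X, ⊤)) a)
  have hJ : BlowUp.IsEffCartierIdeal J := fun x => by
    obtain ⟨W, hW, hxW, -⟩ := exists_isAffineOpen_mem_and_subset (show x ∈ (⊤ : X.Opens) from trivial)
    haveI : Nonempty W := ⟨⟨x, hxW⟩⟩
    refine ⟨⟨W, hW⟩, hxW, QC.resO X (le_top : W ≤ ⊤) a, mem_nonZeroDivisors_of_ne_zero fun h => ha ?_, hJid _⟩
    exact map_injective_of_isIntegral X (homOfLE (le_top : W ≤ ⊤)) (h.trans (map_zero _).symm)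
  obtain ⟨i⟩ := Nakai.nonempty_pullback_idealMod X.toSpecΓ hI₀ hJ
  refine ⟨J, hJ, ⟨(i.symm ≪≫ (Scheme.Modules.pullback X.toSpecΓ).mapIso e₀.symm ≪≫
    PicLoc.pullbackStructureIso X.toSpecΓ).symm⟩, ?_⟩
  rw [show J = I₀.comap X.toSpecΓ from rfl, Scheme.IdealSheafData.support_comap]
  show X.toSpecΓ ⁻¹' (I₀.support : Set Y) = _
  rw [Scheme.IdealSheafData.coe_support_ofIdealTop, Scheme.zeroLocus_span, Scheme.zeroLocus_singleton,
    Set.preimage_compl, ← Scheme.Hom.coe_preimage, Scheme.preimage_basicOpen]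
  rw [show X.toSpecΓ.app ⊤ s = a by
    show X.toSpecΓ.appTop s = a
    rw [Scheme.toSpecΓ_appTop]
    exact Iso.inv_hom_id_apply (Scheme.ΓSpecIso Γ(X, ⊤)) a]

end Groth.Agent.Castel
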