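import Groth.Agent.RelMinSmooth.Main
import Groth.Agent.SteinGen.Basic
import Groth.Agent.SteinGen.GeomConn
import Groth.Agent.SepBC.Closed
import Groth.Agent.S0419

/-!
Contracted curves of a model of an arithmetic surface lie in finitely many reducible fibres.
-/

set_option autoImplicit false
set_option backward.isDefEq.respectTransparency false
set_option backward.isDefEq.respectTransparency.types false

universe u

open CategoryTheory CategoryTheory.Limits AlgebraicGeometry TopologicalSpace Topology
open Groth.Agent.RelMinSmooth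

namespace Groth.Agent.Castel

/-- The closed fibre through `z` is, near the curve with generic point `z`, just that curve. -/
def IsIsolatedComp {R : Type u} [CommRing R] (X : Over (Spec (CommRingCat.of R))) (z : X.left) : Prop :=
  ∃ O : X.left.Opens, ∀ v, X.hom v = X.hom z → (v ∈ O ↔ z ⤳ v)

variable {R : Type u} [CommRing R] [IsDedekindDomain R] {X Y : Over (Spec (CommRingCat.of R))}

/-- A map of models is surjective, with integral target, and an isomorphism unless it contracts a maximal
point of a special fibre which is not isolated in it. -/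
theorem contracted_facts (hX : ArSurf.IsArithSurface R X)
    (hYreg : ∀ y : Y.left, IsRegularLocalRing (Y.left.presheaf.stalk y)) (hYproj : Neron.IsProjectiveOver R Y)
    [Flat Y.hom] (g : X ⟶ Y) (hg : IsIso ((Neron.genericFibre R).map g)) :
    Function.Surjective g.left.base ∧ IsProper g.left ∧ IsIntegral Y.left ∧
    (∀ z q : X.left, z ⤳ q → g.left z = g.left q → z ≠ q →
      (X.hom z).asIdeal ≠ ⊥ ∧ (∀ w, X.hom w = X.hom z → w ⤳ z → w = z) ∧ ¬ IsIsolatedComp X z) ∧
    ((∀ z q : X.left, z ⤳ q → g.left z = g.left q → z = q) → IsIso g) := by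
  obtain ⟨hXreg, hXint, hXdim, hXflat, hXproj⟩ := hX
  haveI := hXint
  haveI := hXflat
  obtain ⟨n, i, hi, hiw⟩ := hXproj
  obtain ⟨m, j, hj, hjw⟩ := hYproj
  haveI : IsProper X.hom := by
    rw [← hiw]
    haveI := HQProj.isProper_toBase n (Spec (CommRingCat.of R))
    infer_instance
  haveI : IsProper Y.hom := by
    rw [← hjw]
    haveI := HQProj.isProper_toBase m (Spec (CommRingCat.of R))
    infer_instance
  haveI : IsLocallyNoetherian X.left := LocallyOfFiniteType.isLocallyNoetherian X.hom
  haveI : IsLocallyNoetherian Y.left := LocallyOfFiniteType.isLocallyNoetherian Y.hom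
  let f : X.left ⟶ Y.left := g.left
  have hf : f ≫ Y.hom = X.hom := Over.w g
  haveI : IsProper f := by
    haveI : IsProper (f ≫ Y.hom) := by rw [hf]; infer_instance
    exact IsProper.of_comp f Y.hom
  let η : Spec (CommRingCat.of R) := (⟨⊥, Ideal.isPrime_bot⟩ : PrimeSpectrum R)
  have hηle : ∀ s : Spec (CommRingCat.of R), η ⤳ s := fun s ↦
    (PrimeSpectrum.le_iff_specializes η s).mp bot_le
  have hclosed : ∀ s : Spec (CommRingCat.of R), s ≠ η → IsClosed ({s} : Set (Spec (CommRingCat.of R))) := fun s hs ↦
    (PrimeSpectrum.isClosed_singleton_iff_isMaximal s).mpr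
      (Ideal.IsPrime.isMaximal s.isPrime (fun e ↦ hs (PrimeSpectrum.ext e)))
  let fX := pullback.fst X.hom (Neron.genPt R)
  let fY := pullback.fst Y.hom (Neron.genPt R)
  haveI : IsPreimmersion (Neron.genPt R) := IsPreimmersion.of_isLocalization (nonZeroDivisors R)
  haveI : IsPreimmersion fY := inferInstance
  have hrangeX : ∀ x : X.left, X.hom x = η → x ∈ Set.range fX := fun x hx ↦ by
    rw [Scheme.Pullback.range_fst, range_genPt]
    exact hx
  have hrangeY : ∀ y : Y.left, Y.hom y = η → y ∈ Set.range fY := fun y hy ↦ by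
    rw [Scheme.Pullback.range_fst, range_genPt]
    exact hy
  haveI := hg
  let gK := ((Neron.genericFibre R).map g).left
  haveI : IsIso gK := inferInstanceAs (IsIso ((Over.forget _).map ((Neron.genericFibre R).map g)))
  have hgK : gK ≫ fY = fX ≫ f := pullback.lift_fst _ _ _
  have hinjη : ∀ a b : X.left, X.hom a = η → f a = f b → a = b := by
    intro a b ha hab
    have hb : X.hom b = η := by
      rw [← hf, Scheme.Hom.comp_apply, ← hab, ← Scheme.Hom.comp_apply, hf, ha]
    obtain ⟨a', rfl⟩ := hrangeX a ha
    obtain ⟨b', rfl⟩ := hrangeX b hb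
    rw [← Scheme.Hom.comp_apply, ← Scheme.Hom.comp_apply, ← hgK, Scheme.Hom.comp_apply, Scheme.Hom.comp_apply] at hab
    rw [gK.isOpenEmbedding.injective (fY.isEmbedding.injective hab)]
  have hηX : X.hom (genericPoint X.left) = η := by
    obtain ⟨w, hw, hw'⟩ := Flat.generalizingMap X.hom (a := genericPoint X.left) (hηle _)
    rwa [(hw.antisymm ((genericPoint_spec X.left).specializes trivial)).eq] at hw'
  -- `Y` is integral
  have hgenY : IsGenericPoint (f (genericPoint X.left)) (Set.univ : Set Y.left) := by
    rw [IsGenericPoint, Set.eq_univ_iff_forall]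
    intro y
    obtain ⟨w, hwy, hw⟩ := Flat.generalizingMap Y.hom (a := y) (hηle _)
    obtain ⟨w', rfl⟩ := hrangeY w hw
    obtain ⟨x, rfl⟩ := (gK.surjective : Function.Surjective gK.base) w'
    have : fY (gK x) = f (fX x) := by
      exact (Scheme.Hom.comp_apply gK fY x).symm.trans ((congr($hgK x)).trans (Scheme.Hom.comp_apply fX f x))
    rw [this] at hwy
    exact ((((genericPoint_spec X.left).specializes trivial).map f.continuous).trans hwy).mem_closure
  haveI : IsReduced Y.left := WeilExt.isReduced_of_regular hYreg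
  haveI : IrreducibleSpace Y.left := by
    haveI : PreirreducibleSpace Y.left := ⟨by
      rw [← hgenY.def]; exact isIrreducible_singleton.closure.isPreirreducible⟩
    exact { toNonempty := ⟨f (genericPoint X.left)⟩ }
  haveI : IsIntegral Y.left := isIntegral_of_irreducibleSpace_of_isReduced _
  have hgen : f (genericPoint X.left) = genericPoint Y.left := hgenY.eq (genericPoint_spec Y.left)
  have hsurj : Function.Surjective f.base := by
    intro y
    have h1 : closure {f (genericPoint X.left)} ⊆ Set.range f.base :=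
      closure_minimal (Set.singleton_subset_iff.mpr ⟨_, rfl⟩) f.isClosedMap.isClosed_range
    exact h1 (hgenY.def.ge trivial)
  haveI hbir : IsIso (f.stalkMap (genericPoint X.left)) := by
    obtain ⟨x₀, hx₀⟩ := hrangeX _ hηX
    rw [← hx₀]
    haveI : IsIso (fY.stalkMap (gK x₀)) := isIso_stalkMap_fst Y.hom _
    haveI : IsIso (fX.stalkMap x₀) := isIso_stalkMap_fst X.hom _
    haveI : IsIso ((fX ≫ f).stalkMap x₀) := by
      rw [Scheme.Hom.stalkMap_congr_hom _ _ hgK.symm, Scheme.Hom.stalkMap_comp]
      infer_instance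
    rw [Scheme.Hom.stalkMap_comp] at this
    exact IsIso.of_isIso_comp_right (f.stalkMap (fX x₀)) (fX.stalkMap x₀)
  have hnormal : ∀ y : Y.left, IsIntegrallyClosed (Y.left.presheaf.stalk y) := fun y ↦ by
    haveI := hYreg y
    haveI := UFDLib.ufd_of_isRegularLocalRing (Y.left.presheaf.stalk y)
    infer_instance
  -- specialisations inside fibres
  refine ⟨hsurj, inferInstance, inferInstance, fun z q hzq hfzq hne => ?_, fun hdisc => ?_⟩
  · suffices hmain : X.hom z ≠ η ∧ (∀ w, X.hom w = X.hom z → w ⤳ z → w = z) ∧ ¬ IsIsolatedComp X z from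
      ⟨fun e => hmain.1 (PrimeSpectrum.ext e), hmain.2⟩
    let s := X.hom q
    have hzs : X.hom z = s := by
      change X.hom z = X.hom q
      rw [← hf, Scheme.Hom.comp_apply, Scheme.Hom.comp_apply, hfzq]
    have hsη : s ≠ η := fun e ↦ hne (hinjη z q (hzs.trans e) hfzq)
    have hzη : genericPoint X.left ≠ z := fun e ↦ hsη (hzs.symm.trans (e ▸ hηX))
    have hgz : genericPoint X.left ⤳ z := (genericPoint_spec X.left).specializes trivial
    have hqc : IsClosed ({q} : Set X.left) := closure_subset_iff_isClosed.mp fun v hv ↦ by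
      by_contra hvq
      exact no_chain_four hXdim.le hgz hzq (specializes_iff_mem_closure.mpr hv) hzη hne (Ne.symm hvq)
    let y := f q
    have hyc : IsClosed ({y} : Set Y.left) := by
      have := f.isClosedMap _ hqc
      rwa [Set.image_singleton] at this
    have hys : Y.hom y = s := by
      change Y.hom (f q) = X.hom q
      rw [← hf, Scheme.Hom.comp_apply]
    have hzmax : ∀ w, X.hom w = s → w ⤳ z → w = z := fun w hw hwz => by
      by_contra hne'
      exact no_chain_four hXdim.le ((genericPoint_spec X.left).specializes trivial) hwz hzq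
        (fun e ↦ hsη (hw.symm.trans (e ▸ hηX))) hne' hne
    refine ⟨fun e => hsη (hzs.symm.trans e), fun w hw => hzmax w (hw.trans hzs), fun ⟨O, hO⟩ => ?_⟩
    have hApre : _root_.IsPreconnected (f.base ⁻¹' {y}) := isPreconnected_preimage f hgen hnormal y
    have hAs : ∀ v, f v = y → X.hom v = s := fun v hv => by rw [← hf, Scheme.Hom.comp_apply, hv, hys]
    have hAE : ∀ v, f v = y → v ∈ closure ({z} : Set X.left) := by
      intro v hv
      by_contra hn
      obtain ⟨p, hp, hpO, hpc⟩ := hApre (O : Set X.left) (closure ({z} : Set X.left))ᶜ O.isOpen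
        isClosed_closure.isOpen_compl
        (fun p hp => (em (p ∈ closure ({z} : Set X.left))).elim
          (fun h => Or.inl ((hO p ((hAs p hp).trans hzs.symm)).2 (specializes_iff_mem_closure.2 h)))
          Or.inr)
        ⟨z, hfzq, (hO z rfl).2 specializes_rfl⟩ ⟨v, hv, hn⟩
      exact hpc (specializes_iff_mem_closure.1 ((hO p ((hAs p hp).trans hzs.symm)).1 hpO))
    have hEA : ∀ v, z ⤳ v → f v = y := fun v hv =>
      (Set.mem_singleton_iff.1 ((show f z ⤳ f v from hv.map f.continuous).mem_closed hyc (show f z ∈ ({y} : Set Y.left) from hfzq)))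
    have hB : IsClosed (X.hom.base ⁻¹' {s} \ f.base ⁻¹' {y}) := by
      have h : X.hom.base ⁻¹' {s} \ f.base ⁻¹' {y} = X.hom.base ⁻¹' {s} ∩ (O : Set X.left)ᶜ := by
        ext v
        exact ⟨fun ⟨h1, h2⟩ => ⟨h1, fun hvO => h2 (hEA v ((hO v ((h1 : X.hom v = s).trans hzs.symm)).1 hvO))⟩,
          fun ⟨h1, h2⟩ => ⟨h1, fun hv => h2 ((hO v ((h1 : X.hom v = s).trans hzs.symm)).2
            (specializes_iff_mem_closure.2 (hAE v hv)))⟩⟩
      rw [h]
      exact ((hclosed s hsη).preimage X.hom.continuous).inter O.isOpen.isClosed_compl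
    let W : Y.left.Opens := ⟨_, (f.isClosedMap _ hB).isOpen_compl⟩
    have hyW : y ∈ W := fun ⟨v, hv, hvy⟩ ↦ hv.2 hvy
    have hW : ∀ w, w ⤳ y → w ≠ y → Y.hom w = η := by
      intro w hwy hwne
      by_contra hwη
      have hws : Y.hom w = s := by
        have h1 : Y.hom w ⤳ s := hys ▸ hwy.map Y.hom.continuous
        exact ((h1.mem_closed (hclosed _ hwη) rfl : s = Y.hom w)).symm
      obtain ⟨v, rfl⟩ := hsurj w
      refine (hwy.mem_open W.2 hyW) ⟨v, ⟨?_, fun h ↦ hwne h⟩, rfl⟩
      show X.hom v = s
      rw [← hf, Scheme.Hom.comp_apply]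
      exact hws
    haveI := hYreg y
    let φ := (Y.hom.stalkMap y).hom
    let eY := Y.left.fromSpecStalk y
    let eS := (Spec (CommRingCat.of R)).fromSpecStalk (Y.hom y)
    let bot : PrimeSpectrum ((Spec (CommRingCat.of R)).presheaf.stalk (Y.hom y)) := ⟨⊥, Ideal.isPrime_bot⟩
    have hbot : eS bot = η := by
      have hr : η ∈ Set.range eS := by
        rw [Scheme.range_fromSpecStalk]
        exact hηle _
      obtain ⟨Q, hQ⟩ := hr
      have h1 : eS bot ⤳ η := hQ ▸ ((PrimeSpectrum.le_iff_specializes bot Q).mp bot_le).map eS.continuous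
      exact (h1.antisymm (hηle _)).eq
    obtain ⟨t, htm, ht0⟩ : ∃ t ∈ IsLocalRing.maximalIdeal ((Spec (CommRingCat.of R)).presheaf.stalk (Y.hom y)), t ≠ 0 := by
      by_contra! h
      refine hsη (hys.symm.trans (Eq.trans ?_ hbot))
      rw [show bot = IsLocalRing.closedPoint _ from PrimeSpectrum.ext
        (le_antisymm bot_le fun a ha ↦ (Submodule.mem_bot _).mpr (h a ha))]
      exact Scheme.fromSpecStalk_closedPoint.symm
    have hnat : ∀ P, Y.hom (eY P) = eS (PrimeSpectrum.comap φ P) := fun P ↦ by
      rw [← Scheme.Hom.comp_apply, ← Scheme.SpecMap_stalkMap_fromSpecStalk, Scheme.Hom.comp_apply]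
      rfl
    have hP : ∀ P : PrimeSpectrum (Y.left.presheaf.stalk y), φ t ∈ P.asIdeal → P = IsLocalRing.closedPoint _ := by
      intro P ht
      by_contra hPne
      have hPy : eY P ⤳ y := by
        have : eY P ∈ Set.range eY := ⟨P, rfl⟩
        rwa [Scheme.range_fromSpecStalk] at this
      have hPη := hW _ hPy fun e ↦ hPne (eY.isEmbedding.injective (e.trans Scheme.fromSpecStalk_closedPoint.symm))
      rw [hnat, ← hbot] at hPη
      have h2 : PrimeSpectrum.comap φ P = bot := eS.isEmbedding.injective hPη
      have : t ∈ (PrimeSpectrum.comap φ P).asIdeal := ht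
      rw [h2] at this
      exact ht0 this
    have hmin : IsLocalRing.maximalIdeal (Y.left.presheaf.stalk y) ∈ (Ideal.span {φ t}).minimalPrimes := by
      refine ⟨⟨inferInstance, (Ideal.span_singleton_le_iff_mem _).mpr ?_⟩, fun P hP' hle ↦ ?_⟩
      · exact (IsLocalRing.mem_maximalIdeal _).mpr fun hu ↦ (IsLocalRing.mem_maximalIdeal t).mp htm
          (isUnit_of_map_unit φ t hu)
      · haveI := hP'.1
        exact le_of_eq (congrArg PrimeSpectrum.asIdeal
          (hP ⟨P, hP'.1⟩ ((Ideal.span_singleton_le_iff_mem _).mp hP'.2))).symm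
    have hht := Ideal.height_le_one_of_isPrincipal_of_mem_minimalPrimes _ _ hmin
    haveI : ValuationRing (Y.left.presheaf.stalk y) := by
      have key : (IsIntegrallyClosed (Y.left.presheaf.stalk y) ∧
          ∀ P : Ideal (Y.left.presheaf.stalk y), P ≠ ⊥ → P.IsPrime → P = IsLocalRing.maximalIdeal _) ↔
          ValuationRing (Y.left.presheaf.stalk y) :=
        (tfae_of_isNoetherianRing_of_isLocalRing_of_isDomain (R := Y.left.presheaf.stalk y)).out 3 1
      refine key.mp
        ⟨hnormal y, fun P hP0 hPp ↦ ?_⟩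
      by_contra hPm
      have hlt : P < IsLocalRing.maximalIdeal _ := lt_of_le_of_ne (IsLocalRing.le_maximalIdeal hPp.ne_top) hPm
      have h1 := (Ideal.height_strict_mono_of_isPrime hlt).trans_le hht
      have h2 : (⊥ : Ideal (Y.left.presheaf.stalk y)) < P := bot_lt_iff_ne_bot.mpr hP0
      haveI := Ideal.isPrime_bot (α := Y.left.presheaf.stalk y)
      have h3 := Ideal.height_strict_mono_of_isPrime h2
      have h4 : P.height = 0 := ENat.lt_one_iff_eq_zero.mp h1
      exact not_lt_bot (h4 ▸ h3)
    exact hne (eq_of_specializes f hgen hzq hfzq)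
  · haveI : LocallyQuasiFinite f := LocallyQuasiFinite.of_finite_preimage_singleton f fun y ↦ by
      haveI : LocallyOfFiniteType (f.fiberToSpecResidueField y) :=
        MorphismProperty.pullback_snd (P := @LocallyOfFiniteType) f _ inferInstance
      haveI : QuasiCompact (f.fiberToSpecResidueField y) :=
        MorphismProperty.pullback_snd (P := @QuasiCompact) f _ inferInstance
      haveI : IsLocallyNoetherian (f.fiber y) := LocallyOfFiniteType.isLocallyNoetherian (f.fiberToSpecResidueField y)
      haveI : CompactSpace (f.fiber y) := QuasiCompact.compactSpace_of_compactSpace (f.fiberToSpecResidueField y)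
      haveI : IsNoetherian (f.fiber y) := {}
      have hr : ∀ u, f (f.fiberι y u) = y := fun u ↦ by
        have : f.fiberι y u ∈ Set.range (f.fiberι y) := ⟨u, rfl⟩
        rwa [Scheme.Hom.range_fiberι] at this
      haveI : Finite (f.fiber y) := finite_of_forall_isClosed _ fun u v huv ↦
        (f.fiberι y).isEmbedding.injective (hdisc _ _ (huv.map (f.fiberι y).continuous) ((hr u).trans (hr v).symm))
      rw [← f.range_fiberι y]
      exact Set.finite_range _
    haveI : IsFinite f := (IsFinite.iff_isProper_and_locallyQuasiFinite f).mpr ⟨inferInstance, inferInstance⟩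
    haveI : IsIso ((Over.forget (Spec (CommRingCat.of R))).map g) := S4808.result hnormal f hgen hbir
    exact isIso_of_reflects_iso g (Over.forget (Spec (CommRingCat.of R)))


end Groth.Agent.Castel
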