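import Groth.Agent.Castel.RelMinFlat
import Groth.Agent.CplBC.Global

/-!
Relative minimality and completion of the base.
-/

set_option autoImplicit false
set_option backward.isDefEq.respectTransparency false
set_option backward.isDefEq.respectTransparency.types false
set_option linter.style.haveILetI false
set_option maxHeartbeats 800000

universe u

open CategoryTheory CategoryTheory.Limits AlgebraicGeometry TopologicalSpace Opposite TensorProduct

noncomputable section

namespace Groth.Agent.Castel

/-- The genus of the generic fibre is unchanged by a flat extension of domains. -/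
theorem eulerChar_flat {A A₁ : Type u} [CommRing A] [IsDomain A] [CommRing A₁] [IsDomain A₁] [Algebra A A₁]
    [Module.Flat A A₁] (hinj : Function.Injective (algebraMap A A₁)) (X : Over (Spec (CommRingCat.of A)))
    [IsProper X.hom] :
    FGA.eulerCharLE (FractionRing A₁)
      ((Neron.genericFibre A₁).obj ((Over.pullback (Spec.map (CommRingCat.ofHom (algebraMap A A₁)))).obj X)).left
      (Coh.structureModule _) 1 =
    FGA.eulerCharLE (FractionRing A) ((Neron.genericFibre A).obj X).left (Coh.structureModule _) 1 := by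
  let K := FractionRing A
  let K₁ := FractionRing A₁
  have hinj₁ : Function.Injective (algebraMap A K₁) := by
    rw [IsScalarTower.algebraMap_eq A A₁ K₁]
    exact (IsFractionRing.injective A₁ K₁).comp hinj
  letI : Algebra K K₁ := (IsFractionRing.lift (K := K) hinj₁).toAlgebra
  haveI : IsScalarTower A K K₁ := IsScalarTower.of_algebraMap_eq fun r =>
    (IsFractionRing.lift_algebraMap (K := K) hinj₁ r).symm
  haveI : Module.Flat A K := IsLocalization.flat K (nonZeroDivisors A)
  haveI : Module.Flat A₁ K₁ := IsLocalization.flat K₁ (nonZeroDivisors A₁)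
  haveI : Module.Flat A K₁ := Module.Flat.trans A A₁ K₁
  letI : X.left.Over (Spec (CommRingCat.of A)) := ⟨X.hom⟩
  haveI : IsProper (X.left ↘ Spec (CommRingCat.of A)) := ‹IsProper X.hom›
  obtain ⟨ι, hι, U, hU, hcov⟩ := W7Rees.exists_goodCover A X.left
  let XK := ((Neron.genericFibre A).obj X).left
  letI : XK.Over (Spec (CommRingCat.of K)) := ⟨((Neron.genericFibre A).obj X).hom⟩
  let j := Spec.map (CommRingCat.ofHom (algebraMap A A₁))
  let X₁ := (Over.pullback j).obj X
  let XK₁ := ((Neron.genericFibre A₁).obj X₁).left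
  letI : XK₁.Over (Spec (CommRingCat.of K₁)) := ⟨((Neron.genericFibre A₁).obj X₁).hom⟩
  have hQ := TMul.isQCoh_of_isInvertible (TMul.isInvertible_structureModule (X := X.left))
  have sq : IsPullback (P := XK) (pullback.fst X.hom (Neron.genPt A)) ((Neron.genericFibre A).obj X).hom
      (X.left ↘ Spec (CommRingCat.of A)) (Spec.map (CommRingCat.ofHom (algebraMap A K))) :=
    IsPullback.of_hasPullback X.hom (Neron.genPt A)
  have sq₁ : IsPullback (P := XK₁) (pullback.fst X₁.hom (Neron.genPt A₁) ≫ pullback.fst X.hom j)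
      ((Neron.genericFibre A₁).obj X₁).hom
      (X.left ↘ Spec (CommRingCat.of A)) (Spec.map (CommRingCat.ofHom (algebraMap A K₁))) := by
    have h := (IsPullback.of_hasPullback X₁.hom (Neron.genPt A₁)).paste_horiz (IsPullback.of_hasPullback X.hom j)
    rw [show Neron.genPt A₁ ≫ j = Spec.map (CommRingCat.ofHom (algebraMap A K₁)) by
      show Spec.map _ ≫ Spec.map _ = _
      rw [← Spec.map_comp, ← CommRingCat.ofHom_comp, ← IsScalarTower.algebraMap_eq]] at h
    exact h
  have key : ∀ i, Module.finrank K₁ (Coh.HH XK₁ (Coh.structureModule XK₁) i) =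
      Module.finrank K (Coh.HH XK (Coh.structureModule XK) i) := fun i => by
    obtain ⟨φ⟩ := W7Cech.nonempty_hh_flat_bc A K U hU hcov _ sq (Coh.structureModule X.left) hQ i
    obtain ⟨φ₁⟩ := W7Cech.nonempty_hh_flat_bc A K₁ U hU hcov _ sq₁ (Coh.structureModule X.left) hQ i
    rw [← LinearEquiv.finrank_eq ((CohFinite.hhEquiv (A := K) (PicLoc.pullbackStructureIso _) i).symm ≪≫ₗ φ).symm,
      ← LinearEquiv.finrank_eq ((CohFinite.hhEquiv (A := K₁) (PicLoc.pullbackStructureIso _) i).symm ≪≫ₗ φ₁).symm,
      ← (AlgebraTensorModule.cancelBaseChange A K K₁ K₁ (Coh.HH X.left (Coh.structureModule X.left) i)).finrank_eq]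
    exact Module.finrank_baseChange
  simp only [FGA.eulerCharLE]
  exact Finset.sum_congr rfl fun i _ => by rw [key i]

variable {R : Type u} [CommRing R] [IsDomain R] [IsDiscreteValuationRing R]

/-- The completion of a surface has dimension at most two. -/
theorem dim_bcCpl_le (X : Over (Spec (CommRingCat.of R))) [IsProper X.hom] (hd : topologicalKrullDim X.left ≤ 2) :
    topologicalKrullDim (Curv2.bcCpl R X.hom) ≤ 2 := by
  haveI := CplBC.isLocallyNoetherian_bcCpl X.hom
  haveI : IsLocallyNoetherian X.left := LocallyOfFiniteType.isLocallyNoetherian X.hom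
  let p := Curv2.bcCplFst R X.hom
  refine Unibranch.topologicalKrullDim_le_natCast (e := 2) fun k c hc => ?_
  obtain ⟨y, hy, hy'⟩ := CplBC.exists_specializes_closed (R := Curv2.cpl R) (Curv2.bcCplSnd R X.hom) (c (Fin.last k))
  have hbase : X.hom (p y) = IsLocalRing.closedPoint R := by
    have h1 := congrArg (fun φ : Curv2.bcCpl R X.hom ⟶ Spec (CommRingCat.of R) => φ y)
      (pullback.condition (f := X.hom) (g := Spec.map (CommRingCat.ofHom (algebraMap R (Curv2.cpl R)))))
    refine h1.trans ?_
    show (Spec.map (CommRingCat.ofHom (algebraMap R (Curv2.cpl R)))) (Curv2.bcCplSnd R X.hom y) = _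
    rw [show Curv2.bcCplSnd R X.hom y = IsLocalRing.closedPoint (Curv2.cpl R) from hy']
    exact IsLocalRing.comap_closedPoint (R := R) (S := Curv2.cpl R) (algebraMap R (Curv2.cpl R))
  have hm := CplBC.map_maximalIdeal_stalk X.hom y hbase
  letI := (p.stalkMap y).hom.toAlgebra
  haveI : IsLocalHom (algebraMap (X.left.presheaf.stalk (p y)) ((Curv2.bcCpl R X.hom).presheaf.stalk y)) :=
    inferInstanceAs (IsLocalHom (p.stalkMap y).hom)
  have h1 := CInt.ringKrullDim_le_add (A := X.left.presheaf.stalk (p y))
    (B := (Curv2.bcCpl R X.hom).presheaf.stalk y)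
  have h2 : ringKrullDim ((Curv2.bcCpl R X.hom).presheaf.stalk y ⧸
      (IsLocalRing.maximalIdeal (X.left.presheaf.stalk (p y))).map (p.stalkMap y).hom) ≤ 0 := by
    rw [hm]
    exact (ringKrullDim_eq_zero_of_field (IsLocalRing.ResidueField ((Curv2.bcCpl R X.hom).presheaf.stalk y))).le
  have h3 : ringKrullDim ((Curv2.bcCpl R X.hom).presheaf.stalk y) ≤ ((2 : ℕ) : WithBot ℕ∞) :=
    h1.trans ((add_le_add ((RegDual.ringKrullDim_stalk_le_topologicalKrullDim _).trans hd) h2).trans
      (by rw [add_zero]; rfl))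
  let l : LTSeries (Curv2.bcCpl R X.hom) := ⟨k, fun i => c i.rev, fun i => ?_⟩
  rotate_left
  · have h4 := hc i.rev
    rw [← Fin.rev_succ, ← Fin.rev_castSucc] at h4
    exact lt_iff_le_not_ge.2 ⟨h4.1, fun h => h4.2 (h4.1.antisymm h).eq⟩
  have h5 : (k : ℕ∞) ≤ Order.coheight y := by
    refine Order.length_le_coheight (p := l) (x := y) ?_
    show y ≤ c (Fin.rev 0)
    rw [Fin.rev_zero]
    exact hy
  rw [ringKrullDim_stalk_eq_coheight] at h3
  exact ENat.natCast_le_natCast.mp (WithBot.coe_le_coe.mp ((WithBot.coe_le_coe.2 h5).trans h3))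

/-- An arithmetic surface stays one, with the same relative minimality, over the completed base. -/
theorem isRelMinimal_completion (R' : Type u) [CommRing R'] [IsDomain R'] [IsDiscreteValuationRing R'] [Algebra R R']
    (e : R' ≃ₐ[R] AdicCompletion (IsLocalRing.maximalIdeal R) R) (X : Over (Spec (CommRingCat.of R)))
    (hX : ArSurf.IsArithSurface R X)
    (hg : FGA.eulerCharLE (FractionRing R) ((Neron.genericFibre R).obj X).left (Coh.structureModule _) 1 ≤ 0)
    [IsIntegral ((Over.pullback (Spec.map (CommRingCat.ofHom (algebraMap R R')))).obj X).left] :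
    ArSurf.IsArithSurface R' ((Over.pullback (Spec.map (CommRingCat.ofHom (algebraMap R R')))).obj X) ∧
      (Neron.IsRelMinimalRegularModel R X ↔
        Neron.IsRelMinimalRegularModel R'
          ((Over.pullback (Spec.map (CommRingCat.ofHom (algebraMap R R')))).obj X)) := by
  haveI : Module.Flat R R' := Module.Flat.of_linearEquiv e.toLinearEquiv
  haveI : IsLocalHom (algebraMap R R') := ⟨fun a ha => by
    refine IsUnit.of_map (algebraMap R (Curv2.cpl R)) a ?_
    rw [← AlgEquiv.commutes e]
    exact ha.map e⟩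
  haveI : IsProper X.hom := isProper_hom_of_isArithSurface hX
  haveI := hX.2.1
  haveI := hX.2.2.2.1
  let j := Spec.map (CommRingCat.ofHom (algebraMap R R'))
  let J := Spec.map (CommRingCat.ofHom (algebraMap R (Curv2.cpl R)))
  let E := Spec.map (CommRingCat.ofHom (e : R' →+* Curv2.cpl R))
  haveI : IsIso (CommRingCat.ofHom (e : R' →+* Curv2.cpl R)) :=
    (ConcreteCategory.isIso_iff_bijective _).2 e.bijective
  haveI : IsIso E := inferInstanceAs (IsIso (Spec.map (CommRingCat.ofHom (e : R' →+* Curv2.cpl R))))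
  have hE : J = E ≫ j := by
    show Spec.map _ = Spec.map _ ≫ Spec.map _
    rw [← Spec.map_comp, ← CommRingCat.ofHom_comp]
    congr 2
    exact RingHom.ext fun r => (AlgEquiv.commutes e r).symm
  let X' := (Over.pullback j).obj X
  let φ : Curv2.bcCpl R X.hom ⟶ X'.left := pullback.map X.hom J X.hom j (𝟙 _) E (𝟙 _)
    (by simp) (by rw [Category.comp_id]; exact hE)
  haveI : IsIso φ := pullback.map_isIso _ _ _ _ _ _ _ _ _
  have hreg : ∀ x, IsRegularLocalRing (X'.left.presheaf.stalk x) := fun x => by
    obtain ⟨y, rfl⟩ := φ.surjective x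
    haveI := (CplBC.forall_regular_iff X.hom).1 hX.1 y
    exact IsRegularLocalRing.of_ringEquiv (asIso (φ.stalkMap y)).commRingCatIsoToRingEquiv.symm
  have hle : topologicalKrullDim X'.left ≤ 2 := by
    rw [← φ.homeomorph.isHomeomorph.topologicalKrullDim_eq]
    exact dim_bcCpl_le X hX.2.2.1.le
  haveI : Module.FaithfullyFlat R R' := Module.FaithfullyFlat.of_flat_of_isLocalHom
  haveI : Surjective j := ⟨PrimeSpectrum.comap_surjective_of_faithfullyFlat⟩
  haveI : Flat j := Flat.SpecMap_iff.2 (RingHom.flat_algebraMap_iff.2 inferInstance)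
  let f : X'.left ⟶ X.left := pullback.fst X.hom j
  haveI : Flat f := MorphismProperty.pullback_fst (P := @Flat) _ _ inferInstance
  haveI : Surjective f := MorphismProperty.pullback_fst (P := @Surjective) _ _ inferInstance
  obtain ⟨c, hc⟩ := Unibranch.exists_chain_of_le_topologicalKrullDim (α := X.left) (k := 2) hX.2.2.1.ge
  obtain ⟨b, hb⟩ := f.surjective (c 2)
  obtain ⟨a, hab, ha⟩ := Flat.generalizingMap f (a := b) (show c 1 ⤳ f b by rw [hb]; exact (hc 1).1)
  obtain ⟨o, hoa, ho⟩ := Flat.generalizingMap f (a := a) (show c 0 ⤳ f a by rw [ha]; exact (hc 0).1)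
  have hX' := isArith_baseChange_of_facts X hX hreg (dim_eq_two_of_chain hle hoa
    (fun e => (hc 0).2 (show c 0 = c 1 by rw [← ho, ← ha, e]))
    hab fun e => (hc 1).2 (show c 1 = c 2 by rw [← ha, ← hb, e]))
  exact ⟨hX', isRelMinimal_iff_baseChange X hX hX' hg
    ((eulerChar_flat (FaithfulSMul.algebraMap_injective R R') X).trans_le hg)⟩

end Groth.Agent.Castel
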