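import Groth.Agent.Castel.LocSurface
import Groth.Agent.Castel.CanonBaseChange
import Groth.Agent.Castel.NefMinimal
import Groth.Agent.Castel.ContractGG
import Groth.Agent.Castel.GenVan
import Groth.Agent.Castel.ArtinPos
import Groth.Agent.Castel.CanonContract
import Groth.Agent.Castel.ProperModel
import Groth.Agent.W7Cech.BCLin

/-!
Relative minimality passes up along étale base change.
-/

set_option autoImplicit false
set_option backward.isDefEq.respectTransparency false
set_option backward.isDefEq.respectTransparency.types false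
set_option linter.style.haveILetI false
set_option maxHeartbeats 800000

universe u

open CategoryTheory CategoryTheory.Limits AlgebraicGeometry TopologicalSpace Opposite TensorProduct

noncomputable section

namespace Groth.Agent.Castel

/-- Over a field a morphism which is an isomorphism on generic fibres is an isomorphism. -/
theorem isIso_of_isField {R : Type u} [CommRing R] [IsDomain R] (hR : IsField R)
    {X Y : Over (Spec (CommRingCat.of R))} (g : X ⟶ Y) (hg : IsIso ((Neron.genericFibre R).map g)) : IsIso g := by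
  haveI : IsIso (Neron.genPt R) := by
    letI := hR.toField
    have hb : Function.Bijective (algebraMap R (FractionRing R)) :=
      ⟨IsFractionRing.injective R (FractionRing R), IsFractionRing.surjective_iff_isField.2 hR⟩
    haveI : IsIso (CommRingCat.ofHom (algebraMap R (FractionRing R))) :=
      (ConcreteCategory.isIso_iff_bijective _).2 hb
    exact inferInstanceAs (IsIso (Spec.map (CommRingCat.ofHom (algebraMap R (FractionRing R)))))
  haveI := hg
  haveI : IsIso ((Neron.genericFibre R).map g).left :=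
    inferInstanceAs (IsIso ((Over.forget _).map ((Neron.genericFibre R).map g)))
  have h : ((Neron.genericFibre R).map g).left ≫ pullback.fst Y.hom (Neron.genPt R) =
      pullback.fst X.hom (Neron.genPt R) ≫ g.left := pullback.lift_fst _ _ _
  haveI : IsIso g.left := by
    rw [show g.left = inv (pullback.fst X.hom (Neron.genPt R)) ≫ ((Neron.genericFibre R).map g).left ≫
      pullback.fst Y.hom (Neron.genPt R) by rw [h, IsIso.inv_hom_id_assoc]]
    infer_instance
  haveI : IsIso ((Over.forget _).map g) := ‹IsIso g.left›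
  exact isIso_of_reflects_iso g (Over.forget _)

/-- A model map which is not an isomorphism contracts an exceptional curve. -/
theorem isIso_or_exists_exc {R : Type u} [CommRing R] [IsDedekindDomain R] {X Y : Over (Spec (CommRingCat.of R))}
    (hX : ArSurf.IsArithSurface R X) (hYr : ∀ y : Y.left, IsRegularLocalRing (Y.left.presheaf.stalk y))
    (hYp : Neron.IsProjectiveOver R Y) [Flat Y.hom] (g : X ⟶ Y) (hg : IsIso ((Neron.genericFibre R).map g)) :
    IsIso g ∨ ∃ (E : Scheme.{u}) (ι : E ⟶ X.left), IsClosedImmersion ι ∧ Models.IsExcCurve ι := by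
  obtain ⟨hXr, hXi, hXd, hXf, hXp⟩ := id hX
  haveI := hXi
  haveI := hXf
  obtain ⟨hsurj, hgp, hYi, -, -⟩ := contracted_facts hX hYr hYp g hg
  obtain ⟨-, -, hYd, -, -⟩ := isArithSurface_target hX hYr hYp g hg
  haveI := hgp
  haveI := hYi
  haveI := PtBlow.isProper_of_isProjectiveOver (Z := X) hXp
  haveI := PtBlow.isProper_of_isProjectiveOver (Z := Y) hYp
  haveI : IsLocallyNoetherian X.left := LocallyOfFiniteType.isLocallyNoetherian X.hom
  haveI : CompactSpace X.left := QuasiCompact.compactSpace_of_compactSpace X.hom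
  haveI : IsNoetherian X.left := {}
  haveI : IsLocallyNoetherian Y.left := LocallyOfFiniteType.isLocallyNoetherian Y.hom
  haveI : CompactSpace Y.left := QuasiCompact.compactSpace_of_compactSpace Y.hom
  haveI : IsNoetherian Y.left := {}
  let fX := pullback.fst X.hom (Neron.genPt R)
  let fY := pullback.fst Y.hom (Neron.genPt R)
  haveI := hg
  let gK := ((Neron.genericFibre R).map g).left
  haveI : IsIso gK := inferInstanceAs (IsIso ((Over.forget _).map ((Neron.genericFibre R).map g)))
  have h1 : gK ≫ fY = fX ≫ g.left := pullback.lift_fst _ _ _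
  obtain ⟨w, hw⟩ : genericPoint X.left ∈ Set.range fX := by
    rw [Scheme.Pullback.range_fst, RelMinSmooth.range_genPt]
    obtain ⟨v, hv, hv'⟩ := Flat.generalizingMap X.hom (a := genericPoint X.left)
      ((PrimeSpectrum.le_iff_specializes (⟨⊥, Ideal.isPrime_bot⟩ : PrimeSpectrum R) (X.hom (genericPoint X.left))).mp
        bot_le)
    rwa [(hv.antisymm (genericPoint_specializes v)).eq] at hv'
  have hgen : g.left (genericPoint X.left) = genericPoint Y.left := by
    obtain ⟨x, hx⟩ := hsurj (genericPoint Y.left)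
    exact (((genericPoint_specializes x).map g.left.continuous).trans (specializes_of_eq hx)).antisymm
      (genericPoint_specializes _) |>.eq
  haveI : IsIso (fX.stalkMap w) := RelMinSmooth.isIso_stalkMap_fst X.hom w
  haveI : IsIso (fY.stalkMap (gK w)) := RelMinSmooth.isIso_stalkMap_fst Y.hom (gK w)
  haveI hst : IsIso (g.left.stalkMap (fX w)) := by
    haveI : IsIso ((fX ≫ g.left).stalkMap w) := by
      rw [Scheme.Hom.stalkMap_congr_hom _ _ h1.symm w, Scheme.Hom.stalkMap_comp]
      infer_instance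
    rw [Scheme.Hom.stalkMap_comp] at this
    exact IsIso.of_isIso_comp_right (g.left.stalkMap (fX w)) (fX.stalkMap w)
  rw [hw] at hst
  haveI := hst
  have hseq := PtBlow.isContractionSeq_of_birational g.left hXr hXd.le hYr hYd.le (exists_iso_over_open g.left hgen)
  have key : ∀ {A B : Scheme.{u}} (f : A ⟶ B), Models.IsContractionSeq f →
      IsIso f ∨ ∃ (E : Scheme.{u}) (ι : E ⟶ A), IsClosedImmersion ι ∧ Models.IsExcCurve ι := by
    intro A B f hf
    cases hf with
    | iso e => exact Or.inl inferInstance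
    | step ι b r hι hE hb hr => exact Or.inr ⟨_, ι, hι, hE⟩
  rcases key g.left hseq with h | h
  · haveI : IsIso ((Over.forget _).map g) := h
    exact Or.inl (isIso_of_reflects_iso g (Over.forget _))
  · exact Or.inr h

/-- A curve on a regular surface is Cartier. -/
theorem cartier_of_curve {R : Type u} [CommRing R] [IsDedekindDomain R] {X : Over (Spec (CommRingCat.of R))}
    (hX : ArSurf.IsArithSurface R X) {C : Scheme.{u}} (i : C ⟶ X.left) [IsClosedImmersion i] [IsIntegral C]
    (hC : topologicalKrullDim C = 1) : BlowUp.IsEffCartierIdeal i.ker := by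
  obtain ⟨hXr, hXi, hXd, -, hXp⟩ := hX
  haveI := hXi
  haveI := PtBlow.isProper_of_isProjectiveOver (Z := X) hXp
  haveI : IsLocallyNoetherian X.left := LocallyOfFiniteType.isLocallyNoetherian X.hom
  haveI : CompactSpace X.left := QuasiCompact.compactSpace_of_compactSpace X.hom
  haveI : IsNoetherian X.left := {}
  haveI : IsIso i.toImage := inferInstance
  haveI : Nonempty i.ker.subscheme := ⟨i.toImage (genericPoint C)⟩
  haveI : IsIntegral i.ker.subscheme := isIntegral_of_isOpenImmersion (inv i.toImage)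
  refine Groth.Agent.S1684.result X.left i.ker (ringKrullDim_stalk_curve hXd ?_) fun x _ => ?_
  · have hr : Set.range i.ker.subschemeι = Set.range i := by
      rw [Scheme.IdealSheafData.range_subschemeι, Scheme.Hom.support_ker]
      exact i.isClosedEmbedding.isClosed_range.closure_eq
    have h1 : closure ({i.ker.subschemeι (genericPoint i.ker.subscheme)} : Set X.left) = Set.range i := by
      rw [← hr, ← Intersect.image_closure i.ker.subschemeι, genericPoint_closure]
      exact Set.image_univ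
    rw [h1, ← i.isClosedEmbedding.isEmbedding.toHomeomorph.isHomeomorph.topologicalKrullDim_eq, hC]
    rfl
  · haveI := hXr x
    exact Groth.Agent.S2821.result _

variable {R : Type u} [CommRing R] [IsDomain R] [IsDiscreteValuationRing R] {X : Over (Spec (CommRingCat.of R))}

/-- An arithmetic surface has a canonical sheaf. -/
theorem exists_isCanonical (hX : ArSurf.IsArithSurface R X) : ∃ ω, Canon.IsCanonical X.hom ω := by
  classical
  obtain ⟨ϖ, hϖ⟩ := IsDiscreteValuationRing.exists_irreducible R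
  have hA := hX
  obtain ⟨hXr, hXi, hXd, hXf, M, i₀, hi₀, hi₀w⟩ := id hX
  haveI := hXi; haveI := hXf; haveI := hi₀
  haveI : IsProper X.hom := isProper_hom_of_isArithSurface hA
  haveI : IsLocallyNoetherian X.left := LocallyOfFiniteType.isLocallyNoetherian X.hom
  haveI : CompactSpace X.left := QuasiCompact.compactSpace_of_compactSpace X.hom
  let k := IsLocalRing.ResidueField R
  obtain ⟨a, ha, -⟩ := PnSpec.exists_iso_twist M R
  let g := CohB1.ProjSpace.toSpec M R
  let i : X.left ⟶ CohB1.ProjSpace M R := i₀ ≫ a.inv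
  have hig : i ≫ g = X.hom := by
    show (i₀ ≫ a.inv) ≫ CohB1.ProjSpace.toSpec M R = X.hom
    rw [← ha, Category.assoc, Iso.inv_hom_id_assoc, hi₀w]
  haveI := smoothRelDim_toSpec M R
  haveI : Smooth g := SmoothOfRelativeDimension.smooth M _
  haveI : IsProper g := ProjMor.isProper_toSpec M R
  haveI : IsLocallyNoetherian (CohB1.ProjSpace M R) := LocallyOfFiniteType.isLocallyNoetherian g
  obtain ⟨j, hj⟩ := exists_isPullback_projSpace (IsLocalRing.residue R) M
  haveI : IsClosedImmersion (Spec.map (CommRingCat.ofHom (IsLocalRing.residue R))) :=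
    IsClosedImmersion.spec_of_surjective _ IsLocalRing.residue_surjective
  haveI : IsClosedImmersion j := MorphismProperty.of_isPullback (P := @IsClosedImmersion) hj.flip inferInstance
  have hjker : j.ker = fibreIdeal (Over.mk g) := by
    rw [← hj.isoPullback_hom_fst, Scheme.Hom.ker_comp_of_isIso]
    exact ker_fst_residue (Over.mk g)
  have hcl : ∀ {U V : Scheme.{u}} (f : U ⟶ V) [IsClosedImmersion f] (z : U), IsClosed ({z} : Set U) →
      IsClosed ({f z} : Set V) := fun f _ z hz => by
    have h := f.isClosedMap _ hz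
    rwa [Set.image_singleton] at h
  have hdX : ∀ x : X.left, IsClosed ({x} : Set X.left) → ringKrullDim (X.left.presheaf.stalk x) = 2 :=
    fun x hx => ringKrullDim_closed_eq_two X.hom hXd hx
  have hfac : ∀ x : X.left, IsClosed ({x} : Set X.left) → ∃ q, IsClosed ({q} : Set (CohB1.ProjSpace M k)) ∧ j q = i x := by
    intro x hx
    have hxs : x ∈ Models.specialFibreSet R X := by
      have hne := base_ne_bot_of_closed (IsDiscreteValuationRing.not_isField R) X.hom hx
      haveI : Ideal.IsMaximal (X.hom x).asIdeal := Ideal.IsPrime.isMaximal (X.hom x).isPrime hne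
      exact PrimeSpectrum.ext (IsLocalRing.eq_maximalIdeal inferInstance)
    have hgx : i x ∈ Models.specialFibreSet R (Over.mk g) := by
      show g (i x) = IsLocalRing.closedPoint R
      rw [← Scheme.Hom.comp_apply, hig]
      exact hxs
    have h := (mem_support_fibreIdeal (X := Over.mk g) (i x)).2 hgx
    rw [← hjker, Scheme.Hom.support_ker] at h
    obtain ⟨q, hq⟩ := (Set.ext_iff.1 j.isClosedEmbedding.isClosed_range.closure_eq _).1 h
    refine ⟨q, ?_, hq⟩
    rw [j.isClosedEmbedding.isEmbedding.isClosed_iff]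
    exact ⟨{i x}, hcl i x hx, by rw [← hq]; ext y; simp [j.isClosedEmbedding.injective.eq_iff]⟩
  obtain ⟨c, hc⟩ : ∃ c, M = c + 1 := by
    obtain ⟨x, -, hx⟩ := (isClosed_univ (X := X.left)).exists_closed_singleton Set.univ_nonempty
    obtain ⟨q, hq, hqx⟩ := hfac x hx
    obtain ⟨hr, hd, -⟩ := projSpace_stalk_facts hjker q hq hϖ
    rw [hqx] at hr hd
    have hle := ringKrullDim_le_of_surjective _ (i.stalkMap_surjective x)
    rw [hd, hdX x hx] at hle
    have h' : ((2 : ℕ) : WithBot ℕ∞) ≤ ((M + 1 : ℕ) : WithBot ℕ∞) := hle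
    exact ⟨M - 1, by have := Nat.cast_le.1 h'; omega⟩
  have hPX : ∀ x : X.left, IsClosed ({x} : Set X.left) →
      IsRegularLocalRing ((CohB1.ProjSpace M R).presheaf.stalk (i x)) ∧
      ringKrullDim ((CohB1.ProjSpace M R).presheaf.stalk (i x)) = ((c + 2 : ℕ) : WithBot ℕ∞) := fun x hx => by
    obtain ⟨q, hq, hqx⟩ := hfac x hx
    obtain ⟨hr, hd, -⟩ := projSpace_stalk_facts hjker q hq hϖ
    rw [hqx] at hr hd
    exact ⟨hr, hd.trans (by rw [hc])⟩
  have hiX : RegImm.IsRegularImmersionOfCodim .regular c i := by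
    refine isRegularImmersion_of_closedPoints i c (fun x hx => (hPX x hx).1)
      (fun x hx => by rw [hdX x hx, (hPX x hx).2]; push_cast; rfl) fun x hx => ?_
    obtain ⟨hr, hd⟩ := hPX x hx
    haveI := hr
    haveI := hXr x
    let e := RingHom.quotientKerEquivOfSurjective (i.stalkMap_surjective x)
    haveI : IsRegularLocalRing ((CohB1.ProjSpace M R).presheaf.stalk (i x) ⧸ RingHom.ker (i.stalkMap x).hom) :=
      IsRegularLocalRing.of_ringEquiv e.symm
    haveI : IsRegularRing ((CohB1.ProjSpace M R).presheaf.stalk (i x) ⧸ RingHom.ker (i.stalkMap x).hom) :=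
      CotT.isRegularRing_of_local _
    obtain ⟨r, b, hb, hbd⟩ := GLinFree.exists_generators_of_regular_quotient _ (RingHom.ker_ne_top (i.stalkMap x).hom)
    rw [ringKrullDim_eq_of_ringEquiv e, hdX x hx, hd] at hbd
    have : r = c := by
      have h' : ((2 + r : ℕ) : WithBot ℕ∞) = ((c + 2 : ℕ) : WithBot ℕ∞) := by
        refine Eq.trans ?_ hbd; push_cast; rfl
      have := Nat.cast_inj.1 h'
      omega
    subst this
    exact ⟨b, hb.symm⟩
  have hr := ExtFund.isFinLocFreeOfRank_conormal_reg i hiX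
  obtain ⟨CX, -, hCX⟩ := SGA6Ext.exists_extPow c (Omega.conormal i)
    (fun y => ⟨_, _, (hr y).choose_spec.1, (hr y).choose_spec.2⟩)
  have hrΩ := ExtFund.isFinLocFreeOfRank_omega g M
  obtain ⟨ΩP, -, hΩP⟩ := SGA6Ext.exists_extPow M (Omega.sheaf g)
    (fun y => ⟨_, _, (hrΩ y).choose_spec.1, (hrΩ y).choose_spec.2⟩)
  obtain ⟨DX, -, ⟨θ⟩⟩ := W7Hull.exists_tensor_inverse (ExtFund.isInvertible_pow hiX hCX)
  refine ⟨CohB1.tensorMod ((Scheme.Modules.pullback i).obj ΩP) DX, CohB1.ProjSpace M R, i, g, c, M, hig, hiX,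
    inferInstance, inferInstance, inferInstance, CX, ΩP, hCX, hΩP, ⟨?_⟩⟩
  exact TMul.assocIso _ DX CX ≪≫ PicGrp.tensorModIso (Iso.refl _) (TMul.commIso DX CX ≪≫ θ) ≪≫ SecTwist.unitorR _

/-- A vertical curve of negative canonical degree is exceptional, for positive genus. -/
theorem isExc_of_canonical_neg (hX : ArSurf.IsArithSurface R X)
    (hg : FGA.eulerCharLE (FractionRing R) ((Neron.genericFibre R).obj X).left
      (Coh.structureModule ((Neron.genericFibre R).obj X).left) 1 ≤ 0)
    {ω : X.left.Modules} (hω : Canon.IsCanonical X.hom ω) (C : ArSurf.VertComp R X)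
    (hneg : ArSurf.inter R X ω C < 0) : Models.IsExcCurve C.ι := by
  haveI := isProper_hom_of_isArithSurface hX
  obtain ⟨L, hLi, hL⟩ := exists_inverse_module ((Groth.Agent.S8914.result _).2 (isEffCartierIdeal_ker hX C))
  obtain ⟨ha, hb⟩ := selfInter_nonpos hX C hL
  have hlt : ArSurf.inter R X L C < 0 := by
    refine lt_of_le_of_ne ha fun h0 => ?_
    obtain ⟨U, hU⟩ := hb h0
    obtain ⟨-, p, q, hp, hq, he⟩ := numbers_of_isolated hX C hL U hU
    have hs := selfInter_add_canonical hX C hL hω
    have hpos : (0 : ℤ) < ((Models.wdeg R X C : ℤ) - Models.h1 R X C) * p :=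
      mul_pos (by omega) (Int.natCast_pos.2 hp)
    rw [he] at hpos
    exact absurd (pos_of_mul_pos_left hpos (Int.natCast_nonneg _)) (not_lt.2 hg)
  obtain ⟨h1, h2, -⟩ := numbers_of_neg hX C hL hω hneg hlt
  exact isExcCurve_of_numbers hX C hL h1 h2

/-- An exceptional curve has negative canonical degree. -/
theorem canonical_neg_of_isExc (hX : ArSurf.IsArithSurface R X) {ω : X.left.Modules}
    (hω : Canon.IsCanonical X.hom ω) (C : ArSurf.VertComp R X) (hC : Models.IsExcCurve C.ι) :
    ArSurf.inter R X ω C < 0 := by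
  haveI := isProper_hom_of_isArithSurface hX
  obtain ⟨L, hLi, hL⟩ := exists_inverse_module ((Groth.Agent.S8914.result _).2 (isEffCartierIdeal_ker hX C))
  obtain ⟨-, k, _, eP, ⟨c⟩⟩ := id hC
  obtain ⟨h1, h2⟩ : Models.h1 R X C = 0 ∧ ArSurf.inter R X L C = -(1 * (Models.wdeg R X C : ℤ)) :=
    vert_line_numbers C eP hLi hL c
  have hs := selfInter_add_canonical hX C hL hω
  have hw : 0 < Models.wdeg R X C := (wdeg_facts C).1
  omega

/-- Nonnegative degrees stay nonnegative under affine maps of curves, whatever the base field. -/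
theorem inter_pullback_nonneg {R₂ : Type u} [CommRing R₂] [IsDomain R₂] [IsDiscreteValuationRing R₂]
    {X₂ : Over (Spec (CommRingCat.of R₂))} (hX : ArSurf.IsArithSurface R X) [IsProper X.hom] [IsProper X₂.hom]
    (h : X₂.left ⟶ X.left) [IsAffineHom h] (C : ArSurf.VertComp R X) (C₂ : ArSurf.VertComp R₂ X₂)
    (gC : C₂.curve.left ⟶ C.curve.left) (hgC : gC ≫ C.ι = C₂.ι ≫ h) {ω : X.left.Modules}
    (hω : PicF.IsInvertible ω) (hpos : 0 ≤ ArSurf.inter R X ω C) :
    0 ≤ ArSurf.inter R₂ X₂ ((Scheme.Modules.pullback h).obj ω) C₂ := by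
  obtain ⟨H, hH⟩ := exists_ample_of_proj hX.2.2.2.2
  haveI := C.isIntegral; haveI := C₂.isIntegral
  haveI : IsProper (C.curve.left ↘ Spec (CommRingCat.of (IsLocalRing.ResidueField R))) := isProper_curve C
  haveI : IsProper (C₂.curve.left ↘ Spec (CommRingCat.of (IsLocalRing.ResidueField R₂))) := isProper_curve C₂
  haveI : IsAffineHom (gC ≫ C.ι) := by rw [hgC]; infer_instance
  haveI : IsAffineHom gC := IsAffineHom.of_comp gC C.ι
  have hHi := hH.1
  have hb : ∀ n : ℕ, 0 < (n : ℤ) * ArSurf.inter R₂ X₂ ((Scheme.Modules.pullback h).obj ω) C₂ +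
      ArSurf.inter R₂ X₂ ((Scheme.Modules.pullback h).obj H) C₂ := fun n => by
    let M := CohB1.tensorMod (CohB1.tensorPow ω n) H
    have hM : 0 < ArSurf.inter R X M C := by
      rw [inter_tensor C (TMul.isInvertible_tensorPow hω n) hHi, inter_pow C hω n]
      have := inter_pos_of_isAmple C hH
      positivity
    rw [inter_eq_deg] at hM
    have hMi : PicF.IsInvertible M := TMul.isInvertible_tensorMod (TMul.isInvertible_tensorPow hω n) hHi
    have hamp := TMul.isAmple_pullback_of_isAffineHom gC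
      (CurveRR.isAmple_of_deg_pos (k := IsLocalRing.ResidueField R) C.dim_eq (PicLoc.isInvertible_pullback C.ι hMi) hM)
    have hd : 0 < Curv2.deg (IsLocalRing.ResidueField R₂) C₂.curve.left
        ((Scheme.Modules.pullback C₂.ι).obj ((Scheme.Modules.pullback h).obj M)) 1 :=
      CurveRR.deg_pos_of_isAmple (k := IsLocalRing.ResidueField R₂) C₂.dim_eq (TMul.isAmple_congr
        ((Scheme.Modules.pullbackComp gC C.ι).app M ≪≫ (Scheme.Modules.pullbackCongr hgC).app M ≪≫
          ((Scheme.Modules.pullbackComp C₂.ι h).app M).symm) hamp)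
    rw [← inter_eq_deg] at hd
    obtain ⟨p⟩ := TMul.nonempty_pullTensorIso h (CohB1.tensorPow ω n) H
    obtain ⟨a⟩ := TMul.nonempty_pullPowIso h ω n
    rw [inter_congr C₂ (p.symm ≪≫ PicGrp.tensorModIso a.symm (Iso.refl _)),
      inter_tensor C₂ (TMul.isInvertible_tensorPow (PicLoc.isInvertible_pullback h hω) n)
        (PicLoc.isInvertible_pullback h hHi), inter_pow C₂ (PicLoc.isInvertible_pullback h hω) n] at hd
    exact hd
  by_contra hneg
  push Not at hneg
  have := hb ((ArSurf.inter R₂ X₂ ((Scheme.Modules.pullback h).obj H) C₂).toNat)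
  have h2 := Int.self_le_toNat (ArSurf.inter R₂ X₂ ((Scheme.Modules.pullback h).obj H) C₂)
  nlinarith [Int.natCast_nonneg (ArSurf.inter R₂ X₂ ((Scheme.Modules.pullback h).obj H) C₂).toNat]

/-- The genus of the generic fibre is unchanged by localising the base. -/
theorem eulerChar_localize {A A₁ : Type u} [CommRing A] [IsDomain A] [CommRing A₁] [IsDomain A₁] [Algebra A A₁]
    [IsFractionRing A (FractionRing A)] (X : Over (Spec (CommRingCat.of A))) [IsProper X.hom]
    [hfr : IsFractionRing A (FractionRing A₁)] :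
    FGA.eulerCharLE (FractionRing A₁)
      ((Neron.genericFibre A₁).obj ((Over.pullback (Spec.map (CommRingCat.ofHom (algebraMap A A₁)))).obj X)).left
      (Coh.structureModule _) 1 =
    FGA.eulerCharLE (FractionRing A) ((Neron.genericFibre A).obj X).left (Coh.structureModule _) 1 := by
  let K := FractionRing A
  let K₁ := FractionRing A₁
  haveI : Module.Flat A K := IsLocalization.flat K (nonZeroDivisors A)
  haveI : Module.Flat A K₁ := IsLocalization.flat K₁ (nonZeroDivisors A)
  letI : X.left.Over (Spec (CommRingCat.of A)) := ⟨X.hom⟩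
  haveI : IsProper (X.left ↘ Spec (CommRingCat.of A)) := ‹IsProper X.hom›
  obtain ⟨ι, hι, U, hU, hcov⟩ := W7Rees.exists_goodCover A X.left
  let XK := ((Neron.genericFibre A).obj X).left
  letI : XK.Over (Spec (CommRingCat.of K)) := ⟨((Neron.genericFibre A).obj X).hom⟩
  let j := Spec.map (CommRingCat.ofHom (algebraMap A A₁))
  let X₁ := (Over.pullback j).obj X
  let XK₁ := ((Neron.genericFibre A₁).obj X₁).left
  letI : XK₁.Over (Spec (CommRingCat.of K₁)) := ⟨((Neron.genericFibre A₁).obj X₁).hom⟩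
  have hQ := TMul.isQCoh_of_isInvertible (TMul.isInvertible_structureModule (X := X.left))
  have sq : IsPullback (P := XK) (pullback.fst X.hom (Neron.genPt A)) ((Neron.genericFibre A).obj X).hom
      (X.left ↘ Spec (CommRingCat.of A)) (Spec.map (CommRingCat.ofHom (algebraMap A K))) :=
    IsPullback.of_hasPullback X.hom (Neron.genPt A)
  have sq₁ : IsPullback (P := XK₁) (pullback.fst X₁.hom (Neron.genPt A₁) ≫ pullback.fst X.hom j) ((Neron.genericFibre A₁).obj X₁).hom
      (X.left ↘ Spec (CommRingCat.of A)) (Spec.map (CommRingCat.ofHom (algebraMap A K₁))) := by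
    have h := (IsPullback.of_hasPullback X₁.hom (Neron.genPt A₁)).paste_horiz (IsPullback.of_hasPullback X.hom j)
    rw [show Neron.genPt A₁ ≫ j = Spec.map (CommRingCat.ofHom (algebraMap A K₁)) by
      show Spec.map _ ≫ Spec.map _ = _
      rw [← Spec.map_comp, ← CommRingCat.ofHom_comp, ← IsScalarTower.algebraMap_eq]] at h
    exact h
  have key : ∀ i, Module.finrank K₁ (Coh.HH XK₁ (Coh.structureModule XK₁) i) =
      Module.finrank K (Coh.HH XK (Coh.structureModule XK) i) := fun i => by
    obtain ⟨φ⟩ := W7Cech.nonempty_hh_flat_bc A K U hU hcov _ sq (Coh.structureModule X.left) hQ i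
    obtain ⟨φ₁⟩ := W7Cech.nonempty_hh_flat_bc A K₁ U hU hcov _ sq₁ (Coh.structureModule X.left) hQ i
    rw [← LinearEquiv.finrank_eq ((CohFinite.hhEquiv (A := K) (PicLoc.pullbackStructureIso _) i).symm ≪≫ₗ φ).symm,
      ← LinearEquiv.finrank_eq ((CohFinite.hhEquiv (A := K₁) (PicLoc.pullbackStructureIso _) i).symm ≪≫ₗ φ₁).symm]
    let e : K₁ ≃ₐ[A] K := IsLocalization.algEquiv (nonZeroDivisors A) _ _
    let E : K₁ ⊗[A] Coh.HH X.left (Coh.structureModule X.left) i ≃ₗ[A]
        K ⊗[A] Coh.HH X.left (Coh.structureModule X.left) i :=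
      TensorProduct.congr e.toLinearEquiv (LinearEquiv.refl A _)
    refine congrArg Cardinal.toNat (rank_eq_of_equiv_equiv e.toRingEquiv E.toAddEquiv e.bijective fun r m => ?_)
    show E (r • m) = e r • E m
    induction m using TensorProduct.induction_on with
    | zero => simp
    | tmul a b =>
      rw [TensorProduct.smul_tmul']
      show e (r • a) ⊗ₜ[A] b = e r • (e a ⊗ₜ[A] b)
      rw [smul_eq_mul, map_mul, TensorProduct.smul_tmul', smul_eq_mul]
    | add x y hx hy => rw [smul_add, map_add, hx, hy, map_add, smul_add]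
  simp only [FGA.eulerCharLE]
  exact Finset.sum_congr rfl fun i _ => by rw [key i]


/-- The fraction field of a localisation. -/
theorem isFractionRing_fractionRing {A A₁ : Type u} [CommRing A] [IsDomain A] [CommRing A₁] [IsDomain A₁]
    [Algebra A A₁] (M : Submonoid A) (hM : M ≤ nonZeroDivisors A) [IsLocalization M A₁] :
    IsFractionRing A (FractionRing A₁) := by
  haveI : FaithfulSMul A (FractionRing A₁) := (faithfulSMul_iff_algebraMap_injective A _).2 (by
    rw [IsScalarTower.algebraMap_eq A A₁ (FractionRing A₁)]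
    exact (IsFractionRing.injective A₁ (FractionRing A₁)).comp (IsLocalization.injective A₁ hM))
  refine IsFractionRing.of_field A (FractionRing A₁) fun z => ?_
  obtain ⟨a, b, -, rfl⟩ := IsFractionRing.div_surjective A₁ z
  obtain ⟨⟨x, s⟩, ha⟩ := IsLocalization.surj M a
  obtain ⟨⟨y, t⟩, hb⟩ := IsLocalization.surj M b
  refine ⟨x * (t : A), y * (s : A), ?_⟩
  rw [IsScalarTower.algebraMap_apply A A₁ (FractionRing A₁), IsScalarTower.algebraMap_apply A A₁ (FractionRing A₁)
    (y * (s : A))]
  simp only [map_mul] at ha hb ⊢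
  rw [← ha, ← hb]
  simp only [map_mul]
  have hs : algebraMap A₁ (FractionRing A₁) (algebraMap A A₁ s) ≠ 0 := by
    simpa using (IsLocalization.map_units A₁ s).ne_zero
  have ht : algebraMap A₁ (FractionRing A₁) (algebraMap A A₁ t) ≠ 0 := by
    simpa using (IsLocalization.map_units A₁ t).ne_zero
  field_simp

/-- Relative minimality passes up along surjective étale extensions of the base, for positive genus. -/
theorem isRelMinimal_etale {R R' : Type u} [CommRing R] [IsDedekindDomain R] [CommRing R'] [IsDedekindDomain R']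
    [Algebra R R'] [Algebra.Etale R R'] (hsurj : Function.Surjective (PrimeSpectrum.comap (algebraMap R R')))
    (X : Over (Spec (CommRingCat.of R))) (hX : ArSurf.IsArithSurface R X) (hmin : Neron.IsRelMinimalRegularModel R X)
    (hg : FGA.eulerCharLE (FractionRing R) ((Neron.genericFibre R).obj X).left (Coh.structureModule _) 1 ≤ 0)
    [IsIntegral ((Over.pullback (Spec.map (CommRingCat.ofHom (algebraMap R R')))).obj X).left] :
    ArSurf.IsArithSurface R' ((Over.pullback (Spec.map (CommRingCat.ofHom (algebraMap R R')))).obj X) ∧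
      Neron.IsRelMinimalRegularModel R' ((Over.pullback (Spec.map (CommRingCat.ofHom (algebraMap R R')))).obj X) := by
  let j := Spec.map (CommRingCat.ofHom (algebraMap R R'))
  let X' := (Over.pullback j).obj X
  have hX' : ArSurf.IsArithSurface R' X' := isArith_etale hsurj X hX
  refine ⟨hX', hX'.1, hX'.2.2.2.2, hX'.2.2.2.1, fun Y hYr hYp hYf g hgK => ?_⟩
  by_cases hR' : IsField R'
  · exact isIso_of_isField hR' g hgK
  haveI := hYf
  rcases isIso_or_exists_exc hX' hYr hYp g hgK with h | ⟨E, ι, hιc, hE⟩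
  · exact h
  exfalso
  haveI := hιc
  haveI := hX'.2.1
  haveI := hX.2.1
  haveI : IsProper X'.hom := PtBlow.isProper_of_isProjectiveOver (Z := X') hX'.2.2.2.2
  haveI : IsProper X.hom := PtBlow.isProper_of_isProjectiveOver (Z := X) hX.2.2.2.2
  haveI := hX.2.2.2.1
  haveI : Etale j := HasRingHomProperty.Spec_iff.2 (RingHom.etale_algebraMap.2 ‹_›)
  haveI : LocallyQuasiFinite j := EtMV.lqf_of_etale j
  let f : X'.left ⟶ X.left := pullback.fst X.hom j
  haveI : Etale f := MorphismProperty.pullback_fst (P := @Etale) _ _ inferInstance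
  haveI : LocallyQuasiFinite f := EtMV.lqf_of_etale f
  have hfsq : f ≫ X.hom = X'.hom ≫ j := pullback.condition
  obtain ⟨hI, k, _, eP, -⟩ := id hE
  haveI : IsIntegral (CohB1.ProjSpace 1 k) := Horrocks.isIntegral_projSpace
  let ι₀ : CohB1.ProjSpace 1 k ⟶ X'.left := eP.hom ≫ ι
  haveI : IsClosedImmersion ι₀ := inferInstanceAs (IsClosedImmersion (eP.hom ≫ ι))
  obtain ⟨s, hs, hsp⟩ := exc_base_const hR' X'.hom ι₀
  obtain ⟨t, ht⟩ := exists_ne_genericPoint (C := CohB1.ProjSpace 1 k) (Groth.Agent.S10829.result k 1)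
  have hqf : ∀ {a b : X'.left}, a ⤳ b → f a = f b → b = a := fun {a b} h e =>
    eq_of_specializes_qf f (f.quasiFiniteAt _) e.symm h
  have hzx₀ : ι₀ (genericPoint (CohB1.ProjSpace 1 k)) ⤳ ι₀ t := (genericPoint_specializes t).map ι₀.continuous
  have hne₀ : ι₀ (genericPoint (CohB1.ProjSpace 1 k)) ≠ ι₀ t := fun e =>
    ht (ι₀.isClosedEmbedding.injective e).symm
  haveI hqM : s.asIdeal.IsMaximal := Ideal.IsPrime.isMaximal s.isPrime hs
  let p : Ideal R := s.asIdeal.comap (algebraMap R R')
  have hp : p ≠ ⊥ := fun e => by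
    let η' : Spec (CommRingCat.of R') := (⟨⊥, Ideal.isPrime_bot⟩ : PrimeSpectrum R')
    have h1 : η' ⤳ s := (PrimeSpectrum.le_iff_specializes η' s).1 bot_le
    have h2 : j η' = j s := by
      refine PrimeSpectrum.ext ?_
      show (⊥ : Ideal R').comap (algebraMap R R') = p
      rw [e, eq_bot_iff, ← e]
      exact Ideal.comap_mono bot_le
    exact hs (congrArg PrimeSpectrum.asIdeal (eq_of_specializes_qf j (j.quasiFiniteAt _) h2.symm h1))
  haveI hpP : p.IsPrime := inferInstance
  haveI hpM : p.IsMaximal := Ideal.IsPrime.isMaximal hpP hp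
  have hR : ¬ IsField R := fun hF => hp ((letI := hF.toField; Ideal.eq_bot_or_top p).resolve_right hpM.ne_top)
  let R₁ := Localization.AtPrime p
  let R₂ := Localization.AtPrime s.asIdeal
  haveI : IsDiscreteValuationRing R₁ := IsLocalization.AtPrime.isDiscreteValuationRing_of_dedekind_domain R hp _
  haveI : IsDiscreteValuationRing R₂ := IsLocalization.AtPrime.isDiscreteValuationRing_of_dedekind_domain R' hs _
  let u : R₁ →+* R₂ := Localization.localRingHom p s.asIdeal (algebraMap R R') rfl
  haveI : IsLocalHom u := Localization.isLocalHom_localRingHom p s.asIdeal (algebraMap R R') rfl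
  let j₁ := Spec.map (CommRingCat.ofHom (algebraMap R R₁))
  let j₂ := Spec.map (CommRingCat.ofHom (algebraMap R' R₂))
  let σ := Spec.map (CommRingCat.ofHom u)
  have hσ : σ ≫ j₁ = j₂ ≫ j := by
    show Spec.map _ ≫ Spec.map _ = Spec.map _ ≫ Spec.map _
    rw [← Spec.map_comp, ← Spec.map_comp, ← CommRingCat.ofHom_comp, ← CommRingCat.ofHom_comp]
    congr 2
    exact RingHom.ext fun r => Localization.localRingHom_to_map p s.asIdeal (algebraMap R R') rfl r
  let X₁ := (Over.pullback j₁).obj X
  let X₂ := (Over.pullback j₂).obj X'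
  let f₁ : X₁.left ⟶ X.left := pullback.fst X.hom j₁
  let f₂ : X₂.left ⟶ X'.left := pullback.fst X'.hom j₂
  haveI : Module.Flat R R₁ := IsLocalization.flat R₁ p.primeCompl
  haveI : Module.Flat R' R₂ := IsLocalization.flat R₂ s.asIdeal.primeCompl
  haveI : Flat j₁ := Flat.SpecMap_iff.2 (RingHom.flat_algebraMap_iff.2 inferInstance)
  haveI : Flat j₂ := Flat.SpecMap_iff.2 (RingHom.flat_algebraMap_iff.2 inferInstance)
  haveI : IsPreimmersion j₁ := IsPreimmersion.of_isLocalization p.primeCompl
  haveI : IsPreimmersion j₂ := IsPreimmersion.of_isLocalization s.asIdeal.primeCompl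
  haveI : Flat f₁ := MorphismProperty.pullback_fst (P := @Flat) _ _ inferInstance
  haveI : Flat f₂ := MorphismProperty.pullback_fst (P := @Flat) _ _ inferInstance
  haveI : IsPreimmersion f₁ := MorphismProperty.pullback_fst (P := @IsPreimmersion) _ _ inferInstance
  haveI : IsPreimmersion f₂ := MorphismProperty.pullback_fst (P := @IsPreimmersion) _ _ inferInstance
  have hbase : ∀ v, X.hom (f v) = j (X'.hom v) := fun v => by
    rw [← Scheme.Hom.comp_apply, hfsq, Scheme.Hom.comp_apply]
  have hX₂ : ArSurf.IsArithSurface R₂ X₂ :=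
    isArith_localize (R₁ := R₂) s.asIdeal hs X' hX' hzx₀ hne₀ (congrArg PrimeSpectrum.asIdeal (hsp _))
  have hX₁ : ArSurf.IsArithSurface R₁ X₁ :=
    isArith_localize (R₁ := R₁) p hp X hX (hzx₀.map f.continuous) (fun e => hne₀ (hqf hzx₀ e).symm)
      (by rw [hbase, hsp]; rfl)
  haveI := hX₁.2.1
  haveI := hX₁.2.2.2.1
  haveI : IsProper X₁.hom := isProper_hom_of_isArithSurface hX₁
  haveI : IsProper X₂.hom := isProper_hom_of_isArithSurface hX₂
  have hr₂ : Set.range ι ⊆ Set.range f₂ := by
    rintro _ ⟨e, rfl⟩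
    show ι e ∈ Set.range (pullback.fst X'.hom j₂)
    obtain ⟨a, rfl⟩ := eP.hom.surjective e
    rw [Scheme.Pullback.range_fst, Set.mem_preimage]
    refine (range_localization (R₁ := R₂) s.asIdeal _).2 (Or.inr ?_)
    exact congrArg PrimeSpectrum.asIdeal (hsp a)
  obtain ⟨ι₂, hι₂, hι₂c, hι₂k⟩ := exists_factor_of_range ι f₂ hr₂
  haveI := hι₂c
  obtain ⟨Γ₂, hΓ₂⟩ := exists_vertComp_of_exc X₂.hom ι₂ ((isExcCurve_factor ι f₂ ι₂ hι₂ hι₂k hI).1 hE)
  haveI := Γ₂.isIntegral
  haveI := Γ₂.isClosedImmersion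
  haveI : IsProper (Over.mk X₂.hom).hom := ‹IsProper X₂.hom›
  let h : X₂.left ⟶ X₁.left := pullback.lift (f₂ ≫ f) (X₂.hom ≫ σ) (by
    rw [Category.assoc, hfsq, Category.assoc, hσ, ← Category.assoc, ← Category.assoc,
      show f₂ ≫ X'.hom = X₂.hom ≫ j₂ from pullback.condition])
  have hh₁ : h ≫ f₁ = f₂ ≫ f := pullback.lift_fst _ _ _
  have hh₂ : h ≫ X₁.hom = X₂.hom ≫ σ := pullback.lift_snd _ _ _
  have hbig : IsPullback (P := X₂.left) (h ≫ f₁) X₂.hom X.hom (σ ≫ j₁) := by
    rw [hh₁, hσ]
    exact (IsPullback.of_hasPullback X'.hom j₂).paste_horiz (IsPullback.of_hasPullback X.hom j)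
  have hsq : IsPullback h X₂.hom X₁.hom σ := IsPullback.of_right hbig hh₂ (IsPullback.of_hasPullback X.hom j₁)
  haveI : IsAffineHom h := MorphismProperty.of_isPullback (P := @IsAffineHom) hsq.flip inferInstance
  obtain ⟨ω₁, hω₁⟩ := exists_isCanonical hX₁
  obtain ⟨ω₂, hω₂⟩ := exists_isCanonical hX₂
  obtain ⟨eω⟩ := nonempty_canon_baseChange hsq (Or.inl inferInstance) hω₁ hω₂
  obtain ⟨t₂, ht₂⟩ := exists_ne_genericPoint (C := Γ₂.curve.left) Γ₂.dim_eq
  let z₁ := h (Γ₂.ι (genericPoint Γ₂.curve.left))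
  have hzx₂ : Γ₂.ι (genericPoint Γ₂.curve.left) ⤳ Γ₂.ι t₂ :=
    (genericPoint_specializes t₂).map Γ₂.ι.continuous
  have hff : ∀ v, f₁ (h v) = f (f₂ v) := fun v => by
    rw [← Scheme.Hom.comp_apply, hh₁, Scheme.Hom.comp_apply]
  have hne₁ : z₁ ≠ h (Γ₂.ι t₂) := fun e => by
    have e' : f (f₂ (Γ₂.ι (genericPoint Γ₂.curve.left))) = f (f₂ (Γ₂.ι t₂)) := by
      rw [← hff, ← hff]; exact congrArg f₁ e
    exact ht₂ (Γ₂.ι.isClosedEmbedding.injective (f₂.isEmbedding.injective (hqf (hzx₂.map f₂.continuous) e')))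
  have hc : ∀ a : Γ₂.curve.left, X₂.hom (Γ₂.ι a) = IsLocalRing.closedPoint R₂ := fun a => by
    refine (congrArg (fun φ : Γ₂.curve.left ⟶ Spec (CommRingCat.of R₂) => φ a) Γ₂.w).trans ?_
    exact (congrArg _ (Subsingleton.elim (α := PrimeSpectrum (IsLocalRing.ResidueField R₂)) _
      (IsLocalRing.closedPoint _))).trans
        (IsLocalRing.comap_closedPoint (R := R₂) (S := IsLocalRing.ResidueField R₂) (IsLocalRing.residue R₂))
  have hs₂ : ∀ a : Γ₂.curve.left, X'.hom (f₂ (Γ₂.ι a)) = s := fun a => by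
    have h1 : X'.hom (f₂ (Γ₂.ι a)) = j₂ (X₂.hom (Γ₂.ι a)) := by
      rw [← Scheme.Hom.comp_apply, show f₂ ≫ X'.hom = X₂.hom ≫ j₂ from pullback.condition]; rfl
    rw [h1, hc]
    exact PrimeSpectrum.ext (Localization.AtPrime.comap_maximalIdeal (I := s.asIdeal))
  have hz₁ : z₁ ∈ Models.specialFibreSet R₁ X₁ := by
    show X₁.hom (h (Γ₂.ι (genericPoint Γ₂.curve.left))) = IsLocalRing.closedPoint R₁
    rw [← Scheme.Hom.comp_apply, hh₂, Scheme.Hom.comp_apply, hc _]
    exact IsLocalRing.comap_closedPoint (R := R₁) (S := R₂) u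
  obtain ⟨Γ₁, -, hΓ₁r, -, -⟩ := exists_vertComp_of_specializes hX₁.2.2.1 hz₁ (hzx₂.map h.continuous) hne₁
  haveI := Γ₁.isIntegral
  haveI := Γ₁.isClosedImmersion
  obtain ⟨gC, hgC⟩ := RedSepLib.exists_lift_of_isReduced (Γ₂.ι ≫ h) Γ₁.ι (by
    rintro _ ⟨a, rfl⟩
    rw [hΓ₁r]
    exact specializes_iff_mem_closure.1 (((genericPoint_specializes a).map Γ₂.ι.continuous).map h.continuous))
  by_cases hneg : ArSurf.inter R₁ X₁ ω₁ Γ₁ < 0
  · haveI : IsFractionRing R (FractionRing R₁) := isFractionRing_fractionRing (A₁ := R₁) p.primeCompl p.primeCompl_le_nonZeroDivisors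
    have hg₁ : FGA.eulerCharLE (FractionRing R₁) ((Neron.genericFibre R₁).obj X₁).left
        (Coh.structureModule ((Neron.genericFibre R₁).obj X₁).left) 1 ≤ 0 :=
      (eulerChar_localize (A := R) (A₁ := R₁) X).trans_le hg
    have hexc := isExc_of_canonical_neg hX₁ hg₁ hω₁ Γ₁ hneg
    have hcl : IsClosed (Set.range (Γ₁.ι ≫ f₁)) := by
      have : Set.range (Γ₁.ι ≫ f₁) = closure {f₁ z₁} := by
        rw [Scheme.Hom.comp_base, TopCat.coe_comp, Set.range_comp, hΓ₁r]
        refine (Set.Subset.antisymm (image_closure_subset_closure_image f₁.continuous |>.trans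
          (by rw [Set.image_singleton])) fun v hv => ?_)
        have hv' := specializes_iff_mem_closure.2 hv
        have hvp : (X.hom v).asIdeal = p := by
          have hz : (X.hom (f₁ z₁)).asIdeal = p := by
            show (X.hom (f₁ (h (Γ₂.ι (genericPoint Γ₂.curve.left))))).asIdeal = p
            rw [hff, hbase]
            exact congrArg (Ideal.comap (algebraMap R R')) (congrArg PrimeSpectrum.asIdeal (hs₂ _))
          have hle := (PrimeSpectrum.le_iff_specializes (X.hom (f₁ z₁)) (X.hom v)).2 (hv'.map X.hom.continuous)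
          exact (hpM.eq_of_le (X.hom v).isPrime.ne_top (hz ▸ hle)).symm
        obtain ⟨w, rfl⟩ : v ∈ Set.range f₁ := by
          show v ∈ Set.range (pullback.fst X.hom j₁)
          rw [Scheme.Pullback.range_fst, Set.mem_preimage]
          exact (range_localization (R₁ := R₁) p _).2 (Or.inr hvp)
        exact ⟨w, specializes_iff_mem_closure.1 (f₁.isEmbedding.isInducing.specializes_iff.1 hv'), rfl⟩
      exact this ▸ isClosed_closure
    haveI : IsClosedImmersion (Γ₁.ι ≫ f₁) := IsClosedImmersion.of_isPreimmersion _ hcl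
    obtain ⟨ι₁', hι₁', -, hι₁k⟩ := exists_factor_of_range (Γ₁.ι ≫ f₁) f₁ (by
      rintro _ ⟨a, rfl⟩; exact ⟨Γ₁.ι a, rfl⟩)
    obtain rfl : ι₁' = Γ₁.ι := (cancel_mono f₁).1 hι₁'
    exact no_exc_of_minimal hR hX hmin _ (Γ₁.ι ≫ f₁)
      ((isExcCurve_factor (Γ₁.ι ≫ f₁) f₁ Γ₁.ι rfl hι₁k (cartier_of_curve hX (Γ₁.ι ≫ f₁) Γ₁.dim_eq)).2 hexc)
  · push Not at hneg
    have h1 := inter_pullback_nonneg hX₁ h Γ₁ Γ₂ gC hgC (isInvertible_of_isCanonical hω₁) hneg
    exact absurd (canonical_neg_of_isExc hX₂ hω₂ Γ₂ hΓ₂) (not_lt.2 (h1.trans_eq (inter_congr Γ₂ eω).symm))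

end Groth.Agent.Castel
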