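import Groth.Agent.Castel.RelMinEtale

/-!
Relative minimality along flat local extensions of discrete valuation rings.
-/

set_option autoImplicit false
set_option backward.isDefEq.respectTransparency false
set_option backward.isDefEq.respectTransparency.types false
set_option linter.style.haveILetI false
set_option maxHeartbeats 800000

universe u

open CategoryTheory CategoryTheory.Limits AlgebraicGeometry TopologicalSpace Opposite TensorProduct

noncomputable section

namespace Groth.Agent.Castel

variable {R R' : Type u} [CommRing R] [IsDomain R] [IsDiscreteValuationRing R] [CommRing R'] [IsDomain R']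
  [IsDiscreteValuationRing R']

/-- The structure sheaf has degree zero on every vertical curve. -/
theorem inter_structure {X : Over (Spec (CommRingCat.of R))} [IsProper X.hom] (C : ArSurf.VertComp R X) :
    ArSurf.inter R X (Coh.structureModule X.left) C = 0 := by
  have hO := TMul.isInvertible_structureModule (X := X.left)
  have h := inter_tensor C hO hO
  rw [inter_congr C (SecTwist.unitorR (Coh.structureModule X.left))] at h
  omega

/-- Positive degrees stay positive under affine maps of curves, whatever the base field. -/
theorem inter_pullback_pos {X : Over (Spec (CommRingCat.of R))} {X' : Over (Spec (CommRingCat.of R'))}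
    [IsProper X.hom] [IsProper X'.hom] (h : X'.left ⟶ X.left) [IsAffineHom h] (C : ArSurf.VertComp R X)
    (C' : ArSurf.VertComp R' X') (gC : C'.curve.left ⟶ C.curve.left) (hgC : gC ≫ C.ι = C'.ι ≫ h) {L : X.left.Modules}
    (hL : PicF.IsInvertible L) (hpos : 0 < ArSurf.inter R X L C) :
    0 < ArSurf.inter R' X' ((Scheme.Modules.pullback h).obj L) C' := by
  haveI := C.isIntegral; haveI := C'.isIntegral; haveI := C.isClosedImmersion; haveI := C'.isClosedImmersion
  haveI : IsProper (C.curve.left ↘ Spec (CommRingCat.of (IsLocalRing.ResidueField R))) := isProper_curve C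
  haveI : IsProper (C'.curve.left ↘ Spec (CommRingCat.of (IsLocalRing.ResidueField R'))) := isProper_curve C'
  haveI : IsAffineHom (gC ≫ C.ι) := by rw [hgC]; infer_instance
  haveI : IsAffineHom gC := IsAffineHom.of_comp gC C.ι
  rw [inter_eq_deg] at hpos ⊢
  have hamp := TMul.isAmple_pullback_of_isAffineHom gC
    (CurveRR.isAmple_of_deg_pos (k := IsLocalRing.ResidueField R) C.dim_eq (PicLoc.isInvertible_pullback C.ι hL) hpos)
  exact CurveRR.deg_pos_of_isAmple (k := IsLocalRing.ResidueField R') C'.dim_eq (TMul.isAmple_congr
    ((Scheme.Modules.pullbackComp gC C.ι).app L ≪≫ (Scheme.Modules.pullbackCongr hgC).app L ≪≫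
      ((Scheme.Modules.pullbackComp C'.ι h).app L).symm) hamp)

/-- An affine morphism contracts no vertical curve. -/
theorem exists_ne_of_isAffineHom {X : Scheme.{u}} {X' : Over (Spec (CommRingCat.of R'))} [IsProper X'.hom]
    (h : X'.left ⟶ X) [IsAffineHom h] (C : ArSurf.VertComp R' X') :
    ∃ t : C.curve.left, h (C.ι t) ≠ h (C.ι (haveI := C.isIntegral; genericPoint C.curve.left)) := by
  haveI := C.isIntegral; haveI := C.isClosedImmersion
  by_contra hc
  push Not at hc
  obtain ⟨U, hU, hxU, -⟩ := exists_isAffineOpen_mem_and_subset (X := X)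
    (x := h (C.ι (genericPoint C.curve.left))) (U := ⊤) trivial
  have htop : (C.ι ≫ h) ⁻¹ᵁ U = ⊤ := eq_top_iff.2 fun t _ => by
    show h (C.ι t) ∈ U
    rw [hc t]; exact hxU
  haveI : IsAffine C.curve.left := by
    have := hU.preimage (C.ι ≫ h)
    rw [htop] at this
    exact IsAffine.of_isIso C.curve.left.topIso.inv (h := this)
  haveI : IsProper C.curve.hom := isProper_curve C
  haveI : IsAffineHom C.curve.hom := inferInstance
  haveI : IsFinite C.curve.hom := IsFinite.iff_isProper_and_isAffineHom.2 ⟨inferInstance, inferInstance⟩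
  obtain ⟨t, ht⟩ := exists_ne_genericPoint (C := C.curve.left) C.dim_eq
  exact ht (eq_of_specializes_qf C.curve.hom (C.curve.hom.quasiFiniteAt _)
    (Subsingleton.elim (α := PrimeSpectrum (IsLocalRing.ResidueField R')) _ _) (genericPoint_specializes t))

/-- Relative minimality is unchanged by a flat local extension of the base, for positive genus. -/
theorem isRelMinimal_iff_baseChange [Algebra R R'] [Module.Flat R R'] [IsLocalHom (algebraMap R R')]
    (X : Over (Spec (CommRingCat.of R))) (hX : ArSurf.IsArithSurface R X)
    (hX' : ArSurf.IsArithSurface R' ((Over.pullback (Spec.map (CommRingCat.ofHom (algebraMap R R')))).obj X))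
    (hg : FGA.eulerCharLE (FractionRing R) ((Neron.genericFibre R).obj X).left (Coh.structureModule _) 1 ≤ 0)
    (hg' : FGA.eulerCharLE (FractionRing R')
      ((Neron.genericFibre R').obj ((Over.pullback (Spec.map (CommRingCat.ofHom (algebraMap R R')))).obj X)).left
      (Coh.structureModule _) 1 ≤ 0) :
    Neron.IsRelMinimalRegularModel R X ↔
      Neron.IsRelMinimalRegularModel R' ((Over.pullback (Spec.map (CommRingCat.ofHom (algebraMap R R')))).obj X) := by
  let j := Spec.map (CommRingCat.ofHom (algebraMap R R'))
  let X' := (Over.pullback j).obj X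
  let h : X'.left ⟶ X.left := pullback.fst X.hom j
  haveI : IsProper X.hom := isProper_hom_of_isArithSurface hX
  haveI : IsProper X'.hom := isProper_hom_of_isArithSurface hX'
  haveI := hX.2.1
  haveI := hX'.2.1
  haveI := hX.2.2.2.1
  haveI := hX'.2.2.2.1
  haveI : IsAffineHom h := MorphismProperty.pullback_fst (P := @IsAffineHom) _ _ inferInstance
  haveI : Flat j := Flat.SpecMap_iff.2 (RingHom.flat_algebraMap_iff.2 inferInstance)
  haveI : Flat h := MorphismProperty.pullback_fst (P := @Flat) _ _ inferInstance
  have hsq : IsPullback h X'.hom X.hom j := IsPullback.of_hasPullback X.hom j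
  obtain ⟨ω, hω⟩ := exists_isCanonical hX
  obtain ⟨ω', hω'⟩ := exists_isCanonical hX'
  obtain ⟨eω⟩ := nonempty_canon_baseChange hsq (Or.inl inferInstance) hω hω'
  have hωi := isInvertible_of_isCanonical hω
  have hlift : ∀ (C : ArSurf.VertComp R X) (C' : ArSurf.VertComp R' X'),
      h (C'.ι (haveI := C'.isIntegral; genericPoint C'.curve.left)) ∈ Set.range C.ι →
      ∃ gC : C'.curve.left ⟶ C.curve.left, gC ≫ C.ι = C'.ι ≫ h := fun C C' hm => by
    haveI := C'.isIntegral; haveI := C.isClosedImmersion
    refine RedSepLib.exists_lift_of_isReduced (C'.ι ≫ h) C.ι ?_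
    rintro _ ⟨a, rfl⟩
    exact (((genericPoint_specializes a).map C'.ι.continuous).map h.continuous).mem_closed
      C.ι.isClosedEmbedding.isClosed_range hm
  have hfib : ∀ v : X'.left, X.hom (h v) = j (X'.hom v) := fun v => by
    rw [← Scheme.Hom.comp_apply, hsq.w, Scheme.Hom.comp_apply]
  constructor
  · intro hmin
    refine isRelMinimal_of_nef hX' hω' fun C' => ?_
    haveI := C'.isIntegral
    obtain ⟨t, ht⟩ := exists_ne_of_isAffineHom h C'
    have hs : h (C'.ι (genericPoint C'.curve.left)) ∈ Models.specialFibreSet R X := by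
      show X.hom _ = IsLocalRing.closedPoint R
      rw [hfib]
      have hc : X'.hom (C'.ι (genericPoint C'.curve.left)) = IsLocalRing.closedPoint R' := by
        refine (congrArg (fun φ : C'.curve.left ⟶ Spec (CommRingCat.of R') => φ (genericPoint C'.curve.left))
          C'.w).trans ?_
        exact (congrArg _ (Subsingleton.elim (α := PrimeSpectrum (IsLocalRing.ResidueField R')) _
          (IsLocalRing.closedPoint _))).trans
            (IsLocalRing.comap_closedPoint (R := R') (S := IsLocalRing.ResidueField R') (IsLocalRing.residue R'))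
      rw [hc]
      exact IsLocalRing.comap_closedPoint (R := R) (S := R') (algebraMap R R')
    obtain ⟨C, -, hCr, -, -⟩ := exists_vertComp_of_specializes hX.2.2.1 hs
      (((genericPoint_specializes t).map C'.ι.continuous).map h.continuous) (Ne.symm ht)
    obtain ⟨gC, hgC⟩ := hlift C C' (hCr.ge (subset_closure rfl))
    exact (inter_pullback_nonneg hX h C C' gC hgC hωi (nef_of_isRelMinimal hX hg hω hmin C)).trans_eq
      (inter_congr C' eω).symm
  · intro hmin'
    refine isRelMinimal_of_nef hX hω fun C => ?_
    by_contra hneg
    push Not at hneg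
    haveI := C.isIntegral; haveI := C.isClosedImmersion
    obtain ⟨t, ht⟩ := exists_ne_genericPoint (C := C.curve.left) C.dim_eq
    have hcl : ∀ a, X.hom (C.ι a) = IsLocalRing.closedPoint R := fun a => by
      refine (congrArg (fun φ : C.curve.left ⟶ Spec (CommRingCat.of R) => φ a) C.w).trans ?_
      exact (congrArg _ (Subsingleton.elim (α := PrimeSpectrum (IsLocalRing.ResidueField R)) _
        (IsLocalRing.closedPoint _))).trans
          (IsLocalRing.comap_closedPoint (R := R) (S := IsLocalRing.ResidueField R) (IsLocalRing.residue R))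
    obtain ⟨t', ht'⟩ : C.ι t ∈ Set.range h := by
      show C.ι t ∈ Set.range (pullback.fst X.hom j)
      rw [Scheme.Pullback.range_fst, Set.mem_preimage, hcl]
      exact ⟨IsLocalRing.closedPoint R', IsLocalRing.comap_closedPoint (R := R) (S := R') (algebraMap R R')⟩
    obtain ⟨z', hz', hz⟩ := Flat.generalizingMap h (a := t')
      (show C.ι (genericPoint C.curve.left) ⤳ h t' by
        rw [ht']; exact (genericPoint_specializes t).map C.ι.continuous)
    have hne : z' ≠ t' := fun e => ht (C.ι.isClosedEmbedding.injective (by rw [← ht', ← e, hz])).symm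
    have hs : z' ∈ Models.specialFibreSet R' X' := by
      show X'.hom z' = IsLocalRing.closedPoint R'
      by_contra hc
      have h1 : (X'.hom z').asIdeal.comap (algebraMap R R') = (IsLocalRing.closedPoint R).asIdeal :=
        congrArg PrimeSpectrum.asIdeal ((hfib z').symm.trans ((congrArg X.hom hz).trans (hcl _)))
      rw [eq_bot_of_ne_closedPoint hc] at h1
      exact IsDiscreteValuationRing.not_a_field R (h1.symm.trans (show (⊥ : Ideal R').comap (algebraMap R R') = ⊥
        from (RingHom.injective_iff_ker_eq_bot _).1 (FaithfulSMul.algebraMap_injective R R')))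
    haveI : FaithfulSMul R R' := inferInstance
    obtain ⟨C', -, -, hC'g, -⟩ := exists_vertComp_of_specializes hX'.2.2.1 hs hz' hne
    obtain ⟨gC, hgC⟩ := hlift C C' (by rw [hC'g, hz]; exact ⟨_, rfl⟩)
    obtain ⟨D, hDi, ⟨θ⟩⟩ := W7Hull.exists_tensor_inverse hωi
    have hD : 0 < ArSurf.inter R X D C := by
      have h1 := inter_tensor C hωi hDi
      rw [inter_congr C θ, inter_structure] at h1
      omega
    have hD' : 0 < ArSurf.inter R' X' ((Scheme.Modules.pullback h).obj D) C' :=
      inter_pullback_pos h C C' gC hgC hDi hD
    obtain ⟨p⟩ := TMul.nonempty_pullTensorIso h ω D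
    have h2 := inter_tensor C' (PicLoc.isInvertible_pullback h hωi) (PicLoc.isInvertible_pullback h hDi)
    rw [inter_congr C' (p ≪≫ (Scheme.Modules.pullback h).mapIso θ ≪≫ PicLoc.pullbackStructureIso h),
      inter_structure] at h2
    have h3 : 0 ≤ ArSurf.inter R' X' ((Scheme.Modules.pullback h).obj ω) C' := (nef_of_isRelMinimal hX' hg' hω' hmin' C').trans_eq (inter_congr C' eω)
    have h4 : 0 = ArSurf.inter R' X' ((Scheme.Modules.pullback h).obj ω) C' +
        ArSurf.inter R' X' ((Scheme.Modules.pullback h).obj D) C' := h2
    omega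

end Groth.Agent.Castel
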