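import Groth.Agent.Castel.IsolatedComp
import Groth.Agent.Castel.CanonExc

/-!
Self-intersection zero means a connected component of the closed fibre.
-/

set_option autoImplicit false
set_option backward.isDefEq.respectTransparency false
set_option backward.isDefEq.respectTransparency.types false
set_option linter.style.haveILetI false

universe u

open CategoryTheory CategoryTheory.Limits AlgebraicGeometry TopologicalSpace Opposite

noncomputable section

namespace Groth.Agent.Castel

variable {R : Type u} [CommRing R] [IsDomain R] [IsDiscreteValuationRing R] {X : Over (Spec (CommRingCat.of R))}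

/-- `E · E ≤ 0`, and `< 0` unless `E` is open in the closed fibre. -/
theorem selfInter_nonpos (hX : ArSurf.IsArithSurface R X) (E : ArSurf.VertComp R X) {L : X.left.Modules}
    (hL : ClSub.IsInverseOf L (ClSub.idealMod E.ι.ker)) :
    ArSurf.inter R X L E ≤ 0 ∧ (ArSurf.inter R X L E = 0 →
      ∃ U : X.left.Opens, (U : Set X.left) ∩ Models.specialFibreSet R X = Set.range E.ι) := by
  haveI := isProper_hom_of_isArithSurface hX
  haveI : Flat X.hom := hX.2.2.2.1
  have hE := isEffCartierIdeal_ker hX E
  obtain ⟨J, hJ, hfib, hout, hm⟩ := exists_residual hX (fun _ : Fin 1 => E) (fun i j _ => Subsingleton.elim i j)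
  rw [Fin.prod_univ_one] at hfib
  have h := degI_fibreIdeal E
  rw [hfib, degI_mul E hJ (DivPart.cartier_pow hE _), degI_pow E hE] at h
  obtain ⟨h1, h2⟩ := degI_nonpos E hJ (hout 0)
  rw [inter_eq_neg_degI E hE hL]
  have hm0 : (0 : ℤ) < Models.mult R X E := Int.natCast_pos.2 (hm 0)
  refine ⟨by nlinarith, fun h0 => ?_⟩
  have hd := h2.1 (by nlinarith)
  refine ⟨⟨((J.support : Set X.left))ᶜ, J.support.isClosed.isOpen_compl⟩, subset_antisymm ?_ ?_⟩
  · rintro x ⟨hxJ, hxs⟩
    have hx := (mem_support_fibreIdeal x).2 hxs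
    rw [hfib, Scheme.IdealSheafData.support_mul] at hx
    rcases hx with hx | hx
    · exact absurd hx hxJ
    · obtain ⟨N, hN⟩ : ∃ N, Models.mult R X E = N + 1 := ⟨Models.mult R X E - 1, by have := hm 0; omega⟩
      rw [hN, SetLike.mem_coe, Scheme.IdealSheafData.support_pow _ _ (Nat.succ_ne_zero N)] at hx
      rw [← E.ι.isClosedEmbedding.isClosed_range.closure_eq, ← Scheme.Hom.support_ker]
      exact hx
  · intro x hx
    exact ⟨fun hxJ => Set.disjoint_left.1 hd hx hxJ, range_subset_specialFibre E hx⟩

/-- An open component: self-intersection zero, and `χ(O_E)` has the sign of the generic fibre. -/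
theorem numbers_of_isolated (hX : ArSurf.IsArithSurface R X) (E : ArSurf.VertComp R X) {L : X.left.Modules}
    (hL : ClSub.IsInverseOf L (ClSub.idealMod E.ι.ker)) (U : X.left.Opens)
    (hU : (U : Set X.left) ∩ Models.specialFibreSet R X = Set.range E.ι) :
    ArSurf.inter R X L E = 0 ∧ ∃ p q : ℕ, 0 < p ∧ 0 < q ∧
      ((Models.wdeg R X E : ℤ) - Models.h1 R X E) * p =
        FGA.eulerCharLE (FractionRing R) ((Neron.genericFibre R).obj X).left
          (Coh.structureModule ((Neron.genericFibre R).obj X).left) 1 * q := by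
  haveI := isProper_hom_of_isArithSurface hX
  have hE := isEffCartierIdeal_ker hX E
  obtain ⟨b, hb, ⟨e⟩⟩ := exists_trivial_pow hX E U hU
  let k := IsLocalRing.ResidueField R
  haveI : IsProper (E.curve.left ↘ Spec (CommRingCat.of k)) := isProper_curve E
  have hdeg : degI E (E.ι.ker ^ b) = 0 := by
    rw [degI, Curv2.deg, CurveRR.euler_eq_of_iso
      ((Scheme.Modules.pullback E.ι).mapIso e.symm ≪≫ PicLoc.pullbackStructureIso E.ι)]
    simp
  rw [degI_pow E hE] at hdeg
  have hself : degI E E.ι.ker = 0 := (mul_eq_zero.1 hdeg).resolve_left (by exact_mod_cast hb.ne')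
  refine ⟨by rw [inter_eq_neg_degI E hE hL, hself, neg_zero], ?_⟩
  have hne : (Models.specialFibreSet R X).Nonempty := ⟨_, range_subset_specialFibre E ⟨genericPoint E.curve.left, rfl⟩⟩
  have htop : E.ι.ker ^ b ≠ ⊤ := fun h => by
    have hx : E.ι (genericPoint E.curve.left) ∈ ((E.ι.ker ^ b).support : Set X.left) := by
      rw [SetLike.mem_coe, Scheme.IdealSheafData.support_pow _ _ hb.ne', ← SetLike.mem_coe, Scheme.Hom.support_ker]
      exact subset_closure ⟨_, rfl⟩
    rw [h, Scheme.IdealSheafData.support_top] at hx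
    exact hx
  obtain ⟨d, q, hd, hq, hχ⟩ := euler_trivial_generic hX hne e htop
  have hc := (chiL_divI hX (fun _ : Fin 1 => E) (fun i j _ => Subsingleton.elim i j) fun _ => b).2
  simp only [divI, Fin.prod_univ_one, Fin.sum_univ_one, interMat, hself] at hc
  refine ⟨b * d, q, Nat.mul_pos hb hd, hq, ?_⟩
  push_cast
  linear_combination hχ - (d : ℤ) * (by linarith : chiL R X (ClSub.quotMod (E.ι.ker ^ b)) =
    (b : ℤ) * ((Models.wdeg R X E : ℤ) - Models.h1 R X E))

end Groth.Agent.Castel
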