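import Groth.Agent.BlowReg.GG
import Groth.Agent.BlowUpLib.Cartier
import Groth.Agent.QC.Basic
import Groth.Prelude.Def_BlowUp2
import Mathlib.Topology.Sheaves.SheafCondition.UniqueGluing

/-!
Dividing by a pair of local generators of an invertible ideal.
-/

set_option autoImplicit false
set_option backward.isDefEq.respectTransparency false
set_option backward.isDefEq.respectTransparency.types false
set_option linter.style.haveILetI false

universe u

open CategoryTheory CategoryTheory.Limits CategoryTheory.Abelian AlgebraicGeometry TopologicalSpace Opposite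
open Groth.Agent.QC (resO resO_resO resO_self)

noncomputable section

namespace Groth.Agent.Castel

/-- Vanishing of `H¹` on a union of two opens splits sections on the intersection. -/
theorem exists_split {X : TopCat.{u}} (F : CohTop.Ab X) (U V : Opens X)
    (h : Subsingleton (CohSite.HU F 1 (U ⊔ V))) (s : F.obj.obj (op (U ⊓ V))) :
    ∃ (a : F.obj.obj (op U)) (b : F.obj.obj (op V)),
      F.obj.map (homOfLE inf_le_left).op a + F.obj.map (homOfLE inf_le_right).op b = s := by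
  let S := _root_.Opens.mayerVietorisSquare U V
  have hS := S.shortComplex_shortExact
  let φ := (SiteCoh.secEquiv (U ⊓ V) F).symm s
  have h0 : hS.extClass.comp (Ext.mk₀ φ) (add_zero 1) = 0 :=
    @Subsingleton.elim (Ext S.shortComplex.X₃ F 1) h _ _
  obtain ⟨x₂, hx₂⟩ := Ext.contravariant_sequence_exact₁ hS F
    (show Ext S.shortComplex.X₁ F 0 from Ext.mk₀ φ) (add_zero 1) h0
  obtain ⟨ψ, rfl⟩ := (Ext.mk₀_bijective _ _).2 x₂
  rw [Ext.mk₀_comp_mk₀] at hx₂
  have hψ : S.shortComplex.f ≫ ψ = φ := (Ext.mk₀_bijective _ _).1 hx₂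
  refine ⟨SiteCoh.secEquiv U F (biprod.inl ≫ ψ), SiteCoh.secEquiv V F (-(biprod.inr ≫ ψ)), ?_⟩
  have hψ' : S.shortComplex.f ≫ biprod.desc (biprod.inl ≫ ψ) (biprod.inr ≫ ψ) = φ := by
    rw [← hψ]; congr 1; apply biprod.hom_ext' <;> simp
  have h1 := congrArg (SiteCoh.secEquiv (U ⊓ V) F) ((biprod.lift_desc).symm.trans hψ')
  rw [Preadditive.neg_comp, ← Preadditive.comp_neg] at h1
  refine Eq.trans ?_ (h1.trans (AddEquiv.apply_symm_apply _ s))
  have h2 := map_add (SiteCoh.secEquiv (U ⊓ V) F)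
    (CohCx.freeSheafMap (Opens.grothendieckTopology X) (homOfLE inf_le_left : U ⊓ V ⟶ U) ≫ (biprod.inl ≫ ψ))
    (CohCx.freeSheafMap (Opens.grothendieckTopology X) (homOfLE inf_le_right : U ⊓ V ⟶ V) ≫ (-(biprod.inr ≫ ψ)))
  refine Eq.trans ?_ h2.symm
  rw [SiteCoh.secEquiv_freeSheafMap, SiteCoh.secEquiv_freeSheafMap]

variable {X : Scheme.{u}}

/-- `a` is a non-zero-divisor near every point of `U` -/
def LocNzd {U : X.Opens} (a : Γ(X, U)) : Prop :=
  ∀ x ∈ U, ∃ (W : X.affineOpens) (hW : W.1 ≤ U), x ∈ W.1 ∧ resO X hW a ∈ nonZeroDivisors Γ(X, W.1)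

theorem LocNzd.eq_zero {U O : X.Opens} {a : Γ(X, U)} (ha : LocNzd a) (hO : O ≤ U) {s : Γ(X, O)}
    (h : resO X hO a * s = 0) : s = 0 := by
  refine TopCat.Presheaf.section_ext X.sheaf O _ _ fun x hx => ?_
  obtain ⟨W, hW, hxW, hnz⟩ := ha x (hO hx)
  obtain ⟨W', hW', hxW', hle⟩ := exists_isAffineOpen_mem_and_subset (x := x) (U := W.1 ⊓ O) ⟨hxW, hx⟩
  have hWW : W' ≤ W.1 := fun y hy => (hle hy).1
  have hWO : W' ≤ O := fun y hy => (hle hy).2
  have hnz' := BlowUpLib.mem_nonZeroDivisors_map_of_flat _ (BlowUpLib.flat_res W.2 hW' hWW) hnz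
  have h0 : resO X hWO s = 0 := by
    refine (mul_right_mem_nonZeroDivisors_eq_zero_iff hnz').1 ?_
    have h2 := congrArg (resO X hWO) h
    rw [map_mul, map_zero, resO_resO] at h2
    show resO X hWO s * resO X hWW (resO X hW a) = 0
    rw [resO_resO, mul_comm]
    exact h2
  refine Eq.trans ?_ (map_zero _).symm
  exact ((X.presheaf.germ_res_apply (homOfLE hWO) x hxW' s).symm).trans
    ((congrArg (X.presheaf.germ W' x hxW') h0).trans (map_zero _))

/-- Division of functions by a local non-zero-divisor. -/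
theorem exists_div_section {U : X.Opens} {a : Γ(X, U)} (ha : LocNzd a) (c : Γ(X, U))
    (h : ∀ x ∈ U, ∃ (W : X.Opens) (hW : W ≤ U), x ∈ W ∧ resO X hW c ∈ Ideal.span {resO X hW a}) :
    ∃ u : Γ(X, U), a * u = c := by
  choose W hW hxW hmem using fun x : U => h x.1 x.2
  have hex : ∀ x : U, ∃ q : Γ(X, W x), resO X (hW x) a * q = resO X (hW x) c := fun x => by
    obtain ⟨q, hq⟩ := Ideal.mem_span_singleton'.1 (hmem x)
    exact ⟨q, by rw [mul_comm]; exact hq⟩
  choose q hq using hex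
  obtain ⟨u, hu, -⟩ := TopCat.Sheaf.existsUnique_gluing' X.sheaf W U (fun x => homOfLE (hW x))
    (fun x hx => Opens.mem_iSup.mpr ⟨⟨x, hx⟩, hxW ⟨x, hx⟩⟩) q fun i j => by
      change resO X inf_le_left (q i) = resO X inf_le_right (q j)
      refine sub_eq_zero.1 (ha.eq_zero (inf_le_left.trans (hW i)) ?_)
      have h1 := congrArg (resO X (inf_le_left : W i ⊓ W j ≤ W i)) (hq i)
      have h2 := congrArg (resO X (inf_le_right : W i ⊓ W j ≤ W j)) (hq j)
      simp only [map_mul, resO_resO] at h1 h2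
      rw [mul_sub]
      exact sub_eq_zero.2 (h1.trans h2.symm)
  refine ⟨u, TopCat.Sheaf.eq_of_locally_eq' X.sheaf W U (fun x => homOfLE (hW x))
    (fun x hx => Opens.mem_iSup.mpr ⟨⟨x, hx⟩, hxW ⟨x, hx⟩⟩) _ _ fun x => ?_⟩
  change resO X (hW x) (a * (show Γ(X, U) from u)) = resO X (hW x) c
  rw [map_mul, show resO X (hW x) u = q x from hu x, hq x]

/-- the locus where a global function generates an ideal sheaf -/
def genOpen (J : X.IdealSheafData) (a : Γ(X, ⊤)) : X.Opens :=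
  ⨆ W : {W : X.affineOpens // J.ideal W = Ideal.span {resO X le_top a}}, W.1.1

theorem exists_small_genOpen (J : X.IdealSheafData) (hJ : BlowUp.IsEffCartierIdeal J) (a : Γ(X, ⊤)) {O : X.Opens}
    {x : X} (hx : x ∈ genOpen J a) (hxO : x ∈ O) :
    ∃ W : X.affineOpens, x ∈ W.1 ∧ W.1 ≤ O ∧ W.1 ≤ genOpen J a ∧
      J.ideal W = Ideal.span {resO X le_top a} ∧ resO X le_top a ∈ nonZeroDivisors Γ(X, W.1) := by
  obtain ⟨W₀, hW₀⟩ := Opens.mem_iSup.1 hx
  obtain ⟨W, hxW, hle, g, hg, hge⟩ := BlowUpLib.exists_small_generator hJ (O := W₀.1.1 ⊓ O) (x := x) ⟨hW₀, hxO⟩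
  have hle₀ : W.1 ≤ W₀.1.1 := fun y hy => (hle hy).1
  have heq : J.ideal W = Ideal.span {resO X le_top a} := by
    rw [← J.map_ideal (U := W) (V := W₀.1) hle₀, W₀.2, Ideal.map_span, Set.image_singleton]
    exact congrArg (fun t => Ideal.span {t}) (resO_resO hle₀ le_top a)
  refine ⟨W, hxW, fun y hy => (hle hy).2, hle₀.trans (le_iSup (fun W : {W : X.affineOpens //
    J.ideal W = Ideal.span {resO X le_top a}} => W.1.1) W₀), heq, ?_⟩
  rw [heq] at hge
  obtain ⟨r, hr⟩ := Ideal.mem_span_singleton'.1 (hge.ge (Ideal.mem_span_singleton_self g))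
  refine mem_nonZeroDivisors_iff_right.2 fun z hz => ?_
  refine (mul_right_mem_nonZeroDivisors_eq_zero_iff hg).1 ?_
  rw [← hr, show z * (r * resO X le_top a) = r * (z * resO X le_top a) by ring, hz, mul_zero]

theorem locNzd_genOpen (J : X.IdealSheafData) (hJ : BlowUp.IsEffCartierIdeal J) (a : Γ(X, ⊤)) {O : X.Opens}
    (hO : O ≤ genOpen J a) : LocNzd (resO X (le_top : O ≤ ⊤) a) := fun x hx => by
  obtain ⟨W, hxW, hWO, -, -, hnz⟩ := exists_small_genOpen J hJ a (hO hx) hx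
  exact ⟨W, hWO, hxW, by rwa [resO_resO]⟩

theorem mem_square (J : X.IdealSheafData) (hJ : BlowUp.IsEffCartierIdeal J) (a b c : Γ(X, ⊤))
    (hc : ∀ W : X.affineOpens, resO X le_top c ∈ J.ideal W * J.ideal W) {x : X}
    (ha : x ∈ genOpen J a) (hb : x ∈ genOpen J b) {O : X.Opens} (hxO : x ∈ O) :
    ∃ (W : X.Opens) (hW : W ≤ O), x ∈ W ∧
      resO X (le_top : W ≤ ⊤) c ∈ Ideal.span {resO X le_top a * resO X le_top b} := by
  obtain ⟨W₁, hx₁, h₁O, -, he₁, -⟩ := exists_small_genOpen J hJ a ha hxO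
  obtain ⟨W, hxW, hle, -, he, -⟩ := exists_small_genOpen J hJ b hb hx₁
  refine ⟨W.1, hle.trans h₁O, hxW, ?_⟩
  have hea : J.ideal W = Ideal.span {resO X le_top a} := by
    rw [← J.map_ideal (U := W) (V := W₁) hle, he₁, Ideal.map_span, Set.image_singleton]
    exact congrArg (fun t => Ideal.span {t}) (resO_resO hle le_top a)
  have h := hc W
  nth_rewrite 1 [hea] at h
  rw [he, Ideal.span_singleton_mul_span_singleton] at h
  exact h

/-- A function in the square of an invertible ideal generated by two functions is a combination of them. -/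
theorem mem_span_pair (J : X.IdealSheafData) (hJ : BlowUp.IsEffCartierIdeal J) (a b c : Γ(X, ⊤))
    (hcov : genOpen J a ⊔ genOpen J b = ⊤)
    (hc : ∀ W : X.affineOpens, resO X le_top c ∈ J.ideal W * J.ideal W)
    (h1 : Subsingleton (CohSite.HU (Coh.toAb (Coh.structureModule X)) 1 (⊤ : X.Opens))) :
    c ∈ Ideal.span {a, b} := by
  set Da := genOpen J a with hDa
  set Db := genOpen J b with hDb
  have la : ∀ {O : X.Opens}, O ≤ Da → LocNzd (resO X (le_top : O ≤ ⊤) a) := fun h => locNzd_genOpen J hJ a h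
  have lb : ∀ {O : X.Opens}, O ≤ Db → LocNzd (resO X (le_top : O ≤ ⊤) b) := fun h => locNzd_genOpen J hJ b h
  -- quotients
  obtain ⟨ua, hua⟩ := exists_div_section (la le_rfl) (resO X (le_top : Da ≤ ⊤) c) fun x hx => by
    obtain ⟨W, hxW, -, hWa, he, -⟩ := exists_small_genOpen J hJ a hx (O := ⊤) trivial
    refine ⟨W.1, hWa, hxW, ?_⟩
    rw [resO_resO, resO_resO, ← he]
    exact Ideal.mul_le_left (hc W)
  obtain ⟨vb, hvb⟩ := exists_div_section (lb le_rfl) (resO X (le_top : Db ≤ ⊤) c) fun x hx => by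
    obtain ⟨W, hxW, -, hWb, he, -⟩ := exists_small_genOpen J hJ b hx (O := ⊤) trivial
    refine ⟨W.1, hWb, hxW, ?_⟩
    rw [resO_resO, resO_resO, ← he]
    exact Ideal.mul_le_left (hc W)
  have hab : LocNzd (resO X (le_top : Da ⊓ Db ≤ ⊤) a * resO X (le_top : Da ⊓ Db ≤ ⊤) b) := fun x hx => by
    obtain ⟨W₁, hx₁, h₁O, -, -, hn₁⟩ := exists_small_genOpen J hJ a hx.1 (O := Da ⊓ Db) hx
    obtain ⟨W, hxW, hle, -, -, hn⟩ := exists_small_genOpen J hJ b hx.2 (O := W₁.1) hx₁
    refine ⟨W, hle.trans h₁O, hxW, ?_⟩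
    rw [map_mul, resO_resO, resO_resO]
    refine mul_mem ?_ hn
    have := BlowUpLib.mem_nonZeroDivisors_map_of_flat _ (BlowUpLib.flat_res W₁.2 W.2 hle) hn₁
    have heq : resO X hle (resO X (le_top : W₁.1 ≤ ⊤) a) = resO X le_top a := resO_resO _ _ _
    rw [← heq]
    exact this
  obtain ⟨w, hw⟩ := exists_div_section hab (resO X (le_top : Da ⊓ Db ≤ ⊤) c) fun x hx => by
    obtain ⟨W, hW, hxW, hmem⟩ := mem_square J hJ a b c hc hx.1 hx.2 (O := Da ⊓ Db) hx
    refine ⟨W, hW, hxW, ?_⟩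
    rwa [map_mul, resO_resO, resO_resO, resO_resO]
  have h1' : Subsingleton (CohSite.HU (Coh.toAb (Coh.structureModule X)) 1 (Da ⊔ Db)) := hcov ▸ h1
  obtain ⟨wa', wb', hw'⟩ := exists_split (Coh.toAb (Coh.structureModule X)) Da Db h1' w
  obtain ⟨wa, wb, hsplit⟩ : ∃ (wa : Γ(X, Da)) (wb : Γ(X, Db)),
      resO X inf_le_left wa + resO X inf_le_right wb = w := ⟨wa', wb', hw'⟩
  have hcovU : ∀ x : X, x ∈ (⊤ : X.Opens) → x ∈ ⨆ i : ULift.{u} Bool, (bif i.down then Da else Db) := fun x hx => by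
    rcases (hcov.ge hx : x ∈ Da ⊔ Db) with h | h
    · exact Opens.mem_iSup.2 ⟨⟨true⟩, h⟩
    · exact Opens.mem_iSup.2 ⟨⟨false⟩, h⟩
  have glue : ∀ (p : Γ(X, Da)) (q : Γ(X, Db)),
      resO X (inf_le_left : Da ⊓ Db ≤ Da) p = resO X (inf_le_right : Da ⊓ Db ≤ Db) q →
      ∃ r : Γ(X, ⊤), resO X (le_top : Da ≤ ⊤) r = p ∧ resO X (le_top : Db ≤ ⊤) r = q := by
    intro p q hpq
    obtain ⟨r, hr, -⟩ := TopCat.Sheaf.existsUnique_gluing' X.sheaf
      (fun i : ULift.{u} Bool => bif i.down then Da else Db) ⊤ (fun i => homOfLE le_top) hcovU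
      (fun i => match i with
        | ⟨true⟩ => p
        | ⟨false⟩ => q) (by
      rintro ⟨_ | _⟩ ⟨_ | _⟩
      · rfl
      · change resO X inf_le_left q = resO X inf_le_right p
        have := congrArg (resO X (le_inf inf_le_right inf_le_left : Db ⊓ Da ≤ Da ⊓ Db)) hpq
        rw [resO_resO, resO_resO] at this
        exact this.symm
      · exact hpq
      · rfl)
    exact ⟨r, hr ⟨true⟩, hr ⟨false⟩⟩
  have hca : resO X (inf_le_left : Da ⊓ Db ≤ Da) ua = resO X le_top b * w := by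
    refine sub_eq_zero.1 ((la (O := Da ⊓ Db) inf_le_left).eq_zero le_rfl ?_)
    have h := congrArg (resO X (inf_le_left : Da ⊓ Db ≤ Da)) hua
    rw [map_mul, resO_resO, resO_resO] at h
    rw [resO_self, mul_sub, h, ← mul_assoc, hw, sub_self]
  have hcb : resO X (inf_le_right : Da ⊓ Db ≤ Db) vb = resO X le_top a * w := by
    refine sub_eq_zero.1 ((lb (O := Da ⊓ Db) inf_le_right).eq_zero le_rfl ?_)
    have h := congrArg (resO X (inf_le_right : Da ⊓ Db ≤ Db)) hvb
    rw [map_mul, resO_resO, resO_resO] at h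
    rw [resO_self, mul_sub, h, ← mul_assoc, mul_comm (resO X le_top b) (resO X le_top a), hw, sub_self]
  obtain ⟨u, hu₁, hu₂⟩ := glue (ua - resO X le_top b * wa) (resO X le_top b * wb) (by
    rw [map_sub, map_mul, map_mul, resO_resO, resO_resO, hca, ← hsplit]; ring)
  obtain ⟨v, hv₁, hv₂⟩ := glue (resO X le_top a * wa) (vb - resO X le_top a * wb) (by
    rw [map_sub, map_mul, map_mul, resO_resO, resO_resO, hcb, ← hsplit]; ring)
  refine Ideal.mem_span_pair.2 ⟨u, v, TopCat.Sheaf.eq_of_locally_eq' X.sheaf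
    (fun i : ULift.{u} Bool => bif i.down then Da else Db) ⊤ (fun i => homOfLE le_top) hcovU _ _ ?_⟩
  rintro ⟨_ | _⟩
  · change resO X (le_top : Db ≤ ⊤) (u * a + v * b) = resO X le_top c
    rw [map_add, map_mul, map_mul, hu₂, hv₂, ← hvb]; ring
  · change resO X (le_top : Da ≤ ⊤) (u * a + v * b) = resO X le_top c
    rw [map_add, map_mul, map_mul, hu₁, hv₁, ← hua]; ring

end Groth.Agent.Castel
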