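import Groth.Agent.Castel.DivEuler
import Groth.Agent.LefDiv.Formal
import Groth.Agent.LefConn.Basic
import Groth.Agent.CurveRR.Easy

/-!
Adding a component on which the divisor is negative: global functions restrict injectively.
-/

set_option autoImplicit false
set_option backward.isDefEq.respectTransparency false
set_option backward.isDefEq.respectTransparency.types false
set_option linter.style.haveILetI false
set_option linter.unusedSectionVars false

universe u

open CategoryTheory CategoryTheory.Limits AlgebraicGeometry TopologicalSpace Opposite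
open Groth.Agent.CohFinite (tmap tmap_tm hhMap hhδ hhEquiv)

noncomputable section

namespace Groth.Agent.Castel

section Seq

variable {X : Scheme.{u}}

open Groth.Agent.Nakai (mulToOne)

/-- `0 → A ⊗ O/J → O/(J·I) → O/I → 0`, the last map being the restriction. -/
theorem exists_shortExact_restrict {I J : X.IdealSheafData} (hI : BlowUp.IsEffCartierIdeal I)
    (hJ : BlowUp.IsEffCartierIdeal J) (h : J * I ≤ I) :
    ∃ S : ShortComplex X.Modules, S.ShortExact ∧
      Nonempty (S.X₁ ≅ CohB1.tensorMod (ClSub.idealMod I) (ClSub.quotMod J)) ∧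
      ∃ (a₂ : S.X₂ ≅ ClSub.quotMod (J * I)) (a₃ : S.X₃ ≅ ClSub.quotMod I),
        a₂.inv ≫ S.g ≫ a₃.hom = Lef.quotMap h := by
  have hA := (Groth.Agent.S8914.result I).2 hI
  obtain ⟨e, he⟩ := exists_idealMod_mul hJ hI
  let A := ClSub.idealMod I
  have hS := CohFinite.shortExact_tmap hA (CurveRR.ideal_shortExact J)
  let f : CohB1.tensorMod (ClSub.idealMod J) A ⟶ A := tmap (ClSub.idealModι J) A ≫ (TMul.leftUnitIso A).hom
  let g : A ⟶ Coh.structureModule X := ClSub.idealModι I
  have hfg : f ≫ g = e.hom ≫ ClSub.idealModι (J * I) := by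
    rw [he, Category.assoc]
    rfl
  haveI : Mono g := inferInstanceAs (Mono (kernel.ι _))
  let S₀ := kernelCokernelCompSequence.snakeInput f g
  have hmono : Mono S₀.L₃.f := S₀.L₂'_exact.mono_g ((isZero_kernel_of_mono g).eq_of_src _ _)
  haveI : Epi S₀.L₂.g := inferInstanceAs (Epi (biprod.snd : A ⊞ Coh.structureModule X ⟶ Coh.structureModule X))
  let a₂ : cokernel (f ≫ g) ≅ ClSub.quotMod (J * I) := cokernelIsoOfEq hfg ≪≫ cokernelEpiComp e.hom _ ≪≫
    (cokernelIsCokernel _).coconePointUniqueUpToIso (CurveRR.ideal_shortExact (J * I)).gIsCokernel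
  let a₃ : cokernel g ≅ ClSub.quotMod I :=
    (cokernelIsCokernel _).coconePointUniqueUpToIso (CurveRR.ideal_shortExact I).gIsCokernel
  have h2 : cokernel.π (f ≫ g) ≫ a₂.hom = ClSub.toSubscheme (J * I) := by
    have hπ : cokernel.π (e.hom ≫ ClSub.idealModι (J * I)) ≫ (cokernelEpiComp e.hom _).hom =
        cokernel.π (ClSub.idealModι (J * I)) := cokernel.π_desc _ _ _
    simp only [a₂, Iso.trans_hom]
    rw [π_comp_cokernelIsoOfEq_hom_assoc, ← Category.assoc, hπ]
    exact IsColimit.comp_coconePointUniqueUpToIso_hom (cokernelIsCokernel _) _ WalkingParallelPair.one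
  have h3 : cokernel.π g ≫ a₃.hom = ClSub.toSubscheme I :=
    IsColimit.comp_coconePointUniqueUpToIso_hom (cokernelIsCokernel _) _ WalkingParallelPair.one
  haveI : Epi (ClSub.toSubscheme (J * I)) := (CurveRR.ideal_shortExact (J * I)).epi_g
  refine ⟨S₀.L₃, { exact := S₀.L₃_exact, mono_f := hmono, epi_g := inferInstance }, ⟨?_⟩, a₂, a₃, ?_⟩
  · exact cokernelCompIsIso (tmap (ClSub.idealModι J) A) (TMul.leftUnitIso A).hom ≪≫
      (cokernelIsCokernel _).coconePointUniqueUpToIso hS.gIsCokernel ≪≫ TMul.commIso _ _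
  · refine (cancel_epi (ClSub.toSubscheme (J * I))).1 ?_
    rw [LefDiv.toSubscheme_quotMap, ← h3]
    conv_lhs => rw [← h2]
    rw [Category.assoc, Iso.hom_inv_id_assoc]
    show cokernel.π (f ≫ g) ≫ S₀.L₃.g ≫ a₃.hom = _
    simp [S₀]

end Seq

section Step

variable {R : Type u} [CommRing R] [IsDomain R] [IsDiscreteValuationRing R] {X : Over (Spec (CommRingCat.of R))}

theorem ker_mul_le (I J : X.left.IdealSheafData) : J * I ≤ I :=
  fun U => by rw [Scheme.IdealSheafData.ideal_mul, Pi.mul_apply]; exact Ideal.mul_le_right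

/-- Adding a component of negative degree. -/
theorem step_facts [IsProper X.hom] (Γ : ArSurf.VertComp R X) {I : X.left.IdealSheafData}
    (hI : BlowUp.IsEffCartierIdeal I) (hJ : BlowUp.IsEffCartierIdeal Γ.ι.ker)
    (h : FinLen R X (ClSub.quotMod I)) (hdeg : degI Γ I < 0) :
    Function.Injective (Scheme.IdealSheafData.inclusion (ker_mul_le I Γ.ι.ker)).appTop ∧
    Models.lengthH R X (ClSub.quotMod (Γ.ι.ker * I)) 0 ≤ Models.lengthH R X (ClSub.quotMod I) 0 ∧
    (Models.lengthH R X (ClSub.quotMod (Γ.ι.ker * I)) 1 : ℤ) - Models.lengthH R X (ClSub.quotMod I) 1 =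
      (Models.lengthH R X (ClSub.quotMod (Γ.ι.ker * I)) 0 : ℤ) - Models.lengthH R X (ClSub.quotMod I) 0 -
        degI Γ I + ((Models.h1 R X Γ : ℤ) - Models.wdeg R X Γ) ∧
    Models.lengthH R X (ClSub.quotMod I) 1 ≤ Models.lengthH R X (ClSub.quotMod (Γ.ι.ker * I)) 1 := by
  let k := IsLocalRing.ResidueField R
  obtain ⟨hf, hchi⟩ := finLen_and_chiL_mul Γ hI hJ h
  haveI : IsProper (Γ.curve.left ↘ Spec (CommRingCat.of k)) := isProper_curve Γ
  haveI := Γ.isIntegral
  haveI := CurveRR.isNoetherian_of_proper k Γ.curve.left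
  obtain ⟨S, hS, ⟨a₁⟩, a₂, a₃, hq⟩ := exists_shortExact_restrict hI hJ (ker_mul_le I Γ.ι.ker)
  have hA := (Groth.Agent.S8914.result I).2 hI
  have hAf : FlatMod.IsFinLocFree (ClSub.idealMod I) := fun x =>
    let ⟨U, hx, e⟩ := CurveRR.isFinLocFreeOfRank_one hA x
    ⟨U, 1, hx, e⟩
  haveI := Groth.Agent.S0927.isIso_proj Γ.ι (ClSub.idealMod I) hAf (Coh.structureModule Γ.curve.left)
  obtain ⟨qi⟩ := ExtShX.nonempty_quotMod_iso Γ.ι
  let P := (Scheme.Modules.pullback Γ.ι).obj (ClSub.idealMod I)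
  let Q := CohB1.tensorMod P (Coh.structureModule Γ.curve.left)
  have eQ : Q ≅ P := TMul.commIso _ _ ≪≫ TMul.leftUnitIso _
  have hp : PicF.IsInvertible P := PicLoc.isInvertible_pullback Γ.ι hA
  have b₁ : S.X₁ ≅ (Scheme.Modules.pushforward Γ.ι).obj P := a₁ ≪≫ PicGrp.tensorModIso (Iso.refl _) qi ≪≫
    asIso (Groth.Agent.S0927.proj Γ.ι (ClSub.idealMod I) (Coh.structureModule Γ.curve.left)) ≪≫
    (Scheme.Modules.pushforward Γ.ι).mapIso eQ
  have hzero : ∀ t : Γ(P, ⊤), t = 0 := fun t => by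
    by_contra ht
    have hs : TMul.homOf t ≠ 0 := fun h0 => ht (by
      have h9 := congrArg (fun ψ => TMul.val ψ ⊤) h0
      simp only [TMul.val_homOf, Groth.Agent.QC.res_self] at h9
      exact h9)
    exact absurd (CurveRR.Easy.deg_nonneg (k := k) Γ.dim_eq.le hp _ hs) (not_le.2 hdeg)
  haveI hX₁ : Subsingleton Γ(S.X₁, ⊤) := by
    haveI : Subsingleton Γ((Scheme.Modules.pushforward Γ.ι).obj P, ⊤) :=
      ⟨fun a b => (hzero (show Γ(P, ⊤) from a)).trans (hzero (show Γ(P, ⊤) from b)).symm⟩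
    exact (ConcreteCategory.bijective_of_isIso (b₁.hom.app ⊤)).1.subsingleton
  have hinj : Function.Injective (S.g.app ⊤) := by
    refine (injective_iff_map_eq_zero _).2 fun z hz => ?_
    obtain ⟨y, rfl⟩ := (Groth.Agent.QC.mem_range_kernel_app S.g ⊤ z).mpr hz
    haveI := hS.mono_f
    haveI : Subsingleton ↑Γ((KernelFork.ofι S.f S.zero).pt, ⊤) := hX₁
    haveI : Subsingleton Γ(kernel S.g, ⊤) := (ConcreteCategory.bijective_of_isIso
      ((((kernelIsKernel S.g).conePointUniqueUpToIso hS.exact.fIsKernel)).hom.app ⊤)).1.subsingleton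
    rw [Subsingleton.elim y 0, map_zero]
  refine ⟨?_, ?_⟩
  · intro a b hab
    have h1 : ∀ c, (Scheme.IdealSheafData.inclusion (ker_mul_le I Γ.ι.ker)).appTop c =
        a₃.hom.app ⊤ (S.g.app ⊤ (a₂.inv.app ⊤ c)) := fun c => by
      rw [← LefConn.quotMap_app, ← hq]
      rfl
    rw [h1, h1] at hab
    exact (ConcreteCategory.bijective_of_isIso (a₂.inv.app ⊤)).1
      (hinj ((ConcreteCategory.bijective_of_isIso (a₃.hom.app ⊤)).1 hab))
  letI : X.left.Over (Spec (CommRingCat.of R)) := ⟨X.hom⟩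
  haveI : Subsingleton ↑((Coh.toAb S.X₁).obj.obj (op ⊤)) := hX₁
  haveI hsub0 : Subsingleton (Coh.HH X.left S.X₁ 0) :=
    (Sheaf.H.equiv₀ (Coh.toAb S.X₁) (Limits.isTerminalTop (α := X.left.Opens))).injective.subsingleton
  have hg0 : Function.Injective (hhMap R S.g 0) := by
    rw [← LinearMap.ker_eq_bot, eq_bot_iff]
    intro x hx
    obtain ⟨y, rfl⟩ := (CohFinite.map_g_eq_zero_iff (CohFinite.shortExact_toAb hS) 0 x).1 hx
    rw [Submodule.mem_bot, (@Subsingleton.elim _ hsub0 y 0 : y = 0)]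
    exact map_zero _
  have hl0 : Models.lengthH R X S.X₂ 0 ≤ Models.lengthH R X S.X₃ 0 :=
    ENat.toNat_le_toNat (Module.length_le_of_injective _ hg0) (finLen_of_iso a₃.symm h 0).1
  have hsurj : Function.Surjective (hhMap R S.g 1) := fun x => by
    have h2 : Subsingleton (Coh.HH X.left S.X₁ (1 + 1)) :=
      (finLen_of_iso b₁.symm (finLen_and_chiL_push Γ P (CurveRR.isCoh_of_inv hp)).1 2).2 le_rfl
    exact (CohFinite.δH_eq_zero_iff (CohFinite.shortExact_toAb hS) 1 x).1 (@Subsingleton.elim _ h2 _ _)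
  have hl1 : Models.lengthH R X S.X₃ 1 ≤ Models.lengthH R X S.X₂ 1 :=
    ENat.toNat_le_toNat (Module.length_le_of_surjective _ hsurj) (finLen_of_iso a₂.symm hf 1).1
  rw [lengthH_eq_of_iso a₂, lengthH_eq_of_iso a₃] at hl0 hl1
  refine ⟨hl0, ?_, hl1⟩
  simp only [chiL] at hchi
  linarith

end Step

end Groth.Agent.Castel
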