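import Groth.Agent.Castel.MinDesing
import Groth.Agent.S7802
import Groth.Agent.GeomProp.SmoothPoint
import Groth.Agent.InfLift.SchemeSmallExt

/-!
Surfaces over an algebraically closed field.
-/

set_option autoImplicit false
set_option backward.isDefEq.respectTransparency false
set_option backward.isDefEq.respectTransparency.types false
set_option linter.style.haveILetI false

universe u

open CategoryTheory CategoryTheory.Limits AlgebraicGeometry TopologicalSpace Opposite

noncomputable section

namespace Groth.Agent.Castel

/-- A regular scheme of finite type over a perfect field is smooth. -/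
theorem smooth_of_regular_stalks {k : Type u} [Field k] [PerfectField k] {X : Scheme.{u}}
    (f : X ⟶ Spec (CommRingCat.of k)) [LocallyOfFiniteType f]
    (h : ∀ x : X, IsRegularLocalRing (X.presheaf.stalk x)) : Smooth f := by
  letI : X.Over (Spec (CommRingCat.of k)) := ⟨f⟩
  haveI : LocallyOfFinitePresentation (X ↘ Spec (CommRingCat.of k)) := Groth.Agent.InfLift.lfp_of_lft f
  haveI : LocallyOfFinitePresentation f := ‹LocallyOfFinitePresentation (X ↘ Spec (CommRingCat.of k))›
  exact (Scheme.Hom.smoothLocus_eq_top_iff (f := f)).1 (eq_top_iff.2 fun x _ =>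
    (GeomProp.smoothLocus_iff_regular (k := k) (X := X) x).2 (h x))

/-- A regular proper integral surface has an ample module. -/
theorem exists_ample_surface {k : Type u} [Field k] {X : Scheme.{u}} (p : X ⟶ Spec (CommRingCat.of k)) [IsProper p]
    [IsIntegral X] (hdim : topologicalKrullDim X = 2) (hreg : ∀ x : X, IsRegularLocalRing (X.presheaf.stalk x)) :
    ∃ L : X.Modules, CohB1.IsAmple L := by
  obtain ⟨W, hW, hxW, -⟩ := exists_isAffineOpen_mem_and_subset (x := genericPoint X) (U := (⊤ : X.Opens)) trivial
  obtain ⟨I, hI, -, hL⟩ := Groth.Agent.S7802.result k X p hdim hreg ⟨W, hW⟩ ⟨_, hxW⟩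
  obtain ⟨M, hMi, ⟨d⟩⟩ := W7Hull.exists_tensor_inverse (Intersect.isInvertible_ideal hI)
  exact ⟨M, hL M hMi ⟨TMul.commIso _ _ ≪≫ d⟩⟩

end Groth.Agent.Castel
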