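import Groth.Agent.Castel.FundGlobal
import Groth.Agent.Castel.CotThree
import Groth.Agent.Castel.ArtinApps
import Groth.Agent.PtBlow.Birat
import Groth.Agent.RegDual.Scheme

/-!
The tangent space bound at contracted configurations of `(-2)`-curves.
-/

set_option autoImplicit false
set_option backward.isDefEq.respectTransparency false
set_option backward.isDefEq.respectTransparency.types false
set_option linter.style.haveILetI false

universe u

open CategoryTheory CategoryTheory.Limits AlgebraicGeometry TopologicalSpace Opposite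

noncomputable section

namespace Groth.Agent.Castel

variable {R : Type u} [CommRing R] [IsDomain R] [IsDiscreteValuationRing R] {X : Over (Spec (CommRingCat.of R))}

/-- The cotangent space at the image of a connected configuration with zero adjunction numbers is three
dimensional. -/
theorem finrank_cotangent_eq_three [Infinite (IsLocalRing.ResidueField R)] (hX : ArSurf.IsArithSurface R X) {r : ℕ}
    (Γ : Fin r → ArSurf.VertComp R X) (hinj : Function.Injective fun i => Set.range (Γ i).ι)
    (hconn : _root_.IsConnected (⋃ i, Set.range (Γ i).ι))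
    (hneg : ∀ a : Fin r → ℤ, a ≠ 0 → ∑ i, ∑ j, a i * a j * interMat Γ i j < 0)
    (htwo : ∀ i, Models.h1 R X (Γ i) = 0 ∧ interMat Γ i i = -2 * (Models.wdeg R X (Γ i) : ℤ))
    {Y : Over (Spec (CommRingCat.of R))} (f : X ⟶ Y) [IsLocallyNoetherian Y.left] [IsProper f.left]
    (happ : ∀ V : Y.left.Opens, Function.Bijective (f.left.app V)) (y : Y.left)
    (hfib : f.left.base ⁻¹' {y} = ⋃ i, Set.range (Γ i).ι.base) :
    Module.finrank (IsLocalRing.ResidueField (Y.left.presheaf.stalk y))
      (IsLocalRing.CotangentSpace (Y.left.presheaf.stalk y)) = 3 := by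
  have hK : ∀ i, adjK (Γ i) ≤ 0 := fun i => by
    have h2 := (htwo i).2
    rw [interMat] at h2
    rw [adjK, (htwo i).1]
    push_cast
    linarith
  have hadj := fun a => adjNeg_of_adjK_nonpos Γ hK hneg a
  have hb : ∀ a : Fin r → ℕ, a ≠ 0 →
      Subsingleton (Coh.HH (divI Γ a).subscheme (Coh.structureModule (divI Γ a).subscheme) 1) :=
    fun a _ => (h1_zero_and_pic0_trivial hX Γ (hadj a)).1
  obtain ⟨z, hz1, hz, hmin⟩ := exists_fundamental_vec (interMat Γ)
    (fun i j hij => ((interMat_facts hX Γ hinj).2.1 i j hij).1) hneg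
  obtain ⟨hlen₁, h₁⟩ := hilbert_samuel hX Γ hinj hconn hz1 hz hmin hb f happ y hfib 1 le_rfl
  obtain ⟨hlen₂, h₂⟩ := hilbert_samuel hX Γ hinj hconn hz1 hz hmin hb f happ y hfib 2 one_le_two
  have hS : ∑ i, (z i : ℤ) * (2 * ((Models.wdeg R X (Γ i) : ℤ) - Models.h1 R X (Γ i)) + interMat Γ i i) = 0 :=
    Finset.sum_eq_zero fun i _ => by rw [(htwo i).1, (htwo i).2]; push_cast; ring
  rw [hS, mul_zero, add_zero] at h₁ h₂
  have hne : (fun i => (z i : ℤ)) ≠ 0 := fun h => by
    obtain ⟨x₀, hx₀⟩ := hconn.nonempty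
    obtain ⟨i₀, -⟩ := Set.mem_iUnion.1 hx₀
    have := congrFun h i₀
    have := hz1 i₀
    simp at *
    omega
  have hQ := hneg _ hne
  push_cast at h₁ h₂
  letI algA : Algebra R (Y.left.presheaf.stalk y) := (Models.stalkHom R Y y).toAlgebra
  rw [pow_one] at hlen₁
  refine finrank_cotangentSpace_of_length (R := R) ?_ 3 hlen₁ (hlen₂.trans ?_)
  · omega
  · congr 1
    omega

/-- Contraction of `(-2)`-configurations with embedding dimension at most three. -/
theorem exists_contraction_tangent_le [Infinite (IsLocalRing.ResidueField R)] (hX : ArSurf.IsArithSurface R X) {r : ℕ}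
    (Γ : Fin r → ArSurf.VertComp R X) (hinj : Function.Injective fun i => Set.range (Γ i).ι)
    (hneg : ∀ a : Fin r → ℤ, a ≠ 0 → ∑ i, ∑ j, a i * a j * interMat Γ i j < 0)
    (htwo : ∀ i, Models.h1 R X (Γ i) = 0 ∧ interMat Γ i i = -2 * (Models.wdeg R X (Γ i) : ℤ)) :
    ∃ (Y : Over (Spec (CommRingCat.of R))) (f : X ⟶ Y), IsIntegral Y.left ∧
      (∀ q : Y.left, IsIntegrallyClosed (Y.left.presheaf.stalk q)) ∧ topologicalKrullDim Y.left = 2 ∧
      Flat Y.hom ∧ Neron.IsProjectiveOver R Y ∧
      (∀ i, ∃ y : Y.left, Set.range (((Γ i).ι ≫ f.left).base : (Γ i).curve.left → Y.left) = {y}) ∧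
      f.left.base ⁻¹' (f.left.base '' ⋃ i, Set.range (Γ i).ι.base) = ⋃ i, Set.range (Γ i).ι.base ∧
      (∀ V : Y.left.Opens, (V : Set Y.left) ∩ f.left.base '' (⋃ i, Set.range (Γ i).ι.base) = ∅ →
        IsIso (f.left ∣_ V)) ∧
      ∀ y : Y.left, Module.finrank (IsLocalRing.ResidueField (Y.left.presheaf.stalk y))
        (IsLocalRing.CotangentSpace (Y.left.presheaf.stalk y)) ≤ 3 := by
  classical
  haveI := isProper_hom_of_isArithSurface hX
  haveI := hX.2.1
  haveI : Flat X.hom := hX.2.2.2.1
  have hK : ∀ i, adjK (Γ i) ≤ 0 := fun i => by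
    have h2 := (htwo i).2
    rw [interMat] at h2
    rw [adjK, (htwo i).1]
    push_cast
    linarith
  obtain ⟨Y, f, hYi, hYn, hYd, hYf, hYp, hpt, hpre, hiso⟩ := exists_contraction_adj hX Γ hinj hK hneg
  refine ⟨Y, f, hYi, hYn, hYd, hYf, hYp, hpt, hpre, hiso, fun y => ?_⟩
  haveI := hYi
  haveI : IsProper Y.hom := PtBlow.isProper_of_isProjectiveOver (Z := Y) hYp
  haveI : IsLocallyNoetherian Y.left := LocallyOfFiniteType.isLocallyNoetherian Y.hom
  haveI : IsProper f.left := by
    haveI : IsProper (f.left ≫ Y.hom) := by rw [Over.w f]; infer_instance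
    exact IsProper.of_comp f.left Y.hom
  obtain ⟨-, hcl, happ, -⟩ := contraction_facts hX.2.2.2.2 Γ f hYn hYp hpt hpre hiso
  by_cases hy : y ∈ f.left.base '' ⋃ i, Set.range (Γ i).ι.base
  · -- the components over `y`
    choose q hq using hpt
    have hqi : ∀ i w, f.left ((Γ i).ι w) = q i := fun i w => (hq i).subset ⟨w, rfl⟩
    let T := {i : Fin r // q i = y}
    let e : Fin (Fintype.card T) → Fin r := fun k => ((Fintype.equivFin T).symm k).1
    have he : Function.Injective e := Subtype.val_injective.comp (Fintype.equivFin T).symm.injective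
    have hfib : f.left.base ⁻¹' {y} = ⋃ k, Set.range (Γ (e k)).ι.base := by
      ext x
      refine ⟨fun hx => ?_, fun hx => ?_⟩
      · have hxu : x ∈ ⋃ i, Set.range (Γ i).ι.base := by
          rw [← hpre]
          rw [Set.mem_preimage, Set.mem_singleton_iff.1 hx]; exact hy
        obtain ⟨i, w, rfl⟩ := Set.mem_iUnion.1 hxu
        have hqy : q i = y := (hqi i w).symm.trans hx
        refine Set.mem_iUnion.2 ⟨Fintype.equivFin T ⟨i, hqy⟩, ?_⟩
        have hei : e (Fintype.equivFin T ⟨i, hqy⟩) = i :=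
          congrArg Subtype.val ((Fintype.equivFin T).symm_apply_apply ⟨i, hqy⟩)
        rw [hei]
        exact ⟨w, rfl⟩
      · obtain ⟨k, w, rfl⟩ := Set.mem_iUnion.1 hx
        exact (hqi (e k) w).trans ((Fintype.equivFin T).symm k).2
    have hconn : _root_.IsConnected (⋃ k, Set.range (Γ (e k)).ι) := by
      have := PtBlow.isConnected_preimage f.left (fun U => happ U) y
      rwa [show (f.left : X.left → Y.left) ⁻¹' {y} = _ from hfib] at this
    have hneg' : ∀ a : Fin (Fintype.card T) → ℤ, a ≠ 0 →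
        ∑ i, ∑ j, a i * a j * interMat (fun k => Γ (e k)) i j < 0 := fun a ha => by
      let b : Fin r → ℤ := Function.extend e a 0
      have hb : ∀ k, b (e k) = a k := fun k => he.extend_apply a 0 k
      have hb0 : ∀ i, i ∉ Set.range e → b i = 0 := fun i hi =>
        Function.extend_apply' _ _ _ fun ⟨k, hk⟩ => hi ⟨k, hk⟩
      have h := hneg b fun h => ha (funext fun k => by rw [← hb k, h]; rfl)
      refine lt_of_eq_of_lt ?_ h
      have hsum : ∀ g : Fin r → ℤ, (∀ i, i ∉ Set.range e → g i = 0) → ∑ i, g i = ∑ k, g (e k) := fun g hg => by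
        rw [← Finset.sum_image (f := g) fun _ _ _ _ h => he h]
        exact (Finset.sum_subset (Finset.subset_univ _) fun i _ hi => hg i fun ⟨k, hk⟩ =>
          hi (Finset.mem_image.2 ⟨k, Finset.mem_univ _, hk⟩)).symm
      rw [hsum (fun i => ∑ j, b i * b j * interMat Γ i j) fun i hi => by simp [hb0 i hi]]
      refine Finset.sum_congr rfl fun k _ => ?_
      rw [hsum (fun j => b (e k) * b j * interMat Γ (e k) j) fun j hj => by simp [hb0 j hj]]
      exact Finset.sum_congr rfl fun l _ => by rw [hb, hb]; rfl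
    exact (finrank_cotangent_eq_three hX (fun k => Γ (e k)) (hinj.comp he) hconn hneg'
      (fun k => htwo (e k)) f happ y hfib).le
  · -- elsewhere the map is an isomorphism
    have hclosed : IsClosed (f.left.base '' ⋃ i, Set.range (Γ i).ι.base) :=
      hcl _ (isClosed_iUnion_of_finite fun i => (Γ i).ι.isClosedEmbedding.isClosed_range)
    let V : Y.left.Opens := ⟨(f.left.base '' ⋃ i, Set.range (Γ i).ι.base)ᶜ, hclosed.isOpen_compl⟩
    haveI := hiso V (Set.compl_inter_self _)
    haveI := isRegular_of_iso_restrict f.left V hX.1 (show y ∈ V from hy)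
    have h1 := (IsRegularLocalRing.iff_finrank_cotangentSpace (Y.left.presheaf.stalk y)).1 ‹_›
    have h2 := RegDual.ringKrullDim_stalk_le_topologicalKrullDim (X := Y.left) y
    rw [← h1, hYd] at h2
    have : Module.finrank (IsLocalRing.ResidueField (Y.left.presheaf.stalk y))
        (IsLocalRing.CotangentSpace (Y.left.presheaf.stalk y)) ≤ 2 := by exact_mod_cast h2
    omega

end Groth.Agent.Castel
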